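import Groth.Agent.Lib.Excellent.CompletionFinite
import Groth.Agent.Lib.Excellent.CompletionTopology
import Mathlib.RingTheory.AdicCompletion.LocalRing

/-!
# A map of local rings which is bijective on truncations is bijective on completions
-/

universe u

open IsLocalRing

namespace Groth.Agent.H21.CplCompare

open Groth.Agent.Lib.Excellent

theorem exists_cplEquiv (R S : Type u) [CommRing R] [IsLocalRing R] [CommRing S] [IsLocalRing S] [Algebra R S]
    (hm : (maximalIdeal R).map (algebraMap R S) = maximalIdeal S)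
    (hinj : ∀ (n : ℕ) (r : R), algebraMap R S r ∈ maximalIdeal S ^ n → r ∈ maximalIdeal R ^ n)
    (hsurj : ∀ (n : ℕ) (s : S), ∃ r : R, s - algebraMap R S r ∈ maximalIdeal S ^ n) :
    ∃ e : AdicCompletion (maximalIdeal R) R ≃+* AdicCompletion (maximalIdeal S) S, ∀ r,
      e (algebraMap R (AdicCompletion (maximalIdeal R) R) r) =
        algebraMap S (AdicCompletion (maximalIdeal S) S) (algebraMap R S r) := by
  let J := maximalIdeal R
  let t := CompletionFinite.truncMap J S
  let φ := CompletionFinite.mapAlgHom J S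
  have hq : ∀ n, Function.Bijective
      (Ideal.quotientMapₐ ((J.map (algebraMap R S)) ^ n) (Algebra.ofId R S) (CompletionFinite.pow_map_le J S n)) := by
    intro n
    constructor
    · intro x y hxy
      obtain ⟨a, rfl⟩ := Ideal.Quotient.mk_surjective x
      obtain ⟨b, rfl⟩ := Ideal.Quotient.mk_surjective y
      refine Ideal.Quotient.eq.mpr (hinj n _ ?_)
      rw [map_sub, ← hm]
      exact Ideal.Quotient.eq.mp hxy
    · intro y
      obtain ⟨s, rfl⟩ := Ideal.Quotient.mk_surjective y
      obtain ⟨r, hr⟩ := hsurj n s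
      refine ⟨Ideal.Quotient.mk _ r, Ideal.Quotient.eq.mpr ?_⟩
      rw [hm, ← neg_mem_iff, neg_sub]
      exact hr
  have hφ : ∀ n x, AdicCompletion.evalₐ (J.map (algebraMap R S)) n (φ x) = t n x := fun n x =>
    AdicCompletion.evalₐ_liftAlgHom _ _ (CompletionFinite.truncMap_compat J S) n x
  have ht : ∀ n x, t n x = Ideal.quotientMapₐ _ (Algebra.ofId R S) (CompletionFinite.pow_map_le J S n)
      (AdicCompletion.evalₐ J n x) := fun _ _ => rfl
  have hinj' : Function.Injective φ := fun x y hxy => AdicCompletion.ext_evalₐ fun n =>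
    (hq n).1 (by rw [← ht, ← ht, ← hφ, ← hφ, hxy])
  have hsurj' : Function.Surjective φ := fun z => by
    let ψ : (n : ℕ) → R ⧸ J ^ n := fun n => (Equiv.ofBijective _ (hq n)).symm (AdicCompletion.evalₐ _ n z)
    choose a ha using fun n => Ideal.Quotient.mk_surjective (ψ n)
    have hψ : ∀ n, Ideal.Quotient.mk (J.map (algebraMap R S) ^ n) (algebraMap R S (a n)) =
        AdicCompletion.evalₐ _ n z := fun n => by
      rw [← Equiv.apply_symm_apply (Equiv.ofBijective _ (hq n)) (AdicCompletion.evalₐ _ n z)]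
      exact congrArg (Ideal.quotientMapₐ _ (Algebra.ofId R S) (CompletionFinite.pow_map_le J S n)) (ha n)
    have hcauchy : ∀ {m n : ℕ}, m ≤ n → a m ≡ a n [SMOD (J ^ m • ⊤ : Submodule R R)] := by
      intro m n hmn
      rw [SModEq.sub_mem]
      have h1 := congrArg (Ideal.Quotient.factor (Ideal.pow_le_pow_right hmn)) (hψ n)
      rw [Ideal.Quotient.factor_mk, CompletionTopology.factor_evalₐ hmn, ← hψ m] at h1
      have h2 : Ideal.Quotient.mk (J ^ m) (a m) = Ideal.Quotient.mk (J ^ m) (a n) := (hq m).1 h1.symm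
      simpa using Ideal.Quotient.eq.mp h2
    refine ⟨AdicCompletion.mk J R ⟨a, hcauchy⟩, AdicCompletion.ext_evalₐ fun n => ?_⟩
    rw [hφ, ht, AdicCompletion.evalₐ_mk]
    exact hψ n
  let e₀ := RingEquiv.ofBijective φ.toRingHom ⟨hinj', hsurj'⟩
  have key : ∃ e : AdicCompletion J R ≃+* AdicCompletion (J.map (algebraMap R S)) S, ∀ r,
      e (algebraMap R (AdicCompletion J R) r) =
        algebraMap S (AdicCompletion (J.map (algebraMap R S)) S) (algebraMap R S r) :=
    ⟨e₀, fun r => (φ.commutes r).trans (IsScalarTower.algebraMap_apply R S _ r)⟩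
  rwa [show J.map (algebraMap R S) = maximalIdeal S from hm] at key

end Groth.Agent.H21.CplCompare
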