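import Mathlib.RingTheory.AdicCompletion.Algebra
import Mathlib.RingTheory.AdicCompletion.Completeness
import Mathlib.RingTheory.Noetherian.Basic

/-!
# The kernel of `evalₐ`
-/

universe u

namespace Groth.Agent.H21.PopescuCompl

variable {A : Type u} [CommRing A] [IsNoetherianRing A] (I : Ideal A)

theorem ker_evalₐ_le (n : ℕ) (x : AdicCompletion I A) (hx : AdicCompletion.evalₐ I n x = 0) :
    x ∈ (I ^ n).map (algebraMap A (AdicCompletion I A)) := by
  have h1 : AdicCompletion.eval I A n x = 0 := by
    rw [← AdicCompletion.factor_evalₐ_eq_eval I x (by simp), hx, map_zero]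
  have h2 : x ∈ (I ^ n • ⊤ : Submodule A (AdicCompletion I A)) := by
    rw [AdicCompletion.pow_smul_top_eq_ker_eval (IsNoetherian.noetherian I)]
    exact h1
  rw [Ideal.smul_top_eq_map] at h2
  exact h2

end Groth.Agent.H21.PopescuCompl
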