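import Groth.Agent.Lib.QDepth.FlatBC
import Groth.Agent.Lib.Depth.Ext
import Groth.Agent.Lib.Regular.Descent
import Mathlib.RingTheory.Flat.Localization
import Mathlib.RingTheory.KrullDimension.Module
import Mathlib.Algebra.Module.LocalizedModule.Basic
import Mathlib.RingTheory.Spectrum.Prime.Topology
import Groth.Prelude.Def_CAlg

/-! Descent of `(S_k)` and `(R_k)` along faithfully flat maps. -/

namespace Groth.Agent.H21.SkDescent

set_option linter.style.haveILetI false

open IsLocalRing Groth.Agent.Lib.Depth TensorProduct LocCoh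

universe u

section local_case

variable {A B : Type u} [CommRing A] [CommRing B] [IsNoetherianRing A] [IsNoetherianRing B]
  [IsLocalRing A] [IsLocalRing B] [Algebra A B] [Module.Flat A B]

theorem exists_prime_over (hrad : ((maximalIdeal A).map (algebraMap A B)).radical = maximalIdeal B)
    (p : PrimeSpectrum A) (hp : maximalIdeal A ≤ p.asIdeal) :
    ∃ q : PrimeSpectrum B, q.asIdeal.comap (algebraMap A B) = p.asIdeal := by
  have hpm : p.asIdeal = maximalIdeal A :=
    ((maximalIdeal.isMaximal A).eq_of_le p.isPrime.ne_top hp).symm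
  refine ⟨⟨maximalIdeal B, inferInstance⟩, ?_⟩
  have hle : maximalIdeal A ≤ (maximalIdeal B).comap (algebraMap A B) := by
    rw [← hrad]
    exact Ideal.map_le_iff_le_comap.1 Ideal.le_radical
  rw [hpm]
  exact ((maximalIdeal.isMaximal A).eq_of_le
    (Ideal.IsPrime.comap (algebraMap A B)).ne_top hle).symm

theorem depth_eq (hrad : ((maximalIdeal A).map (algebraMap A B)).radical = maximalIdeal B) :
    depth B B = depth A A := by
  show idealDepth (maximalIdeal B) B = idealDepth (maximalIdeal A) A
  rw [← Groth.Agent.Lib.QDepth.idealDepth_map_eq (B := B) (maximalIdeal A)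
    (exists_prime_over hrad) A,
    Basic.idealDepth_congr _ (TensorProduct.AlgebraTensorModule.rid A B B)]
  exact Ext.idealDepth_radical_eq ((maximalIdeal A).map (algebraMap A B)) B
    ((maximalIdeal.isMaximal B).isPrime.radical.trans hrad.symm)

theorem ringKrullDim_eq (hrad : ((maximalIdeal A).map (algebraMap A B)).radical = maximalIdeal B) :
    ringKrullDim B = ringKrullDim A := by
  rw [← IsLocalRing.maximalIdeal_height_eq_ringKrullDim,
    ← IsLocalRing.maximalIdeal_height_eq_ringKrullDim,
    ← Groth.Agent.Lib.QDepth.height_map_eq (B := B) (maximalIdeal A) (exists_prime_over hrad)]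
  congr 1
  rw [← hrad, Ideal.height_eq_inf_minimalPrimes, Ideal.height_eq_inf_minimalPrimes,
    Ideal.radical_minimalPrimes]

end local_case

theorem depth_self_atPrime {R : Type u} [CommRing R] (p : Ideal R) [p.IsPrime] :
    depth (Localization.AtPrime p) (LocalizedModule p.primeCompl R) =
      depth (Localization.AtPrime p) (Localization.AtPrime p) ∧
    Module.supportDim (Localization.AtPrime p) (LocalizedModule p.primeCompl R) =
      ringKrullDim (Localization.AtPrime p) := by
  let e := (IsLocalizedModule.iso p.primeCompl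
    (Algebra.linearMap R (Localization.AtPrime p))).extendScalarsOfIsLocalization p.primeCompl
      (Localization.AtPrime p)
  exact ⟨Basic.depth_congr e, (Module.supportDim_eq_of_equiv e).trans
    (Module.supportDim_self_eq_ringKrullDim _)⟩

/-- For faithfully flat `R → S` every prime of `R` has a prime over it at which the local map is
flat with zero dimensional fibre. -/
theorem exists_prime (R S : Type u) [CommRing R] [CommRing S] [Algebra R S]
    [Module.FaithfullyFlat R S] (p : Ideal R) [hp : p.IsPrime] :
    ∃ (q : Ideal S) (_ : q.IsPrime) (hqp : p = q.comap (algebraMap R S)),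
      ((maximalIdeal (Localization.AtPrime p)).map
        (Localization.localRingHom p q (algebraMap R S) hqp)).radical =
          maximalIdeal (Localization.AtPrime q) := by
  obtain ⟨⟨Q, hQ⟩, hQp⟩ := PrimeSpectrum.comap_surjective_of_faithfullyFlat (A := R) (B := S) ⟨p, hp⟩
  have hQp' : Q.comap (algebraMap R S) = p := congrArg PrimeSpectrum.asIdeal hQp
  haveI := hQ
  obtain ⟨q, hq, hqQ⟩ := Ideal.exists_minimalPrimes_le
    (show p.map (algebraMap R S) ≤ Q from Ideal.map_le_iff_le_comap.2 hQp'.ge)
  haveI := hq.1.1
  have hqp : p = q.comap (algebraMap R S) :=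
    le_antisymm (Ideal.map_le_iff_le_comap.1 hq.1.2)
      (hQp' ▸ Ideal.comap_mono hqQ)
  refine ⟨q, inferInstance, hqp, ?_⟩
  rw [← Localization.AtPrime.map_eq_maximalIdeal, Ideal.map_map, Localization.localRingHom,
    IsLocalization.map_comp, ← Ideal.map_map]
  refine le_antisymm ?_ ?_
  · rw [Ideal.IsPrime.radical_le_iff (IsLocalRing.maximalIdeal.isMaximal _).isPrime,
      ← Localization.AtPrime.map_eq_maximalIdeal]
    exact Ideal.map_mono hq.1.2
  · rw [Ideal.radical_eq_sInf]
    refine le_sInf fun P ⟨hP, hP'⟩ => ?_
    haveI := hP'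
    have hP1 : p.map (algebraMap R S) ≤ P.comap (algebraMap S (Localization.AtPrime q)) :=
      Ideal.map_le_iff_le_comap.1 hP
    have hP2 : P.comap (algebraMap S (Localization.AtPrime q)) ≤ q := by
      intro x hx
      by_contra hxq
      exact hP'.ne_top (Ideal.eq_top_of_isUnit_mem P hx
        (IsLocalization.map_units _ (⟨x, hxq⟩ : q.primeCompl)))
    have := hq.2 ⟨Ideal.IsPrime.comap _, hP1⟩ hP2
    rw [← Localization.AtPrime.map_eq_maximalIdeal]
    exact Ideal.map_le_iff_le_comap.2 this

theorem isNoetherianRing_of_faithfullyFlat (R S : Type u) [CommRing R] [CommRing S] [Algebra R S]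
    [Module.FaithfullyFlat R S] [IsNoetherianRing S] : IsNoetherianRing R := by
  have h : IsNoetherian S (TensorProduct R S R) :=
    isNoetherian_of_linearEquiv (TensorProduct.AlgebraTensorModule.rid R S S).symm
  exact Submodule.IsNoetherian.of_isNoetherian_tensorProduct_of_faithfullyFlat (A := S) h

theorem hasSk {k : ℕ} (R S : Type u) [CommRing R] [CommRing S] [Algebra R S]
    [Module.FaithfullyFlat R S] [IsNoetherianRing S] (h : HasSk k S S) : HasSk k R R := by
  haveI := isNoetherianRing_of_faithfullyFlat R S
  intro p hp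
  obtain ⟨q, hq, hqp, hrad⟩ := exists_prime R S p
  haveI : q.LiesOver p := ⟨hqp⟩
  letI : Algebra (Localization.AtPrime p) (Localization.AtPrime q) :=
    (Localization.localRingHom p q (algebraMap R S) hqp).toAlgebra
  haveI : Localization.AtPrime.IsLiesOverAlgebra p q := ⟨rfl⟩
  have h' := h q
  obtain ⟨e1, e2⟩ := depth_self_atPrime p
  obtain ⟨e3, e4⟩ := depth_self_atPrime q
  rw [e3, e4, depth_eq hrad, ringKrullDim_eq hrad] at h'
  rwa [e1, e2]

theorem hasRk {k : ℕ} (R S : Type u) [CommRing R] [CommRing S] [Algebra R S]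
    [Module.FaithfullyFlat R S] [IsNoetherianRing S] (h : HasRk k S) : HasRk k R := by
  haveI := isNoetherianRing_of_faithfullyFlat R S
  intro p hp hpk
  obtain ⟨q, hq, hqp, hrad⟩ := exists_prime R S p
  haveI : q.LiesOver p := ⟨hqp⟩
  letI : Algebra (Localization.AtPrime p) (Localization.AtPrime q) :=
    (Localization.localRingHom p q (algebraMap R S) hqp).toAlgebra
  haveI : Localization.AtPrime.IsLiesOverAlgebra p q := ⟨rfl⟩
  haveI : IsLocalHom (algebraMap (Localization.AtPrime p) (Localization.AtPrime q)) :=
    Localization.isLocalHom_localRingHom _ _ _ hqp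
  have hh := ringKrullDim_eq hrad
  rw [IsLocalization.AtPrime.ringKrullDim_eq_height p (Localization.AtPrime p),
    IsLocalization.AtPrime.ringKrullDim_eq_height q (Localization.AtPrime q),
    WithBot.coe_inj] at hh
  haveI := h q (hh.le.trans hpk)
  exact Groth.Agent.Lib.Regular.Descent.isRegularLocalRing_of_flat (Localization.AtPrime q)

end Groth.Agent.H21.SkDescent
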