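import Mathlib.FieldTheory.IsAlgClosed.Classification
import Mathlib.RingTheory.AlgebraicIndependent.TranscendenceBasis
import Mathlib.RingTheory.AlgebraicIndependent.Transcendental
import Mathlib.RingTheory.TensorProduct.Finite
import Mathlib.RingTheory.FiniteStability
import Mathlib.FieldTheory.IsAlgClosed.AlgebraicClosure
import Mathlib.RingTheory.Localization.Integral

/-! Generic points with values in algebraically closed fields of infinite transcendence degree. -/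

set_option autoImplicit false

universe u

open TensorProduct Cardinal

namespace Groth.Agent.H21.AlgClosedIso

/-- Algebraically closed extensions with equal transcendence degree are isomorphic. -/
theorem exists_equiv_of_trdeg_eq (F K L : Type u) [Field F] [Field K] [Field L] [Algebra F K] [Algebra F L]
    [IsAlgClosed K] [IsAlgClosed L] (h : Algebra.trdeg F K = Algebra.trdeg F L) :
    ∃ e : K ≃+* L, ∀ x : F, e (algebraMap F K x) = algebraMap F L x := by
  obtain ⟨s, hs⟩ := exists_isTranscendenceBasis F K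
  obtain ⟨t, ht⟩ := exists_isTranscendenceBasis F L
  have hc : #s = #t := by rw [hs.cardinalMk_eq_trdeg, ht.cardinalMk_eq_trdeg, h]
  obtain ⟨ι⟩ := Cardinal.eq.mp hc
  let a : Algebra.adjoin F (Set.range ((↑) : s → K)) ≃ₐ[F] Algebra.adjoin F (Set.range ((↑) : t → L)) :=
    hs.1.aevalEquiv.symm.trans ((MvPolynomial.renameEquiv F ι).trans ht.1.aevalEquiv)
  letI := IsAlgClosed.isAlgClosure_of_transcendence_basis ((↑) : s → K) hs
  letI := IsAlgClosed.isAlgClosure_of_transcendence_basis ((↑) : t → L) ht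
  refine ⟨IsAlgClosure.equivOfEquiv K L a.toRingEquiv, fun x => ?_⟩
  have h1 := IsAlgClosure.equivOfEquiv_algebraMap K L a.toRingEquiv (algebraMap F _ x)
  rw [show a.toRingEquiv (algebraMap F _ x) = algebraMap F _ x from a.commutes x] at h1
  exact h1

theorem eq_of_add_eq {c d κ : Cardinal.{u}} (hκ : ℵ₀ ≤ κ) (hd : d < ℵ₀) (h : d + c = κ) : c = κ := by
  have hc : ℵ₀ ≤ c := by
    by_contra hc
    rw [← h] at hκ
    exact absurd (Cardinal.add_lt_aleph0 hd (not_le.mp hc)) (not_lt.mpr hκ)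
  rw [← h, Cardinal.add_eq_right hc (hd.le.trans hc)]

theorem core (k₀ k : Type u)
    [Field k₀] [Field k] [Algebra k₀ k] [IsAlgClosed k] (hinf : ∃ x : ℕ → k, AlgebraicIndependent k₀ x)
    (R₀ : Type u) [CommRing R₀] [Algebra k₀ R₀] [Algebra.FiniteType k₀ R₀] [IsDomain (k ⊗[k₀] R₀)]
    (ev : k ⊗[k₀] R₀ →ₐ[k] k) (hP : Function.Injective fun r : R₀ => ev (1 ⊗ₜ[k₀] r))
    (Ω : Type u) [Field Ω] [IsAlgClosed Ω] [Algebra (k ⊗[k₀] R₀) Ω] [Algebra k Ω] [Algebra k₀ Ω]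
    [IsScalarTower k (k ⊗[k₀] R₀) Ω] [IsScalarTower k₀ k Ω] [IsScalarTower k₀ (k ⊗[k₀] R₀) Ω]
    (hRΩ : Function.Injective (algebraMap (k ⊗[k₀] R₀) Ω)) [Algebra.IsAlgebraic (k ⊗[k₀] R₀) Ω] :
    ∃ e : Ω ≃+* k, ∀ r : R₀, e (algebraMap (k ⊗[k₀] R₀) Ω (1 ⊗ₜ[k₀] r)) = ev (1 ⊗ₜ[k₀] r) := by
  let φ : R₀ →ₐ[k₀] k := (ev.restrictScalars k₀).comp Algebra.TensorProduct.includeRight
  haveI : IsDomain R₀ := Function.Injective.isDomain φ hP
  have hι : Function.Injective (fun r : R₀ => (1 : k) ⊗ₜ[k₀] r) := fun a b h => hP (congrArg ev h)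
  let ψ : R₀ →ₐ[k₀] Ω := (IsScalarTower.toAlgHom k₀ (k ⊗[k₀] R₀) Ω).comp Algebra.TensorProduct.includeRight
  have hψ : Function.Injective ψ := hRΩ.comp hι
  letI : Algebra R₀ k := φ.toRingHom.toAlgebra
  letI : Algebra R₀ Ω := ψ.toRingHom.toAlgebra
  haveI : FaithfulSMul R₀ k := (faithfulSMul_iff_algebraMap_injective R₀ k).mpr hP
  haveI : FaithfulSMul R₀ Ω := (faithfulSMul_iff_algebraMap_injective R₀ Ω).mpr hψ
  haveI : IsScalarTower k₀ R₀ k := IsScalarTower.of_algebraMap_eq fun x => (φ.commutes x).symm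
  haveI : IsScalarTower k₀ R₀ Ω := IsScalarTower.of_algebraMap_eq fun x => (ψ.commutes x).symm
  let F := FractionRing R₀
  letI : Algebra F k := FractionRing.liftAlgebra R₀ k
  letI : Algebra F Ω := FractionRing.liftAlgebra R₀ Ω
  -- the common transcendence degree
  let κ := Algebra.trdeg k₀ k
  have hκ : ℵ₀ ≤ κ := by
    obtain ⟨x, hx⟩ := hinf
    have := hx.lift_cardinalMk_le_trdeg
    simpa using this
  have hd : Algebra.trdeg k₀ R₀ < ℵ₀ := trdeg_lt_aleph0_of_finiteType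
  have hd' : Algebra.trdeg k (k ⊗[k₀] R₀) < ℵ₀ := trdeg_lt_aleph0_of_finiteType
  haveI : FaithfulSMul k (k ⊗[k₀] R₀) :=
    (faithfulSMul_iff_algebraMap_injective k _).mpr (RingHom.injective _)
  haveI : FaithfulSMul (k ⊗[k₀] R₀) Ω := (faithfulSMul_iff_algebraMap_injective _ Ω).mpr hRΩ
  have hΩ : Algebra.trdeg k₀ Ω = κ := by
    have h0 : Algebra.trdeg (k ⊗[k₀] R₀) Ω = 0 := trdeg_eq_zero
    haveI : FaithfulSMul k Ω := (faithfulSMul_iff_algebraMap_injective k Ω).mpr (RingHom.injective _)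
    haveI : FaithfulSMul k₀ k := (faithfulSMul_iff_algebraMap_injective k₀ k).mpr (RingHom.injective _)
    rw [← trdeg_add_eq (R := k₀) (S := k) (A := Ω),
      ← trdeg_add_eq (R := k) (S := k ⊗[k₀] R₀) (A := Ω), h0, add_zero]
    exact Cardinal.add_eq_left hκ (hd'.le.trans hκ)
  haveI : FaithfulSMul k₀ R₀ := (faithfulSMul_iff_algebraMap_injective k₀ R₀).mpr (RingHom.injective _)
  have hF : ∀ (E : Type u) [Field E] [Algebra k₀ E] [Algebra R₀ E] [IsScalarTower k₀ R₀ E]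
      [FaithfulSMul R₀ E] [Algebra F E] [IsScalarTower R₀ F E],
      Algebra.trdeg k₀ E = κ → Algebra.trdeg F E = κ := by
    intro E _ _ _ _ _ _ _ hE
    refine eq_of_add_eq hκ hd ?_
    haveI : FaithfulSMul F E := (faithfulSMul_iff_algebraMap_injective F E).mpr (RingHom.injective _)
    haveI : FaithfulSMul R₀ F := (faithfulSMul_iff_algebraMap_injective R₀ F).mpr (IsFractionRing.injective _ _)
    haveI : Algebra.IsAlgebraic R₀ F :=
      (IsFractionRing.comap_isAlgebraic_iff (A := R₀) (K := F) (C := F)).mpr inferInstance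
    have h1 : Algebra.trdeg R₀ E = Algebra.trdeg F E := by
      rw [← trdeg_add_eq (R := R₀) (S := F) (A := E), trdeg_eq_zero, zero_add]
    rw [← h1, trdeg_add_eq, hE]
  obtain ⟨e, he⟩ := exists_equiv_of_trdeg_eq F Ω k ((hF Ω hΩ).trans (hF k rfl).symm)
  refine ⟨e, fun r => ?_⟩
  have h := he (algebraMap R₀ F r)
  rw [← IsScalarTower.algebraMap_apply R₀ F Ω, ← IsScalarTower.algebraMap_apply R₀ F k] at h
  exact h


theorem main (k₀ k : Type u)
    [Field k₀] [Field k] [Algebra k₀ k] [IsAlgClosed k] (hinf : ∃ x : ℕ → k, AlgebraicIndependent k₀ x)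
    (R₀ : Type u) [CommRing R₀] [Algebra k₀ R₀] [Algebra.FiniteType k₀ R₀] [IsDomain (k ⊗[k₀] R₀)]
    (ev : k ⊗[k₀] R₀ →ₐ[k] k) (hP : Function.Injective fun r : R₀ => ev (1 ⊗ₜ[k₀] r)) :
    ∃ e : AlgebraicClosure (FractionRing (k ⊗[k₀] R₀)) ≃+* k,
      ∀ r : R₀, e (algebraMap (k ⊗[k₀] R₀) (AlgebraicClosure (FractionRing (k ⊗[k₀] R₀)))
        (1 ⊗ₜ[k₀] r)) = ev (1 ⊗ₜ[k₀] r) := by
  have hRΩ : Function.Injective (algebraMap (k ⊗[k₀] R₀) (AlgebraicClosure (FractionRing (k ⊗[k₀] R₀)))) := by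
    rw [IsScalarTower.algebraMap_eq (k ⊗[k₀] R₀) (FractionRing (k ⊗[k₀] R₀))
      (AlgebraicClosure (FractionRing (k ⊗[k₀] R₀)))]
    exact (algebraMap (FractionRing (k ⊗[k₀] R₀)) _).injective.comp (IsFractionRing.injective _ _)
  haveI : Algebra.IsAlgebraic (k ⊗[k₀] R₀) (AlgebraicClosure (FractionRing (k ⊗[k₀] R₀))) :=
    (IsFractionRing.comap_isAlgebraic_iff (A := k ⊗[k₀] R₀) (K := FractionRing (k ⊗[k₀] R₀))).mpr
      inferInstance
  exact core k₀ k hinf R₀ ev hP _ hRΩ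

end Groth.Agent.H21.AlgClosedIso
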