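import Groth.Agent.H20.FinitePrimesBasis
import Mathlib.RingTheory.QuasiFinite.Basic
import Mathlib.RingTheory.Spectrum.Prime.Topology

/-!
# Approximate bases over a finite algebra

For a finite `A`-algebra `B`, a finite projective `B`-module of constant rank `k` has, near every
prime `q` of `A`, a "basis up to a multiplier `f ∉ q`".
-/

set_option autoImplicit false

universe u v

namespace Groth.Agent.H21.ApproxBasis

variable {A B : Type u} [CommRing A] [CommRing B] [Algebra A B] [Module.Finite A B]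
variable {M : Type v} [AddCommGroup M] [Module B M] [Module.Finite B M] [Module.Projective B M]

/-- A basis of `M` up to an element `f` of `A`. -/
structure Frame (k : ℕ) (M : Type v) [AddCommGroup M] [Module B M] (f : A) where
  h : (Fin k → B) →ₗ[B] M
  ψ : M →ₗ[B] (Fin k → B)
  h_ψ : ∀ x, h (ψ x) = algebraMap A B f • x
  ψ_h : ∀ v, ψ (h v) = algebraMap A B f • v

theorem exists_frame (k : ℕ) (hk : ∀ Q : PrimeSpectrum B, Module.rankAtStalk (R := B) M Q = k)
    (q : PrimeSpectrum A) :
    ∃ f : A, f ∉ q.asIdeal ∧ Nonempty (Frame (B := B) k M f) := by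
  classical
  let P := (Algebra.QuasiFinite.finite_comap_preimage_singleton (S := B) q).toFinset
  obtain ⟨s, U, hU, hPU, hbasis⟩ :=
    H20.FinitePrimesBasis.exists_basis_near (R := B) (M := M) k P (fun p _ => hk p)
  obtain ⟨f, hf, hfU⟩ : ∃ f : A, f ∉ q.asIdeal ∧
      ∀ Q : PrimeSpectrum B, algebraMap A B f ∉ Q.asIdeal → Q ∈ U := by
    have hint : (algebraMap A B).IsIntegral := algebraMap_isIntegral_iff.mpr inferInstance
    have hcl := PrimeSpectrum.isClosedMap_comap_of_isIntegral _ hint Uᶜ hU.isClosed_compl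
    have hq : q ∈ (PrimeSpectrum.comap (algebraMap A B) '' Uᶜ)ᶜ := by
      rintro ⟨Q, hQ, hQq⟩
      exact hQ (hPU Q ((Set.Finite.mem_toFinset _).mpr hQq))
    obtain ⟨_, ⟨f, rfl⟩, hqf, hsub⟩ :=
      PrimeSpectrum.isTopologicalBasis_basic_opens.exists_subset_of_mem_open hq hcl.isOpen_compl
    refine ⟨f, hqf, fun Q hQ => ?_⟩
    by_contra hQU
    exact hsub (a := PrimeSpectrum.comap (algebraMap A B) Q) hQ ⟨Q, hQU, rfl⟩
  let F := algebraMap A B f
  let h := Fintype.linearCombination B s
  -- a power of `f` carries an ideal with zero locus inside `V(f)` into itself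
  have key : ∀ J : Ideal B, (∀ Q ∈ U, ¬ J ≤ Q.asIdeal) → ∃ c, F ^ c ∈ J := by
    intro J hJ
    suffices F ∈ J.radical from this
    rw [Ideal.radical_eq_sInf, Ideal.mem_sInf]
    rintro Q ⟨hJQ, hQ⟩
    by_contra hFQ
    exact hJ ⟨Q, hQ⟩ (hfU ⟨Q, hQ⟩ hFQ) hJQ
  obtain ⟨c, hc⟩ : ∃ c, F ^ c ∈ (LinearMap.range h).colon (Set.univ : Set M) := by
    refine key _ fun Q hQ hle => ?_
    have hsur := (H20.FinitePrimesBasis.surjective_iff_span k s Q.asIdeal.primeCompl).mpr (hbasis Q hQ).2
    obtain ⟨gen, hgen⟩ := (Module.Finite.fg_top : (⊤ : Submodule B M).FG)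
    have hx : ∀ x : M, ∃ t : Q.asIdeal.primeCompl, t • x ∈ LinearMap.range h := by
      intro x
      obtain ⟨y, hy⟩ := hsur (LocalizedModule.mkLinearMap _ M x)
      obtain ⟨⟨v, t⟩, hv⟩ := IsLocalizedModule.surj Q.asIdeal.primeCompl
        (LocalizedModule.mkLinearMap Q.asIdeal.primeCompl (Fin k → B)) y
      have h2 : LocalizedModule.map Q.asIdeal.primeCompl h (LocalizedModule.mkLinearMap _ (Fin k → B) v) =
          LocalizedModule.mkLinearMap _ M (h v) := by
        simp [LocalizedModule.mkLinearMap_apply, LocalizedModule.map_mk]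
      have h3 : LocalizedModule.mkLinearMap Q.asIdeal.primeCompl M (h v) =
          LocalizedModule.mkLinearMap Q.asIdeal.primeCompl M (t • x) := by
        rw [← h2, ← hv, Submonoid.smul_def, LinearMap.map_smul_of_tower, hy, ← map_smul,
          ← Submonoid.smul_def]
      obtain ⟨t', ht'⟩ := IsLocalizedModule.exists_of_eq (S := Q.asIdeal.primeCompl) h3
      refine ⟨t' * t, ⟨(t' : B) • v, ?_⟩⟩
      rw [map_smul, ← Submonoid.smul_def, ht', mul_smul]
    choose t ht using hx
    have hmem : (∏ x ∈ gen, (t x : B)) ∈ (LinearMap.range h).colon (Set.univ : Set M) := by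
      refine Submodule.mem_colon.mpr fun x hxu => ?_
      clear hxu
      have hxg : x ∈ Submodule.span B (gen : Set M) := hgen ▸ Submodule.mem_top
      induction hxg using Submodule.span_induction with
      | mem x hx =>
        rw [← Finset.mul_prod_erase _ _ hx, mul_comm, mul_smul]
        exact Submodule.smul_mem _ _ (ht x)
      | zero => simp
      | add x y _ _ hx hy => rw [smul_add]; exact add_mem hx hy
      | smul a x _ hx => rw [smul_comm]; exact Submodule.smul_mem _ _ hx
    exact (prod_mem (fun x _ => (t x).2) : (∏ x ∈ gen, (t x : B)) ∈ Q.asIdeal.primeCompl) (hle hmem)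
  let g : M →ₗ[B] LinearMap.range h :=
    LinearMap.codRestrict _ (F ^ c • LinearMap.id) fun x => Submodule.mem_colon.mp hc x (Set.mem_univ x)
  obtain ⟨ψ, hψ⟩ := Module.projective_lifting_property h.rangeRestrict g h.surjective_rangeRestrict
  have hhψ : ∀ x, h (ψ x) = F ^ c • x := fun x => congrArg Subtype.val (LinearMap.congr_fun hψ x)
  have hker : ∀ i : Fin k, ∃ d, F ^ d • (ψ (h (Pi.single i 1)) - F ^ c • (Pi.single i 1 : Fin k → B)) = 0 := by
    intro i
    set z := ψ (h (Pi.single i 1)) - F ^ c • (Pi.single i 1 : Fin k → B) with hz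
    have hz0 : h z = 0 := by rw [hz, map_sub, hhψ, map_smul, sub_self]
    obtain ⟨d, hd⟩ := key (LinearMap.ker (LinearMap.toSpanSingleton B (Fin k → B) z)) fun Q hQ hle => by
      have hli := Fintype.linearIndependent_iff.mp (hbasis Q hQ).1
        (fun j => algebraMap B (Localization.AtPrime Q.asIdeal) (z j)) (by
          simp only [algebraMap_smul, ← map_smul, ← map_sum]
          rw [← Fintype.linearCombination_apply (R := B) (v := s)]
          change LocalizedModule.mkLinearMap _ M (h z) = 0
          rw [hz0, map_zero])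
      choose t ht using fun j => (IsLocalization.map_eq_zero_iff Q.asIdeal.primeCompl _ _).mp (hli j)
      have hmem : (∏ j, (t j : B)) ∈ LinearMap.ker (LinearMap.toSpanSingleton B (Fin k → B) z) := by
        rw [LinearMap.mem_ker, LinearMap.toSpanSingleton_apply]
        ext j
        rw [Pi.smul_apply, Pi.zero_apply, smul_eq_mul,
          ← Finset.mul_prod_erase _ _ (Finset.mem_univ j), mul_comm (t j : B), mul_assoc, ht j, mul_zero]
      exact (prod_mem (fun j _ => (t j).2) : (∏ j, (t j : B)) ∈ Q.asIdeal.primeCompl) (hle hmem)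
    exact ⟨d, hd⟩
  choose d hd using hker
  have hd' : ∀ v, F ^ (∑ i, d i) • ψ (h v) = F ^ (∑ i, d i) • F ^ c • v := by
    suffices (F ^ (∑ i, d i) • (ψ.comp h)) = F ^ (∑ i, d i) • F ^ c • LinearMap.id from
      fun v => LinearMap.congr_fun this v
    refine LinearMap.pi_ext' fun i => LinearMap.ext_ring ?_
    simp only [LinearMap.comp_apply, LinearMap.smul_apply, LinearMap.id_apply, LinearMap.coe_single]
    rw [← sub_eq_zero, ← smul_sub, ← Finset.add_sum_erase _ _ (Finset.mem_univ i), pow_add,
      mul_comm, mul_smul, hd i, smul_zero]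
  refine ⟨f ^ (∑ i, d i) * f ^ c, ?_, ⟨⟨h, F ^ (∑ i, d i) • ψ, fun x => ?_, fun v => ?_⟩⟩⟩
  · exact q.asIdeal.primeCompl.mul_mem (q.asIdeal.primeCompl.pow_mem hf _) (q.asIdeal.primeCompl.pow_mem hf _)
  · rw [LinearMap.smul_apply, map_smul, hhψ, smul_smul, map_mul, map_pow, map_pow]
  · rw [LinearMap.smul_apply, hd', smul_smul, map_mul, map_pow, map_pow]

end Groth.Agent.H21.ApproxBasis
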