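import Groth.Agent.Lib.Smoothing.ArtinApprox
import Mathlib.AlgebraicGeometry.AffineScheme
import Mathlib.RingTheory.Unramified.LocalRing
import Mathlib.RingTheory.Etale.Basic

/-!
# Tools for étale neighbourhoods approximating maps to completions
-/

set_option autoImplicit false

universe u

open CategoryTheory AlgebraicGeometry IsLocalRing

namespace Groth.Agent.H21.ApproxNbhd

variable {X : Scheme.{u}} {V : X.Opens}

/-- The stalk map of `Spec B ⟶ V ⟶ X` on sections over `V`. -/
theorem stalkMap_fromSpec (hV : IsAffineOpen V) {B : CommRingCat.{u}} (θ : Γ(X, V) ⟶ B) (u : Spec B)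
    (hu : (Spec.map θ ≫ hV.fromSpec) u ∈ V) :
    X.presheaf.germ V _ hu ≫ (Spec.map θ ≫ hV.fromSpec).stalkMap u ≫ (Spec.stalkIso B u).hom =
      θ ≫ CommRingCat.ofHom (algebraMap B (Localization.AtPrime u.asIdeal)) := by
  rw [Scheme.Hom.germ_stalkMap_assoc]
  have h1 : (Spec.map θ ≫ hV.fromSpec).app V =
      θ ≫ (Scheme.ΓSpecIso B).inv ≫ (Spec B).presheaf.map (homOfLE le_top).op := by
    rw [Scheme.Hom.comp_app, IsAffineOpen.fromSpec_app_self, Category.assoc, Scheme.Hom.naturality,
      Scheme.ΓSpecIso_inv_naturality_assoc]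
    rfl
  rw [h1]
  simp only [Category.assoc]
  rw [TopCat.Presheaf.germ_res_assoc, Spec.germ_stalkMapIso_hom, Iso.inv_hom_id_assoc]

theorem specMap_fromSpec_eq (hV : IsAffineOpen V) {B : CommRingCat.{u}} (θ : Γ(X, V) ⟶ B) (u : Spec B)
    (y : V) (h : u.asIdeal.comap θ.hom = (hV.primeIdealOf y).asIdeal) :
    (Spec.map θ ≫ hV.fromSpec) u = y.1 := by
  rw [Scheme.Hom.comp_apply, show (Spec.map θ) u = hV.primeIdealOf y from PrimeSpectrum.ext h,
    hV.fromSpec_primeIdealOf]

theorem primeIdealOf_eq (hV : IsAffineOpen V) (y : V) (c : Γ(X, V)) :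
    c ∈ (hV.primeIdealOf y).asIdeal ↔ X.presheaf.germ V y.1 y.2 c ∈ maximalIdeal (X.presheaf.stalk y.1) := by
  haveI := hV.isLocalization_stalk y
  exact (IsLocalization.AtPrime.to_map_mem_maximal_iff (X.presheaf.stalk y.1) _ c).symm

/-- Approximate lifting along a local homomorphism with trivial residue extension. -/
theorem exists_sub_mem_pow {L O : Type u} [CommRing L] [IsLocalRing L] [CommRing O] [IsLocalRing O]
    (f : L →+* O) (hm : (maximalIdeal L).map f = maximalIdeal O)
    (hres : ∀ d, ∃ l, d - f l ∈ maximalIdeal O) :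
    ∀ (N : ℕ) (d : O), ∃ l, d - f l ∈ maximalIdeal O ^ N := by
  intro N
  induction N with
  | zero => exact fun d => ⟨0, by rw [pow_zero, Ideal.one_eq_top]; trivial⟩
  | succ N ih =>
    intro d
    obtain ⟨l, hl⟩ := ih d
    rw [← hm, ← Ideal.map_pow, Ideal.map, ← Ideal.submodule_span_eq] at hl
    suffices h : ∀ z ∈ Submodule.span O (f '' ((maximalIdeal L ^ N : Ideal L) : Set L)),
        ∃ l, z - f l ∈ maximalIdeal O ^ (N + 1) by
      obtain ⟨l', hl'⟩ := h _ hl
      exact ⟨l + l', by rwa [map_add, ← sub_sub]⟩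
    intro z hz
    induction hz using Submodule.span_induction with
    | mem z hz => obtain ⟨a, -, rfl⟩ := hz; exact ⟨a, by simp⟩
    | zero => exact ⟨0, by simp⟩
    | add z z' _ _ hz hz' =>
      obtain ⟨a, ha⟩ := hz
      obtain ⟨a', ha'⟩ := hz'
      exact ⟨a + a', by simpa [map_add, add_sub_add_comm] using add_mem ha ha'⟩
    | smul c z hz' _ =>
      -- `z` lies in the `N`-th power, so only the residue class of `c` matters
      have hzN : z ∈ maximalIdeal O ^ N := by
        rw [← hm, ← Ideal.map_pow, Ideal.map, ← Ideal.submodule_span_eq]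
        exact hz'
      obtain ⟨b, hb⟩ := hres c
      rename_i ihz
      obtain ⟨a, ha⟩ := ihz
      refine ⟨b * a, ?_⟩
      have : c • z - f (b * a) = (c - f b) * z + f b * (z - f a) := by
        rw [map_mul, smul_eq_mul]; ring
      rw [this]
      exact add_mem (pow_succ' (maximalIdeal O) N ▸ Ideal.mul_mem_mul hb hzN) (Ideal.mul_mem_left _ _ ha)

end Groth.Agent.H21.ApproxNbhd
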