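import Mathlib.RingTheory.AdicCompletion.Algebra
import Mathlib.RingTheory.AdicCompletion.LocalRing
import Mathlib.RingTheory.AdicCompletion.AsTensorProduct
import Mathlib.RingTheory.Flat.FaithfullyFlat.Basic
import Mathlib.RingTheory.Flat.FaithfullyFlat.Algebra
import Mathlib.RingTheory.Noetherian.Basic
import Mathlib.RingTheory.Unramified.LocalRing
import Mathlib.RingTheory.Nakayama

/-!
# Maps of Noetherian local rings inducing isomorphisms on all truncations
-/

set_option autoImplicit false

universe u

open IsLocalRing TensorProduct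

namespace Groth.Agent.H21.ApproxNbhdEtale

theorem factorPow_evalₐ {R : Type u} [CommRing R] (I : Ideal R) {m n : ℕ} (h : m ≤ n) (z : AdicCompletion I R) :
    Ideal.Quotient.factorPow I h (AdicCompletion.evalₐ I n z) = AdicCompletion.evalₐ I m z := by
  obtain ⟨c, rfl⟩ := AdicCompletion.mk_surjective I R z
  rw [AdicCompletion.evalₐ_mk, AdicCompletion.evalₐ_mk]
  exact AdicCompletion.Ideal.mk_eq_mk I h c

/-- A surjective ring endomorphism of a Noetherian ring is injective. -/
theorem injective_of_surjective_end {R : Type u} [CommRing R] [IsNoetherianRing R] (f : R →+* R)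
    (hf : Function.Surjective f) : Function.Injective f := by
  let g : ℕ → (R →+* R) := fun n => n.rec (RingHom.id R) (fun _ h => h.comp f)
  have hgs : ∀ n, Function.Surjective (g n) := fun n => by
    induction n with
    | zero => exact Function.surjective_id
    | succ n ih => exact ih.comp hf
  have hmono : Monotone fun n => RingHom.ker (g n) := monotone_nat_of_le_succ fun n x hx => by
    obtain ⟨y, rfl⟩ : ∃ y, y = x := ⟨x, rfl⟩
    rw [RingHom.mem_ker] at hx ⊢
    have hcomm : ∀ k z, g k (f z) = f (g k z) := fun k => by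
      induction k with
      | zero => exact fun _ => rfl
      | succ k ih => exact fun z => ih (f z)
    show g n (f y) = 0
    rw [hcomm, hx, map_zero]
  obtain ⟨n, hn⟩ := monotone_stabilizes_iff_noetherian.mpr inferInstance ⟨_, hmono⟩
  refine (injective_iff_map_eq_zero f).mpr fun x hx => ?_
  obtain ⟨y, rfl⟩ := hgs n x
  have hcomm : ∀ k z, g k (f z) = f (g k z) := fun k => by
    induction k with
    | zero => exact fun _ => rfl
    | succ k ih => exact fun z => ih (f z)
  have h1 : y ∈ RingHom.ker (g (n + 1)) := by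
    rw [RingHom.mem_ker]
    show g n (f y) = 0
    rw [hcomm, hx]
  have h2 : RingHom.ker (g n) = RingHom.ker (g (n + 1)) := hn (n + 1) n.le_succ
  exact RingHom.mem_ker.mp (h2 ▸ h1)

variable {A B : Type u} [CommRing A] [IsLocalRing A] [IsNoetherianRing A] [CommRing B] [IsLocalRing B]
  [IsNoetherianRing B]

/-- The powers pull back exactly, given an abstract identification of the truncations. -/
theorem mem_pow_of_map_mem_pow (f : A →+* B) (n : ℕ) (hle : (maximalIdeal A ^ n).map f ≤ maximalIdeal B ^ n)
    (hsurj : ∀ b, ∃ a, b - f a ∈ maximalIdeal B ^ n)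
    {T : Type u} [CommRing T] (i : A →+* T) (hi : Function.Surjective i) (hik : RingHom.ker i = maximalIdeal A ^ n)
    (j : B →+* T) (hj : Function.Surjective j) (hjk : RingHom.ker j = maximalIdeal B ^ n)
    (a : A) (ha : f a ∈ maximalIdeal B ^ n) : a ∈ maximalIdeal A ^ n := by
  let F : A ⧸ maximalIdeal A ^ n →+* B ⧸ maximalIdeal B ^ n :=
    Ideal.quotientMap _ f (Ideal.map_le_iff_le_comap.mp hle)
  have hF : Function.Surjective F := fun z => by
    obtain ⟨b, rfl⟩ := Ideal.Quotient.mk_surjective z
    obtain ⟨a, ha⟩ := hsurj b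
    exact ⟨Ideal.Quotient.mk _ a, (Ideal.Quotient.eq.mpr ha).symm⟩
  let eA := (Ideal.quotEquivOfEq hik.symm).trans (RingHom.quotientKerEquivOfSurjective hi)
  let eB := (Ideal.quotEquivOfEq hjk.symm).trans (RingHom.quotientKerEquivOfSurjective hj)
  let G : A ⧸ maximalIdeal A ^ n →+* A ⧸ maximalIdeal A ^ n := (eB.trans eA.symm).toRingHom.comp F
  have hG := injective_of_surjective_end G ((eB.trans eA.symm).surjective.comp hF)
  refine Ideal.Quotient.eq_zero_iff_mem.mp (hG ?_)
  rw [map_zero]
  show (eB.trans eA.symm) (Ideal.Quotient.mk _ (f a)) = 0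
  rw [Ideal.Quotient.eq_zero_iff_mem.mpr ha, map_zero]

/-- A local homomorphism inducing bijections on all truncations is flat. -/
theorem flat_of_truncations [Algebra A B] [IsLocalHom (algebraMap A B)]
    (hsurj : ∀ (n : ℕ) (b : B), ∃ a, b - algebraMap A B a ∈ maximalIdeal B ^ n)
    (hinj : ∀ (n : ℕ) (a : A), algebraMap A B a ∈ maximalIdeal B ^ n → a ∈ maximalIdeal A ^ n) :
    Module.Flat A B := by
  classical
  let ΛA := AdicCompletion (maximalIdeal A) A
  let ΛB := AdicCompletion (maximalIdeal B) B
  have hle : ∀ n, maximalIdeal A ^ n ≤ (maximalIdeal B ^ n).comap (algebraMap A B) := fun n =>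
    Ideal.map_le_iff_le_comap.mp (by
      rw [Ideal.map_pow]
      exact Ideal.pow_right_mono (map_maximalIdeal_le (algebraMap A B)) n)
  let q : ∀ n, A ⧸ maximalIdeal A ^ n →+* B ⧸ maximalIdeal B ^ n := fun n => Ideal.quotientMap _ (algebraMap A B) (hle n)
  have hq : ∀ n, Function.Bijective (q n) := by
    refine fun n => ⟨(injective_iff_map_eq_zero _).mpr fun z hz => ?_, fun z => ?_⟩
    · obtain ⟨a, rfl⟩ := Ideal.Quotient.mk_surjective z
      rw [Ideal.quotientMap_mk, Ideal.Quotient.eq_zero_iff_mem] at hz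
      exact Ideal.Quotient.eq_zero_iff_mem.mpr (hinj n a hz)
    · obtain ⟨b, rfl⟩ := Ideal.Quotient.mk_surjective z
      obtain ⟨a, ha⟩ := hsurj n b
      exact ⟨Ideal.Quotient.mk _ a, (Ideal.Quotient.eq.mpr ha).symm⟩
  let Fn : ∀ n, ΛA →+* B ⧸ maximalIdeal B ^ n := fun n => (q n).comp (AdicCompletion.evalₐ (maximalIdeal A) n).toRingHom
  have hFn : ∀ {m n : ℕ} (h : m ≤ n), (Ideal.Quotient.factorPow (maximalIdeal B) h).comp (Fn n) = Fn m := by
    intro m n h
    refine RingHom.ext fun z => ?_
    obtain ⟨a, ha⟩ := Ideal.Quotient.mk_surjective (AdicCompletion.evalₐ (maximalIdeal A) n z)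
    have h1 : AdicCompletion.evalₐ (maximalIdeal A) m z = Ideal.Quotient.mk _ a := by
      rw [← factorPow_evalₐ (maximalIdeal A) h z, ← ha]
      rfl
    show Ideal.Quotient.factorPow (maximalIdeal B) h (q n (AdicCompletion.evalₐ (maximalIdeal A) n z)) =
      q m (AdicCompletion.evalₐ (maximalIdeal A) m z)
    rw [h1, ← ha]
    rfl
  let F : ΛA →+* ΛB := AdicCompletion.liftRingHom (maximalIdeal B) Fn hFn
  have hF : ∀ n z, AdicCompletion.evalₐ (maximalIdeal B) n (F z) = q n (AdicCompletion.evalₐ (maximalIdeal A) n z) :=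
    fun n z => AdicCompletion.evalₐ_liftRingHom _ _ _ _ _
  let Gn : ∀ n, ΛB →+* A ⧸ maximalIdeal A ^ n := fun n =>
    (RingEquiv.ofBijective (q n) (hq n)).symm.toRingHom.comp (AdicCompletion.evalₐ (maximalIdeal B) n).toRingHom
  have hGn : ∀ n z, q n (Gn n z) = AdicCompletion.evalₐ (maximalIdeal B) n z := fun n z =>
    (RingEquiv.ofBijective (q n) (hq n)).apply_symm_apply _
  have hGc : ∀ {m n : ℕ} (h : m ≤ n), (Ideal.Quotient.factorPow (maximalIdeal A) h).comp (Gn n) = Gn m := by
    intro m n h
    refine RingHom.ext fun z => (hq m).1 ?_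
    obtain ⟨a, ha⟩ := Ideal.Quotient.mk_surjective (Gn n z)
    rw [hGn, RingHom.comp_apply, ← ha, ← factorPow_evalₐ (maximalIdeal B) h z, ← hGn n z, ← ha]
    rfl
  have hbij : Function.Bijective F := by
    refine ⟨fun z z' hzz => AdicCompletion.ext_evalₐ fun n => (hq n).1 ?_, fun z => ?_⟩
    · rw [← hF, ← hF, hzz]
    · refine ⟨AdicCompletion.liftRingHom (maximalIdeal A) Gn hGc z, AdicCompletion.ext_evalₐ fun n => ?_⟩
      rw [hF, AdicCompletion.evalₐ_liftRingHom, hGn]
  haveI : IsScalarTower A B ΛB := inferInstance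
  have hcomm : ∀ a, F (algebraMap A ΛA a) = algebraMap A ΛB a := by
    intro a
    refine AdicCompletion.ext_evalₐ fun n => ?_
    rw [hF, AlgHom.commutes, IsScalarTower.algebraMap_apply A B ΛB, AlgHom.commutes]
    rfl
  let e : ΛA ≃ₐ[A] ΛB := AlgEquiv.ofRingEquiv (f := RingEquiv.ofBijective F hbij) hcomm
  haveI : Module.Flat A ΛA := AdicCompletion.flat_of_isNoetherian _
  haveI : Module.Flat A ΛB := Module.Flat.of_linearEquiv e.toLinearEquiv.symm
  haveI : Module.Flat B ΛB := AdicCompletion.flat_of_isNoetherian _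
  haveI : Module.FaithfullyFlat B ΛB := Module.FaithfullyFlat.of_flat_of_isLocalHom
  refine Module.Flat.iff_lTensor_preserves_injective_linearMap.mpr fun M N _ _ _ _ j hj => ?_
  let jB : B ⊗[A] M →ₗ[B] B ⊗[A] N := AlgebraTensorModule.map LinearMap.id j
  suffices h : Function.Injective jB from h
  refine (Module.FaithfullyFlat.lTensor_injective_iff_injective B ΛB jB).mp ?_
  let cM := AlgebraTensorModule.cancelBaseChange A B B ΛB M
  let cN := AlgebraTensorModule.cancelBaseChange A B B ΛB N
  have key : ∀ z, cN (jB.lTensor ΛB z) = j.lTensor ΛB (cM z) := by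
    intro z
    induction z using TensorProduct.induction_on with
    | zero => simp
    | add z z' h h' => simp only [map_add, h, h']
    | tmul l w =>
      induction w using TensorProduct.induction_on with
      | zero => simp
      | add w w' h h' => simp only [TensorProduct.tmul_add, map_add, h, h']
      | tmul b m => simp [jB, cM, cN]
  intro z z' hzz
  refine cM.injective (Module.Flat.lTensor_preserves_injective_linearMap (M := ΛB) j hj ?_)
  rw [← key, ← key, hzz]

end Groth.Agent.H21.ApproxNbhdEtale
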