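import Groth.Agent.H21.ApproxNbhdMain
import Groth.Agent.H21.ApproxNbhdEtale
import Groth.Agent.Lib.Unram.AtPrime

/-!
# Common étale neighbourhoods of points with isomorphic completions
-/

set_option autoImplicit false

universe u

open CategoryTheory AlgebraicGeometry IsLocalRing

namespace Groth.Agent.H21.ApproxNbhdIso

local notation "Cpl" R => AdicCompletion (maximalIdeal R) R

theorem ker_evalₐ_iff {R : Type u} [CommRing R] [IsLocalRing R] [IsNoetherianRing R] (n : ℕ)
    (z : Cpl R) : AdicCompletion.evalₐ (maximalIdeal R) n z = 0 ↔ z ∈ maximalIdeal (Cpl R) ^ n := by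
  rw [AdicCompletion.maximalIdeal_eq_map, ← Ideal.map_pow]
  refine ⟨fun h => ?_, fun h => ?_⟩
  · have h1 : z ∈ (maximalIdeal R ^ n • ⊤ : Submodule R (Cpl R)) := by
      rw [AdicCompletion.pow_smul_top_eq_ker_eval (IsNoetherian.noetherian _), LinearMap.mem_ker,
        ← AdicCompletion.factor_evalₐ_eq_eval (maximalIdeal R) z (by simp), h, map_zero]
    rw [Ideal.smul_top_eq_map] at h1
    exact h1
  · refine RingHom.mem_ker.mp (Ideal.map_le_iff_le_comap.mpr (fun w hw => ?_) h)
    show AdicCompletion.evalₐ (maximalIdeal R) n (algebraMap R _ w) = 0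
    rw [AlgHom.commutes]
    exact Ideal.Quotient.eq_zero_iff_mem.mpr hw

theorem algebraMap_mem_pow_iff {R : Type u} [CommRing R] [IsLocalRing R] [IsNoetherianRing R] (n : ℕ) (a : R) :
    algebraMap R (Cpl R) a ∈ maximalIdeal (Cpl R) ^ n ↔ a ∈ maximalIdeal R ^ n := by
  rw [← ker_evalₐ_iff, AlgHom.commutes]
  exact Ideal.Quotient.eq_zero_iff_mem

theorem ringEquiv_mem_pow_iff {R T : Type u} [CommRing R] [IsLocalRing R] [CommRing T] [IsLocalRing T]
    (e : R ≃+* T) (n : ℕ) (a : R) : e a ∈ maximalIdeal T ^ n ↔ a ∈ maximalIdeal R ^ n := by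
  rw [← IsLocalRing.map_maximalIdeal_of_surjective e.toRingHom e.surjective, ← Ideal.map_pow]
  exact ⟨fun hw => by
    obtain ⟨w', hw', he⟩ := (Ideal.mem_map_iff_of_surjective e.toRingHom e.surjective).mp hw
    rwa [← e.injective he], fun hw => Ideal.mem_map_of_mem _ hw⟩

/-- The algebraic core. -/
theorem flat_and_unramified {A B L : Type u} [CommRing A] [IsLocalRing A] [IsNoetherianRing A]
    [CommRing B] [IsLocalRing B] [IsNoetherianRing B] [CommRing L] [IsLocalRing L] [IsNoetherianRing L]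
    (f : A →+* B) [IsLocalHom f] (hess : f.EssFiniteType) (e : L →+* B) (φ : (Cpl A) ≃+* (Cpl L))
    (hsur : ∀ (k : ℕ) (d : B), ∃ l, d - e l ∈ maximalIdeal B ^ k)
    (hiff : ∀ (k : ℕ) (l : L), l ∈ maximalIdeal L ^ k ↔ e l ∈ maximalIdeal B ^ k)
    (hcong : ∀ (a : A) (l : L), AdicCompletion.evalₐ (maximalIdeal L) 2 (φ (algebraMap A _ a)) = Ideal.Quotient.mk _ l →
      f a - e l ∈ maximalIdeal B ^ 2) :
    f.Flat ∧ f.FormallyUnramified ∧ (∀ d : B, ∃ a, d - f a ∈ maximalIdeal B) := by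
  let i : ∀ n : ℕ, A →+* L ⧸ maximalIdeal L ^ n := fun n =>
    (AdicCompletion.evalₐ (maximalIdeal L) n).toRingHom.comp (φ.toRingHom.comp (algebraMap A _))
  have hi : ∀ n, Function.Surjective (i n) := by
    intro n w
    obtain ⟨z, rfl⟩ := AdicCompletion.surjective_evalₐ (maximalIdeal L) n w
    obtain ⟨a, ha⟩ := Ideal.Quotient.mk_surjective (AdicCompletion.evalₐ (maximalIdeal A) n (φ.symm z))
    refine ⟨a, ?_⟩
    show AdicCompletion.evalₐ (maximalIdeal L) n (φ (algebraMap A _ a)) = AdicCompletion.evalₐ (maximalIdeal L) n z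
    rw [← sub_eq_zero, ← map_sub, ker_evalₐ_iff]
    have h0 : algebraMap A (Cpl A) a - φ.symm z ∈ maximalIdeal (Cpl A) ^ n := by
      rw [← ker_evalₐ_iff, map_sub, AlgHom.commutes, ← ha, sub_eq_zero]
      rfl
    have h1 := (ringEquiv_mem_pow_iff φ n _).mpr h0
    rwa [map_sub, φ.apply_symm_apply] at h1
  have hik : ∀ n, RingHom.ker (i n) = maximalIdeal A ^ n := by
    intro n
    ext a
    rw [RingHom.mem_ker]
    show AdicCompletion.evalₐ (maximalIdeal L) n (φ (algebraMap A _ a)) = 0 ↔ _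
    rw [ker_evalₐ_iff, ringEquiv_mem_pow_iff, algebraMap_mem_pow_iff]
  let q : ∀ n : ℕ, L ⧸ maximalIdeal L ^ n →+* B ⧸ maximalIdeal B ^ n := fun n =>
    Ideal.quotientMap _ e (fun l hl => Ideal.mem_comap.mpr ((hiff n l).mp hl))
  have hq : ∀ n, Function.Bijective (q n) := by
    refine fun n => ⟨(injective_iff_map_eq_zero _).mpr fun z hz => ?_, fun z => ?_⟩
    · obtain ⟨l, rfl⟩ := Ideal.Quotient.mk_surjective z
      rw [Ideal.quotientMap_mk, Ideal.Quotient.eq_zero_iff_mem] at hz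
      exact Ideal.Quotient.eq_zero_iff_mem.mpr ((hiff n l).mpr hz)
    · obtain ⟨d, rfl⟩ := Ideal.Quotient.mk_surjective z
      obtain ⟨l, hl⟩ := hsur n d
      exact ⟨Ideal.Quotient.mk _ l, (Ideal.Quotient.eq.mpr hl).symm⟩
  -- surjectivity modulo the square
  have h2 : ∀ d : B, ∃ a, d - f a ∈ maximalIdeal B ^ 2 := by
    intro d
    obtain ⟨l, hl⟩ := hsur 2 d
    obtain ⟨a, ha⟩ := hi 2 (Ideal.Quotient.mk _ l)
    exact ⟨a, by simpa using sub_mem hl (hcong a l ha)⟩
  have hres : ∀ d : B, ∃ a, d - f a ∈ maximalIdeal B := fun d =>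
    (h2 d).imp fun a ha => Ideal.pow_le_self two_ne_zero ha
  have hm : (maximalIdeal A).map f = maximalIdeal B := by
    refine le_antisymm (map_maximalIdeal_le f) ?_
    refine Submodule.le_of_le_smul_of_le_jacobson_bot (I := maximalIdeal B) (IsNoetherian.noetherian _)
      (maximalIdeal_le_jacobson _) fun d hd => ?_
    obtain ⟨a, ha⟩ := h2 d
    have haA : a ∈ maximalIdeal A := by
      have h3 : f a ∈ maximalIdeal B := by
        simpa using sub_mem hd (Ideal.pow_le_self two_ne_zero ha)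
      by_contra h
      exact h3 ((notMem_maximalIdeal.mp h).map f)
    rw [Submodule.mem_sup]
    refine ⟨f a, Ideal.mem_map_of_mem f haA, d - f a, ?_, by ring⟩
    rw [smul_eq_mul, ← pow_two]
    exact ha
  have hsurj := ApproxNbhd.exists_sub_mem_pow f hm hres
  letI : Algebra A B := f.toAlgebra
  haveI : IsLocalHom (algebraMap A B) := ‹IsLocalHom f›
  have hinj : ∀ (n : ℕ) (a : A), algebraMap A B a ∈ maximalIdeal B ^ n → a ∈ maximalIdeal A ^ n := by
    intro n a ha
    refine ApproxNbhdEtale.mem_pow_of_map_mem_pow f n ?_ (hsurj n) (i n) (hi n) (hik n)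
      ((RingEquiv.ofBijective (q n) (hq n)).symm.toRingHom.comp (Ideal.Quotient.mk _))
      ((RingEquiv.ofBijective (q n) (hq n)).symm.surjective.comp Ideal.Quotient.mk_surjective) ?_ a ha
    · rw [Ideal.map_pow, hm]
    · rw [← RingHom.comap_ker, show RingHom.ker (RingEquiv.ofBijective (q n) (hq n)).symm.toRingHom = ⊥ from
        (RingHom.injective_iff_ker_eq_bot _).mp (RingEquiv.ofBijective (q n) (hq n)).symm.injective,
        ← RingHom.ker_eq_comap_bot, Ideal.mk_ker]
  refine ⟨ApproxNbhdEtale.flat_of_truncations hsurj hinj, ?_, hres⟩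
  haveI : Algebra.EssFiniteType A B := hess
  haveI : Algebra.IsSeparable (ResidueField A) (ResidueField B) := ⟨fun k => by
    obtain ⟨d, rfl⟩ := IsLocalRing.residue_surjective k
    obtain ⟨a, ha⟩ := hres d
    rw [show residue B d = algebraMap (ResidueField A) (ResidueField B) (residue A a) from
      Ideal.Quotient.eq.mpr ha]
    exact isSeparable_algebraMap _⟩
  exact RingHom.formallyUnramified_algebraMap.mpr (Algebra.FormallyUnramified.of_map_maximalIdeal hm)

variable {X Y S : Scheme.{u}} (p : X ⟶ S) (q : Y ⟶ S) [IsLocallyNoetherian S]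
  [LocallyOfFiniteType p] [LocallyOfFiniteType q] (x : X) (y : Y)

theorem exists_common_nbhd (hxy : p x = q y) (hG : CAlg.IsGRing ↑(X.presheaf.stalk x))
    (φ : (Cpl ↑(Y.presheaf.stalk y)) ≃+* (Cpl ↑(X.presheaf.stalk x)))
    (hφ : φ.toRingHom.comp ((algebraMap ↑(Y.presheaf.stalk y) (Cpl ↑(Y.presheaf.stalk y))).comp
        ((q.stalkMap y).hom.comp (S.presheaf.stalkCongr (Inseparable.of_eq hxy)).hom.hom)) =
      (algebraMap ↑(X.presheaf.stalk x) (Cpl ↑(X.presheaf.stalk x))).comp (p.stalkMap x).hom)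
    (N : ℕ) (hN : 1 ≤ N) :
    ∃ (U : Scheme.{u}) (u : U) (e : U ⟶ X) (heu : e u = x) (f : U ⟶ Y) (hfu : f u = y),
      Etale e ∧ Function.Bijective (e.residueFieldMap u) ∧ Etale f ∧ Function.Bijective (f.residueFieldMap u) ∧
      f ≫ q = e ≫ p ∧
      ∀ (b : (Cpl ↑(Y.presheaf.stalk y))) (cY : ↑(Y.presheaf.stalk y)) (cX : ↑(X.presheaf.stalk x)),
        AdicCompletion.evalₐ (maximalIdeal ↑(Y.presheaf.stalk y)) N b =
          Ideal.Quotient.mk (maximalIdeal ↑(Y.presheaf.stalk y) ^ N) cY →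
        AdicCompletion.evalₐ (maximalIdeal ↑(X.presheaf.stalk x)) N (φ b) =
          Ideal.Quotient.mk (maximalIdeal ↑(X.presheaf.stalk x) ^ N) cX →
        Ideal.Quotient.mk (maximalIdeal ↑(U.presheaf.stalk u) ^ N)
            ((f.stalkMap u).hom ((Y.presheaf.stalkCongr (Inseparable.of_eq hfu)).inv.hom cY)) =
          Ideal.Quotient.mk (maximalIdeal ↑(U.presheaf.stalk u) ^ N)
            ((e.stalkMap u).hom ((X.presheaf.stalkCongr (Inseparable.of_eq heu)).inv.hom cX)) := by
  classical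
  haveI : IsLocallyNoetherian X := LocallyOfFiniteType.isLocallyNoetherian p
  haveI : IsLocallyNoetherian Y := LocallyOfFiniteType.isLocallyNoetherian q
  haveI : IsNoetherianRing ↑(X.presheaf.stalk x) := inferInstance
  haveI : IsNoetherianRing ↑(Y.presheaf.stalk y) := inferInstance
  obtain ⟨U, e, u, heu, f, hfu, he, hres, hc, hcong, hsur, hiff⟩ := ApproxNbhdMain.exists_nbhd_strong p q x y hxy hG
    (φ.toRingHom.comp (algebraMap _ _)) (by rw [RingHom.comp_assoc]; exact hφ) (fun b hb => by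
      rw [← AdicCompletion.maximalIdeal_eq_map]
      have h1 := (ringEquiv_mem_pow_iff φ 1 _).mpr ((algebraMap_mem_pow_iff 1 b).mpr (by rwa [pow_one]))
      rwa [pow_one] at h1) (max N 2) (le_max_of_le_left hN)
  haveI : IsLocallyNoetherian U := LocallyOfFiniteType.isLocallyNoetherian e
  haveI : LocallyOfFiniteType (f ≫ q) := by rw [hc]; infer_instance
  haveI : LocallyOfFiniteType f := locallyOfFiniteType_of_comp f q
  haveI : LocallyOfFinitePresentation f := inferInstance
  let cY' := (Y.presheaf.stalkCongr (Inseparable.of_eq hfu)).commRingCatIsoToRingEquiv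
  let cX' := (X.presheaf.stalkCongr (Inseparable.of_eq heu)).commRingCatIsoToRingEquiv
  let fA : ↑(Y.presheaf.stalk y) →+* ↑(U.presheaf.stalk u) :=
    (f.stalkMap u).hom.comp (Y.presheaf.stalkCongr (Inseparable.of_eq hfu)).inv.hom
  let eL : ↑(X.presheaf.stalk x) →+* ↑(U.presheaf.stalk u) :=
    (e.stalkMap u).hom.comp (X.presheaf.stalkCongr (Inseparable.of_eq heu)).inv.hom
  haveI : IsLocalHom fA := ⟨fun z hz => by
    have h1 : IsUnit ((Y.presheaf.stalkCongr (Inseparable.of_eq hfu)).inv.hom z) :=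
      isUnit_of_map_unit (f.stalkMap u).hom _ hz
    simpa using h1.map (Y.presheaf.stalkCongr (Inseparable.of_eq hfu)).hom.hom⟩
  have hess : fA.EssFiniteType := by
    refine (RingHom.EssFiniteType.respectsIso.cancel_left_isIso
      (Y.presheaf.stalkCongr (Inseparable.of_eq hfu)).inv (f.stalkMap u)).mpr ?_
    exact LocallyOfFiniteType.stalkMap f u
  have hmono : maximalIdeal ↑(U.presheaf.stalk u) ^ max N 2 ≤ maximalIdeal ↑(U.presheaf.stalk u) ^ 2 :=
    Ideal.pow_le_pow_right (le_max_right _ _)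
  have key : ∀ (k : ℕ), k ≤ max N 2 → ∀ (a : ↑(Y.presheaf.stalk y)) (l : ↑(X.presheaf.stalk x)),
      AdicCompletion.evalₐ (maximalIdeal ↑(X.presheaf.stalk x)) k (φ (algebraMap _ _ a)) = Ideal.Quotient.mk _ l →
      fA a - eL l ∈ maximalIdeal ↑(U.presheaf.stalk u) ^ k := by
    intro k hk a l hal
    obtain ⟨l', hl'⟩ := Ideal.Quotient.mk_surjective
      (AdicCompletion.evalₐ (maximalIdeal ↑(X.presheaf.stalk x)) (max N 2) (φ (algebraMap _ _ a)))
    have h1 : fA a - eL l' ∈ maximalIdeal ↑(U.presheaf.stalk u) ^ max N 2 :=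
      Ideal.Quotient.eq.mp (hcong a l' hl'.symm)
    have h2 : l' - l ∈ maximalIdeal ↑(X.presheaf.stalk x) ^ k := by
      rw [← Ideal.Quotient.eq, ← hal, ← ApproxNbhdEtale.factorPow_evalₐ _ hk, ← hl']
      rfl
    have h3 : fA a - eL l = (fA a - eL l') + eL (l' - l) := by rw [map_sub]; ring
    rw [h3]
    exact add_mem (Ideal.pow_le_pow_right hk h1) ((hiff k _).mp h2)
  obtain ⟨hflat, hunr, hresf⟩ := flat_and_unramified fA hess eL φ hsur hiff
    fun a l h => key 2 (le_max_right _ _) a l h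
  have hflat' : (f.stalkMap u).hom.Flat :=
    (RingHom.Flat.respectsIso.cancel_left_isIso (Y.presheaf.stalkCongr (Inseparable.of_eq hfu)).inv (f.stalkMap u)).mp hflat
  have hunr' : (f.stalkMap u).hom.FormallyUnramified :=
    (RingHom.FormallyUnramified.respectsIso.cancel_left_isIso (Y.presheaf.stalkCongr (Inseparable.of_eq hfu)).inv (f.stalkMap u)).mp hunr
  obtain ⟨V, huV, hV⟩ := (Groth.Agent.Lib.Unram.AtPrime.exists_etale_nhd_iff f u).mpr ⟨hflat', hunr'⟩
  let u' : (V : Scheme.{u}) := ⟨u, huV⟩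
  have hfres : Function.Bijective (f.residueFieldMap u) := by
    refine ⟨(f.residueFieldMap u).hom.injective, fun k => ?_⟩
    obtain ⟨d, rfl⟩ := Scheme.residue_surjective _ u k
    obtain ⟨a, ha⟩ := hresf d
    refine ⟨Y.residue (f u) ((Y.presheaf.stalkCongr (Inseparable.of_eq hfu)).inv.hom a), ?_⟩
    refine (congrArg (fun g => g.hom ((Y.presheaf.stalkCongr (Inseparable.of_eq hfu)).inv.hom a))
      (Scheme.residue_residueFieldMap f u)).trans ?_
    exact (Ideal.Quotient.eq.mpr ha).symm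
  have hι : Function.Bijective (V.ι.residueFieldMap u') :=
    ConcreteCategory.bijective_of_isIso (V.ι.residueFieldMap u')
  refine ⟨V, u', V.ι ≫ e, heu, V.ι ≫ f, hfu, inferInstance, ?_, hV, ?_, by rw [Category.assoc, hc, Category.assoc], ?_⟩
  · rw [Scheme.residueFieldMap_comp]
    exact hι.comp hres
  · rw [Scheme.residueFieldMap_comp]
    exact hι.comp hfres
  · intro b cY cX hY hX
    have hab : algebraMap _ _ cY - b ∈ maximalIdeal (Cpl ↑(Y.presheaf.stalk y)) ^ N := by
      rw [← ker_evalₐ_iff, map_sub, AlgHom.commutes, hY, sub_eq_zero]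
      rfl
    have h1 := (ringEquiv_mem_pow_iff φ N _).mpr hab
    rw [map_sub, ← ker_evalₐ_iff, map_sub, sub_eq_zero, hX] at h1
    have h2 : fA cY - eL cX ∈ maximalIdeal ↑(U.presheaf.stalk u) ^ N := key N (le_max_left _ _) cY cX h1
    rw [Ideal.Quotient.eq]
    have hpow : ∀ {R T : Type u} [CommRing R] [IsLocalRing R] [CommRing T] [IsLocalRing T] (g : R →+* T) [IsLocalHom g]
        (z z' : R), z - z' ∈ maximalIdeal R ^ N → g z - g z' ∈ maximalIdeal T ^ N := fun g _ z z' hz => by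
      rw [← map_sub]
      have h4 := Ideal.mem_map_of_mem g hz
      rw [Ideal.map_pow] at h4
      exact Ideal.pow_right_mono (map_maximalIdeal_le g) N h4
    have h4 := hpow (V.ι.stalkMap u').hom _ _ h2
    rw [Scheme.Hom.stalkMap_comp, Scheme.Hom.stalkMap_comp]
    exact h4

end Groth.Agent.H21.ApproxNbhdIso
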