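import Groth.Agent.H21.ApproxNbhd
import Mathlib.AlgebraicGeometry.Morphisms.Etale
import Mathlib.AlgebraicGeometry.Morphisms.FiniteType
import Mathlib.AlgebraicGeometry.Noetherian
import Mathlib.RingTheory.FinitePresentation
import Mathlib.RingTheory.AdicCompletion.Algebra
import Mathlib.RingTheory.AdicCompletion.LocalRing
import Mathlib.RingTheory.AdicCompletion.Functoriality

/-!
# Étale neighbourhoods approximating a map to the completion
-/

set_option autoImplicit false

universe u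

open CategoryTheory AlgebraicGeometry IsLocalRing

namespace Groth.Agent.H21.ApproxNbhdMain

local notation "Cl" => fun R => AdicCompletion (maximalIdeal R) R

theorem mem_maximalIdeal_of_unit_plus {Λ : Type u} [CommRing Λ] {I : Ideal Λ} (hI : I ≠ ⊤) {a b : Λ}
    (ha : IsUnit a) (hb : b ∈ I) : a + b ∉ I := fun h =>
  hI (I.eq_top_of_isUnit_mem (by simpa using I.sub_mem h hb) ha)

variable {X Y S : Scheme.{u}} (p : X ⟶ S) (q : Y ⟶ S) [IsLocallyNoetherian S]
  [LocallyOfFiniteType p] [LocallyOfFiniteType q] (x : X) (y : Y)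

theorem exists_nbhd_strong (hxy : p x = q y) (hG : CAlg.IsGRing ↑(X.presheaf.stalk x))
    (φ : ↑(Y.presheaf.stalk y) →+* AdicCompletion (maximalIdeal ↑(X.presheaf.stalk x)) ↑(X.presheaf.stalk x))
    (hφ : φ.comp ((q.stalkMap y).hom.comp (S.presheaf.stalkCongr (Inseparable.of_eq hxy)).hom.hom) =
      (algebraMap ↑(X.presheaf.stalk x) (AdicCompletion (maximalIdeal ↑(X.presheaf.stalk x)) ↑(X.presheaf.stalk x))).comp (p.stalkMap x).hom)
    (hloc : ∀ b ∈ maximalIdeal ↑(Y.presheaf.stalk y),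
      φ b ∈ (maximalIdeal ↑(X.presheaf.stalk x)).map (algebraMap ↑(X.presheaf.stalk x) (AdicCompletion (maximalIdeal ↑(X.presheaf.stalk x)) ↑(X.presheaf.stalk x))))
    (N : ℕ) (hN : 1 ≤ N) :
    ∃ (U : Scheme.{u}) (e : U ⟶ X) (u : U) (heu : e u = x) (f : U ⟶ Y) (hfu : f u = y),
      Etale e ∧ Function.Bijective (e.residueFieldMap u) ∧ f ≫ q = e ≫ p ∧
      (∀ (b : ↑(Y.presheaf.stalk y)) (c : ↑(X.presheaf.stalk x)),
        AdicCompletion.evalₐ (maximalIdeal ↑(X.presheaf.stalk x)) N (φ b) =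
          Ideal.Quotient.mk (maximalIdeal ↑(X.presheaf.stalk x) ^ N) c →
        Ideal.Quotient.mk (maximalIdeal ↑(U.presheaf.stalk u) ^ N)
            ((f.stalkMap u).hom ((Y.presheaf.stalkCongr (Inseparable.of_eq hfu)).inv.hom b)) =
          Ideal.Quotient.mk (maximalIdeal ↑(U.presheaf.stalk u) ^ N)
            ((e.stalkMap u).hom ((X.presheaf.stalkCongr (Inseparable.of_eq heu)).inv.hom c))) ∧
      (∀ (k : ℕ) (d : ↑(U.presheaf.stalk u)), ∃ l : ↑(X.presheaf.stalk x),
        d - (e.stalkMap u).hom ((X.presheaf.stalkCongr (Inseparable.of_eq heu)).inv.hom l) ∈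
          maximalIdeal ↑(U.presheaf.stalk u) ^ k) ∧
      (∀ (k : ℕ) (l : ↑(X.presheaf.stalk x)), l ∈ maximalIdeal ↑(X.presheaf.stalk x) ^ k ↔
        (e.stalkMap u).hom ((X.presheaf.stalkCongr (Inseparable.of_eq heu)).inv.hom l) ∈
          maximalIdeal ↑(U.presheaf.stalk u) ^ k) := by
  classical
  -- affine charts
  obtain ⟨_, ⟨W, hW, rfl⟩, hxW, -⟩ := S.isBasis_affineOpens.exists_subset_of_mem_open
    (show p x ∈ (⊤ : S.Opens) from trivial) isOpen_univ
  have hyW : y ∈ q ⁻¹ᵁ W := show q y ∈ W from hxy ▸ hxW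
  obtain ⟨_, ⟨V, hV, rfl⟩, hyV, hVW⟩ := Y.isBasis_affineOpens.exists_subset_of_mem_open hyW (q ⁻¹ᵁ W).isOpen
  obtain ⟨_, ⟨U0, hU0, rfl⟩, hxU, hUW⟩ := X.isBasis_affineOpens.exists_subset_of_mem_open
    (show x ∈ p ⁻¹ᵁ W from hxW) (p ⁻¹ᵁ W).isOpen
  haveI : IsNoetherianRing Γ(S, W) := IsLocallyNoetherian.component_noetherian ⟨W, hW⟩
  letI : Algebra Γ(S, W) Γ(X, U0) := (p.appLE W U0 hUW).hom.toAlgebra
  letI : Algebra Γ(S, W) Γ(Y, V) := (q.appLE W V hVW).hom.toAlgebra
  haveI : Algebra.FiniteType Γ(S, W) Γ(X, U0) := LocallyOfFiniteType.finiteType_appLE p hW hU0 hUW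
  haveI : Algebra.FiniteType Γ(S, W) Γ(Y, V) := LocallyOfFiniteType.finiteType_appLE q hW hV hVW
  haveI : IsNoetherianRing Γ(X, U0) := Algebra.FiniteType.isNoetherianRing Γ(S, W) Γ(X, U0)
  haveI : Algebra.FinitePresentation Γ(S, W) Γ(Y, V) :=
    Algebra.FinitePresentation.of_finiteType.mp inferInstance
  haveI : IsNoetherianRing ↑(X.presheaf.stalk x) := hG.1
  obtain ⟨n, π, hπ, hker⟩ := (inferInstance : Algebra.FinitePresentation Γ(S, W) Γ(Y, V))
  obtain ⟨m, G, hG'⟩ := Submodule.fg_iff_exists_fin_generating_family.mp hker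
  let L := X.presheaf.stalk x
  letI : Algebra Γ(X, U0) L := X.presheaf.algebra_section_stalk (⟨x, hxU⟩ : U0)
  haveI : IsLocalization.AtPrime L (hU0.primeIdealOf ⟨x, hxU⟩).asIdeal := hU0.isLocalization_stalk ⟨x, hxU⟩
  -- the equations
  let ζ : Γ(Y, V) →+* AdicCompletion (maximalIdeal L) L := φ.comp (Y.presheaf.germ V y hyV).hom
  let a : Fin n → AdicCompletion (maximalIdeal L) L := fun i => ζ (π (MvPolynomial.X i))
  let αX : Γ(S, W) →+* Γ(X, U0) := (p.appLE W U0 hUW).hom
  have hbase : ∀ r, ζ (algebraMap Γ(S, W) Γ(Y, V) r) =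
      algebraMap Γ(X, U0) (AdicCompletion (maximalIdeal L) L) (αX r) := by
    intro r
    have h := RingHom.congr_fun hφ ((S.presheaf.germ W (p x) hxW).hom r)
    simp only [RingHom.comp_apply] at h
    have h1 : (S.presheaf.stalkCongr (Inseparable.of_eq hxy)).hom.hom ((S.presheaf.germ W (p x) hxW).hom r) =
        (S.presheaf.germ W (q y) (hxy ▸ hxW)).hom r :=
      congrArg (fun g => g.hom r) (TopCat.Presheaf.germ_stalkSpecializes S.presheaf hxW (Inseparable.of_eq hxy).ge)
    rw [h1] at h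
    have h2 : (q.stalkMap y).hom ((S.presheaf.germ W (q y) (hxy ▸ hxW)).hom r) =
        (Y.presheaf.germ V y hyV).hom (algebraMap Γ(S, W) Γ(Y, V) r) := by
      refine (Scheme.Hom.germ_stalkMap_apply q W y (hxy ▸ hxW) r).trans ?_
      show _ = (Y.presheaf.germ V y hyV) (q.appLE W V hVW r)
      rw [Scheme.Hom.appLE]
      simp [TopCat.Presheaf.germ_res_apply]
    have h3 : (p.stalkMap x).hom ((S.presheaf.germ W (p x) hxW).hom r) = algebraMap Γ(X, U0) L (αX r) := by
      refine (Scheme.Hom.germ_stalkMap_apply p W x hxW r).trans ?_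
      show _ = (X.presheaf.germ U0 x hxU) (p.appLE W U0 hUW r)
      rw [Scheme.Hom.appLE]
      simp [TopCat.Presheaf.germ_res_apply]
    rw [h2, h3] at h
    exact h
  let F : Fin m → MvPolynomial (Fin n) Γ(X, U0) := fun j => MvPolynomial.map αX (G j)
  have haF : ∀ j, MvPolynomial.aeval a (F j) = 0 := by
    intro j
    have h0 : π (G j) = 0 := RingHom.mem_ker.mp (hG' ▸ Submodule.subset_span ⟨j, rfl⟩)
    have : ((MvPolynomial.aeval a : MvPolynomial (Fin n) Γ(X, U0) →ₐ[Γ(X, U0)] _).toRingHom).comp (MvPolynomial.map αX)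
        = ζ.comp π.toRingHom := by
      refine MvPolynomial.ringHom_ext (fun r => ?_) fun i => ?_
      · show MvPolynomial.aeval a (MvPolynomial.map αX (MvPolynomial.C r)) = ζ (π (MvPolynomial.C r))
        rw [MvPolynomial.map_C, MvPolynomial.aeval_C, ← MvPolynomial.algebraMap_eq, AlgHom.commutes, hbase]
      · show MvPolynomial.aeval a (MvPolynomial.map αX (MvPolynomial.X i)) = ζ (π (MvPolynomial.X i))
        rw [MvPolynomial.map_X, MvPolynomial.aeval_X]
    exact (RingHom.congr_fun this (G j)).trans (by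
      show ζ (π (G j)) = 0
      rw [h0, map_zero])
  obtain ⟨P', _, _, het, ψ, p', hp', hcomap, hres, hmem, b, hb, hab⟩ :=
    Groth.Agent.Lib.Smoothing.ArtinApprox.exists_etale_solution (hU0.primeIdealOf ⟨x, hxU⟩).asIdeal L hG F a haF N
  -- the morphism `θ`
  letI : Algebra Γ(S, W) P' := ((algebraMap Γ(X, U0) P').comp αX).toAlgebra
  have hbG : ∀ g ∈ RingHom.ker π, (MvPolynomial.aeval b : MvPolynomial (Fin n) Γ(S, W) →ₐ[Γ(S, W)] P') g = 0 := by
    intro g hg
    have hg' : g ∈ Submodule.span (MvPolynomial (Fin n) Γ(S, W)) (Set.range G) := hG'.symm ▸ hg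
    refine Submodule.span_induction (fun z hz => ?_) (map_zero _) (fun z z' _ _ h h' => by rw [map_add, h, h', add_zero])
      (fun c z _ h => by rw [smul_eq_mul, map_mul, h, mul_zero]) hg'
    obtain ⟨j, rfl⟩ := hz
    rw [← hb j, MvPolynomial.aeval_def, MvPolynomial.aeval_def, MvPolynomial.eval₂_map]
    rfl
  let θ : Γ(Y, V) →ₐ[Γ(S, W)] P' :=
    (Ideal.Quotient.liftₐ _ _ hbG).comp (Ideal.quotientKerAlgEquivOfSurjective hπ).symm.toAlgHom
  have hθπ : ∀ g, θ (π g) = MvPolynomial.aeval b g := by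
    intro g
    show Ideal.Quotient.liftₐ _ _ hbG ((Ideal.quotientKerAlgEquivOfSurjective hπ).symm (π g)) = _
    rw [show (Ideal.quotientKerAlgEquivOfSurjective hπ).symm (π g) = Ideal.Quotient.mk _ g from
      (Ideal.quotientKerAlgEquivOfSurjective hπ).symm_apply_eq.mpr rfl]
    rfl
  let I : Ideal (AdicCompletion (maximalIdeal L) L) := (maximalIdeal L ^ N).map (algebraMap L _)
  let M : Ideal (AdicCompletion (maximalIdeal L) L) := (maximalIdeal L).map (algebraMap L _)
  have hIM : I ≤ M := Ideal.map_mono (Ideal.pow_le_self (by omega))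
  have hcong : ∀ c, ζ c - ψ (θ c) ∈ I := by
    intro c
    obtain ⟨g, rfl⟩ := hπ c
    rw [hθπ]
    induction g using MvPolynomial.induction_on with
    | C r =>
      rw [← MvPolynomial.algebraMap_eq, AlgHom.commutes, AlgHom.commutes, hbase]
      show _ - ψ (algebraMap Γ(X, U0) P' (αX r)) ∈ I
      rw [AlgHom.commutes, sub_self]
      exact I.zero_mem
    | add g g' h h' =>
      rw [map_add, map_add, map_add, map_add, add_sub_add_comm]
      exact I.add_mem h h'
    | mul_X g i h =>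
      rw [map_mul, map_mul, map_mul, map_mul, MvPolynomial.aeval_X]
      rw [show ∀ s t s' t' : AdicCompletion (maximalIdeal L) L, s * t - s' * t' = (s - s') * t + s' * (t - t') from
        fun _ _ _ _ => by ring]
      exact I.add_mem (Ideal.mul_mem_right _ _ h) (Ideal.mul_mem_left _ _ (hab i))
  have hMtop : M ≠ ⊤ := by
    intro htop
    have hle : M ≤ RingHom.ker (AdicCompletion.evalOneₐ (maximalIdeal L)).toRingHom := Ideal.map_le_iff_le_comap.mpr fun z hz => by
      show AdicCompletion.evalOneₐ (maximalIdeal L) (algebraMap L _ z) = 0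
      rw [AlgHom.commutes]
      exact Ideal.Quotient.eq_zero_iff_mem.mpr hz
    have := hle (htop ▸ Submodule.mem_top : (1 : AdicCompletion (maximalIdeal L) L) ∈ M)
    rw [RingHom.mem_ker, map_one] at this
    exact one_ne_zero this
  -- points
  have hp'M : ∀ z, z ∉ p' → ψ z ∉ M := by
    intro z hz
    obtain ⟨r, s, hs, hrs⟩ := hres z
    have hr : r ∉ (hU0.primeIdealOf ⟨x, hxU⟩).asIdeal := by
      intro hr
      rw [← hcomap] at hr hs
      have : algebraMap Γ(X, U0) P' s * z ∈ p' := by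
        simpa using p'.add_mem hrs hr
      exact (hp'.mem_or_mem this).elim hs hz
    have hu : IsUnit (algebraMap Γ(X, U0) (AdicCompletion (maximalIdeal L) L) r) := by
      rw [IsScalarTower.algebraMap_apply Γ(X, U0) L]
      exact (IsLocalization.map_units L (⟨r, hr⟩ : (hU0.primeIdealOf ⟨x, hxU⟩).asIdeal.primeCompl)).map _
    intro hzM
    have h1 : ψ (algebraMap Γ(X, U0) P' s * z) - ψ (algebraMap Γ(X, U0) P' r) ∈ M := by
      rw [← map_sub]; exact hmem _ hrs
    have h2 : ψ (algebraMap Γ(X, U0) P' s * z) ∈ M := by rw [map_mul]; exact M.mul_mem_left _ hzM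
    rw [AlgHom.commutes] at h1
    exact hMtop (M.eq_top_of_isUnit_mem (by simpa using M.sub_mem h2 h1) hu)
  have hθy : p'.comap θ.toRingHom = (hV.primeIdealOf ⟨y, hyV⟩).asIdeal := by
    ext c
    rw [Ideal.mem_comap, ApproxNbhd.primeIdealOf_eq hV ⟨y, hyV⟩ c]
    constructor
    · intro h
      by_contra hc
      refine hMtop (M.eq_top_of_isUnit_mem ?_ ((notMem_maximalIdeal.mp hc).map φ))
      have h5 := M.add_mem (hIM (hcong c)) (hmem _ h)
      rw [show ψ (θ.toRingHom c) = ψ (θ c) from rfl, sub_add_cancel] at h5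
      exact h5
    · intro h
      by_contra hc
      refine hp'M _ hc ?_
      simpa [ζ] using M.sub_mem (hloc _ h) (hIM (hcong c))
  haveI hp'i : p'.IsPrime := hp'
  let u : Spec (CommRingCat.of P') := ⟨p', hp'⟩
  let e : Spec (CommRingCat.of P') ⟶ X := Spec.map (CommRingCat.ofHom (algebraMap Γ(X, U0) P')) ≫ hU0.fromSpec
  let f : Spec (CommRingCat.of P') ⟶ Y := Spec.map (CommRingCat.ofHom θ.toRingHom) ≫ hV.fromSpec
  have heu : e u = x := ApproxNbhd.specMap_fromSpec_eq hU0 _ u ⟨x, hxU⟩ hcomap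
  have hfu : f u = y := ApproxNbhd.specMap_fromSpec_eq hV _ u ⟨y, hyV⟩ hθy
  -- the local ring at `u`
  let O := Localization.AtPrime p'
  haveI : IsScalarTower Γ(X, U0) P' O := inferInstance
  let ν : L →+* O := IsLocalization.lift (M := (hU0.primeIdealOf ⟨x, hxU⟩).asIdeal.primeCompl)
    (g := algebraMap Γ(X, U0) O) fun s => by
      show IsUnit (algebraMap P' O (algebraMap Γ(X, U0) P' s))
      exact IsLocalization.map_units O (⟨_, fun h => s.2 (hcomap.le (Ideal.mem_comap.mpr h))⟩ : p'.primeCompl)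
  letI : Algebra L O := ν.toAlgebra
  haveI : IsScalarTower Γ(X, U0) L O := IsScalarTower.of_algebraMap_eq fun z => (IsLocalization.lift_eq _ z).symm
  haveI : IsLocalHom (algebraMap L O) := ⟨fun z hz => by
    obtain ⟨r, s, rfl⟩ := IsLocalization.exists_mk'_eq (hU0.primeIdealOf ⟨x, hxU⟩).asIdeal.primeCompl z
    rw [IsLocalization.AtPrime.isUnit_mk'_iff L (hU0.primeIdealOf ⟨x, hxU⟩).asIdeal r s]
    intro hr
    have h1 : IsUnit (algebraMap L O (algebraMap Γ(X, U0) L r)) := by
      rw [← IsLocalization.mk'_spec L r s, map_mul]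
      exact hz.mul ((IsLocalization.map_units L s).map _)
    rw [← IsScalarTower.algebraMap_apply, IsScalarTower.algebraMap_apply Γ(X, U0) P' O,
      IsLocalization.AtPrime.isUnit_to_map_iff O p'] at h1
    exact h1 (hcomap.symm ▸ hr : r ∈ p'.comap (algebraMap Γ(X, U0) P'))⟩
  haveI : Algebra.FormallyEtale Γ(X, U0) P' := inferInstance
  haveI : Algebra.FormallyUnramified P' O := Algebra.FormallyUnramified.of_isLocalization p'.primeCompl
  haveI : Algebra.FormallyUnramified Γ(X, U0) O := Algebra.FormallyUnramified.comp Γ(X, U0) P' O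
  haveI : Algebra.FormallyUnramified L O := Algebra.FormallyUnramified.of_restrictScalars Γ(X, U0) L O
  haveI : Algebra.EssFiniteType Γ(X, U0) O := Algebra.EssFiniteType.comp Γ(X, U0) P' O
  haveI : Algebra.EssFiniteType L O := Algebra.EssFiniteType.of_comp Γ(X, U0) L O
  have hm : (maximalIdeal L).map (algebraMap L O) = maximalIdeal O :=
    Algebra.FormallyUnramified.map_maximalIdeal
  have hresO : ∀ d, ∃ l, d - algebraMap L O l ∈ maximalIdeal O := by
    intro d
    obtain ⟨z, t, rfl⟩ := IsLocalization.exists_mk'_eq p'.primeCompl d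
    -- residue classes of numerator and denominator come from `L`
    have key : ∀ z : P', ∃ l, algebraMap P' O z - algebraMap L O l ∈ maximalIdeal O := by
      intro z
      obtain ⟨r, s, hs, hrs⟩ := hres z
      refine ⟨IsLocalization.mk' L r (⟨s, hs⟩ : (hU0.primeIdealOf ⟨x, hxU⟩).asIdeal.primeCompl), ?_⟩
      have hsu : IsUnit (algebraMap Γ(X, U0) O s) := by
        rw [IsScalarTower.algebraMap_apply Γ(X, U0) L O]
        exact (IsLocalization.map_units L (⟨s, hs⟩ : (hU0.primeIdealOf ⟨x, hxU⟩).asIdeal.primeCompl)).map _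
      refine (Ideal.unit_mul_mem_iff_mem _ hsu).mp ?_
      have h1 : algebraMap P' O (algebraMap Γ(X, U0) P' s * z - algebraMap Γ(X, U0) P' r) ∈ maximalIdeal O :=
        (IsLocalization.AtPrime.to_map_mem_maximal_iff O p' _).mpr hrs
      rw [map_sub, map_mul, ← IsScalarTower.algebraMap_apply, ← IsScalarTower.algebraMap_apply] at h1
      have e1 : algebraMap Γ(X, U0) O s * algebraMap L O (IsLocalization.mk' L r
          (⟨s, hs⟩ : (hU0.primeIdealOf ⟨x, hxU⟩).asIdeal.primeCompl)) = algebraMap Γ(X, U0) O r := by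
        rw [IsScalarTower.algebraMap_apply Γ(X, U0) L O, ← map_mul]
        exact (congrArg (algebraMap L O) (IsLocalization.mk'_spec' L r
          (⟨s, hs⟩ : (hU0.primeIdealOf ⟨x, hxU⟩).asIdeal.primeCompl))).trans (IsScalarTower.algebraMap_apply Γ(X, U0) L O r).symm
      rw [mul_sub, e1]
      exact h1
    obtain ⟨l, hl⟩ := key z
    obtain ⟨l', hl'⟩ := key t
    have ht : IsUnit (algebraMap P' O t) := IsLocalization.map_units O t
    have hl'u : IsUnit l' := by
      by_contra h
      have h1 : algebraMap L O l' ∈ maximalIdeal O := map_nonunit (algebraMap L O) _ h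
      exact (maximalIdeal.isMaximal O).ne_top ((maximalIdeal O).eq_top_of_isUnit_mem (by simpa using add_mem hl' h1) ht)
    refine ⟨l * ↑hl'u.unit⁻¹, (Ideal.unit_mul_mem_iff_mem _ ht).mp ?_⟩
    have h2 : algebraMap L O l' * algebraMap L O (↑hl'u.unit⁻¹) = 1 := by
      rw [← map_mul, IsUnit.mul_val_inv, map_one]
    have h3 : algebraMap P' O t * (IsLocalization.mk' O z t - algebraMap L O (l * ↑hl'u.unit⁻¹)) =
        (algebraMap P' O z - algebraMap L O l) -
          (algebraMap P' O t - algebraMap L O l') * algebraMap L O (l * ↑hl'u.unit⁻¹) := by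
      rw [map_mul, mul_sub, IsLocalization.mk'_spec']
      linear_combination -(algebraMap L O l) * h2
    rw [h3]
    exact sub_mem hl (Ideal.mul_mem_right _ _ hl')
  -- the map from `O` to the completion
  have hψu : ∀ z : p'.primeCompl, IsUnit (ψ.toRingHom z.1) := fun z => by
    by_contra h
    refine hp'M _ z.2 ?_
    have h1 : ψ.toRingHom z.1 ∈ maximalIdeal (AdicCompletion (maximalIdeal L) L) := h
    rwa [AdicCompletion.maximalIdeal_eq_map] at h1
  let Ψ : O →+* AdicCompletion (maximalIdeal L) L := IsLocalization.lift hψu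
  have hΨν : Ψ.comp ν = algebraMap L (AdicCompletion (maximalIdeal L) L) := by
    refine IsLocalization.ringHom_ext (hU0.primeIdealOf ⟨x, hxU⟩).asIdeal.primeCompl (RingHom.ext fun z => ?_)
    show Ψ (ν (algebraMap Γ(X, U0) L z)) = _
    rw [show ν (algebraMap Γ(X, U0) L z) = algebraMap P' O (algebraMap Γ(X, U0) P' z) from IsLocalization.lift_eq _ z,
      IsLocalization.lift_eq]
    exact ψ.commutes z
  let σu := Spec.stalkIso (CommRingCat.of P') u
  have hecomp : ∀ c, σu.hom.hom ((e.stalkMap u).hom ((X.presheaf.stalkCongr (Inseparable.of_eq heu)).inv.hom c)) = ν c := by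
    refine fun c => RingHom.congr_fun (f := σu.hom.hom.comp ((e.stalkMap u).hom.comp (X.presheaf.stalkCongr (Inseparable.of_eq heu)).inv.hom)) (g := ν) ?_ c
    refine IsLocalization.ringHom_ext (hU0.primeIdealOf ⟨x, hxU⟩).asIdeal.primeCompl (RingHom.ext fun z => ?_)
    refine Eq.trans ?_ (IsLocalization.lift_eq (S := L) _ z).symm
    have hg : (X.presheaf.stalkCongr (Inseparable.of_eq heu)).inv.hom ((X.presheaf.germ U0 x hxU).hom z) =
        (X.presheaf.germ U0 (e u) (heu.symm ▸ hxU)).hom z :=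
      congrArg (fun g => g.hom z) (TopCat.Presheaf.germ_stalkSpecializes X.presheaf hxU (Inseparable.of_eq heu).le)
    show σu.hom.hom ((e.stalkMap u).hom ((X.presheaf.stalkCongr (Inseparable.of_eq heu)).inv.hom ((X.presheaf.germ U0 x hxU).hom z))) = _
    rw [hg]
    exact congrArg (fun g => g.hom z) (ApproxNbhd.stalkMap_fromSpec hU0 _ u (heu.symm ▸ hxU))
  have hfcomp : ∀ c, σu.hom.hom ((f.stalkMap u).hom ((Y.presheaf.stalkCongr (Inseparable.of_eq hfu)).inv.hom
      ((Y.presheaf.germ V y hyV).hom c))) = algebraMap P' O (θ c) := by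
    intro c
    have hg : (Y.presheaf.stalkCongr (Inseparable.of_eq hfu)).inv.hom ((Y.presheaf.germ V y hyV).hom c) =
        (Y.presheaf.germ V (f u) (hfu.symm ▸ hyV)).hom c :=
      congrArg (fun g => g.hom c) (TopCat.Presheaf.germ_stalkSpecializes Y.presheaf hyV (Inseparable.of_eq hfu).le)
    rw [hg]
    exact congrArg (fun g => g.hom c) (ApproxNbhd.stalkMap_fromSpec hV _ u (hfu.symm ▸ hyV))
  -- congruence for all of the local ring at `y`
  have hcongY : ∀ b : Y.presheaf.stalk y,
      φ b - Ψ (σu.hom.hom ((f.stalkMap u).hom ((Y.presheaf.stalkCongr (Inseparable.of_eq hfu)).inv.hom b))) ∈ I := by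
    intro b
    letI : Algebra Γ(Y, V) (Y.presheaf.stalk y) := Y.presheaf.algebra_section_stalk (⟨y, hyV⟩ : V)
    haveI : IsLocalization.AtPrime (Y.presheaf.stalk y) (hV.primeIdealOf ⟨y, hyV⟩).asIdeal := hV.isLocalization_stalk ⟨y, hyV⟩
    refine Ideal.Quotient.eq.mp (RingHom.congr_fun (f := (Ideal.Quotient.mk I).comp φ)
      (g := (Ideal.Quotient.mk I).comp (Ψ.comp (σu.hom.hom.comp ((f.stalkMap u).hom.comp (Y.presheaf.stalkCongr (Inseparable.of_eq hfu)).inv.hom)))) ?_ b)
    refine IsLocalization.ringHom_ext (hV.primeIdealOf ⟨y, hyV⟩).asIdeal.primeCompl (RingHom.ext fun c => ?_)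
    show Ideal.Quotient.mk I (ζ c) = Ideal.Quotient.mk I (Ψ (σu.hom.hom ((f.stalkMap u).hom ((Y.presheaf.stalkCongr (Inseparable.of_eq hfu)).inv.hom ((Y.presheaf.germ V y hyV).hom c)))))
    rw [hfcomp, IsLocalization.lift_eq, Ideal.Quotient.eq]
    exact hcong c
  let εu := σu.commRingCatIsoToRingEquiv
  have hεm : ∀ (k : ℕ) (w : (Spec (CommRingCat.of P')).presheaf.stalk u),
      w ∈ maximalIdeal _ ^ k ↔ εu w ∈ maximalIdeal O ^ k := by
    have h1 : (maximalIdeal ((Spec (CommRingCat.of P')).presheaf.stalk u)).map εu.toRingHom = maximalIdeal O :=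
      IsLocalRing.map_maximalIdeal_of_surjective _ εu.surjective
    intro k w
    rw [← h1, ← Ideal.map_pow]
    exact ⟨fun hw => Ideal.mem_map_of_mem _ hw, fun hw => by
      obtain ⟨w', hw', he'⟩ := (Ideal.mem_map_iff_of_surjective εu.toRingHom εu.surjective).mp hw
      rwa [← εu.injective he']⟩
  refine ⟨Spec (CommRingCat.of P'), e, u, heu, f, hfu, ?_, ?_, ?_, ?_, ?_, ?_⟩
  · haveI : Etale (Spec.map (CommRingCat.ofHom (algebraMap Γ(X, U0) P'))) :=
      (HasRingHomProperty.Spec_iff (P := @Etale)).mpr (RingHom.etale_algebraMap.mpr het)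
    infer_instance
  · refine ⟨(e.residueFieldMap u).hom.injective, fun k => ?_⟩
    obtain ⟨d, rfl⟩ := Scheme.residue_surjective _ u k
    obtain ⟨l, hl⟩ := hresO (εu d)
    refine ⟨X.residue (e u) ((X.presheaf.stalkCongr (Inseparable.of_eq heu)).inv.hom l), ?_⟩
    have h1 : (e.residueFieldMap u) (X.residue (e u) ((X.presheaf.stalkCongr (Inseparable.of_eq heu)).inv.hom l)) =
        (Spec (CommRingCat.of P')).residue u ((e.stalkMap u).hom ((X.presheaf.stalkCongr (Inseparable.of_eq heu)).inv.hom l)) :=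
      congrArg (fun g => g.hom ((X.presheaf.stalkCongr (Inseparable.of_eq heu)).inv.hom l)) (Scheme.residue_residueFieldMap e u)
    rw [h1]
    refine (Ideal.Quotient.eq.mpr ?_).symm
    have h2 : εu (d - (e.stalkMap u).hom ((X.presheaf.stalkCongr (Inseparable.of_eq heu)).inv.hom l)) ∈ maximalIdeal O := by
      rw [map_sub]
      show εu d - σu.hom.hom _ ∈ _
      rw [hecomp]
      exact hl
    rw [mem_maximalIdeal, mem_nonunits_iff] at h2 ⊢
    exact fun h => h2 (h.map εu)
  · have hq : hV.fromSpec ≫ q = Spec.map (q.appLE W V hVW) ≫ hW.fromSpec :=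
      (IsAffineOpen.SpecMap_appLE_fromSpec q hW hV hVW).symm
    have hp : hU0.fromSpec ≫ p = Spec.map (p.appLE W U0 hUW) ≫ hW.fromSpec :=
      (IsAffineOpen.SpecMap_appLE_fromSpec p hW hU0 hUW).symm
    show (_ ≫ hV.fromSpec) ≫ q = (_ ≫ hU0.fromSpec) ≫ p
    rw [Category.assoc, Category.assoc, hq, hp, ← Spec.map_comp_assoc, ← Spec.map_comp_assoc]
    congr 2
    ext r
    exact θ.commutes r
  · intro b c hbc
    let db := (f.stalkMap u).hom ((Y.presheaf.stalkCongr (Inseparable.of_eq hfu)).inv.hom b)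
    let dc := (e.stalkMap u).hom ((X.presheaf.stalkCongr (Inseparable.of_eq heu)).inv.hom c)
    show Ideal.Quotient.mk _ db = Ideal.Quotient.mk _ dc
    obtain ⟨l, hl⟩ := ApproxNbhd.exists_sub_mem_pow (algebraMap L O) hm hresO N (εu (db - dc))
    have hI : ∀ w, w ∈ I ↔ AdicCompletion.evalₐ (maximalIdeal L) N w = 0 := fun w =>
      ⟨fun hw => by
        refine RingHom.mem_ker.mp (Ideal.map_le_iff_le_comap.mpr (fun z hz => ?_) hw)
        show AdicCompletion.evalₐ (maximalIdeal L) N (algebraMap L _ z) = 0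
        rw [AlgHom.commutes]
        exact Ideal.Quotient.eq_zero_iff_mem.mpr hz,
       fun hw => by
        have h1 : w ∈ ((maximalIdeal L) ^ N • ⊤ : Submodule L (AdicCompletion (maximalIdeal L) L)) := by
          rw [AdicCompletion.pow_smul_top_eq_ker_eval (IsNoetherian.noetherian _), LinearMap.mem_ker,
            ← AdicCompletion.factor_evalₐ_eq_eval (maximalIdeal L) w (by simp), hw, map_zero]
        rw [Ideal.smul_top_eq_map] at h1
        exact h1⟩
    have hO : ∀ w ∈ maximalIdeal O ^ N, Ψ w ∈ I := by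
      intro w hw
      rw [← hm, ← Ideal.map_pow] at hw
      have h1 := Ideal.mem_map_of_mem Ψ hw
      rw [Ideal.map_map, show Ψ.comp (algebraMap L O) = algebraMap L (AdicCompletion (maximalIdeal L) L) from hΨν] at h1
      exact h1
    have hl0 : l ∈ maximalIdeal L ^ N := by
      have h1 : AdicCompletion.evalₐ (maximalIdeal L) N (Ψ (εu (db - dc)) - Ψ (algebraMap L O l)) = 0 := by
        rw [← map_sub Ψ]; exact (hI _).mp (hO _ hl)
      have h2 : AdicCompletion.evalₐ (maximalIdeal L) N (Ψ (εu (db - dc))) = 0 := by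
        have hd : Ψ (εu (db - dc)) = Ψ (σu.hom.hom db) - algebraMap L _ c := by
          rw [map_sub εu, map_sub Ψ, ← hΨν]
          show _ - Ψ (σu.hom.hom dc) = _ - Ψ (ν c)
          rw [hecomp]
          rfl
        rw [hd, map_sub, AlgHom.commutes]
        have h3 := (hI _).mp (hcongY b)
        rw [map_sub, sub_eq_zero, hbc] at h3
        rw [← h3]
        exact sub_self _
      rw [show Ψ (algebraMap L O l) = algebraMap L _ l from RingHom.congr_fun hΨν l, map_sub, h2,
        AlgHom.commutes, zero_sub, neg_eq_zero] at h1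
      exact Ideal.Quotient.eq_zero_iff_mem.mp h1
    have hd : εu (db - dc) ∈ maximalIdeal O ^ N := by
      have : algebraMap L O l ∈ maximalIdeal O ^ N := by
        rw [← hm, ← Ideal.map_pow]; exact Ideal.mem_map_of_mem _ hl0
      simpa using add_mem hl this
    rw [Ideal.Quotient.eq]
    have h4 := Ideal.mem_map_of_mem εu.symm.toRingHom hd
    rw [Ideal.map_pow, show εu.symm.toRingHom (εu (db - dc)) = db - dc from εu.symm_apply_apply _] at h4
    refine Ideal.pow_right_mono (Ideal.map_le_iff_le_comap.mpr fun w hw => ?_) N h4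
    rw [Ideal.mem_comap, mem_maximalIdeal, mem_nonunits_iff]
    intro h
    rw [mem_maximalIdeal, mem_nonunits_iff] at hw
    exact hw (by simpa using h.map εu)
  · intro k d
    obtain ⟨l, hl⟩ := ApproxNbhd.exists_sub_mem_pow (algebraMap L O) hm hresO k (εu d)
    refine ⟨l, (hεm k _).mpr ?_⟩
    rw [map_sub]
    show εu d - σu.hom.hom _ ∈ _
    rw [hecomp]
    exact hl
  · intro k l
    rw [hεm k]
    show _ ↔ σu.hom.hom _ ∈ _
    rw [hecomp]
    refine ⟨fun hl => ?_, fun hl => ?_⟩
    · show algebraMap L O l ∈ _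
      rw [← hm, ← Ideal.map_pow]
      exact Ideal.mem_map_of_mem _ hl
    · rw [← hm, ← Ideal.map_pow] at hl
      have h1 := Ideal.mem_map_of_mem Ψ hl
      rw [Ideal.map_map, show Ψ.comp (algebraMap L O) = algebraMap L (AdicCompletion (maximalIdeal L) L) from hΨν,
        show Ψ (ν l) = algebraMap L (AdicCompletion (maximalIdeal L) L) l from RingHom.congr_fun hΨν l] at h1
      have h2 := Ideal.mem_map_of_mem (AdicCompletion.evalₐ (maximalIdeal L) k).toRingHom h1
      have hk : (AdicCompletion.evalₐ (maximalIdeal L) k).toRingHom.comp (algebraMap L (AdicCompletion (maximalIdeal L) L)) =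
          Ideal.Quotient.mk (maximalIdeal L ^ k) :=
        RingHom.ext fun z => (AdicCompletion.evalₐ (maximalIdeal L) k).commutes z
      rw [Ideal.map_map, hk, Ideal.map_quotient_self,
        Ideal.mem_bot] at h2
      rw [show (AdicCompletion.evalₐ (maximalIdeal L) k).toRingHom (algebraMap L _ l) = Ideal.Quotient.mk _ l from
        (AdicCompletion.evalₐ (maximalIdeal L) k).commutes l] at h2
      exact Ideal.Quotient.eq_zero_iff_mem.mp h2


theorem exists_nbhd (hxy : p x = q y) (hG : CAlg.IsGRing ↑(X.presheaf.stalk x))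
    (φ : ↑(Y.presheaf.stalk y) →+* AdicCompletion (maximalIdeal ↑(X.presheaf.stalk x)) ↑(X.presheaf.stalk x))
    (hφ : φ.comp ((q.stalkMap y).hom.comp (S.presheaf.stalkCongr (Inseparable.of_eq hxy)).hom.hom) =
      (algebraMap ↑(X.presheaf.stalk x) (AdicCompletion (maximalIdeal ↑(X.presheaf.stalk x)) ↑(X.presheaf.stalk x))).comp (p.stalkMap x).hom)
    (hloc : ∀ b ∈ maximalIdeal ↑(Y.presheaf.stalk y),
      φ b ∈ (maximalIdeal ↑(X.presheaf.stalk x)).map (algebraMap ↑(X.presheaf.stalk x) (AdicCompletion (maximalIdeal ↑(X.presheaf.stalk x)) ↑(X.presheaf.stalk x))))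
    (N : ℕ) (hN : 1 ≤ N) :
    ∃ (U : Scheme.{u}) (e : U ⟶ X) (u : U) (heu : e u = x) (f : U ⟶ Y) (hfu : f u = y),
      Etale e ∧ Function.Bijective (e.residueFieldMap u) ∧ f ≫ q = e ≫ p ∧
      ∀ (b : ↑(Y.presheaf.stalk y)) (c : ↑(X.presheaf.stalk x)),
        AdicCompletion.evalₐ (maximalIdeal ↑(X.presheaf.stalk x)) N (φ b) =
          Ideal.Quotient.mk (maximalIdeal ↑(X.presheaf.stalk x) ^ N) c →
        Ideal.Quotient.mk (maximalIdeal ↑(U.presheaf.stalk u) ^ N)
            ((f.stalkMap u).hom ((Y.presheaf.stalkCongr (Inseparable.of_eq hfu)).inv.hom b)) =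
          Ideal.Quotient.mk (maximalIdeal ↑(U.presheaf.stalk u) ^ N)
            ((e.stalkMap u).hom ((X.presheaf.stalkCongr (Inseparable.of_eq heu)).inv.hom c)) := by
  obtain ⟨U, e, u, heu, f, hfu, he, hres, hc, h, -⟩ := exists_nbhd_strong p q x y hxy hG φ hφ hloc N hN
  exact ⟨U, e, u, heu, f, hfu, he, hres, hc, h⟩

end Groth.Agent.H21.ApproxNbhdMain
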