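import Groth.Agent.H24.PowerSeries
import Groth.Agent.H21.ApproxNbhdIso
import Mathlib.RingTheory.MvPowerSeries.Basic
import Mathlib.RingTheory.Unramified.Basic

/-!
# Polynomials, power series and the completed local ring at the origin

`k[X] → k[[X]]` reflects powers of the maximal ideals, and there is a `k[X]`-algebra map from `k[[X]]`
to the completion of the local ring of affine space at the origin. Also: neighbourhoods of the origin
which are unramified with trivial residue extension have no new infinitesimals.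
-/

set_option autoImplicit false

universe u

open IsLocalRing

namespace Groth.Agent.H21.ArtinAlgPS

variable (k : Type u) [Field k] (n : ℕ)

/-- The maximal ideal of the origin. -/
noncomputable abbrev m0 : Ideal (MvPolynomial (Fin n) k) := MvPolynomial.idealOfVars (Fin n) k

theorem m0_eq_ker : m0 k n = RingHom.ker (MvPolynomial.constantCoeff (σ := Fin n) (R := k)) := by
  ext p
  rw [RingHom.mem_ker, MvPolynomial.constantCoeff_eq, ← pow_one (m0 k n), MvPolynomial.mem_pow_idealOfVars_iff']
  refine ⟨fun h => h 0 (by simp), fun h x hx => ?_⟩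
  have : x = 0 := by
    rw [← Finsupp.degree_eq_zero_iff]
    omega
  rw [this]; exact h

instance isMaximal_m0 : (m0 k n).IsMaximal := by
  rw [m0_eq_ker]
  exact RingHom.ker_isMaximal_of_surjective _ fun c => ⟨MvPolynomial.C c, by simp⟩

theorem exists_sub_C_mem (p : MvPolynomial (Fin n) k) : ∃ c, p - MvPolynomial.C c ∈ m0 k n :=
  ⟨MvPolynomial.constantCoeff p, by rw [m0_eq_ker, RingHom.mem_ker]; simp⟩

theorem algebraMap_eq_coe (p : MvPolynomial (Fin n) k) :
    algebraMap (MvPolynomial (Fin n) k) (MvPowerSeries (Fin n) k) p = (p : MvPowerSeries (Fin n) k) := by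
  rw [MvPowerSeries.algebraMap_apply']
  simp

theorem algebraMap_C (c : k) :
    algebraMap (MvPolynomial (Fin n) k) (MvPowerSeries (Fin n) k) (MvPolynomial.C c) =
      algebraMap k (MvPowerSeries (Fin n) k) c := by
  rw [algebraMap_eq_coe, MvPolynomial.coe_C, MvPowerSeries.algebraMap_apply]
  simp

theorem map_m0 : (m0 k n).map (algebraMap (MvPolynomial (Fin n) k) (MvPowerSeries (Fin n) k)) =
    maximalIdeal (MvPowerSeries (Fin n) k) := by
  show Ideal.map _ (Ideal.span (Set.range MvPolynomial.X)) = _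
  rw [H24.PowerSeries.maximalIdeal_eq k (Fin n), Ideal.map_span, ← Set.range_comp]
  congr 2
  funext i
  simp [algebraMap_eq_coe]

theorem map_m0_pow (N : ℕ) : (m0 k n ^ N).map (algebraMap (MvPolynomial (Fin n) k) (MvPowerSeries (Fin n) k)) =
    maximalIdeal (MvPowerSeries (Fin n) k) ^ N := by
  rw [Ideal.map_pow, map_m0]

theorem exists_sub_mem_pow (x : MvPowerSeries (Fin n) k) (N : ℕ) :
    ∃ r : MvPolynomial (Fin n) k, x - algebraMap _ _ r ∈ maximalIdeal (MvPowerSeries (Fin n) k) ^ N :=
  ⟨MvPowerSeries.truncTotal N x, by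
    rw [algebraMap_eq_coe, H24.PowerSeries.maximalIdeal_eq k (Fin n)]
    exact Lib.FSAdic.PowerSeries.sub_truncTotal_mem x N⟩

/-- The local ring at the origin. -/
abbrev L := Localization.AtPrime (m0 k n)

/-- Its completion. -/
abbrev D := AdicCompletion (maximalIdeal (L k n)) (L k n)

theorem mem_m0_pow_of_algebraMap {N : ℕ} {r : MvPolynomial (Fin n) k}
    (h : algebraMap (MvPolynomial (Fin n) k) (D k n) r ∈ maximalIdeal (D k n) ^ N) : r ∈ m0 k n ^ N := by
  haveI : IsNoetherianRing (L k n) := IsLocalization.isNoetherianRing (m0 k n).primeCompl _ inferInstance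
  have h1 : algebraMap (MvPolynomial (Fin n) k) (L k n) r ∈ maximalIdeal (L k n) ^ N :=
    (ApproxNbhdIso.algebraMap_mem_pow_iff N _).mp h
  have h2 := IsLocalization.AtPrime.equivQuotMaximalIdealPow_apply_mk (m0 k n) (L k n) N r
  rw [Ideal.Quotient.eq_zero_iff_mem.mpr h1] at h2
  rw [← Ideal.Quotient.eq_zero_iff_mem]
  exact (IsLocalization.AtPrime.equivQuotMaximalIdealPow (m0 k n) (L k n) N).injective (by rw [h2, map_zero])

/-- The map of power series to the completed local ring. -/
theorem exists_theta : ∃ θ : MvPowerSeries (Fin n) k →ₐ[MvPolynomial (Fin n) k] D k n,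
    ∀ (N : ℕ), ∀ x ∈ maximalIdeal (MvPowerSeries (Fin n) k) ^ N, θ x ∈ maximalIdeal (D k n) ^ N := by
  haveI : IsNoetherianRing (L k n) := IsLocalization.isNoetherianRing (m0 k n).primeCompl _ inferInstance
  haveI : IsAdicComplete (maximalIdeal (D k n)) (D k n) := by
    rw [AdicCompletion.maximalIdeal_eq_map]
    exact AdicCompletion.isAdicComplete_self _ (Ideal.fg_of_isNoetherianRing _)
  haveI : IsScalarTower k (MvPolynomial (Fin n) k) (D k n) := IsScalarTower.of_algebraMap_eq fun _ => rfl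
  have hX : ∀ i, algebraMap (MvPolynomial (Fin n) k) (D k n) (MvPolynomial.X i) ∈ maximalIdeal (D k n) := by
    intro i
    rw [AdicCompletion.maximalIdeal_eq_map, IsScalarTower.algebraMap_apply (MvPolynomial (Fin n) k) (L k n) (D k n)]
    refine Ideal.mem_map_of_mem _ ?_
    exact (IsLocalization.AtPrime.to_map_mem_maximal_iff (L k n) (m0 k n) _).mpr (Ideal.subset_span ⟨i, rfl⟩)
  obtain ⟨θ, hθ⟩ := H24.PowerSeries.exists_hom (A := k) (maximalIdeal (D k n))
    (fun i => algebraMap (MvPolynomial (Fin n) k) (D k n) (MvPolynomial.X i)) hX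
  have hpol : θ.comp (MvPolynomial.coeToMvPowerSeries.algHom k) =
      IsScalarTower.toAlgHom k (MvPolynomial (Fin n) k) (D k n) := by
    refine MvPolynomial.algHom_ext fun i => ?_
    simp [MvPolynomial.coeToMvPowerSeries.algHom_apply, hθ]
  let θ' : MvPowerSeries (Fin n) k →ₐ[MvPolynomial (Fin n) k] D k n :=
    { θ.toRingHom with
      commutes' := fun r => by
        have := AlgHom.congr_fun hpol r
        simp only [AlgHom.comp_apply, MvPolynomial.coeToMvPowerSeries.algHom_apply, Algebra.algebraMap_self,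
          MvPowerSeries.map_id, RingHom.id_apply, IsScalarTower.toAlgHom_apply] at this
        rw [algebraMap_eq_coe]
        exact this }
  refine ⟨θ', fun N x hx => ?_⟩
  rw [← map_m0_pow] at hx
  have h1 := Ideal.mem_map_of_mem θ'.toRingHom hx
  rw [Ideal.map_map, AlgHom.toRingHom_eq_coe, AlgHom.comp_algebraMap, Ideal.map_pow] at h1
  refine Ideal.pow_right_mono ?_ N h1
  show Ideal.map _ (Ideal.span (Set.range MvPolynomial.X)) ≤ _
  rw [Ideal.map_span, Ideal.span_le]
  rintro _ ⟨_, ⟨i, rfl⟩, rfl⟩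
  exact hX i

theorem algebraMap_mem_pow_iff (r : MvPolynomial (Fin n) k) (N : ℕ) :
    algebraMap _ (MvPowerSeries (Fin n) k) r ∈ maximalIdeal (MvPowerSeries (Fin n) k) ^ N ↔ r ∈ m0 k n ^ N := by
  refine ⟨fun h => ?_, fun h => map_m0_pow k n N ▸ Ideal.mem_map_of_mem _ h⟩
  obtain ⟨θ, hθ⟩ := exists_theta k n
  have := hθ N _ h
  rw [AlgHom.commutes] at this
  exact mem_m0_pow_of_algebraMap k n this

section Unramified

variable {A0 R' : Type u} [CommRing A0] [CommRing R'] [Algebra A0 R'] [Algebra.FormallyUnramified A0 R']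
  (q : Ideal A0) (p : Ideal R') (hq : p.comap (algebraMap A0 R') = q)
  (hres : ∀ x : R', ∃ r : A0, x - algebraMap A0 R' r ∈ p)

include hq hres

theorem le_map_sup_sq : p ≤ q.map (algebraMap A0 R') ⊔ p ^ 2 := by
  let I := q.map (algebraMap A0 R') ⊔ p ^ 2
  have hIp : I ≤ p := sup_le (Ideal.map_le_iff_le_comap.mpr hq.ge) (Ideal.pow_le_self two_ne_zero)
  choose r hr using hres
  have hwd : ∀ x y : A0, algebraMap A0 R' x - algebraMap A0 R' y ∈ p →
      Ideal.Quotient.mk I (algebraMap A0 R' x) = Ideal.Quotient.mk I (algebraMap A0 R' y) := by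
    intro x y h
    rw [Ideal.Quotient.eq]
    refine Ideal.mem_sup_left ?_
    rw [← map_sub] at h ⊢
    exact Ideal.mem_map_of_mem _ (hq.le h)
  let g : R' →ₐ[A0] R' ⧸ I :=
    { toFun := fun x => Ideal.Quotient.mk I (algebraMap A0 R' (r x))
      map_one' := by
        rw [hwd (r 1) 1 (by simpa using neg_mem (hr 1)), map_one, map_one]
      map_mul' := fun x y => by
        rw [← map_mul, ← map_mul]
        refine hwd _ _ ?_
        have : algebraMap A0 R' (r (x * y)) - algebraMap A0 R' (r x * r y) =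
            (x - algebraMap A0 R' (r x)) * y + algebraMap A0 R' (r x) * (y - algebraMap A0 R' (r y))
              - (x * y - algebraMap A0 R' (r (x * y))) := by rw [map_mul]; ring
        rw [this]
        exact sub_mem (add_mem (p.mul_mem_right _ (hr x)) (p.mul_mem_left _ (hr y))) (hr _)
      map_zero' := by
        rw [hwd (r 0) 0 (by simpa using neg_mem (hr 0)), map_zero, map_zero]
      map_add' := fun x y => by
        rw [← map_add, ← map_add]
        refine hwd _ _ ?_
        have : algebraMap A0 R' (r (x + y)) - algebraMap A0 R' (r x + r y) =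
            (x - algebraMap A0 R' (r x)) + (y - algebraMap A0 R' (r y))
              - (x + y - algebraMap A0 R' (r (x + y))) := by rw [map_add]; ring
        rw [this]
        exact sub_mem (add_mem (hr x) (hr y)) (hr _)
      commutes' := fun c => by
        refine (hwd _ c ?_).trans rfl
        have := neg_mem (hr (algebraMap A0 R' c))
        rwa [neg_sub] at this }
  let J : Ideal (R' ⧸ I) := p.map (Ideal.Quotient.mk I)
  have hJ : J ^ 2 = ⊥ := by
    rw [← Ideal.map_pow, Ideal.map_eq_bot_iff_le_ker, Ideal.mk_ker]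
    exact le_sup_right
  have heq : Ideal.Quotient.mkₐ A0 I = g := by
    refine Algebra.FormallyUnramified.lift_unique J ⟨2, hJ⟩ _ _ (AlgHom.ext fun x => ?_)
    simp only [AlgHom.comp_apply]
    exact Ideal.Quotient.eq.mpr (by
      show Ideal.Quotient.mk I x - Ideal.Quotient.mk I (algebraMap A0 R' (r x)) ∈ J
      rw [← map_sub]
      exact Ideal.mem_map_of_mem _ (hr x))
  intro x hx
  rw [← Ideal.Quotient.eq_zero_iff_mem]
  have h1 : g x = 0 := by
    show Ideal.Quotient.mk I (algebraMap A0 R' (r x)) = 0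
    rw [hwd (r x) 0 (by simpa using sub_mem hx (hr x)), map_zero, map_zero]
  rw [← h1, ← heq]
  rfl

theorem pow_le_map_sup_pow : ∀ s : ℕ, p ^ s ≤ (q ^ s).map (algebraMap A0 R') ⊔ p ^ (s + 1)
  | 0 => by simp [Ideal.one_eq_top, Ideal.map_top]
  | s + 1 => by
    have h1 := le_map_sup_sq q p hq hres
    have h2 : q.map (algebraMap A0 R') ≤ p := Ideal.map_le_iff_le_comap.mpr hq.ge
    rw [pow_succ p s, pow_succ q s, Ideal.map_mul]
    refine (Ideal.mul_mono (pow_le_map_sup_pow s) le_rfl).trans ?_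
    rw [Ideal.sup_mul]
    refine sup_le ?_ (le_sup_of_le_right (by rw [← pow_succ]))
    refine (Ideal.mul_mono le_rfl h1).trans ?_
    rw [Ideal.mul_sup]
    refine sup_le_sup le_rfl ?_
    refine (Ideal.mul_mono (Ideal.map_pow (algebraMap A0 R') q s ▸ Ideal.pow_right_mono h2 s) le_rfl).trans ?_
    rw [← pow_add]

/-- Every class of the `s`-th graded piece comes from the base. -/
theorem exists_pow_sub_mem (s : ℕ) (z : R') (hz : z ∈ p ^ s) :
    ∃ a ∈ q ^ s, z - algebraMap A0 R' a ∈ p ^ (s + 1) := by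
  suffices h : ∀ y ∈ (q ^ s).map (algebraMap A0 R'), ∃ a ∈ q ^ s, y - algebraMap A0 R' a ∈ p ^ (s + 1) by
    obtain ⟨y, hy, w, hw, rfl⟩ := Submodule.mem_sup.mp (pow_le_map_sup_pow q p hq hres s hz)
    obtain ⟨a, ha, hya⟩ := h y hy
    exact ⟨a, ha, by rw [add_sub_right_comm]; exact add_mem hya hw⟩
  have hqp : ∀ a ∈ q ^ s, algebraMap A0 R' a ∈ p ^ s := fun a ha => by
    have := Ideal.mem_map_of_mem (algebraMap A0 R') ha
    rw [Ideal.map_pow] at this
    exact Ideal.pow_right_mono (Ideal.map_le_iff_le_comap.mpr hq.ge) s this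
  intro y hy
  induction hy using Submodule.span_induction with
  | mem y hy => obtain ⟨a, ha, rfl⟩ := hy; exact ⟨a, ha, by simp⟩
  | zero => exact ⟨0, zero_mem _, by simp⟩
  | add y y' _ _ h h' =>
    obtain ⟨a, ha, h⟩ := h
    obtain ⟨a', ha', h'⟩ := h'
    exact ⟨a + a', add_mem ha ha', by simpa [map_add, add_sub_add_comm] using add_mem h h'⟩
  | smul c y _ h =>
    obtain ⟨a, ha, h⟩ := h
    obtain ⟨r, hr⟩ := hres c
    refine ⟨r * a, Ideal.mul_mem_left _ _ ha, ?_⟩
    have : c • y - algebraMap A0 R' (r * a) = c * (y - algebraMap A0 R' a) + (c - algebraMap A0 R' r) * algebraMap A0 R' a := by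
      rw [map_mul, smul_eq_mul]; ring
    rw [this]
    refine add_mem (Ideal.mul_mem_left _ _ h) ?_
    rw [pow_succ']
    exact Ideal.mul_mem_mul hr (hqp a ha)

theorem exists_sub_mem_pow' : ∀ (s : ℕ) (x : R'), ∃ r : A0, x - algebraMap A0 R' r ∈ p ^ s
  | 0, x => ⟨0, by simp [Ideal.one_eq_top]⟩
  | s + 1, x => by
    obtain ⟨r, hr⟩ := exists_sub_mem_pow' s x
    obtain ⟨a, -, ha⟩ := exists_pow_sub_mem q p hq hres s _ hr
    exact ⟨r + a, by rwa [map_add, ← sub_sub]⟩

/-- Maps to a ring reflecting the powers of `q` reflect the powers of `p`. -/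
theorem mem_pow_iff {S : Type u} [CommRing S] [Algebra A0 S] (χ : R' →ₐ[A0] S) (Q : Ideal S)
    (hp : p.map χ ≤ Q) (hQ : ∀ (r : A0) (s : ℕ), algebraMap A0 S r ∈ Q ^ s → r ∈ q ^ s) (x : R') (s : ℕ) :
    x ∈ p ^ s ↔ χ x ∈ Q ^ s := by
  have hfor : ∀ y ∈ p ^ s, χ y ∈ Q ^ s := fun y hy => by
    have := Ideal.mem_map_of_mem χ hy
    rw [Ideal.map_pow] at this
    exact Ideal.pow_right_mono hp s this
  refine ⟨hfor x, fun hx => ?_⟩
  obtain ⟨r, hr⟩ := exists_sub_mem_pow' q p hq hres s x
  have h1 := sub_mem hx (hfor _ hr)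
  rw [map_sub, AlgHom.commutes, sub_sub_cancel] at h1
  have h2 := Ideal.mem_map_of_mem (algebraMap A0 R') (hQ r s h1)
  rw [Ideal.map_pow] at h2
  have h3 := add_mem hr (Ideal.pow_right_mono (Ideal.map_le_iff_le_comap.mpr hq.ge) s h2)
  rwa [sub_add_cancel] at h3

end Unramified

end Groth.Agent.H21.ArtinAlgPS
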