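import Groth.Agent.H60.FPColim
import Groth.Agent.Lib.Smoothing.ArtinApprox
import Mathlib.Algebra.Category.CommAlgCat.Basic

/-!
# Elements of limit preserving functors, and approximation of solutions of finite systems
-/

set_option autoImplicit false
set_option linter.style.haveILetI false

universe u

open CategoryTheory CategoryTheory.Limits IsLocalRing

namespace Groth.Agent.H21.ArtinAlgTools

private theorem transfer {D : Type*} [Category D] (F : D ⥤ Type u) {B1 B C1 C : D} (a : B1 ⟶ B) (f : B ⟶ C)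
    (g : B1 ⟶ C1) (v : C1 ⟶ C) (w : C ⟶ C1) (h1 : a ≫ f = g ≫ v) (h3 : w ≫ v = 𝟙 C)
    (η : F.obj B1) (ξ : F.obj C) (h : F.map g η = F.map w ξ) : F.map f (F.map a η) = ξ := by
  rw [← ConcreteCategory.comp_apply, ← F.map_comp, h1, F.map_comp, ConcreteCategory.comp_apply, h,
    ← ConcreteCategory.comp_apply, ← F.map_comp, h3, F.map_id, ConcreteCategory.id_apply]

/-- An element of a limit preserving functor on `k`-algebras comes from a finitely generated subalgebra. -/
theorem exists_fg_source (k : Type u) [CommRing k] (F : CommAlgCat.{u} k ⥤ Type u)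
    (hF : ∀ (J : Type u) [SmallCategory J] [IsFiltered J], PreservesColimitsOfShape J F)
    (R : Type u) [CommRing R] [Algebra k R] (ξ : F.obj (CommAlgCat.of k R)) :
    ∃ (B : Subalgebra k R), B.FG ∧ ∃ η : F.obj (CommAlgCat.of k B), F.map (CommAlgCat.ofHom B.val) η = ξ := by
  let E := commAlgCatEquivUnder (CommRingCat.of k)
  let u := fun (X : CommAlgCat.{u} k) => E.unitIso.app X
  obtain ⟨⟨B, hB⟩, η, hη⟩ := Groth.Agent.H60.FPColim.exists_mem (E.inverse ⋙ F)
    (fun J _ _ => by haveI := hF J; infer_instance) (F.map (u (CommAlgCat.of k R)).hom ξ)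
  refine ⟨B, hB, F.map (u (CommAlgCat.of k B)).inv η, ?_⟩
  have h1 : (u (CommAlgCat.of k B)).inv ≫ CommAlgCat.ofHom B.val =
      E.inverse.map (Groth.Agent.H60.FPColim.hom B.val) ≫ (u (CommAlgCat.of k R)).inv :=
    (E.unitIso.inv.naturality (CommAlgCat.ofHom B.val)).symm
  exact transfer F _ _ _ _ _ h1 (Iso.hom_inv_id _) η ξ hη

/-- Approximation of solutions of a finite system of equations indexed by finite types. -/
theorem exists_etale_solution {R : Type u} [CommRing R] [IsNoetherianRing R] (p : Ideal R) [p.IsPrime]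
    (L : Type u) [CommRing L] [IsLocalRing L] [Algebra R L] [IsLocalization.AtPrime L p]
    (hG : _root_.CAlg.IsGRing L) {σ τ : Type} [Fintype σ] [Fintype τ]
    (F : τ → MvPolynomial σ R) (a : σ → AdicCompletion (maximalIdeal L) L)
    (ha : ∀ j, MvPolynomial.aeval a (F j) = 0) (N : ℕ) :
    ∃ (R' : Type u) (_ : CommRing R') (_ : Algebra R R'), Algebra.Etale R R' ∧
      ∃ (ψ : R' →ₐ[R] AdicCompletion (maximalIdeal L) L) (p' : Ideal R'), p'.IsPrime ∧
        p'.comap (algebraMap R R') = p ∧
        (∀ x : R', ∃ r s : R, s ∉ p ∧ algebraMap R R' s * x - algebraMap R R' r ∈ p') ∧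
        (∀ x ∈ p', ψ x ∈ (maximalIdeal L).map (algebraMap L (AdicCompletion (maximalIdeal L) L))) ∧
        ∃ b : σ → R', (∀ j, MvPolynomial.aeval b (F j) = 0) ∧
          ∀ i, a i - ψ (b i) ∈
            (maximalIdeal L ^ N).map (algebraMap L (AdicCompletion (maximalIdeal L) L)) := by
  let eσ := Fintype.equivFin σ
  let eτ := Fintype.equivFin τ
  obtain ⟨R', _, _, het, ψ, p', hp', hc, hres, hmem, b, hb, hab⟩ :=
    Groth.Agent.Lib.Smoothing.ArtinApprox.exists_etale_solution p L hG
      (fun j => MvPolynomial.rename eσ (F (eτ.symm j))) (a ∘ eσ.symm)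
      (fun j => by
        rw [MvPolynomial.aeval_rename]
        have : (a ∘ eσ.symm) ∘ eσ = a := by ext i; simp
        rw [this]; exact ha _) N
  refine ⟨R', inferInstance, inferInstance, het, ψ, p', hp', hc, hres, hmem, b ∘ eσ, fun j => ?_, fun i => ?_⟩
  · have := hb (eτ j)
    rwa [Equiv.symm_apply_apply, MvPolynomial.aeval_rename] at this
  · have := hab (eσ i)
    simpa using this

end Groth.Agent.H21.ArtinAlgTools
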