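import Groth.Agent.H22.GrHelp

/-!
# Associated graded rings of two quotients of one ring
-/

set_option autoImplicit false

universe u

open AssocGr

namespace Groth.Agent.H21.GrIso

variable {C : Type u} [CommRing C] (p : Ideal C) {T₁ : Type u} [CommRing T₁] {J₁ : Ideal T₁}
  {T₂ : Type u} [CommRing T₂] {J₂ : Ideal T₂} (g₁ : C →+* T₁) (g₂ : C →+* T₂)
  (h₁ : p.map g₁ ≤ J₁) (h₂ : p.map g₂ ≤ J₂)

theorem map_surjective (hs₁ : ∀ (n : ℕ), ∀ b ∈ J₁ ^ n, ∃ a ∈ p ^ n, g₁ a - b ∈ J₁ ^ (n + 1)) :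
    Function.Surjective (AssocGr.map (IsFiltHom.adic h₁)) :=
  H22.GrHelp.map_surjective_of _ hs₁

theorem ker_map_le (hker : ∀ (n : ℕ), ∀ z ∈ p ^ n, g₁ z ∈ J₁ ^ (n + 1) → g₂ z ∈ J₂ ^ (n + 1)) :
    RingHom.ker (AssocGr.map (IsFiltHom.adic h₁)) ≤ RingHom.ker (AssocGr.map (IsFiltHom.adic h₂)) := by
  intro x hx
  obtain ⟨f, rfl⟩ := mkG_surjective _ x
  rw [RingHom.mem_ker, map_mkG, mkG_eq_zero_iff, mem_succIdeal_iff] at hx ⊢
  intro n
  have h := hx n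
  rw [coe_reesMap, Polynomial.coeff_map] at h ⊢
  exact hker n _ (f.2 n) h

/-- Two quotients with the same initial kernels have isomorphic associated graded rings. -/
theorem exists_grEquiv
    (hs₁ : ∀ (n : ℕ), ∀ b ∈ J₁ ^ n, ∃ a ∈ p ^ n, g₁ a - b ∈ J₁ ^ (n + 1))
    (hs₂ : ∀ (n : ℕ), ∀ b ∈ J₂ ^ n, ∃ a ∈ p ^ n, g₂ a - b ∈ J₂ ^ (n + 1))
    (hker : ∀ (n : ℕ), ∀ z ∈ p ^ n, g₁ z ∈ J₁ ^ (n + 1) ↔ g₂ z ∈ J₂ ^ (n + 1)) :
    ∃ e : GrRing (FiltBl.IdealFiltration.adic J₁) ≃+* GrRing (FiltBl.IdealFiltration.adic J₂),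
      (∀ (n : ℕ) (x : GrRing (FiltBl.IdealFiltration.adic J₁)),
        x ∈ gr (FiltBl.IdealFiltration.adic J₁) n → e x ∈ gr (FiltBl.IdealFiltration.adic J₂) n) ∧
      ∀ z, e (AssocGr.map (IsFiltHom.adic h₁) z) = AssocGr.map (IsFiltHom.adic h₂) z := by
  have hk : RingHom.ker (AssocGr.map (IsFiltHom.adic h₁)) = RingHom.ker (AssocGr.map (IsFiltHom.adic h₂)) :=
    le_antisymm (ker_map_le p g₁ g₂ h₁ h₂ fun n z hz => (hker n z hz).mp)
      (ker_map_le p g₂ g₁ h₂ h₁ fun n z hz => (hker n z hz).mpr)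
  let e := (RingHom.quotientKerEquivOfSurjective (map_surjective p g₁ h₁ hs₁)).symm.trans
    ((Ideal.quotEquivOfEq hk).trans (RingHom.quotientKerEquivOfSurjective (map_surjective p g₂ h₂ hs₂)))
  have he : ∀ z, e (AssocGr.map (IsFiltHom.adic h₁) z) = AssocGr.map (IsFiltHom.adic h₂) z := by
    intro z
    have : (RingHom.quotientKerEquivOfSurjective (map_surjective p g₁ h₁ hs₁)).symm
        (AssocGr.map (IsFiltHom.adic h₁) z) = Ideal.Quotient.mk _ z := by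
      rw [RingEquiv.symm_apply_eq]; rfl
    simp only [e, RingEquiv.trans_apply, this]
    rfl
  refine ⟨e, fun n x hx => ?_, he⟩
  obtain ⟨b, hb⟩ := inDeg_surjective (FiltBl.IdealFiltration.adic J₁) n ⟨x, hx⟩
  obtain ⟨a, ha, hab⟩ := hs₁ n b b.2
  have hx' : x = AssocGr.map (IsFiltHom.adic h₁) (inDeg (FiltBl.IdealFiltration.adic p) n ⟨a, ha⟩ : GrRing _) := by
    rw [map_inDeg]
    refine (congrArg Subtype.val hb).symm.trans (congrArg Subtype.val ?_)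
    refine (sub_eq_zero.mp ?_).symm
    rw [← map_sub, inDeg_eq_zero_iff]
    exact hab
  rw [hx', he, map_inDeg]
  exact Subtype.prop _

/-- Scalars go to scalars. -/
theorem map_algebraMap (c : C) :
    AssocGr.map (IsFiltHom.adic h₁) (algebraMap C _ c) = algebraMap T₁ (GrRing (FiltBl.IdealFiltration.adic J₁)) (g₁ c) := by
  rw [AssocGr.algebraMap_eq, AssocGr.algebraMap_eq, map_inDeg]

end Groth.Agent.H21.GrIso
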