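import Groth.Prelude.Def_GrMap2
import Groth.Agent.H21.GrIso
import Groth.Agent.H24.PowerSeries
import Groth.Agent.Lib.Excellent.CompletionNoetherian
import Mathlib.Algebra.Category.CommAlgCat.Basic
import Mathlib.RingTheory.HopkinsLevitzki
import Mathlib.RingTheory.FiniteType
import Mathlib.RingTheory.ReesAlgebra

/-!
# Artin's algebraization: a versal element is algebraized
-/

set_option autoImplicit false
set_option linter.style.haveILetI false

universe u

open CategoryTheory IsLocalRing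

namespace Groth.Agent.H21.ArtinAlgVersal

theorem isNoetherianRing_gr (S : Type u) [CommRing S] [IsNoetherianRing S] (I : Ideal S) :
    IsNoetherianRing (AssocGr.GrRing (FiltBl.IdealFiltration.adic I)) := by
  haveI : IsNoetherianRing (FiltBl.IdealFiltration.adic I).rees := by
    have h : (FiltBl.IdealFiltration.adic I).rees = reesAlgebra I := Rees.adic_rees_eq I
    rw [h]; infer_instance
  exact isNoetherianRing_of_surjective _ _ (AssocGr.mkG (FiltBl.IdealFiltration.adic I)).toRingHom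
    (AssocGr.mkG_surjective _)

section Truncation

variable {A : Type u} [CommRing A] (m : Ideal A) [m.IsMaximal] (i : ℕ)

theorem isMaximal_map_mk : (m.map (Ideal.Quotient.mk (m ^ (i + 1)))).IsMaximal :=
  Ideal.IsMaximal.map_of_surjective_of_ker_le Ideal.Quotient.mk_surjective
    (by rw [Ideal.mk_ker]; exact Ideal.pow_le_self (Nat.succ_ne_zero i))

theorem isLocalRing_quot : IsLocalRing (A ⧸ m ^ (i + 1)) := by
  haveI := isMaximal_map_mk m i
  haveI := H24.PowerSeries.isAdicComplete_of_pow_eq_bot (m.map (Ideal.Quotient.mk (m ^ (i + 1)))) (i + 1)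
    (by rw [← Ideal.map_pow, Ideal.map_quotient_self])
  exact isLocalRing_of_isAdicComplete_maximal (m.map (Ideal.Quotient.mk (m ^ (i + 1))))

theorem isArtinianRing_quot [IsNoetherianRing A] : IsArtinianRing (A ⧸ m ^ (i + 1)) := by
  rw [isArtinianRing_iff_isNoetherianRing_krullDimLE_zero]
  refine ⟨inferInstance, Ring.KrullDimLE.mk₀ fun Q hQ => ?_⟩
  have h1 : m.map (Ideal.Quotient.mk (m ^ (i + 1))) ≤ Q := by
    refine (hQ.pow_le_iff (Nat.succ_ne_zero i)).mp ?_
    rw [← Ideal.map_pow, Ideal.map_quotient_self]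
    exact bot_le
  exact (isMaximal_map_mk m i).eq_of_le hQ.ne_top h1 ▸ isMaximal_map_mk m i

theorem residue_surjective_quot {k : Type u} [Field k] [Algebra k A]
    (hresA : Function.Surjective (fun c : k => Ideal.Quotient.mk m (algebraMap k A c))) :
    letI := isLocalRing_quot m i
    Function.Surjective (fun c : k => residue (A ⧸ m ^ (i + 1)) (algebraMap k _ c)) := by
  letI := isLocalRing_quot m i
  intro z
  obtain ⟨z, rfl⟩ := IsLocalRing.residue_surjective z
  obtain ⟨z, rfl⟩ := Ideal.Quotient.mk_surjective z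
  obtain ⟨c, hc⟩ := hresA (Ideal.Quotient.mk m z)
  refine ⟨c, ?_⟩
  have h1 := Ideal.Quotient.eq.mp hc
  show residue _ (Ideal.Quotient.mk _ (algebraMap k A c)) = _
  rw [← sub_eq_zero, ← map_sub, ← map_sub, residue_eq_zero_iff,
    ← IsLocalRing.eq_maximalIdeal (isMaximal_map_mk m i)]
  exact Ideal.mem_map_of_mem _ h1

end Truncation

set_option maxHeartbeats 800000 in
theorem exists_completion_iso (k : Type u) [Field k] (F : CommAlgCat.{u} k ⥤ Type u)
    (R : Type u) [CommRing R] [Algebra k R] [IsLocalRing R] [IsNoetherianRing R]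
    [IsAdicComplete (maximalIdeal R) R]
    (ξ : F.obj (CommAlgCat.of k R))
    (hvers : ∀ (B B₀ : Type u) [CommRing B] [Algebra k B] [IsLocalRing B] [IsArtinianRing B]
        [CommRing B₀] [Algebra k B₀] [IsLocalRing B₀] [IsArtinianRing B₀],
        Function.Surjective (fun c : k => residue B (algebraMap k B c)) →
        ∀ (π : B →ₐ[k] B₀), Function.Surjective π →
          ∀ (g₀ : R →ₐ[k] B₀) (y : F.obj (CommAlgCat.of k B)),
            F.map (CommAlgCat.ofHom π) y = F.map (CommAlgCat.ofHom g₀) ξ →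
              ∃ g : R →ₐ[k] B, π.comp g = g₀ ∧ F.map (CommAlgCat.ofHom g) ξ = y)
    (A : Type u) [CommRing A] [Algebra k A] [Algebra.FiniteType k A] (m : Ideal A) [m.IsMaximal]
    (hresA : Function.Surjective (fun c : k => Ideal.Quotient.mk m (algebraMap k A c)))
    (η : F.obj (CommAlgCat.of k A)) (φ : (R ⧸ maximalIdeal R ^ (1 + 1)) ≃ₐ[k] (A ⧸ m ^ (1 + 1)))
    (hφ : F.map (CommAlgCat.ofHom (φ.toAlgHom.comp (Ideal.Quotient.mkₐ k (maximalIdeal R ^ (1 + 1))))) ξ =
        F.map (CommAlgCat.ofHom (Ideal.Quotient.mkₐ k (m ^ (1 + 1)))) η)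
    (e : AssocGr.GrRing (FiltBl.IdealFiltration.adic (maximalIdeal R)) ≃+*
          AssocGr.GrRing (FiltBl.IdealFiltration.adic m)) :
    ∃ α : R ≃+* AdicCompletion m A,
      (∀ c : k, α (algebraMap k R c) = algebraMap A (AdicCompletion m A) (algebraMap k A c)) ∧
      ∀ (n : ℕ) (ψ : R →ₐ[k] A ⧸ m ^ (n + 1)),
        ψ.toRingHom = (AdicCompletion.evalₐ m (n + 1) :
            AdicCompletion m A →ₐ[A] A ⧸ m ^ (n + 1)).toRingHom.comp α.toRingHom →
          F.map (CommAlgCat.ofHom ψ) ξ = F.map (CommAlgCat.ofHom (Ideal.Quotient.mkₐ k (m ^ (n + 1)))) η := by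
  classical
  haveI : IsNoetherianRing A := Algebra.FiniteType.isNoetherianRing k A
  -- compatible lifts
  let G : ℕ → Type u := fun s => {g : R →ₐ[k] A ⧸ m ^ (s + 2) //
    F.map (CommAlgCat.ofHom g) ξ = F.map (CommAlgCat.ofHom (Ideal.Quotient.mkₐ k (m ^ (s + 2)))) η}
  have hfac : ∀ {i j : ℕ} (h : i ≤ j) (g : R →ₐ[k] A ⧸ m ^ j),
      F.map (CommAlgCat.ofHom g) ξ = F.map (CommAlgCat.ofHom (Ideal.Quotient.mkₐ k (m ^ j))) η →
      F.map (CommAlgCat.ofHom ((Ideal.Quotient.factorₐ k (Ideal.pow_le_pow_right h)).comp g)) ξ =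
        F.map (CommAlgCat.ofHom (Ideal.Quotient.mkₐ k (m ^ i))) η := by
    intro i j h g hg
    rw [CommAlgCat.ofHom_comp, F.map_comp, ConcreteCategory.comp_apply, hg, ← ConcreteCategory.comp_apply,
      ← F.map_comp, ← CommAlgCat.ofHom_comp]
    rfl
  have hstep : ∀ (s : ℕ) (g : G s), ∃ g' : G (s + 1),
      (Ideal.Quotient.factorₐ k (Ideal.pow_le_pow_right (show s + 2 ≤ s + 3 by omega))).comp g'.1 = g.1 := by
    intro s g
    letI := isLocalRing_quot m (s + 2)
    letI := isLocalRing_quot m (s + 1)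
    haveI := isArtinianRing_quot m (s + 2)
    haveI := isArtinianRing_quot m (s + 1)
    obtain ⟨g', hg', hy⟩ := hvers (A ⧸ m ^ (s + 3)) (A ⧸ m ^ (s + 2)) (residue_surjective_quot m (s + 2) hresA)
      (Ideal.Quotient.factorₐ k (Ideal.pow_le_pow_right (show s + 2 ≤ s + 3 by omega)))
      (Ideal.Quotient.factor_surjective (Ideal.pow_le_pow_right (show s + 2 ≤ s + 3 by omega))) g.1 (F.map (CommAlgCat.ofHom (Ideal.Quotient.mkₐ k (m ^ (s + 3)))) η)
      (by
        rw [g.2, ← ConcreteCategory.comp_apply, ← F.map_comp, ← CommAlgCat.ofHom_comp]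
        rfl)
    exact ⟨⟨g', hy⟩, hg'⟩
  choose step hstep using hstep
  let gs : ∀ s, G s := fun s => Nat.rec (motive := G) ⟨_, hφ⟩ step s
  -- maps to all truncations
  let H : ∀ i, R →ₐ[k] A ⧸ m ^ i := fun i =>
    (Ideal.Quotient.factorₐ k (Ideal.pow_le_pow_right (show i ≤ i + 2 by omega))).comp (gs i).1
  have hcompat : ∀ (i : ℕ) (j : ℕ) (h : i ≤ j + 2) (z : R),
      Ideal.Quotient.factor (Ideal.pow_le_pow_right h) ((gs j).1 z) =
        Ideal.Quotient.factor (Ideal.pow_le_pow_right (show i ≤ (j + 1) + 2 by omega)) ((gs (j + 1)).1 z) := by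
    intro i j h z
    have h1 : Ideal.Quotient.factor (Ideal.pow_le_pow_right (show j + 2 ≤ j + 3 by omega)) ((gs (j + 1)).1 z) = (gs j).1 z :=
      AlgHom.congr_fun (hstep j (gs j)) z
    rw [← h1, Ideal.Quotient.factor_comp_apply]
  have hH : ∀ {a b : ℕ} (hab : a ≤ b) (z : R),
      Ideal.Quotient.factor (Ideal.pow_le_pow_right hab) (H b z) = H a z := by
    intro a b hab z
    show Ideal.Quotient.factor (Ideal.pow_le_pow_right hab)
        (Ideal.Quotient.factor (Ideal.pow_le_pow_right (show b ≤ b + 2 by omega)) ((gs b).1 z)) =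
      Ideal.Quotient.factor (Ideal.pow_le_pow_right (show a ≤ a + 2 by omega)) ((gs a).1 z)
    rw [Ideal.Quotient.factor_comp_apply]
    induction b, hab using Nat.le_induction with
    | base => rfl
    | succ b hb ih => rw [← ih]; exact (hcompat a b (by omega) z).symm
  let α₀ : R →ₐ[k] AdicCompletion m A := AdicCompletion.liftAlgHom m H (fun {a b} hab => AlgHom.ext fun z => hH hab z)
  have hα₀ : ∀ (i : ℕ) (z : R), AdicCompletion.evalₐ m i (α₀ z) = H i z := fun i z => by
    simp [α₀]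
  -- the completion
  let J := m.map (algebraMap A (AdicCompletion m A))
  haveI : IsAdicComplete J (AdicCompletion m A) := AdicCompletion.isAdicComplete_self _ (IsNoetherian.noetherian m)
  haveI hJmax : J.IsMaximal := AdicCompletion.isMaximal_map_of_le m m le_rfl (IsNoetherian.noetherian m)
  haveI : IsLocalRing (AdicCompletion m A) := isLocalRing_of_isAdicComplete_maximal J
  have hJ : maximalIdeal (AdicCompletion m A) = J := (IsLocalRing.eq_maximalIdeal hJmax).symm
  have hkerF : ∀ (i : ℕ) (z : AdicCompletion m A), AdicCompletion.evalₐ m i z = 0 ↔ z ∈ J ^ i := by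
    intro i z
    rw [← AssocGr.mem_kerFilt_iff, AssocGr.kerFilt_eq_adic_of_fg m (IsNoetherian.noetherian m)]
    rfl
  have hH2 : ∀ z : R, H 2 z = φ (Ideal.Quotient.mk _ z) := by
    intro z
    have h0 := hH (show 2 ≤ 2 by omega) z
    show Ideal.Quotient.factor (Ideal.pow_le_pow_right (show 2 ≤ 2 + 2 by omega)) ((gs 2).1 z) = _
    refine (hcompat 2 1 (by omega) z).symm.trans ((hcompat 2 0 (by omega) z).symm.trans ?_)
    rw [Ideal.Quotient.factor_eq]
    rfl
  have hφmax : ∀ z ∈ maximalIdeal R, φ (Ideal.Quotient.mk _ z) ∈ m.map (Ideal.Quotient.mk (m ^ (1 + 1))) := by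
    intro z hz
    letI := isLocalRing_quot m 1
    haveI : IsLocalRing (R ⧸ maximalIdeal R ^ (1 + 1)) := isLocalRing_quot (maximalIdeal R) 1
    rw [IsLocalRing.eq_maximalIdeal (isMaximal_map_mk m 1), mem_maximalIdeal]
    have h1 : Ideal.Quotient.mk (maximalIdeal R ^ (1 + 1)) z ∈ maximalIdeal _ :=
      (IsLocalRing.eq_maximalIdeal (isMaximal_map_mk (maximalIdeal R) 1)).le (Ideal.mem_map_of_mem _ hz)
    rw [mem_maximalIdeal] at h1
    exact fun hu => h1 (by simpa using hu.map φ.symm)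
  have hle : (maximalIdeal R).map α₀.toRingHom ≤ J := by
    rw [Ideal.map_le_iff_le_comap]
    intro z hz
    rw [Ideal.mem_comap, ← pow_one J, ← hkerF]
    show AdicCompletion.evalₐ m 1 (α₀ z) = 0
    rw [hα₀, ← hH (show 1 ≤ 2 by omega), hH2]
    obtain ⟨a, ha, hza⟩ := (Ideal.mem_map_iff_of_surjective _ Ideal.Quotient.mk_surjective).mp (hφmax z hz)
    rw [← hza, Ideal.Quotient.factor_mk, Ideal.Quotient.eq_zero_iff_mem, pow_one]
    exact ha
  have hcot : J ≤ (maximalIdeal R).map α₀.toRingHom ⊔ J ^ 2 := by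
    rw [Ideal.map_le_iff_le_comap]
    intro a ha
    obtain ⟨z, hz⟩ := Ideal.Quotient.mk_surjective (φ.symm (Ideal.Quotient.mk (m ^ (1 + 1)) a))
    have hzm : z ∈ maximalIdeal R := by
      rw [mem_maximalIdeal]
      intro hu
      have h1 : IsUnit (Ideal.Quotient.mk (m ^ (1 + 1)) a) := by
        have := (hu.map (Ideal.Quotient.mk (maximalIdeal R ^ (1 + 1)))).map φ
        rwa [hz, AlgEquiv.apply_symm_apply] at this
      exact (isMaximal_map_mk m 1).ne_top (Ideal.eq_top_of_isUnit_mem _ (Ideal.mem_map_of_mem _ ha) h1)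
    rw [Ideal.mem_comap]
    refine Submodule.mem_sup.mpr ⟨α₀ z, Ideal.mem_map_of_mem _ hzm, algebraMap A _ a - α₀ z, ?_, by ring⟩
    rw [← hkerF, map_sub, hα₀, hH2, hz, AlgEquiv.apply_symm_apply, AlgHom.commutes]
    exact sub_self _
  haveI : IsNoetherianRing (AdicCompletion m A) := inferInstance
  have hsurj : Function.Surjective α₀ := by
    refine H24.PowerSeries.surjective_of_cotangent α₀.toRingHom (fun z => ?_) (hle.trans hJ.ge)
      (by rw [hJ]; exact hcot)
    obtain ⟨z, rfl⟩ := IsLocalRing.residue_surjective z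
    obtain ⟨a, ha⟩ := Ideal.Quotient.mk_surjective (AdicCompletion.evalₐ m 1 z)
    obtain ⟨c, hc⟩ := hresA (Ideal.Quotient.mk m a)
    refine ⟨algebraMap k R c, ?_⟩
    rw [RingHom.comp_apply, ← sub_eq_zero, ← map_sub, residue_eq_zero_iff, hJ, ← pow_one J, ← hkerF, map_sub]
    show AdicCompletion.evalₐ m 1 (α₀ (algebraMap k R c)) - _ = 0
    rw [hα₀, AlgHom.commutes, ← ha, sub_eq_zero]
    show Ideal.Quotient.mk (m ^ 1) (algebraMap k A c) = _
    rw [Ideal.Quotient.eq, pow_one]
    exact Ideal.Quotient.eq.mp hc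
  have hmapJ : (maximalIdeal R).map α₀.toRingHom = J := by
    rw [← hJ]
    exact IsLocalRing.map_maximalIdeal_of_surjective _ hsurj
  -- injectivity through the associated graded rings
  have hs₀ : ∀ (i : ℕ), ∀ b ∈ J ^ i, ∃ a ∈ maximalIdeal R ^ i, α₀.toRingHom a - b ∈ J ^ (i + 1) := by
    intro i b hb
    rw [← hmapJ, ← Ideal.map_pow] at hb
    obtain ⟨a, ha, rfl⟩ := (Ideal.mem_map_iff_of_surjective _ hsurj).mp hb
    exact ⟨a, ha, by simp⟩
  have hs₁ : ∀ (i : ℕ), ∀ b ∈ J ^ i, ∃ a ∈ m ^ i, algebraMap A (AdicCompletion m A) a - b ∈ J ^ (i + 1) := by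
    intro i b hb
    obtain ⟨a, ha⟩ := Ideal.Quotient.mk_surjective (AdicCompletion.evalₐ m (i + 1) b)
    have h1 : algebraMap A (AdicCompletion m A) a - b ∈ J ^ (i + 1) := by
      rw [← hkerF, map_sub, AlgHom.commutes, ← ha]
      exact sub_self _
    refine ⟨a, ?_, h1⟩
    have h2 := add_mem (Ideal.pow_le_pow_right (Nat.le_succ i) h1) hb
    rw [sub_add_cancel, ← hkerF, AlgHom.commutes] at h2
    exact Ideal.Quotient.eq_zero_iff_mem.mp h2
  obtain ⟨e', -, -⟩ := GrIso.exists_grEquiv m (algebraMap A (AdicCompletion m A)) (RingHom.id A) (le_refl J)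
    (Ideal.map_id m).le hs₁ (fun i b hb => ⟨b, hb, by simp⟩) (fun i z _ => by
      rw [← hkerF, AlgHom.commutes]
      exact Ideal.Quotient.eq_zero_iff_mem)
  haveI := isNoetherianRing_gr R (maximalIdeal R)
  have hmap := H22.GrHelp.map_surjective_of (AssocGr.IsFiltHom.adic hle) hs₀
  have hinj : Function.Injective (AssocGr.map (AssocGr.IsFiltHom.adic hle)) := by
    have h1 := H24.PowerSeries.injective_of_surjective
      (((e'.trans e.symm).toRingHom).comp (AssocGr.map (AssocGr.IsFiltHom.adic hle)))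
      ((e'.trans e.symm).surjective.comp hmap)
    rw [RingHom.coe_comp] at h1
    exact Function.Injective.of_comp h1
  have hgr : ∀ (i : ℕ), ∀ z ∈ maximalIdeal R ^ i, α₀ z ∈ J ^ (i + 1) → z ∈ maximalIdeal R ^ (i + 1) := by
    intro i z hz hαz
    have h1 : AssocGr.map (AssocGr.IsFiltHom.adic hle)
        (AssocGr.inDeg (FiltBl.IdealFiltration.adic (maximalIdeal R)) i ⟨z, hz⟩ : AssocGr.GrRing _) = 0 := by
      rw [AssocGr.map_inDeg, ZeroMemClass.coe_eq_zero, AssocGr.inDeg_eq_zero_iff]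
      exact hαz
    have h2 := hinj (h1.trans (map_zero _).symm)
    rw [ZeroMemClass.coe_eq_zero, AssocGr.inDeg_eq_zero_iff] at h2
    exact h2
  have hinjα : Function.Injective α₀ := by
    rw [injective_iff_map_eq_zero]
    intro z hz
    have h1 : ∀ i, z ∈ maximalIdeal R ^ i := by
      intro i
      induction i with
      | zero => rw [pow_zero, Ideal.one_eq_top]; trivial
      | succ i ih => exact hgr i z ih (by rw [hz]; exact zero_mem _)
    rw [← Submodule.mem_bot R, ← Ideal.iInf_pow_eq_bot_of_isLocalRing _ (maximalIdeal.isMaximal R).ne_top,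
      Submodule.mem_iInf]
    exact h1
  refine ⟨RingEquiv.ofBijective α₀.toRingHom ⟨hinjα, hsurj⟩, fun c => ?_, fun n ψ hψ => ?_⟩
  · show α₀ (algebraMap k R c) = _
    rw [AlgHom.commutes]
    rfl
  · have hψ' : ψ = H (n + 1) := AlgHom.ext fun z => (RingHom.congr_fun hψ z).trans (hα₀ (n + 1) z)
    rw [hψ']
    exact hfac (show n + 1 ≤ n + 1 + 2 by omega) _ (gs (n + 1)).2

end Groth.Agent.H21.ArtinAlgVersal
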