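import Mathlib.RingTheory.Filtration
import Mathlib.RingTheory.Ideal.Operations
import Mathlib.RingTheory.Noetherian.Basic

/-!
# Initial ideals are stable under small perturbations of a presentation

If `Σ M_{qj} f_j = 0` generate the relations of `f`, and `f'`, `M'` are close enough to `f`, `M` with
`Σ M'_{qj} f'_j = 0`, then `(f)` and `(f')` have the same initial forms in every degree.
-/

set_option autoImplicit false

universe u

namespace Groth.Agent.H21.ArtinPerturb

variable {P : Type u} [CommRing P] [IsNoetherianRing P] (I : Ideal P)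

theorem mem_pow_smul_top_pi {t : ℕ} {n : ℕ} (a : Fin t → P) (ha : ∀ j, a j ∈ I ^ n) :
    a ∈ (I ^ n • ⊤ : Submodule P (Fin t → P)) := by
  rw [pi_eq_sum_univ a]
  exact sum_mem fun j _ => Submodule.smul_mem_smul (ha j) Submodule.mem_top

/-- Artin–Rees, in terms of coefficients. -/
theorem artinRees_scalar {t : ℕ} (f : Fin t → P) :
    ∃ c : ℕ, ∀ n : ℕ, ∀ y ∈ Ideal.span (Set.range f), y ∈ I ^ n →
      ∃ a : Fin t → P, (∀ j, a j ∈ I ^ (n - c)) ∧ ∑ j, a j * f j = y := by
  obtain ⟨c, hc⟩ := I.exists_pow_inf_eq_pow_smul (Ideal.span (Set.range f) : Submodule P P)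
  refine ⟨c, fun n y hy hyn => ?_⟩
  by_cases hn : c ≤ n
  · have h1 : y ∈ I ^ (n - c) • (Submodule.span P (Set.range f)) := by
      refine Submodule.smul_mono le_rfl inf_le_right ((hc n hn).le ⟨?_, hy⟩)
      rw [Ideal.smul_top_eq_map, Algebra.algebraMap_self, Ideal.map_id]
      exact hyn
    rw [Submodule.mem_ideal_smul_span_iff_exists_sum] at h1
    obtain ⟨a, ha, hay⟩ := h1
    refine ⟨fun j => a j, ha, ?_⟩
    rw [← hay, Finsupp.sum_fintype]
    · rfl
    · intros; exact zero_smul _ _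
  · obtain ⟨a, ha⟩ := (Ideal.mem_span_range_iff_exists_fun).mp hy
    exact ⟨a, fun j => by rw [Nat.sub_eq_zero_of_le (by omega), pow_zero, Ideal.one_eq_top]; trivial, ha⟩

theorem artinRees_vector {t r : ℕ} (M : Fin r → Fin t → P) :
    ∃ c : ℕ, ∀ n : ℕ, ∀ a ∈ Submodule.span P (Set.range M), (∀ j, a j ∈ I ^ n) →
      ∃ z : Fin r → P, (∀ q, z q ∈ I ^ (n - c)) ∧ ∀ j, ∑ q, z q * M q j = a j := by
  obtain ⟨c, hc⟩ := I.exists_pow_inf_eq_pow_smul (Submodule.span P (Set.range M))
  refine ⟨c, fun n a ha han => ?_⟩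
  by_cases hn : c ≤ n
  · have h1 : a ∈ I ^ (n - c) • (Submodule.span P (Set.range M)) :=
      Submodule.smul_mono le_rfl inf_le_right ((hc n hn).le ⟨mem_pow_smul_top_pi I a han, ha⟩)
    rw [Submodule.mem_ideal_smul_span_iff_exists_sum] at h1
    obtain ⟨z, hz, hza⟩ := h1
    refine ⟨fun q => z q, hz, fun j => ?_⟩
    rw [← hza, Finsupp.sum_fintype, Finset.sum_apply]
    · rfl
    · intros; exact zero_smul _ _
  · obtain ⟨z, hz⟩ := (Submodule.mem_span_range_iff_exists_fun P).mp ha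
    refine ⟨z, fun q => by rw [Nat.sub_eq_zero_of_le (by omega), pow_zero, Ideal.one_eq_top]; trivial, fun j => ?_⟩
    rw [← hz, Finset.sum_apply]
    rfl

/-- The perturbation lemma. -/
theorem perturb {t r : ℕ} (f : Fin t → P) (M : Fin r → Fin t → P)
    (hrel : ∀ a : Fin t → P, ∑ j, a j * f j = 0 → a ∈ Submodule.span P (Set.range M)) :
    ∃ N₀ : ℕ, ∀ N, N₀ ≤ N → ∀ (f' : Fin t → P) (M' : Fin r → Fin t → P),
      (∀ j, f' j - f j ∈ I ^ N) → (∀ q j, M' q j - M q j ∈ I ^ N) → (∀ q, ∑ j, M' q j * f' j = 0) →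
      ∀ s : ℕ, Ideal.span (Set.range f) ⊓ I ^ s ⊔ I ^ (s + 1) = Ideal.span (Set.range f') ⊓ I ^ s ⊔ I ^ (s + 1) := by
  obtain ⟨c₁, hc₁⟩ := artinRees_scalar I f
  obtain ⟨c₂, hc₂⟩ := artinRees_vector I M
  refine ⟨c₁ + c₂ + 1, fun N hN f' M' hf hM hM' s => ?_⟩
  have hdiff : ∀ (a : Fin t → P) (l : ℕ), (∀ j, a j ∈ I ^ l) →
      ∑ j, a j * f' j - ∑ j, a j * f j ∈ I ^ (l + N) := by
    intro a l ha
    rw [← Finset.sum_sub_distrib]
    refine sum_mem fun j _ => ?_
    rw [← mul_sub, pow_add]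
    exact Ideal.mul_mem_mul (ha j) (hf j)
  refine le_antisymm (sup_le ?_ le_sup_right) (sup_le ?_ le_sup_right)
  · rintro y ⟨hy, hys⟩
    obtain ⟨a, ha, hay⟩ := hc₁ s y hy hys
    have h1 : ∑ j, a j * f' j - y ∈ I ^ (s + 1) := by
      rw [← hay]
      exact Ideal.pow_le_pow_right (by omega) (hdiff a _ ha)
    have h2 : ∑ j, a j * f' j ∈ I ^ s := by
      have := add_mem (Ideal.pow_le_pow_right (Nat.le_succ s) h1) hys
      rwa [sub_add_cancel] at this
    refine Submodule.mem_sup.mpr ⟨∑ j, a j * f' j, ⟨?_, h2⟩, y - ∑ j, a j * f' j, ?_, by ring⟩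
    · exact sum_mem fun j _ => Ideal.mul_mem_left _ _ (Ideal.subset_span ⟨j, rfl⟩)
    · rw [← neg_sub]; exact neg_mem h1
  · rintro y ⟨hy, hys⟩
    -- improve the coefficients
    have key : ∀ l, l ≤ s - c₁ → ∃ a : Fin t → P, (∀ j, a j ∈ I ^ l) ∧ ∑ j, a j * f' j = y := by
      intro l
      induction l with
      | zero =>
        intro _
        obtain ⟨a, ha⟩ := (Ideal.mem_span_range_iff_exists_fun).mp hy
        exact ⟨a, fun j => by rw [pow_zero, Ideal.one_eq_top]; trivial, ha⟩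
      | succ l ih =>
        intro hl
        obtain ⟨a, ha, hay⟩ := ih (by omega)
        have h1 : ∑ j, a j * f j ∈ I ^ (l + 1 + c₁) := by
          have h2 := sub_mem (Ideal.pow_le_pow_right (show l + 1 + c₁ ≤ s by omega) hys)
            (Ideal.pow_le_pow_right (show l + 1 + c₁ ≤ l + N by omega) (hdiff a l ha))
          rwa [hay, sub_sub_cancel] at h2
        obtain ⟨a'', ha'', hay''⟩ := hc₁ (l + 1 + c₁) _
          (sum_mem fun j _ => Ideal.mul_mem_left _ _ (Ideal.subset_span ⟨j, rfl⟩)) h1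
        simp only [Nat.add_sub_cancel] at ha''
        have h3 : ∀ j, (a - a'') j ∈ I ^ l := fun j =>
          sub_mem (ha j) (Ideal.pow_le_pow_right (Nat.le_succ l) (ha'' j))
        obtain ⟨z, hz, hza⟩ := hc₂ l (a - a'') (hrel _ (by
          simp only [Pi.sub_apply, sub_mul, Finset.sum_sub_distrib, hay'', sub_self])) h3
        refine ⟨fun j => a j - ∑ q, z q * M' q j, fun j => ?_, ?_⟩
        · have h4 : a j - ∑ q, z q * M' q j = a'' j - ∑ q, z q * (M' q j - M q j) := by
            simp only [mul_sub, Finset.sum_sub_distrib, hza, Pi.sub_apply]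
            ring
          show a j - ∑ q, z q * M' q j ∈ _
          rw [h4]
          refine sub_mem (ha'' j) (sum_mem fun q _ => ?_)
          refine Ideal.pow_le_pow_right (show l + 1 ≤ (l - c₂) + N by omega) ?_
          rw [pow_add]
          exact Ideal.mul_mem_mul (hz q) (hM q j)
        · simp only [sub_mul, Finset.sum_sub_distrib, hay]
          have h5 : ∑ j, (∑ q, z q * M' q j) * f' j = 0 := by
            simp only [Finset.sum_mul]
            rw [Finset.sum_comm]
            refine Finset.sum_eq_zero fun q _ => ?_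
            simp only [mul_assoc, ← Finset.mul_sum, hM', mul_zero]
          rw [h5, sub_zero]
    obtain ⟨a, ha, hay⟩ := key (s - c₁) le_rfl
    have h1 : y - ∑ j, a j * f j ∈ I ^ (s + 1) := by
      rw [← hay]
      exact Ideal.pow_le_pow_right (by omega) (hdiff a _ ha)
    have h2 : ∑ j, a j * f j ∈ I ^ s := by
      have := sub_mem hys (Ideal.pow_le_pow_right (Nat.le_succ s) h1)
      rwa [sub_sub_cancel] at this
    exact Submodule.mem_sup.mpr ⟨_, ⟨sum_mem fun j _ => Ideal.mul_mem_left _ _ (Ideal.subset_span ⟨j, rfl⟩), h2⟩,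
      _, h1, by ring⟩

end Groth.Agent.H21.ArtinPerturb
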