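import Groth.Prelude.Def_GrMap2
import Groth.Agent.H21.ArtinAlgPS
import Groth.Agent.H21.ArtinAlgTools
import Groth.Agent.H21.ArtinPerturb
import Groth.Agent.H21.GrIso
import Groth.Agent.Lib.GRing.FiniteTypeField
import Mathlib.RingTheory.Smooth.AdicCompletion
import Mathlib.RingTheory.FiniteType

/-!
# Artin's algebraization, functor form: approximation with isomorphic associated graded rings
-/

set_option autoImplicit false
set_option linter.style.haveILetI false

universe u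

open CategoryTheory CategoryTheory.Limits IsLocalRing

namespace Groth.Agent.H21.ArtinAlgebraization

open MvPolynomial (aeval)

theorem mem_inf_sup {S : Type u} [CommRing S] (I J J' : Ideal S) (hJ : J' ≤ J) {y : S} (hy : y ∈ J) :
    y ∈ I ⊔ J' ↔ y ∈ I ⊓ J ⊔ J' := by
  refine ⟨fun h => ?_, fun h => (sup_le_sup_right inf_le_left J') h⟩
  obtain ⟨a, ha, b, hb, rfl⟩ := Submodule.mem_sup.mp h
  exact Submodule.mem_sup.mpr ⟨a, ⟨ha, by simpa using sub_mem hy (hJ hb)⟩, b, hb, rfl⟩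

theorem span_sup_eq {S : Type u} [CommRing S] {t : ℕ} (J : Ideal S) (f f' : Fin t → S) (h : ∀ j, f' j - f j ∈ J) :
    Ideal.span (Set.range f) ⊔ J = Ideal.span (Set.range f') ⊔ J := by
  refine le_antisymm (sup_le (Ideal.span_le.mpr ?_) le_sup_right) (sup_le (Ideal.span_le.mpr ?_) le_sup_right) <;>
    rintro _ ⟨j, rfl⟩
  · exact Submodule.mem_sup.mpr ⟨f' j, Ideal.subset_span ⟨j, rfl⟩, -(f' j - f j), neg_mem (h j), by ring⟩
  · exact Submodule.mem_sup.mpr ⟨f j, Ideal.subset_span ⟨j, rfl⟩, f' j - f j, h j, by ring⟩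

theorem mk_mem_map_iff {S : Type u} [CommRing S] (I J : Ideal S) (x : S) :
    Ideal.Quotient.mk I x ∈ J.map (Ideal.Quotient.mk I) ↔ x ∈ I ⊔ J := by
  rw [← Ideal.mem_comap, Ideal.comap_map_of_surjective' _ Ideal.Quotient.mk_surjective, Ideal.mk_ker, sup_comm]

set_option maxHeartbeats 800000 in
theorem exists_approximation (k : Type u) [Field k]
    (F : CommAlgCat.{u} k ⥤ Type u)
    (hF : ∀ (J : Type u) [SmallCategory J] [IsFiltered J], PreservesColimitsOfShape J F)
    (R : Type u) [CommRing R] [Algebra k R] [IsLocalRing R] [IsNoetherianRing R]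
    [IsAdicComplete (maximalIdeal R) R]
    (hres : Function.Surjective (fun c : k => residue R (algebraMap k R c)))
    (ξ : F.obj (CommAlgCat.of k R)) (N : ℕ) :
    ∃ (A : Type u) (_ : CommRing A) (_ : Algebra k A) (_ : Algebra.FiniteType k A)
      (m : Ideal A) (_ : m.IsMaximal)
      (_ : Function.Surjective (fun c : k => Ideal.Quotient.mk m (algebraMap k A c)))
      (η : F.obj (CommAlgCat.of k A))
      (φ : (R ⧸ maximalIdeal R ^ (N + 1)) ≃ₐ[k] (A ⧸ m ^ (N + 1))),
      F.map (CommAlgCat.ofHom (φ.toAlgHom.comp (Ideal.Quotient.mkₐ k (maximalIdeal R ^ (N + 1))))) ξ =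
        F.map (CommAlgCat.ofHom (Ideal.Quotient.mkₐ k (m ^ (N + 1)))) η ∧
      ∃ e : AssocGr.GrRing (FiltBl.IdealFiltration.adic (maximalIdeal R)) ≃+*
          AssocGr.GrRing (FiltBl.IdealFiltration.adic m),
        (∀ (n : ℕ) (x : AssocGr.GrRing (FiltBl.IdealFiltration.adic (maximalIdeal R))),
            x ∈ AssocGr.gr (FiltBl.IdealFiltration.adic (maximalIdeal R)) n →
              e x ∈ AssocGr.gr (FiltBl.IdealFiltration.adic m) n) ∧
        (∀ c : k, e (algebraMap R _ (algebraMap k R c)) = algebraMap A _ (algebraMap k A c)) := by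
  classical
  -- a presentation of `R` by power series
  obtain ⟨n, x, hx⟩ := Submodule.fg_iff_exists_fin_generating_family.mp (IsNoetherian.noetherian (maximalIdeal R))
  have hxm : ∀ i, x i ∈ maximalIdeal R := fun i => hx ▸ Submodule.subset_span ⟨i, rfl⟩
  let A0 := MvPolynomial (Fin n) k
  let P := MvPowerSeries (Fin n) k
  haveI hPreg := H24.PowerSeries.isRegularLocalRing_fin k n
  haveI : IsNoetherianRing P := inferInstance
  haveI : IsAdicComplete (maximalIdeal P) P := H24.PowerSeries.isAdicComplete k (Fin n)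
  haveI : IsScalarTower k A0 P := IsScalarTower.of_algebraMap_eq fun c => (ArtinAlgPS.algebraMap_C k n c).symm
  obtain ⟨π, hπX⟩ := H24.PowerSeries.exists_hom (A := k) (maximalIdeal R) x hxm
  have hπmax : (maximalIdeal P).map π.toRingHom = maximalIdeal R := by
    rw [H24.PowerSeries.maximalIdeal_eq k (Fin n), Ideal.map_span, ← Set.range_comp]
    refine Eq.trans ?_ hx
    exact congrArg (fun g => Ideal.span (Set.range g)) (funext hπX)
  have hπ : Function.Surjective π := by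
    refine H24.PowerSeries.surjective_of_cotangent π.toRingHom (fun r => ?_) hπmax.le
      (hπmax.ge.trans le_sup_left)
    obtain ⟨c, hc⟩ := hres r
    exact ⟨algebraMap k P c, by rw [RingHom.comp_apply, AlgHom.toRingHom_eq_coe, RingHom.coe_coe, AlgHom.commutes]; exact hc⟩
  have hπpow : ∀ (s : ℕ) (y : P), π y ∈ maximalIdeal R ^ s ↔ y ∈ RingHom.ker π.toRingHom ⊔ maximalIdeal P ^ s := by
    intro s y
    rw [← hπmax, ← Ideal.map_pow]
    change π.toRingHom y ∈ _ ↔ _
    rw [← Ideal.mem_comap, Ideal.comap_map_of_surjective' π.toRingHom hπ, sup_comm]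
  obtain ⟨t, f, hf⟩ := Submodule.fg_iff_exists_fin_generating_family.mp
    (IsNoetherian.noetherian (RingHom.ker π.toRingHom))
  have hfker : Ideal.span (Set.range f) = RingHom.ker π.toRingHom := hf
  have hfm : ∀ j, f j ∈ maximalIdeal P := by
    intro j
    by_contra h
    have h1 : IsUnit (f j) := by rwa [mem_maximalIdeal, mem_nonunits_iff, not_not] at h
    have h2 : π (f j) = 0 := hfker.le (Ideal.subset_span ⟨j, rfl⟩)
    exact not_isUnit_zero (h2 ▸ h1.map π)
  obtain ⟨r, M, hM⟩ := Submodule.fg_iff_exists_fin_generating_family.mp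
    (IsNoetherian.noetherian (LinearMap.ker (Fintype.linearCombination P f)))
  have hMrel : ∀ q, ∑ j, M q j * f j = 0 := by
    intro q
    have : M q ∈ LinearMap.ker (Fintype.linearCombination P f) := hM ▸ Submodule.subset_span ⟨q, rfl⟩
    simpa [LinearMap.mem_ker, Fintype.linearCombination_apply, smul_eq_mul] using this
  obtain ⟨N₀, hN₀⟩ := ArtinPerturb.perturb (maximalIdeal P) f M (fun a ha => by
    rw [hM]
    simpa [LinearMap.mem_ker, Fintype.linearCombination_apply, smul_eq_mul] using ha)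
  -- a finitely generated source of `ξ`
  obtain ⟨B, hB, ηB, hηB⟩ := ArtinAlgTools.exists_fg_source k F hF R ξ
  haveI : Algebra.FiniteType k B := (Subalgebra.fg_iff_finiteType B).mp hB
  obtain ⟨s, q, hq⟩ := Algebra.FiniteType.iff_quotient_mvPolynomial''.mp (inferInstance : Algebra.FiniteType k B)
  obtain ⟨v, g, hg⟩ := Submodule.fg_iff_exists_fin_generating_family.mp (IsNoetherian.noetherian (RingHom.ker q.toRingHom))
  choose yhat hyhat using fun i => hπ (q (MvPolynomial.X i) : R)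
  have hgy : ∀ l, π (aeval yhat (g l)) = 0 := by
    intro l
    have h1 : π.comp (aeval yhat) = B.val.comp q := MvPolynomial.algHom_ext fun i => by simp [hyhat]
    have h2 : q (g l) = 0 := hg.le (Submodule.subset_span ⟨l, rfl⟩)
    rw [← AlgHom.comp_apply, h1, AlgHom.comp_apply, h2, map_zero]
  have hgy' : ∀ l, ∃ c : Fin t → P, ∑ j, c j * f j = aeval yhat (g l) := fun l =>
    Ideal.mem_span_range_iff_exists_fun.mp (hfker ▸ hgy l)
  choose c hc using hgy'
  -- the system of equations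
  let σ := Fin s ⊕ (Fin t ⊕ ((Fin r × Fin t) ⊕ (Fin v × Fin t)))
  let Yv : Fin s → MvPolynomial σ A0 := fun i => MvPolynomial.X (Sum.inl i)
  let Fv : Fin t → MvPolynomial σ A0 := fun j => MvPolynomial.X (Sum.inr (Sum.inl j))
  let Mv : Fin r → Fin t → MvPolynomial σ A0 := fun q j => MvPolynomial.X (Sum.inr (Sum.inr (Sum.inl (q, j))))
  let Cv : Fin v → Fin t → MvPolynomial σ A0 := fun l j => MvPolynomial.X (Sum.inr (Sum.inr (Sum.inr (l, j))))
  let eqs : Fin v ⊕ Fin r → MvPolynomial σ A0 :=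
    Sum.elim (fun l => aeval Yv (g l) - ∑ j, Cv l j * Fv j) (fun q => ∑ j, Mv q j * Fv j)
  let aP : σ → P := Sum.elim yhat (Sum.elim f (Sum.elim (fun p => M p.1 p.2) (fun p => c p.1 p.2)))
  have haP : ∀ e, aeval aP (eqs e) = 0 := by
    have hY : ∀ z, aeval aP (aeval Yv z) = aeval yhat z := fun z =>
      AlgHom.congr_fun (show ((aeval aP).restrictScalars k).comp (aeval Yv) = aeval yhat from
        MvPolynomial.algHom_ext fun i => by simp [Yv, aP]) z
    rintro (l | q)
    · simp only [eqs, Sum.elim_inl, map_sub, map_sum, map_mul, hY, Cv, Fv, MvPolynomial.aeval_X, aP,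
        Sum.elim_inr, hc, sub_self]
    · simp only [eqs, Sum.elim_inr, map_sum, map_mul, Mv, Fv, MvPolynomial.aeval_X, aP, Sum.elim_inl, hMrel]
  -- approximation
  obtain ⟨θ, hθ⟩ := ArtinAlgPS.exists_theta k n
  let N' := max (N + 1) N₀
  have hG : _root_.CAlg.IsGRing (ArtinAlgPS.L k n) :=
    Groth.Agent.Lib.Excellent.GRingStability.isGRing_of_isLocalization (ArtinAlgPS.m0 k n).primeCompl
      (Groth.Agent.Lib.GRing.FiniteTypeField.isGRing k A0)
  haveI : IsNoetherianRing (ArtinAlgPS.L k n) := hG.1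
  obtain ⟨R', _, _, het, ψ, p', hp', hcomap, hres₀, hmem, b, hb, hab⟩ :=
    ArtinAlgTools.exists_etale_solution (ArtinAlgPS.m0 k n) (ArtinAlgPS.L k n) hG eqs (fun i => θ (aP i))
      (fun e => by rw [← MvPolynomial.comp_aeval_apply, haP e, map_zero]) N'
  letI : Algebra k R' := ((algebraMap A0 R').comp (algebraMap k A0)).toAlgebra
  haveI : IsScalarTower k A0 R' := IsScalarTower.of_algebraMap_eq fun _ => rfl
  have hres' : ∀ z : R', ∃ a : A0, z - algebraMap A0 R' a ∈ p' := by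
    intro z
    obtain ⟨a, d, hd, h⟩ := hres₀ z
    obtain ⟨e, he⟩ := ArtinAlgPS.exists_sub_C_mem k n d
    have he0 : e ≠ 0 := by
      rintro rfl
      rw [map_zero, sub_zero] at he
      exact hd he
    refine ⟨MvPolynomial.C e⁻¹ * a, ?_⟩
    have h1 : z - algebraMap A0 R' (MvPolynomial.C e⁻¹ * a) =
        algebraMap A0 R' (MvPolynomial.C e⁻¹) * (algebraMap A0 R' d * z - algebraMap A0 R' a)
          + algebraMap A0 R' (1 - MvPolynomial.C e⁻¹ * d) * z := by
      simp only [map_sub, map_mul, map_one]; ring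
    rw [h1]
    refine add_mem (Ideal.mul_mem_left _ _ h) (Ideal.mul_mem_right _ _ ?_)
    rw [← Ideal.mem_comap, hcomap]
    have h2 : (1 : A0) - MvPolynomial.C e⁻¹ * d = -(MvPolynomial.C e⁻¹ * (d - MvPolynomial.C e)) := by
      rw [mul_sub, ← MvPolynomial.C_mul, inv_mul_cancel₀ he0, MvPolynomial.C_1]; ring
    rw [h2]
    exact neg_mem (Ideal.mul_mem_left _ _ he)
  -- the map to power series
  let q₀ : (A0 ⧸ ArtinAlgPS.m0 k n) →ₐ[A0] R' ⧸ p' := Ideal.Quotient.liftₐ _ (Algebra.ofId A0 _) (fun a ha => by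
    show Ideal.Quotient.mk p' (algebraMap A0 R' a) = 0
    rw [Ideal.Quotient.eq_zero_iff_mem, ← Ideal.mem_comap, hcomap]; exact ha)
  have hq₀ : Function.Bijective q₀ := by
    refine ⟨(injective_iff_map_eq_zero q₀).mpr fun a ha => ?_, fun a => ?_⟩
    · obtain ⟨a, rfl⟩ := Ideal.Quotient.mk_surjective a
      have h1 : Ideal.Quotient.mk p' (algebraMap A0 R' a) = 0 := ha
      rw [Ideal.Quotient.eq_zero_iff_mem, ← Ideal.mem_comap, hcomap] at h1
      exact Ideal.Quotient.eq_zero_iff_mem.mpr h1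
    · obtain ⟨z, rfl⟩ := Ideal.Quotient.mk_surjective a
      obtain ⟨a, ha⟩ := hres' z
      exact ⟨Ideal.Quotient.mk _ a, (Ideal.Quotient.eq.mpr ha).symm⟩
  let h₀ : (A0 ⧸ ArtinAlgPS.m0 k n) →ₐ[A0] P ⧸ maximalIdeal P := Ideal.Quotient.liftₐ _ (Algebra.ofId A0 _) (fun a ha => by
    show Ideal.Quotient.mk (maximalIdeal P) (algebraMap A0 P a) = 0
    rw [Ideal.Quotient.eq_zero_iff_mem, ← ArtinAlgPS.map_m0]
    exact Ideal.mem_map_of_mem _ ha)
  let ε : R' →ₐ[A0] P ⧸ maximalIdeal P :=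
    h₀.comp ((AlgEquiv.ofBijective q₀ hq₀).symm.toAlgHom.comp (Ideal.Quotient.mkₐ A0 p'))
  obtain ⟨χ, hχ⟩ := Algebra.FormallySmooth.exists_mkₐ_comp_eq_of_isAdicComplete ε
  have hχp : p'.map χ ≤ maximalIdeal P := by
    rw [Ideal.map_le_iff_le_comap]
    intro z hz
    rw [Ideal.mem_comap, ← Ideal.Quotient.eq_zero_iff_mem]
    refine (AlgHom.congr_fun hχ z).trans ?_
    show h₀ ((AlgEquiv.ofBijective q₀ hq₀).symm (Ideal.Quotient.mk p' z)) = 0
    rw [Ideal.Quotient.eq_zero_iff_mem.mpr hz, map_zero, map_zero]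
  have hχiff : ∀ (z : R') (i : ℕ), z ∈ p' ^ i ↔ χ z ∈ maximalIdeal P ^ i :=
    ArtinAlgPS.mem_pow_iff (ArtinAlgPS.m0 k n) p' hcomap hres' χ (maximalIdeal P) hχp
      (fun a i h => (ArtinAlgPS.algebraMap_mem_pow_iff k n a i).mp h)
  -- closeness of the solution
  have hclose : ∀ i, χ (b i) - aP i ∈ maximalIdeal P ^ N' := by
    intro i
    obtain ⟨a, ha⟩ := ArtinAlgPS.exists_sub_mem_pow' (ArtinAlgPS.m0 k n) p' hcomap hres' N' (b i)
    obtain ⟨d, hd⟩ := ArtinAlgPS.exists_sub_mem_pow k n (aP i) N'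
    have hψp : p'.map ψ ≤ maximalIdeal (ArtinAlgPS.D k n) := by
      rw [Ideal.map_le_iff_le_comap, AdicCompletion.maximalIdeal_eq_map]
      exact fun z hz => hmem z hz
    have h1 : ψ (b i) - algebraMap A0 _ a ∈ maximalIdeal (ArtinAlgPS.D k n) ^ N' := by
      have := Ideal.mem_map_of_mem ψ ha
      rw [Ideal.map_pow] at this
      simpa [map_sub, AlgHom.commutes] using Ideal.pow_right_mono hψp N' this
    have h2 : θ (aP i) - algebraMap A0 _ d ∈ maximalIdeal (ArtinAlgPS.D k n) ^ N' := by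
      simpa [map_sub, AlgHom.commutes] using hθ N' _ hd
    have h3 : θ (aP i) - ψ (b i) ∈ maximalIdeal (ArtinAlgPS.D k n) ^ N' := by
      rw [AdicCompletion.maximalIdeal_eq_map, ← Ideal.map_pow]; exact hab i
    have h4 : a - d ∈ ArtinAlgPS.m0 k n ^ N' := by
      refine ArtinAlgPS.mem_m0_pow_of_algebraMap k n ?_
      have : algebraMap A0 (ArtinAlgPS.D k n) (a - d) =
          (θ (aP i) - algebraMap A0 _ d) - (θ (aP i) - ψ (b i)) - (ψ (b i) - algebraMap A0 _ a) := by
        rw [map_sub]; ring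
      rw [this]
      exact sub_mem (sub_mem h2 h3) h1
    have h5 : χ (b i) - aP i =
        χ (b i - algebraMap A0 R' a) + algebraMap A0 P (a - d) - (aP i - algebraMap A0 P d) := by
      rw [map_sub, map_sub, AlgHom.commutes]; ring
    rw [h5]
    exact sub_mem (add_mem ((hχiff _ _).mp ha) ((ArtinAlgPS.algebraMap_mem_pow_iff k n _ _).mpr h4)) hd
  have hN1 : N + 1 ≤ N' := le_max_left _ _
  -- the equations in `P`
  let bY : Fin s → R' := fun i => b (Sum.inl i)
  let bF : Fin t → R' := fun j => b (Sum.inr (Sum.inl j))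
  let f' : Fin t → P := fun j => χ (bF j)
  let M' : Fin r → Fin t → P := fun q j => χ (b (Sum.inr (Sum.inr (Sum.inl (q, j)))))
  have hinit := hN₀ N' (le_max_right _ _) f' M' (fun j => hclose (Sum.inr (Sum.inl j)))
    (fun q j => hclose (Sum.inr (Sum.inr (Sum.inl (q, j))))) (fun q => by
      have := congrArg χ (hb (Sum.inr q))
      simpa [eqs, Mv, Fv, M', f', bF, map_sum] using this)
  have hbY : ∀ z, aeval bY z = aeval b (aeval Yv z) := fun z => by
    symm
    exact AlgHom.congr_fun (show ((aeval b).restrictScalars k).comp (aeval Yv) = aeval bY from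
      MvPolynomial.algHom_ext fun i => by simp [Yv, bY]) z
  let IA : Ideal R' := Ideal.span (Set.range bF)
  have hIA : ∀ (z : R') (i : ℕ), z ∈ IA ⊔ p' ^ i ↔ χ z ∈ Ideal.span (Set.range f') ⊔ maximalIdeal P ^ i := by
    intro z i
    refine ⟨fun h => ?_, fun h => ?_⟩
    · obtain ⟨a, ha, a', ha', rfl⟩ := Submodule.mem_sup.mp h
      refine Submodule.mem_sup.mpr ⟨χ a, ?_, χ a', (hχiff a' i).mp ha', (map_add χ a a').symm⟩
      have h1 := Ideal.mem_map_of_mem χ ha
      rw [Ideal.map_span, ← Set.range_comp] at h1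
      exact h1
    · obtain ⟨a, ha, a', ha', hz⟩ := Submodule.mem_sup.mp h
      obtain ⟨w, hw⟩ := Ideal.mem_span_range_iff_exists_fun.mp ha
      choose d hd using fun j => ArtinAlgPS.exists_sub_mem_pow k n (w j) i
      refine Submodule.mem_sup.mpr ⟨∑ j, algebraMap A0 R' (d j) * bF j,
        sum_mem fun j _ => Ideal.mul_mem_left _ _ (Ideal.subset_span ⟨j, rfl⟩), z - ∑ j, algebraMap A0 R' (d j) * bF j,
        ?_, by ring⟩
      rw [hχiff]
      have : χ (z - ∑ j, algebraMap A0 R' (d j) * bF j) = a' + ∑ j, (w j - algebraMap A0 P (d j)) * f' j := by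
        simp only [map_sub, map_sum, map_mul, AlgHom.commutes, sub_mul, Finset.sum_sub_distrib, hw, ← hz, f']
        ring
      rw [this]
      exact add_mem ha' (sum_mem fun j _ => Ideal.mul_mem_right _ _ (hd j))
  have hIp : IA ≤ p' := by
    refine Ideal.span_le.mpr ?_
    rintro _ ⟨j, rfl⟩
    show bF j ∈ p'
    have h1 : χ (bF j) ∈ maximalIdeal P ^ 1 := by
      rw [pow_one]
      have := add_mem (Ideal.pow_le_self (show N' ≠ 0 by omega) (hclose (Sum.inr (Sum.inl j)))) (hfm j)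
      simpa [aP, bF] using this
    simpa using (hχiff _ 1).mpr h1
  -- the algebra
  haveI : Algebra.FiniteType A0 R' := inferInstance
  haveI : Algebra.FiniteType k R' := Algebra.FiniteType.trans (S := A0) inferInstance inferInstance
  let A := R' ⧸ IA
  let mk : R' →ₐ[k] A := Ideal.Quotient.mkₐ k IA
  have hmk : Function.Surjective mk := Ideal.Quotient.mk_surjective
  let m : Ideal A := p'.map (Ideal.Quotient.mk IA)
  have hmne : m ≠ ⊤ := by
    intro h
    have h1 : (1 : R') ∈ IA ⊔ p' := (mk_mem_map_iff IA p' 1).mp (by show _ ∈ m; rw [h]; trivial)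
    rw [sup_eq_right.mpr hIp] at h1
    exact hp'.ne_top ((Ideal.eq_top_iff_one _).mpr h1)
  have hresA : Function.Surjective (fun c : k => Ideal.Quotient.mk m (algebraMap k A c)) := by
    intro z
    obtain ⟨z, rfl⟩ := Ideal.Quotient.mk_surjective z
    obtain ⟨z, rfl⟩ := Ideal.Quotient.mk_surjective z
    obtain ⟨a, ha⟩ := hres' z
    obtain ⟨e, he⟩ := ArtinAlgPS.exists_sub_C_mem k n a
    refine ⟨e, (Ideal.Quotient.eq.mpr ?_).symm⟩
    show Ideal.Quotient.mk IA z - Ideal.Quotient.mk IA (algebraMap A0 R' (MvPolynomial.C e)) ∈ m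
    rw [← map_sub]
    refine Ideal.mem_map_of_mem _ ?_
    have he' : algebraMap A0 R' (a - MvPolynomial.C e) ∈ p' := by rw [← Ideal.mem_comap, hcomap]; exact he
    simpa [map_sub] using add_mem ha he'
  haveI : Nontrivial (A ⧸ m) := Ideal.Quotient.nontrivial_iff.mpr hmne
  have hmax : m.IsMaximal := Ideal.Quotient.maximal_of_isField _
    (MulEquiv.isField (Field.toIsField k)
      (RingEquiv.ofBijective (algebraMap k (A ⧸ m)) ⟨(algebraMap k (A ⧸ m)).injective, hresA⟩).symm.toMulEquiv)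
  -- the element
  have hker : RingHom.ker q ≤ RingHom.ker (mk.comp (aeval bY)) := by
    refine le_trans hg.ge (Ideal.span_le.mpr ?_)
    rintro _ ⟨l, rfl⟩
    rw [SetLike.mem_coe, RingHom.mem_ker, AlgHom.comp_apply]
    show Ideal.Quotient.mk IA (aeval bY (g l)) = 0
    rw [Ideal.Quotient.eq_zero_iff_mem, hbY]
    have h1 := hb (Sum.inl l)
    simp only [eqs, Sum.elim_inl, map_sub, map_sum, map_mul, sub_eq_zero] at h1
    rw [h1]
    refine sum_mem fun j _ => Ideal.mul_mem_left _ _ (Ideal.subset_span ⟨j, ?_⟩)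
    simp [Fv, bF]
  let β : B →ₐ[k] A := (Ideal.Quotient.liftₐ _ (mk.comp (aeval bY)) hker).comp
    (Ideal.quotientKerAlgEquivOfSurjective hq).symm.toAlgHom
  have hβ : ∀ z, β (q z) = mk (aeval bY z) := by
    intro z
    have : (Ideal.quotientKerAlgEquivOfSurjective hq).symm (q z) = Ideal.Quotient.mk _ z :=
      (AlgEquiv.symm_apply_eq _).2 rfl
    simp only [β, AlgHom.comp_apply]
    erw [this]
    rfl
  -- the isomorphism of truncations
  let χk : R' →ₐ[k] P := χ.restrictScalars k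
  let Λ : R' →ₐ[k] R ⧸ maximalIdeal R ^ (N + 1) := (Ideal.Quotient.mkₐ k _).comp (π.comp χk)
  let Λ' : R' →ₐ[k] A ⧸ m ^ (N + 1) := (Ideal.Quotient.mkₐ k _).comp mk
  have hΛ : Function.Surjective Λ := by
    intro z
    obtain ⟨z, rfl⟩ := Ideal.Quotient.mk_surjective z
    obtain ⟨y, rfl⟩ := hπ z
    obtain ⟨d, hd⟩ := ArtinAlgPS.exists_sub_mem_pow k n y (N + 1)
    refine ⟨algebraMap A0 R' d, (Ideal.Quotient.eq.mpr ?_).symm⟩
    show π y - π (χ (algebraMap A0 R' d)) ∈ _
    rw [AlgHom.commutes, ← map_sub, hπpow]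
    exact Ideal.mem_sup_right hd
  have hΛ' : Function.Surjective Λ' := Ideal.Quotient.mk_surjective.comp hmk
  have hmpow : ∀ (i : ℕ) (z : R'), Ideal.Quotient.mk IA z ∈ m ^ i ↔ z ∈ IA ⊔ p' ^ i := fun i z => by
    rw [show m ^ i = (p' ^ i).map (Ideal.Quotient.mk IA) from (Ideal.map_pow _ _ _).symm, mk_mem_map_iff]
  have hkerΛ : RingHom.ker Λ = RingHom.ker Λ' := by
    ext z
    rw [RingHom.mem_ker, RingHom.mem_ker]
    show Ideal.Quotient.mk _ (π (χ z)) = 0 ↔ Ideal.Quotient.mk _ (Ideal.Quotient.mk IA z) = 0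
    rw [Ideal.Quotient.eq_zero_iff_mem, Ideal.Quotient.eq_zero_iff_mem, hπpow, hmpow, hIA, ← hfker,
      span_sup_eq (maximalIdeal P ^ (N + 1)) f f'
        (fun j => Ideal.pow_le_pow_right hN1 (hclose (Sum.inr (Sum.inl j))))]
  let φ : (R ⧸ maximalIdeal R ^ (N + 1)) ≃ₐ[k] (A ⧸ m ^ (N + 1)) :=
    (Ideal.quotientKerAlgEquivOfSurjective hΛ).symm.trans
      ((Ideal.quotientEquivAlgOfEq k hkerΛ).trans (Ideal.quotientKerAlgEquivOfSurjective hΛ'))
  have hφ : ∀ z, φ (Λ z) = Λ' z := by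
    intro z
    have : (Ideal.quotientKerAlgEquivOfSurjective hΛ).symm (Λ z) = Ideal.Quotient.mk _ z :=
      (AlgEquiv.symm_apply_eq _).2 rfl
    show Ideal.quotientKerAlgEquivOfSurjective hΛ' (Ideal.quotientEquivAlgOfEq k hkerΛ
      ((Ideal.quotientKerAlgEquivOfSurjective hΛ).symm (Λ z))) = _
    rw [this]
    rfl
  -- the graded rings
  let g₁ : A0 →+* R := π.toRingHom.comp (algebraMap A0 P)
  let g₂ : A0 →+* A := (Ideal.Quotient.mk IA).comp (algebraMap A0 R')
  have h₁ : (ArtinAlgPS.m0 k n).map g₁ ≤ maximalIdeal R := by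
    rw [← Ideal.map_map, ArtinAlgPS.map_m0, hπmax]
  have h₂ : (ArtinAlgPS.m0 k n).map g₂ ≤ m := by
    rw [← Ideal.map_map]
    exact Ideal.map_mono (Ideal.map_le_iff_le_comap.mpr hcomap.ge)
  have hs₁ : ∀ (i : ℕ), ∀ z ∈ maximalIdeal R ^ i, ∃ a ∈ ArtinAlgPS.m0 k n ^ i, g₁ a - z ∈ maximalIdeal R ^ (i + 1) := by
    intro i z hz
    rw [← hπmax, ← Ideal.map_pow] at hz
    obtain ⟨y, hy, rfl⟩ := (Ideal.mem_map_iff_of_surjective _ hπ).mp hz
    obtain ⟨d, hd⟩ := ArtinAlgPS.exists_sub_mem_pow k n y (i + 1)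
    refine ⟨d, (ArtinAlgPS.algebraMap_mem_pow_iff k n d i).mp ?_, ?_⟩
    · have := sub_mem hy (Ideal.pow_le_pow_right (Nat.le_succ i) hd)
      rwa [sub_sub_cancel] at this
    · show π (algebraMap A0 P d) - π y ∈ _
      rw [← map_sub, hπpow]
      refine Ideal.mem_sup_right ?_
      rw [← neg_sub]; exact neg_mem hd
  have hs₂ : ∀ (i : ℕ), ∀ z ∈ m ^ i, ∃ a ∈ ArtinAlgPS.m0 k n ^ i, g₂ a - z ∈ m ^ (i + 1) := by
    intro i z hz
    rw [show m ^ i = (p' ^ i).map (Ideal.Quotient.mk IA) from (Ideal.map_pow _ _ _).symm] at hz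
    obtain ⟨y, hy, rfl⟩ := (Ideal.mem_map_iff_of_surjective _ Ideal.Quotient.mk_surjective).mp hz
    obtain ⟨a, ha, hay⟩ := ArtinAlgPS.exists_pow_sub_mem (ArtinAlgPS.m0 k n) p' hcomap hres' i y hy
    refine ⟨a, ha, ?_⟩
    show Ideal.Quotient.mk IA (algebraMap A0 R' a) - Ideal.Quotient.mk IA y ∈ _
    rw [← map_sub, hmpow, ← neg_sub]
    exact Ideal.mem_sup_right (neg_mem hay)
  have hker' : ∀ (i : ℕ), ∀ z ∈ ArtinAlgPS.m0 k n ^ i, g₁ z ∈ maximalIdeal R ^ (i + 1) ↔ g₂ z ∈ m ^ (i + 1) := by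
    intro i z hz
    have hzP := (ArtinAlgPS.algebraMap_mem_pow_iff k n z i).mpr hz
    show π (algebraMap A0 P z) ∈ _ ↔ Ideal.Quotient.mk IA (algebraMap A0 R' z) ∈ _
    rw [hπpow, hmpow, hIA, AlgHom.commutes, ← hfker,
      mem_inf_sup _ _ _ (Ideal.pow_le_pow_right (Nat.le_succ i)) hzP,
      mem_inf_sup (Ideal.span (Set.range f')) _ _ (Ideal.pow_le_pow_right (Nat.le_succ i)) hzP, hinit i]
  obtain ⟨e, he₁, he₂⟩ := GrIso.exists_grEquiv (ArtinAlgPS.m0 k n) g₁ g₂ h₁ h₂ hs₁ hs₂ hker'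
  refine ⟨A, inferInstance, inferInstance, Algebra.FiniteType.of_surjective mk hmk,
    m, hmax, hresA, F.map (CommAlgCat.ofHom β) ηB, φ, ?_, e, he₁, fun c => ?_⟩
  · have hcomm : (φ.toAlgHom.comp (Ideal.Quotient.mkₐ k (maximalIdeal R ^ (N + 1)))).comp B.val =
        (Ideal.Quotient.mkₐ k (m ^ (N + 1))).comp β := by
      refine AlgHom.cancel_right hq |>.mp (MvPolynomial.algHom_ext fun i => ?_)
      show φ (Ideal.Quotient.mk _ ((q (MvPolynomial.X i) : B) : R)) = Ideal.Quotient.mk _ (β (q (MvPolynomial.X i)))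
      rw [hβ, MvPolynomial.aeval_X]
      refine Eq.trans (congrArg φ ?_) (hφ (bY i))
      show _ = Ideal.Quotient.mk _ (π (χ (bY i)))
      rw [← hyhat, Ideal.Quotient.eq, ← map_sub, hπpow]
      refine Ideal.mem_sup_right (Ideal.pow_le_pow_right hN1 ?_)
      rw [← neg_sub]
      exact neg_mem (by simpa [aP, bY] using hclose (Sum.inl i))
    rw [← hηB, ← ConcreteCategory.comp_apply, ← F.map_comp, ← ConcreteCategory.comp_apply, ← F.map_comp,
      ← CommAlgCat.ofHom_comp, ← CommAlgCat.ofHom_comp, hcomm]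
  · have h1 : g₁ (MvPolynomial.C c) = algebraMap k R c := by
      show π (algebraMap A0 P (MvPolynomial.C c)) = _
      rw [ArtinAlgPS.algebraMap_C, AlgHom.commutes]
    have h2 : g₂ (MvPolynomial.C c) = algebraMap k A c := rfl
    rw [← h1, ← h2, ← GrIso.map_algebraMap (ArtinAlgPS.m0 k n) g₁ h₁, he₂,
      GrIso.map_algebraMap (ArtinAlgPS.m0 k n) g₂ h₂]

end Groth.Agent.H21.ArtinAlgebraization
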