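import Mathlib.RingTheory.GradedAlgebra.Homogeneous.Ideal
import Mathlib.RingTheory.Ideal.Cotangent
import Mathlib.RingTheory.MvPolynomial.Ideal
import Mathlib.RingTheory.Smooth.Locus
import Mathlib.RingTheory.Spectrum.Prime.Topology
import Mathlib.LinearAlgebra.Dimension.StrongRankCondition

/-!
A graded algebra which is smooth along the zero section, with free cotangent module, is a
polynomial ring.
-/

namespace Groth.Agent.H21.BBGraded

set_option linter.style.haveILetI false

universe u v

open MvPolynomial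

section congr

variable {A Q : Type*} [CommRing A] [CommRing Q] [Algebra A Q] {σ : Type*} (J : Ideal Q)
  (g h : MvPolynomial σ A →ₐ[A] Q)

theorem map_pow_le (hh : ∀ i, h (X i) ∈ J) (e : ℕ) :
    (idealOfVars σ A ^ e).map h ≤ J ^ e := by
  rw [Ideal.map_pow]
  refine Ideal.pow_right_mono ?_ e
  rw [idealOfVars, Ideal.map_span, Ideal.span_le]
  rintro _ ⟨_, ⟨i, rfl⟩, rfl⟩
  exact hh i

theorem sub_mem_pow_succ (hgh : ∀ i, g (X i) - h (X i) ∈ J ^ 2) (hh : ∀ i, h (X i) ∈ J) :
    ∀ (e : ℕ) (p : MvPolynomial σ A), p ∈ idealOfVars σ A ^ e → g p - h p ∈ J ^ (e + 1) := by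
  have hg : ∀ i, g (X i) ∈ J := fun i => by
    have := J.add_mem (Ideal.pow_le_self two_ne_zero (hgh i)) (hh i)
    rwa [sub_add_cancel] at this
  have hall : ∀ p, g p - h p ∈ J := by
    intro p
    induction p using MvPolynomial.induction_on with
    | C a => rw [← MvPolynomial.algebraMap_eq, AlgHom.commutes, AlgHom.commutes, sub_self]; exact J.zero_mem
    | add p q hp hq => rw [map_add, map_add, add_sub_add_comm]; exact J.add_mem hp hq
    | mul_X p i hp =>
      rw [map_mul, map_mul,
        show g p * g (X i) - h p * h (X i) = (g p - h p) * g (X i) + h p * (g (X i) - h (X i)) by ring]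
      exact J.add_mem (J.mul_mem_left _ (hg i))
        (J.mul_mem_left _ (Ideal.pow_le_self two_ne_zero (hgh i)))
  intro e
  induction e with
  | zero => intro p _; simpa using hall p
  | succ e ih =>
    intro p hp
    rw [pow_succ] at hp
    refine Submodule.mul_induction_on hp (fun a ha b hb => ?_) (fun a b ha hb => ?_)
    · rw [map_mul, map_mul, show g a * g b - h a * h b = (g a - h a) * g b + h a * (g b - h b) by ring]
      refine (J ^ (e + 1 + 1)).add_mem ?_ ?_
      · rw [pow_succ J (e + 1)]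
        refine Ideal.mul_mem_mul (ih a ha) ?_
        have hb' : b ∈ idealOfVars σ A ^ 1 := by rwa [pow_one]
        have := map_pow_le J g hg 1 (Ideal.mem_map_of_mem g hb')
        rwa [pow_one] at this
      · rw [show e + 1 + 1 = e + 2 from rfl, pow_add J e 2]
        refine Ideal.mul_mem_mul (map_pow_le J h hh e (Ideal.mem_map_of_mem h ha)) ?_
        refine Submodule.span_induction (p := fun b _ => g b - h b ∈ J ^ 2) ?_ ?_ ?_ ?_ hb
        · rintro _ ⟨i, rfl⟩; exact hgh i
        · simp
        · intro x y _ _ hx hy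
          rw [map_add, map_add, add_sub_add_comm]; exact (J ^ 2).add_mem hx hy
        · intro c x hx' hx
          have hx1 : x ∈ idealOfVars σ A ^ 1 := by rw [pow_one]; exact hx'
          have hhx : h x ∈ J := by
            have := map_pow_le J h hh 1 (Ideal.mem_map_of_mem h hx1)
            rwa [pow_one] at this
          rw [smul_eq_mul, map_mul, map_mul,
            show g c * g x - h c * h x = (g c - h c) * h x + g c * (g x - h x) by ring]
          refine (J ^ 2).add_mem ?_ ((J ^ 2).mul_mem_left _ hx)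
          rw [pow_two]
          exact Ideal.mul_mem_mul (hall c) hhx
    · rw [map_add, map_add, add_sub_add_comm]
      exact (J ^ (e + 1 + 1)).add_mem ha hb

end congr

/-- If `f ∈ B` has `A → B_f` smooth, and `φ : A[X] → B` is surjective with kernel inside `(X)^2` and
`1 - f` in the image of `(X)`, then `φ` is injective. -/
theorem injective_of_smooth {A B : Type u} [CommRing A] [CommRing B] [Algebra A B] {σ : Type*}
    (φ : MvPolynomial σ A →ₐ[A] B) (hφ : Function.Surjective φ)
    (hker : RingHom.ker φ ≤ idealOfVars σ A ^ 2) (f : B)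
    (hf : 1 - f ∈ (idealOfVars σ A).map φ) [Algebra.Smooth A (Localization.Away f)] :
    Function.Injective φ := by
  have key : ∀ e : ℕ, RingHom.ker φ ≤ idealOfVars σ A ^ e := by
    intro e
    induction e with
    | zero => simp
    | succ e ih =>
      by_cases he : e < 2
      · exact hker.trans (Ideal.pow_le_pow_right (by omega))
      intro p hp
      let P := MvPolynomial σ A
      let m := idealOfVars σ A
      let R₂ := P ⧸ m ^ 2
      let Q := P ⧸ m ^ (e + 1)
      let r : Q →ₐ[A] R₂ := Ideal.Quotient.factorₐ A (Ideal.pow_le_pow_right (by omega))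
      have hr : Function.Surjective r := fun y => by
        obtain ⟨y, rfl⟩ := Ideal.Quotient.mk_surjective y
        exact ⟨Ideal.Quotient.mk _ y, rfl⟩
      let J : Ideal Q := m.map (Ideal.Quotient.mk _)
      have hJ : J ^ (e + 1) = ⊥ := by rw [← Ideal.map_pow, Ideal.map_quotient_self]
      have hrker : RingHom.ker r ≤ J ^ 2 := by
        intro x hx
        obtain ⟨x, rfl⟩ := Ideal.Quotient.mk_surjective x
        rw [← Ideal.map_pow]
        exact Ideal.mem_map_of_mem _ (Ideal.Quotient.eq_zero_iff_mem.1 (RingHom.mem_ker.1 hx) : x ∈ m ^ 2)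
      have hnil : IsNilpotent (RingHom.ker r) :=
        ⟨e + 1, le_bot_iff.1 ((Ideal.pow_right_mono (hrker.trans (Ideal.pow_le_self two_ne_zero)) _).trans
          hJ.le)⟩
      let g : B →ₐ[A] R₂ := (Ideal.Quotient.liftₐ (RingHom.ker φ) (Ideal.Quotient.mkₐ A (m ^ 2))
          (fun x hx => Ideal.Quotient.eq_zero_iff_mem.2 (hker hx))).comp
        (Ideal.quotientKerAlgEquivOfSurjective hφ).symm.toAlgHom
      have hg : ∀ x, g (φ x) = Ideal.Quotient.mk _ x := fun x => by
        have : (Ideal.quotientKerAlgEquivOfSurjective hφ).symm (φ x) = Ideal.Quotient.mk _ x := by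
          rw [AlgEquiv.symm_apply_eq]; rfl
        simp only [g, AlgHom.comp_apply]
        erw [this]
        rfl
      have hgf : IsUnit (g f) := by
        obtain ⟨y, hy, hy'⟩ := (Ideal.mem_map_iff_of_surjective φ hφ).1 hf
        have h1 : g f = 1 - Ideal.Quotient.mk _ y := by
          rw [← hg y, hy', map_sub, map_one, sub_sub_cancel]
        rw [h1]
        refine IsNilpotent.isUnit_one_sub ⟨2, ?_⟩
        rw [← map_pow]
        exact Ideal.Quotient.eq_zero_iff_mem.2 (Ideal.pow_mem_pow hy 2)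
      let gC : Localization.Away f →ₐ[A] R₂ := IsLocalization.liftAlgHom (M := Submonoid.powers f)
        (f := g) (by rintro ⟨_, n, rfl⟩; rw [map_pow]; exact hgf.pow n)
      let σC : Localization.Away f →ₐ[A] Q := Algebra.FormallySmooth.liftOfSurjective gC r hr hnil
      let τ : P →ₐ[A] Q := σC.comp ((IsScalarTower.toAlgHom A B (Localization.Away f)).comp φ)
      have hτ : ∀ x, r (τ x) = Ideal.Quotient.mk _ x := fun x => by
        show r (σC (algebraMap B (Localization.Away f) (φ x))) = _
        rw [Algebra.FormallySmooth.liftOfSurjective_apply]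
        show IsLocalization.lift _ (algebraMap B (Localization.Away f) (φ x)) = _
        rw [IsLocalization.lift_eq]
        exact hg x
      have hcon : ∀ i, τ (X i) - Ideal.Quotient.mkₐ A (m ^ (e + 1)) (X i) ∈ J ^ 2 := fun i => by
        apply hrker
        rw [RingHom.mem_ker, map_sub, hτ]
        exact sub_self _
      have h0 := sub_mem_pow_succ J τ (Ideal.Quotient.mkₐ A (m ^ (e + 1))) hcon
        (fun i => Ideal.mem_map_of_mem _ (Ideal.subset_span ⟨i, rfl⟩)) e p (ih hp)
      rw [hJ, Ideal.mem_bot, sub_eq_zero] at h0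
      apply Ideal.Quotient.eq_zero_iff_mem.1
      have hτp : τ p = 0 := by
        show σC (algebraMap B (Localization.Away f) (φ p)) = 0
        rw [(RingHom.mem_ker).1 hp, map_zero, map_zero]
      exact h0.symm.trans hτp
  rw [injective_iff_map_eq_zero]
  intro p hp
  ext x
  rw [coeff_zero]
  exact (mem_pow_idealOfVars_iff' (x.degree + 1) p).1 (key _ hp) x (Nat.lt_succ_self _)

section graded

variable {A : Type u} [CommRing A] {B : Type u} [CommRing B] [Algebra A B]
  (𝒜 : ℕ → Submodule A B) [GradedAlgebra 𝒜]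

set_option quotPrecheck false in
local notation "I" => (HomogeneousIdeal.irrelevant 𝒜).toIdeal

theorem proj_mem (d : ℕ) (x : B) : GradedAlgebra.proj 𝒜 d x ∈ 𝒜 d := by
  rw [GradedAlgebra.proj_apply]; exact SetLike.coe_mem _

theorem mem_I_iff (x : B) : x ∈ I ↔ GradedAlgebra.proj 𝒜 0 x = 0 :=
  HomogeneousIdeal.mem_irrelevant_iff 𝒜 x

theorem proj_of_mem {i : ℕ} {x : B} (hx : x ∈ 𝒜 i) (d : ℕ) :
    GradedAlgebra.proj 𝒜 d x = if i = d then x else 0 := by
  rw [GradedAlgebra.proj_apply]
  split_ifs with h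
  · subst h; rw [DirectSum.decompose_of_mem_same 𝒜 hx]
  · rw [DirectSum.decompose_of_mem_ne 𝒜 hx h]

theorem proj_succ_mem_I (d : ℕ) (x : B) : GradedAlgebra.proj 𝒜 (d + 1) x ∈ I :=
  HomogeneousIdeal.mem_irrelevant_of_mem 𝒜 (Nat.succ_pos d) (proj_mem 𝒜 _ x)

theorem proj_mem_sq (d : ℕ) {x : B} (hx : x ∈ I ^ 2) : GradedAlgebra.proj 𝒜 d x ∈ I ^ 2 := by
  have h : (I * I).IsHomogeneous 𝒜 :=
    Ideal.IsHomogeneous.mul (HomogeneousIdeal.irrelevant 𝒜).isHomogeneous
      (HomogeneousIdeal.irrelevant 𝒜).isHomogeneous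
  rw [pow_two] at hx ⊢
  rw [GradedAlgebra.proj_apply]
  exact h d hx

theorem exists_bound (x : B) : ∃ N, ∀ d, N ≤ d → GradedAlgebra.proj 𝒜 d x = 0 := by
  classical
  obtain ⟨N, hN⟩ := (DirectSum.decompose 𝒜 x).support.exists_nat_subset_range
  refine ⟨N, fun d hd => ?_⟩
  by_contra h
  have : d ∈ (DirectSum.decompose 𝒜 x).support := by
    rw [DFinsupp.mem_support_iff]
    intro h0
    exact h (by rw [GradedAlgebra.proj_apply, h0]; rfl)
  exact absurd (Finset.mem_range.1 (hN this)) (not_lt.2 hd)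

theorem sum_proj {N : ℕ} {x : B} (h : ∀ d, N ≤ d → GradedAlgebra.proj 𝒜 d x = 0) :
    ∑ d ∈ Finset.range N, GradedAlgebra.proj 𝒜 d x = x := by
  classical
  conv_rhs => rw [← DirectSum.sum_support_decompose 𝒜 x]
  refine (Finset.sum_subset (fun d hd => Finset.mem_range.2 ?_) (fun d _ hd => ?_)).symm.trans
    (Finset.sum_congr rfl fun d _ => GradedAlgebra.proj_apply 𝒜 d x)
  · by_contra hc
    have h' := h d (not_lt.1 hc)
    rw [GradedAlgebra.proj_apply] at h'
    exact (DFinsupp.mem_support_iff.1 hd) (Subtype.ext h')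
  · rw [DFinsupp.notMem_support_iff] at hd
    rw [GradedAlgebra.proj_apply, hd]; rfl

theorem nonempty_algEquiv (h0 : ∀ b : B, b ∈ 𝒜 0 ↔ b ∈ Set.range (algebraMap A B))
    (hinj : Function.Injective (algebraMap A B)) (f : B) (hf : 1 - f ∈ I)
    [Algebra.Smooth A (Localization.Away f)] {n : ℕ} (β : Module.Basis (Fin n) A (I).Cotangent) :
    Nonempty (B ≃ₐ[A] MvPolynomial (Fin n) A) := by
  classical
  let π : I →ₗ[A] (I).Cotangent := (I).toCotangent.restrictScalars A
  choose x hx using fun i => (I).toCotangent_surjective (β i)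
  let s₀ : (I).Cotangent →ₗ[A] I := β.constr A x
  have hs₀ : ∀ v, π (s₀ v) = v := by
    have : π ∘ₗ s₀ = LinearMap.id := β.ext fun i => by
      show π (β.constr A x (β i)) = β i
      rw [Module.Basis.constr_basis]
      exact hx i
    exact LinearMap.congr_fun this
  choose Ni hNi using fun i => exists_bound 𝒜 (x i : B)
  let N := Finset.univ.sup Ni
  have hN : ∀ v d, N ≤ d → GradedAlgebra.proj 𝒜 d (s₀ v : B) = 0 := by
    intro v d hd
    have : (GradedAlgebra.proj 𝒜 d) ∘ₗ ((I).subtype.restrictScalars A) ∘ₗ s₀ = 0 := β.ext fun i => by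
      show GradedAlgebra.proj 𝒜 d ((β.constr A x (β i) : I) : B) = 0
      rw [Module.Basis.constr_basis]
      exact hNi i d ((Finset.le_sup (Finset.mem_univ i)).trans hd)
    exact LinearMap.congr_fun this v
  let q : ℕ → B →ₗ[A] I := fun d =>
    LinearMap.codRestrict ((I).restrictScalars A) (GradedAlgebra.proj 𝒜 (d + 1)) (proj_succ_mem_I 𝒜 d)
  have hq : ∀ d y, (q d y : B) = GradedAlgebra.proj 𝒜 (d + 1) y := fun d y => rfl
  -- the components of a lift only depend on the class
  have hqcongr : ∀ (d : ℕ) (y z : I), π y = π z → π (q d y) = π (q d z) := by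
    intro d y z h
    refine (Ideal.toCotangent_eq I).2 ?_
    rw [hq, hq, ← map_sub]
    exact proj_mem_sq 𝒜 _ ((Ideal.toCotangent_eq I).1 h)
  let E : ℕ → (I).Cotangent →ₗ[A] B := fun d =>
    (GradedAlgebra.proj 𝒜 (d + 1)) ∘ₗ ((I).subtype.restrictScalars A) ∘ₗ s₀ ∘ₗ π ∘ₗ q d ∘ₗ
      ((I).subtype.restrictScalars A) ∘ₗ s₀
  let s : (I).Cotangent →ₗ[A] B := ∑ d ∈ Finset.range N, E d
  have hs : ∀ v, s v = ∑ d ∈ Finset.range N,
      GradedAlgebra.proj 𝒜 (d + 1) (s₀ (π (q d (s₀ v : B))) : B) := fun v => by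
    simp only [s, LinearMap.sum_apply]
    rfl
  -- `s` on the class of a homogeneous element
  have hhom : ∀ (d : ℕ) (y : B) (hy : y ∈ 𝒜 (d + 1)),
      s (π ⟨y, HomogeneousIdeal.mem_irrelevant_of_mem 𝒜 (Nat.succ_pos d) hy⟩) =
        GradedAlgebra.proj 𝒜 (d + 1)
          (s₀ (π ⟨y, HomogeneousIdeal.mem_irrelevant_of_mem 𝒜 (Nat.succ_pos d) hy⟩) : B) := by
    intro d y hy
    let Y : I := ⟨y, HomogeneousIdeal.mem_irrelevant_of_mem 𝒜 (Nat.succ_pos d) hy⟩
    have hval : ∀ e, π (q e (s₀ (π Y) : B)) = if d = e then π Y else 0 := by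
      intro e
      rw [hqcongr e _ Y (hs₀ _)]
      split_ifs with he
      · subst he
        congr 1
        exact Subtype.ext (by rw [hq, proj_of_mem 𝒜 hy, if_pos rfl])
      · rw [← map_zero π]
        congr 1
        exact Subtype.ext (by rw [hq, proj_of_mem 𝒜 hy, if_neg (by omega)]; rfl)
    show s (π Y) = GradedAlgebra.proj 𝒜 (d + 1) (s₀ (π Y) : B)
    rw [hs]
    by_cases hd : d < N
    · rw [Finset.sum_eq_single_of_mem d (Finset.mem_range.2 hd) fun e _ he => by
        rw [hval, if_neg (Ne.symm he), map_zero, ZeroMemClass.coe_zero, map_zero], hval, if_pos rfl]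
    · rw [Finset.sum_eq_zero fun e he => by
        rw [hval, if_neg (fun h : d = e => hd (h ▸ Finset.mem_range.1 he)), map_zero,
          ZeroMemClass.coe_zero, map_zero],
        hN _ _ (by omega)]
  have hsI : ∀ v, s v ∈ I := fun v => by
    rw [hs]; exact sum_mem fun d _ => proj_succ_mem_I 𝒜 d _
  have hπs : ∀ v, π ⟨s v, hsI v⟩ = v := by
    intro v
    have hdec : (s₀ v) = ∑ d ∈ Finset.range N, q d (s₀ v : B) := by
      apply Subtype.ext
      rw [Submodule.coe_sum]
      simp only [hq]
      have h := sum_proj 𝒜 (N := N + 1) (x := (s₀ v : B)) fun d hd => hN v d (by omega)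
      rw [Finset.sum_range_succ', (mem_I_iff 𝒜 _).1 (s₀ v).2, add_zero] at h
      exact h.symm
    have hval : (⟨s v, hsI v⟩ : I) = ∑ d ∈ Finset.range N, q d (s₀ (π (q d (s₀ v : B))) : B) := by
      apply Subtype.ext
      rw [Submodule.coe_sum]
      exact hs v
    rw [hval, map_sum]
    conv_rhs => rw [← hs₀ v, hdec, map_sum]
    refine Finset.sum_congr rfl fun d _ => ?_
    rw [hqcongr d _ (q d (s₀ v : B)) (hs₀ _)]
    congr 1
    exact Subtype.ext (by rw [hq, hq, proj_of_mem 𝒜 (proj_mem 𝒜 _ _), if_pos rfl])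
  let φ : MvPolynomial (Fin n) A →ₐ[A] B := MvPolynomial.aeval fun i => s (β i)
  have hsφ : ∀ v, s v ∈ φ.range := by
    intro v
    rw [← β.sum_repr v, map_sum]
    refine sum_mem fun i _ => ?_
    rw [map_smul]
    exact φ.range.smul_mem ⟨X i, MvPolynomial.aeval_X _ i⟩ _
  have hlow : ∀ d, ∀ y ∈ 𝒜 d, y ∈ φ.range := by
    intro d
    induction d using Nat.strong_induction_on with
    | _ d ih =>
      intro y hy
      cases d with
      | zero =>
        obtain ⟨a, rfl⟩ := (h0 y).1 hy
        exact φ.range.algebraMap_mem a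
      | succ d =>
        let Y : I := ⟨y, HomogeneousIdeal.mem_irrelevant_of_mem 𝒜 (Nat.succ_pos d) hy⟩
        have hdiff : y - s (π Y) ∈ I ^ 2 :=
          (Ideal.toCotangent_eq I (x := Y) (y := ⟨s (π Y), hsI _⟩)).1 (hπs (π Y)).symm
        have hz : ∀ z ∈ I ^ 2, GradedAlgebra.proj 𝒜 (d + 1) z ∈ φ.range := by
          intro z hz
          rw [pow_two] at hz
          refine Submodule.mul_induction_on hz (fun a ha b hb => ?_) fun a b ha hb => by
            rw [map_add]; exact add_mem ha hb
          obtain ⟨Na, hNa⟩ := exists_bound 𝒜 a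
          obtain ⟨Nb, hNb⟩ := exists_bound 𝒜 b
          rw [← sum_proj 𝒜 hNa, ← sum_proj 𝒜 hNb, Finset.sum_mul_sum, map_sum]
          refine sum_mem fun i _ => ?_
          rw [map_sum]
          refine sum_mem fun j _ => ?_
          rw [proj_of_mem 𝒜 (SetLike.mul_mem_graded (proj_mem 𝒜 i a) (proj_mem 𝒜 j b))]
          split_ifs with hij
          · rcases Nat.eq_zero_or_pos i with rfl | hi
            · rw [(mem_I_iff 𝒜 a).1 ha, zero_mul]; exact zero_mem _
            rcases Nat.eq_zero_or_pos j with rfl | hj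
            · rw [(mem_I_iff 𝒜 b).1 hb, mul_zero]; exact zero_mem _
            exact mul_mem (ih i (by omega) _ (proj_mem 𝒜 i a)) (ih j (by omega) _ (proj_mem 𝒜 j b))
          · exact zero_mem _
        have h1 := hz _ hdiff
        have hst : s (π Y) ∈ 𝒜 (d + 1) := by rw [hhom d y hy]; exact proj_mem 𝒜 _ _
        rw [map_sub, proj_of_mem 𝒜 hy, if_pos rfl, proj_of_mem 𝒜 hst, if_pos rfl] at h1
        have := add_mem h1 (hsφ (π Y))
        rwa [sub_add_cancel] at this
  have hφ : Function.Surjective φ := fun y => by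
    obtain ⟨Ny, hNy⟩ := exists_bound 𝒜 y
    have : y ∈ φ.range := by
      rw [← sum_proj 𝒜 hNy]
      exact sum_mem fun d _ => hlow d _ (proj_mem 𝒜 d y)
    exact this
  have hvar : (idealOfVars (Fin n) A).map φ ≤ I := by
    rw [idealOfVars, Ideal.map_span, Ideal.span_le]
    rintro _ ⟨_, ⟨i, rfl⟩, rfl⟩
    rw [MvPolynomial.aeval_X]
    exact hsI _
  -- every element of `I` comes from `(X)`
  have hC : ∀ p : MvPolynomial (Fin n) A, φ p ∈ I → p ∈ idealOfVars (Fin n) A := by
    intro p hp
    have h1 : p - C (coeff 0 p) ∈ idealOfVars (Fin n) A := by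
      rw [← pow_one (idealOfVars (Fin n) A), mem_pow_idealOfVars_iff']
      intro m hm
      have : m = 0 := by rwa [Nat.lt_one_iff, Finsupp.degree_eq_zero_iff] at hm
      subst this
      simp
    have h2 : algebraMap A B (coeff 0 p) ∈ I := by
      have h3 := (I).sub_mem hp (hvar (Ideal.mem_map_of_mem φ h1))
      rwa [map_sub, sub_sub_cancel, ← MvPolynomial.algebraMap_eq, AlgHom.commutes] at h3
    rw [mem_I_iff, proj_of_mem 𝒜 ((h0 _).2 ⟨_, rfl⟩), if_pos rfl,
      map_eq_zero_iff _ hinj] at h2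
    rwa [h2, map_zero, sub_zero] at h1
  have hker : RingHom.ker φ ≤ idealOfVars (Fin n) A ^ 2 := by
    intro p hp
    rw [RingHom.mem_ker] at hp
    have hp1 : p ∈ idealOfVars (Fin n) A := hC p (by rw [hp]; exact zero_mem _)
    let lin : MvPolynomial (Fin n) A := ∑ i, coeff (Finsupp.single i 1) p • X i
    have hrest : p - lin ∈ idealOfVars (Fin n) A ^ 2 := by
      rw [mem_pow_idealOfVars_iff']
      intro m hm
      rcases Nat.lt_succ_iff_lt_or_eq.1 hm with hm | hm
      · have hp1' : p ∈ idealOfVars (Fin n) A ^ 1 := by rwa [pow_one]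
        rw [Nat.lt_one_iff, Finsupp.degree_eq_zero_iff] at hm
        subst hm
        rw [coeff_sub, (mem_pow_idealOfVars_iff' 1 p).1 hp1' 0 (by simp), zero_sub, neg_eq_zero]
        simp only [lin, coeff_sum, coeff_smul, coeff_zero_X, smul_zero, Finset.sum_const_zero]
      · obtain ⟨i, rfl⟩ := Finsupp.range_single_one.ge hm
        simp only [lin, coeff_sub, coeff_sum, coeff_smul, coeff_X', smul_eq_mul]
        rw [Finset.sum_eq_single i (fun j _ hj => by
          rw [if_neg (by simpa [Finsupp.single_left_inj] using hj), mul_zero]) (by simp)]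
        simp
    have hsq : s (∑ i, coeff (Finsupp.single i 1) p • β i) ∈ I ^ 2 := by
      have h1 : φ lin ∈ I ^ 2 := by
        have h2 := Ideal.mem_map_of_mem φ hrest
        rw [map_sub, hp, zero_sub] at h2
        exact neg_mem_iff.1 ((Ideal.map_pow φ _ 2).le.trans (Ideal.pow_right_mono hvar 2) h2)
      simpa only [lin, φ, map_sum, map_smul, MvPolynomial.aeval_X] using h1
    have hzero : (∑ i, coeff (Finsupp.single i 1) p • β i) = 0 := by
      rw [← hπs (∑ i, coeff (Finsupp.single i 1) p • β i)]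
      exact (Ideal.toCotangent_eq_zero I _).2 hsq
    have hcoef : ∀ i, coeff (Finsupp.single i 1) p = 0 :=
      fun i => Fintype.linearIndependent_iff.1 β.linearIndependent _ hzero i
    have : lin = 0 := Finset.sum_eq_zero fun i _ => by rw [hcoef i, zero_smul]
    rwa [this, sub_zero] at hrest
  have hinjφ : Function.Injective φ := by
    obtain ⟨p, hp⟩ := hφ (1 - f)
    refine injective_of_smooth φ hφ hker f ?_
    rw [← hp]
    exact Ideal.mem_map_of_mem φ (hC p (by rw [hp]; exact hf))
  exact ⟨(AlgEquiv.ofBijective φ ⟨hinjφ, hφ⟩).symm⟩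

end graded

end Groth.Agent.H21.BBGraded
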