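import Groth.Agent.H21.SquareIndex
import Groth.Agent.Lib.PBasis.Separable

/-!
# Cartier's equality for a square of fields
-/

set_option autoImplicit false

universe u

open TensorProduct

namespace Groth.Agent.H21.CartierSquare

open Algebra MvPolynomial Groth.Agent.Lib.PBasis.Cartier

theorem δ_injective_of {P : Type*} [CommRing P] {k K : Type u} [Field k] [Field K] [Algebra k K]
    [Algebra P k] [Algebra P K] [IsScalarTower P k K] [Algebra.FormallySmooth P K] :
    Function.Injective (H1Cotangent.δ ℤ k K) := by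
  rw [injective_iff_map_eq_zero]
  intro y hy
  obtain ⟨z, rfl⟩ := (H1Cotangent.exact_map_δ ℤ k K y).1 hy
  have : (H1Cotangent.map ℤ k K K) z = H1Cotangent.map P k K K (H1Cotangent.map ℤ P K K z) := by
    simp only [H1Cotangent.map, ← Extension.H1Cotangent.map_comp_apply]
    rw [Extension.H1Cotangent.map_eq]
  rw [this, Subsingleton.elim (H1Cotangent.map ℤ P K K z) 0, map_zero]

theorem δ_injective {k K : Type u} [Field k] [Field K] [Algebra k K] :
    Function.Injective (H1Cotangent.δ ℤ k K) := by
  obtain h | ⟨p, hp, hpk⟩ := CharP.exists' k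
  · haveI : CharZero K := charZero_of_injective_algebraMap (algebraMap k K).injective
    letI : Algebra ℚ k := DivisionRing.toRatAlgebra
    letI : Algebra ℚ K := DivisionRing.toRatAlgebra
    haveI : IsScalarTower ℚ k K := IsScalarTower.of_algebraMap_eq' (RingHom.ext_rat _ _)
    haveI := Lib.PBasis.Separable.formallySmooth_of_charZero ℚ K
    exact δ_injective_of (P := ℚ)
  · haveI : CharP K p := charP_of_injective_algebraMap (algebraMap k K).injective p
    let P := ULift.{u} (ZMod p)
    letI : Algebra P k :=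
      ((ZMod.castHom (dvd_refl p) k).comp (ULift.ringEquiv : P ≃+* ZMod p).toRingHom).toAlgebra
    letI : Algebra P K := ((algebraMap k K).comp (algebraMap P k)).toAlgebra
    haveI : IsScalarTower P k K := IsScalarTower.of_algebraMap_eq' rfl
    haveI : CharP P p := charP_of_injective_ringHom
      (f := (ULift.ringEquiv : P ≃+* ZMod p).symm.toRingHom) (RingEquiv.injective _) p
    haveI : Finite P := Finite.of_equiv (ZMod p) Equiv.ulift.symm
    haveI : PerfectRing P p := PerfectRing.ofFiniteOfIsReduced p P
    haveI := Lib.PBasis.Separable.formallySmooth_of_perfect_charP K p P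
    exact δ_injective_of (P := P)

variable {k k' K K' : Type u} [Field k] [Field k'] [Field K] [Field K'] [Algebra k k'] [Algebra k K]
  [Algebra k K'] [Algebra k' K'] [Algebra K K'] [IsScalarTower k k' K'] [IsScalarTower k K K']

variable (k k' K') in
/-- `K' ⊗ Ω_k → K' ⊗ Ω_k'`. -/
noncomputable def bot : K' ⊗[k] Ω[k⁄ℤ] →ₗ[K'] K' ⊗[k'] Ω[k'⁄ℤ] :=
  (KaehlerDifferential.mapBaseChange ℤ k k').baseChange K' ∘ₗ
    (AlgebraTensorModule.cancelBaseChange k k' K' K' (Ω[k⁄ℤ])).symm.toLinearMap

theorem bot_tmul (y : K') (ω : Ω[k⁄ℤ]) :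
    bot k k' K' (y ⊗ₜ ω) = y ⊗ₜ KaehlerDifferential.map ℤ ℤ k k' ω := by
  simp only [bot, LinearMap.comp_apply, LinearEquiv.coe_coe,
    AlgebraTensorModule.cancelBaseChange_symm_tmul, LinearMap.baseChange_tmul,
    KaehlerDifferential.mapBaseChange_tmul, one_smul]

variable (k k' K K') in
/-- Functoriality of generators. -/
noncomputable def hom : Generators.Hom (Generators.self k K) (Generators.self k' K') :=
  ⟨fun l => X (algebraMap K K' l), fun l => aeval_X _ _⟩

theorem δAux_hom (q : MvPolynomial K k) :
    Generators.H1Cotangent.δAux ℤ (Generators.self k' K') ((hom k k' K K').toAlgHom q) =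
      bot k k' K' (AlgebraTensorModule.cancelBaseChange k K K' K' (Ω[k⁄ℤ])
        ((1 : K') ⊗ₜ Generators.H1Cotangent.δAux ℤ (Generators.self k K) q)) := by
  induction q using MvPolynomial.induction_on' with
  | monomial n r =>
    rw [Generators.H1Cotangent.δAux_monomial, Generators.Hom.toAlgHom_monomial]
    have : r • (n.prod fun i e => (hom k k' K K').val i ^ e) =
        monomial (n.mapDomain (algebraMap K K')) (algebraMap k k' r) := by
      rw [monomial_eq, Finsupp.prod_mapDomain_index (by simp) (fun _ _ _ => by rw [pow_add]),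
        Algebra.smul_def]
      rfl
    rw [this, Generators.H1Cotangent.δAux_monomial, AlgebraTensorModule.cancelBaseChange_tmul,
      bot_tmul, KaehlerDifferential.map_D]
    congr 1
    rw [Finsupp.prod_mapDomain_index (by simp) (fun _ _ _ => by rw [pow_add]), Algebra.smul_def,
      mul_one, map_finsuppProd]
    exact Finsupp.prod_congr fun i _ => (map_pow (algebraMap K K') i _).symm
  | add a b ha hb =>
    rw [map_add, map_add, ha, hb, map_add, tmul_add, map_add, map_add]

set_option backward.isDefEq.respectTransparency false in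
theorem δ_natural (x : H1Cotangent k K) :
    H1Cotangent.δ ℤ k' K' (H1Cotangent.map k k' K K' x) =
      bot k k' K' (AlgebraTensorModule.cancelBaseChange k K K' K' (Ω[k⁄ℤ])
        ((1 : K') ⊗ₜ H1Cotangent.δ ℤ k K x)) := by
  obtain ⟨x, hx⟩ := x
  obtain ⟨⟨q, hq⟩, rfl⟩ := Extension.Cotangent.mk_surjective x
  show H1Cotangent.δ ℤ k' K' (Extension.H1Cotangent.map _ ⟨_, hx⟩) = _
  rw [Extension.H1Cotangent.map_eq _ (hom k k' K K').toExtensionHom]
  show Generators.H1Cotangent.δ _ _ ⟨_, _⟩ =
    bot k k' K' (AlgebraTensorModule.cancelBaseChange k K K' K' (Ω[k⁄ℤ])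
      ((1 : K') ⊗ₜ Generators.H1Cotangent.δ _ _ ⟨_, hx⟩))
  simp only [LinearMap.domRestrict_apply, Extension.Cotangent.map_mk]
  rw [Generators.H1Cotangent.δ_eq_δAux, Generators.H1Cotangent.δ_eq_δAux]
  exact δAux_hom q

theorem map_map {R S A B : Type u} [CommRing R] [CommRing S] [CommRing A] [CommRing B]
    [Algebra R S] [Algebra R A] [Algebra R B] [Algebra S B] [Algebra A B]
    [IsScalarTower R S B] [IsScalarTower R A B] (ω : Ω[R⁄ℤ]) :
    KaehlerDifferential.map ℤ ℤ S B (KaehlerDifferential.map ℤ ℤ R S ω) =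
      KaehlerDifferential.map ℤ ℤ A B (KaehlerDifferential.map ℤ ℤ R A ω) := by
  have h : (KaehlerDifferential.map ℤ ℤ S B).restrictScalars R ∘ₗ KaehlerDifferential.map ℤ ℤ R S =
      (KaehlerDifferential.map ℤ ℤ A B).restrictScalars R ∘ₗ KaehlerDifferential.map ℤ ℤ R A :=
    Derivation.liftKaehlerDifferential_unique _ _ (Derivation.ext fun b => by
      simp [← IsScalarTower.algebraMap_apply])
  exact LinearMap.congr_fun h ω

theorem map_map' {S A B : Type u} [CommRing S] [CommRing A] [CommRing B] {R : Type u} [CommRing R]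
    [Algebra R S] [Algebra R A] [Algebra R B] [Algebra S B] [Algebra A B]
    [IsScalarTower R S B] [IsScalarTower R A B] (ω : Ω[A⁄ℤ]) :
    KaehlerDifferential.map ℤ S B B (KaehlerDifferential.map ℤ ℤ A B ω) =
      KaehlerDifferential.map R S A B (KaehlerDifferential.map ℤ R A A ω) := by
  have h : (KaehlerDifferential.map ℤ S B B).restrictScalars A ∘ₗ KaehlerDifferential.map ℤ ℤ A B =
      KaehlerDifferential.map R S A B ∘ₗ KaehlerDifferential.map ℤ R A A :=
    Derivation.liftKaehlerDifferential_unique _ _ (Derivation.ext fun b => by simp)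
  exact LinearMap.congr_fun h ω

theorem main [Algebra.EssFiniteType k k'] [Algebra.EssFiniteType K K'] :
    ∃ nb na : ℤ, Good ((H1Cotangent.map k k' K K').liftBaseChange K') nb ∧
      Good ((KaehlerDifferential.map k k' K K').liftBaseChange K') na ∧
      na - nb = (Cardinal.toNat (Algebra.trdeg k k') : ℤ) - Cardinal.toNat (Algebra.trdeg K K') := by
  let c := AlgebraTensorModule.cancelBaseChange k K K' K' (Ω[k⁄ℤ])
  let f₁ := (KaehlerDifferential.mapBaseChange ℤ k K).baseChange K' ∘ₗ c.symm.toLinearMap
  let j₁ := c.toLinearMap ∘ₗ (H1Cotangent.δ ℤ k K).baseChange K'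
  let q₁ := (KaehlerDifferential.map ℤ k K K).baseChange K'
  have hu : Good (bot k k' K') (-(Cardinal.toNat (Algebra.trdeg k k') : ℤ)) := by
    have := ((hasIndex_trdeg (K := k) (L := k')).baseChange (M := K')).comp
      (Good.of_bijective (AlgebraTensorModule.cancelBaseChange k k' K' K' (Ω[k⁄ℤ])).symm.bijective)
    rwa [add_zero] at this
  have hv : Good (KaehlerDifferential.mapBaseChange ℤ K K') _ := hasIndex_trdeg (K := K) (L := K')
  have hj₁ : Function.Injective j₁ := c.injective.comp
    (Module.Flat.lTensor_preserves_injective_linearMap _ δ_injective)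
  have hq₁ : Function.Surjective q₁ :=
    LinearMap.lTensor_surjective K' (KaehlerDifferential.map_surjective ℤ k K)
  have e₁ : Function.Exact j₁ f₁ :=
    (LinearEquiv.conj_exact_iff_exact _ _ c).2
      (Module.Flat.lTensor_exact K' (H1Cotangent.exact_δ_mapBaseChange ℤ k K))
  have e₁' : Function.Exact f₁ q₁ := c.symm.surjective.comp_exact_iff_exact.2
      (Module.Flat.lTensor_exact K' (KaehlerDifferential.exact_mapBaseChange_map ℤ k K))
  have h₁ : (H1Cotangent.δ ℤ k' K').comp ((H1Cotangent.map k k' K K').liftBaseChange K') =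
      (bot k k' K').comp j₁ := by
    refine AlgebraTensorModule.ext fun x h => ?_
    simp only [j₁, c, LinearMap.comp_apply, LinearMap.liftBaseChange_tmul, LinearEquiv.coe_coe,
      LinearMap.baseChange_tmul, map_smul, δ_natural]
    rw [← map_smul, ← map_smul, smul_tmul', smul_eq_mul, mul_one]
  have h₂ : (KaehlerDifferential.mapBaseChange ℤ k' K').comp (bot k k' K') =
      (KaehlerDifferential.mapBaseChange ℤ K K').comp f₁ := by
    refine AlgebraTensorModule.ext fun x ω => ?_
    simp only [f₁, c, LinearMap.comp_apply, LinearEquiv.coe_coe,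
      AlgebraTensorModule.cancelBaseChange_symm_tmul, LinearMap.baseChange_tmul, bot_tmul,
      KaehlerDifferential.mapBaseChange_tmul, one_smul]
    rw [map_map (A := K)]
  have h₃ : (KaehlerDifferential.map ℤ k' K' K').comp (KaehlerDifferential.mapBaseChange ℤ K K') =
      ((KaehlerDifferential.map k k' K K').liftBaseChange K').comp q₁ := by
    refine AlgebraTensorModule.ext fun x ω => ?_
    simp only [q₁, LinearMap.comp_apply, LinearMap.baseChange_tmul,
      LinearMap.liftBaseChange_tmul, KaehlerDifferential.mapBaseChange_tmul, map_smul]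
    rw [map_map' (R := k)]
  obtain ⟨nb, na, hb, ha, hn⟩ := SquareIndex.square hj₁ hq₁ δ_injective
    (KaehlerDifferential.map_surjective ℤ k' K') e₁ e₁'
    (H1Cotangent.exact_δ_mapBaseChange ℤ k' K') (KaehlerDifferential.exact_mapBaseChange_map ℤ k' K')
    h₁ h₂ h₃ hu hv
  exact ⟨nb, na, hb, ha, by omega⟩

end Groth.Agent.H21.CartierSquare
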