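import Groth.Agent.H21.CotangentPoly
import Mathlib.RingTheory.Localization.Module

/-!
# Comparing conormal modules of presentations
-/

set_option autoImplicit false

universe u

open Algebra MvPolynomial

namespace Groth.Agent.H21.CotangentCompare

open Groth.Agent.H21.CotangentPoly

variable {R S : Type u} [CommRing R] [CommRing S] [Algebra R S] {σ τ : Type} [Finite σ] [Finite τ]

/-- `Extension.ofSurjective`, reducibly. -/
noncomputable abbrev ext {P : Type u} [CommRing P] [Algebra R P] (f : P →ₐ[R] S)
    (h : Function.Surjective f) : Extension.{u} R S where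
  Ring := P
  algebra₂ := f.toAlgebra
  isScalarTower := letI := f.toAlgebra; IsScalarTower.of_algebraMap_eq' f.comp_algebraMap.symm
  σ x := (h x).choose
  algebraMap_σ x := (h x).choose_spec

/-- The values of a presentation on the variables. -/
noncomputable abbrev vals (α : MvPolynomial σ R →ₐ[R] S) : σ → S := fun i => α (X i)

/-- Exchanging two families of variables. -/
theorem nonempty_swap (α : MvPolynomial σ R →ₐ[R] S) (hα : Function.Surjective α)
    (β : MvPolynomial τ R →ₐ[R] S) (hβ : Function.Surjective β) :
    Nonempty ((poly (ext α hα) (vals β)).Cotangent ≃ₗ[S]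
      (poly (ext β hβ) (vals α)).Cotangent) := by
  let e := commAlgEquiv R τ σ
  let f : (poly (ext α hα) (vals β)).Hom (poly (ext β hβ) (vals α)) :=
    ⟨e.toRingEquiv.toRingHom, fun r => e.commutes r, fun x => by
      letI : Algebra (MvPolynomial σ R) S := α.toRingHom.toAlgebra
      letI : Algebra (MvPolynomial τ R) S := β.toRingHom.toAlgebra
      show MvPolynomial.aeval (vals α) (e x) = MvPolynomial.aeval (vals β) x
      induction x using MvPolynomial.induction_on with
      | C p =>
        rw [MvPolynomial.aeval_C, commAlgEquiv_C]
        show _ = α p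
        induction p using MvPolynomial.induction_on with
        | C r =>
          rw [MvPolynomial.map_C, MvPolynomial.aeval_C]
          show β (MvPolynomial.C r) = α (MvPolynomial.C r)
          exact (β.commutes r).trans (α.commutes r).symm
        | add p q hp hq => simp only [map_add, hp, hq]
        | mul_X p i hp => rw [map_mul, map_mul, hp, MvPolynomial.map_X, MvPolynomial.aeval_X, map_mul]
      | add p q hp hq => simp only [map_add, hp, hq]
      | mul_X p i hp =>
        rw [map_mul, map_mul, hp, commAlgEquiv_X, MvPolynomial.aeval_C, map_mul, MvPolynomial.aeval_X]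
        rfl⟩
  refine nonempty_equiv_of_units f ⊥ ?_ fun m hm => by
    rw [Submonoid.mem_bot.1 hm, map_one]
    exact isUnit_one
  letI := f.toRingHom.toAlgebra
  haveI : IsLocalization (⊥ : Submonoid (MvPolynomial τ (MvPolynomial σ R))) (MvPolynomial τ (MvPolynomial σ R)) :=
    IsLocalization.self bot_le
  exact IsLocalization.isLocalization_of_algEquiv ⊥
    (AlgEquiv.ofRingEquiv (f := e.toRingEquiv) fun x => rfl)

/-- Two presentations have stably isomorphic conormal modules. -/
theorem nonempty_compare (α : MvPolynomial σ R →ₐ[R] S) (hα : Function.Surjective α)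
    (β : MvPolynomial τ R →ₐ[R] S) (hβ : Function.Surjective β) :
    Nonempty (((Extension.ofSurjective α hα).Cotangent × (τ → S)) ≃ₗ[S]
      ((Extension.ofSurjective β hβ).Cotangent × (σ → S))) := by
  show Nonempty (((ext α hα).Cotangent × (τ → S)) ≃ₗ[S] ((ext β hβ).Cotangent × (σ → S)))
  obtain ⟨e₁⟩ := nonempty_poly_equiv (ext α hα) (vals β)
  obtain ⟨e₂⟩ := nonempty_swap α hα β hβ
  obtain ⟨e₃⟩ := nonempty_poly_equiv (ext β hβ) (vals α)
  exact ⟨(e₁.symm.trans e₂).trans e₃⟩

section Away

variable (g : S) (α : MvPolynomial σ R →ₐ[R] S) (hα : Function.Surjective α)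
  (β : MvPolynomial τ R →ₐ[R] Localization.Away g) (hβ : Function.Surjective β)

/-- The presentations of `S` and of `S_g` after localizing. -/
theorem nonempty_compare_away :
    Nonempty ((LocalizedModule (Submonoid.powers g) (Extension.ofSurjective α hα).Cotangent ×
        (τ → Localization.Away g)) ≃ₗ[Localization.Away g]
      ((Extension.ofSurjective β hβ).Cotangent × (σ → Localization.Away g))) := by
  show Nonempty ((LocalizedModule (Submonoid.powers g) (ext α hα).Cotangent ×
        (τ → Localization.Away g)) ≃ₗ[Localization.Away g]
      ((ext β hβ).Cotangent × (σ → Localization.Away g)))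
  let N := Submonoid.powers g
  letI : Algebra (MvPolynomial σ R) S := α.toRingHom.toAlgebra
  let E₁ := ext α hα
  let E₂ := ext β hβ
  let M : Submonoid (MvPolynomial σ R) := N.comap (algebraMap (MvPolynomial σ R) S)
  have hM : ∀ y : M, IsUnit (((IsScalarTower.toAlgHom R S (Localization.Away g)).comp α) y) :=
    fun y => IsLocalization.map_units (Localization.Away g) (⟨α y, y.2⟩ : N)
  let E₃ : Extension R (Localization.Away g) := ext (IsLocalization.liftAlgHom (A := R) (M := M) (S := Localization M) hM)
    fun t => ⟨(E₁.localization N (S' := Localization.Away g)).σ t, by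
      exact ((E₁.localization N (S' := Localization.Away g)).algebraMap_σ t :)⟩
  let f₁ : E₁.Hom E₃ := ⟨algebraMap E₁.Ring (Localization M), fun r => rfl, fun x => by
    show IsLocalization.lift _ (algebraMap E₁.Ring (Localization M) x) = _
    rw [IsLocalization.lift_eq]
    rfl⟩
  have hMN : M.map (algebraMap E₁.Ring S) = N := Submonoid.map_comap_eq_of_surjective hα N
  have hloc : letI := f₁.toRingHom.toAlgebra; IsLocalization M E₃.Ring := by
    have h : f₁.toRingHom.toAlgebra = (inferInstance : Algebra (MvPolynomial σ R) (Localization M)) :=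
      Algebra.algebra_ext _ _ fun _ => rfl
    exact h ▸ Localization.isLocalization
  letI : Algebra (MvPolynomial τ R) (Localization.Away g) := E₂.algebra₂
  letI : Algebra (Localization M) (Localization.Away g) := E₃.algebra₂
  haveI := isLocalizedModule (T := Localization.Away g) f₁ M N hloc hMN
  let e₀ : LocalizedModule N E₁.Cotangent ≃ₗ[(Localization.Away g)] E₃.Cotangent :=
    (IsLocalizedModule.iso N (Extension.Cotangent.map f₁)).extendScalarsOfIsLocalization N (Localization.Away g)
  -- flattened presentation of `(Localization.Away g)`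
  letI : Algebra (MvPolynomial σ R) (Localization.Away g) := ((algebraMap S (Localization.Away g)).comp α.toRingHom).toAlgebra
  let s : τ → (Localization.Away g) := vals β
  let s' : σ → (Localization.Away g) := fun i => algebraMap S (Localization.Away g) (α (X i))
  let γ : MvPolynomial τ (MvPolynomial σ R) →+* (Localization.Away g) := (MvPolynomial.aeval s).toRingHom
  let e := commAlgEquiv R τ σ
  have hsq : ∀ x, MvPolynomial.aeval s' (e x : MvPolynomial σ E₂.Ring) = γ x := fun x => by
    letI : Algebra (MvPolynomial τ R) (Localization.Away g) := β.toRingHom.toAlgebra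
    show MvPolynomial.aeval s' (e x) = MvPolynomial.aeval s x
    induction x using MvPolynomial.induction_on with
    | C p =>
      rw [MvPolynomial.aeval_C, commAlgEquiv_C]
      show _ = algebraMap S (Localization.Away g) (α p)
      induction p using MvPolynomial.induction_on with
      | C r =>
        rw [MvPolynomial.map_C, MvPolynomial.aeval_C]
        show β (MvPolynomial.C r) = algebraMap S (Localization.Away g) (α (MvPolynomial.C r))
        rw [show MvPolynomial.C r = algebraMap R (MvPolynomial τ R) r from rfl, β.commutes,
          show MvPolynomial.C r = algebraMap R (MvPolynomial σ R) r from rfl, α.commutes,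
          ← IsScalarTower.algebraMap_apply]
      | add p q hp hq => simp only [map_add, hp, hq]
      | mul_X p i hp =>
        rw [map_mul, map_mul, hp, MvPolynomial.map_X, MvPolynomial.aeval_X, map_mul, map_mul]
    | add p q hp hq => simp only [map_add, hp, hq]
    | mul_X p i hp =>
      rw [map_mul, map_mul, hp, commAlgEquiv_X, MvPolynomial.aeval_C, map_mul, MvPolynomial.aeval_X]
      rfl
  let G := poly E₂ s'
  letI : Algebra (MvPolynomial σ (MvPolynomial τ R)) (Localization.Away g) := G.algebra₂
  let φ : G.Ring →+* MvPolynomial τ E₃.Ring :=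
    (MvPolynomial.map (algebraMap E₁.Ring (Localization M))).comp e.symm.toRingEquiv.toRingHom
  let f₂ : G.Hom (poly E₃ s) := ⟨φ, fun r => by
      show MvPolynomial.map _ (e.symm (algebraMap R _ r)) = MvPolynomial.C (algebraMap R E₃.Ring r)
      rw [e.symm.commutes]
      exact MvPolynomial.map_C _ _, fun x => by
      show MvPolynomial.aeval s (MvPolynomial.map (algebraMap E₁.Ring (Localization M)) (e.symm x)) =
        MvPolynomial.aeval s' x
      conv_rhs => rw [← e.apply_symm_apply x]
      rw [hsq]
      generalize e.symm x = y
      show _ = MvPolynomial.aeval s y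
      induction y using MvPolynomial.induction_on with
      | C p =>
        rw [MvPolynomial.map_C, MvPolynomial.aeval_C, MvPolynomial.aeval_C]
        exact f₁.algebraMap_toRingHom p
      | add p q hp hq => simp only [map_add, hp, hq]
      | mul_X p i hp => simp only [map_mul, hp, MvPolynomial.map_X, MvPolynomial.aeval_X]⟩
  let M' : Submonoid G.Ring := (M.map MvPolynomial.C).map e.toRingEquiv.toRingHom
  have hu : ∀ m ∈ M', IsUnit (algebraMap G.Ring (Localization.Away g) m) := by
    rintro _ ⟨_, ⟨m, hm, rfl⟩, rfl⟩
    show IsUnit (MvPolynomial.aeval s' (e (MvPolynomial.C m)))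
    rw [hsq]
    show IsUnit (MvPolynomial.aeval s (MvPolynomial.C m))
    rw [MvPolynomial.aeval_C]
    exact IsLocalization.map_units (Localization.Away g) (⟨algebraMap E₁.Ring S m, hm⟩ : N)
  have hloc' : letI := f₂.toRingHom.toAlgebra; IsLocalization M' (poly E₃ s).Ring := by
    letI : Algebra (MvPolynomial τ E₁.Ring) (MvPolynomial τ (Localization M)) :=
      MvPolynomial.algebraMvPolynomial
    haveI : IsLocalization (M.map (MvPolynomial.C (σ := τ))) (MvPolynomial τ (Localization M)) :=
      MvPolynomial.isLocalization M (Localization M)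
    exact IsLocalization.isLocalization_of_base_ringEquiv (M.map (MvPolynomial.C (σ := τ)))
      (MvPolynomial τ (Localization M)) e.toRingEquiv
  obtain ⟨e₂⟩ := nonempty_poly_equiv E₂ s'
  obtain ⟨e₃⟩ := nonempty_equiv_of_units f₂ M' hloc' hu
  obtain ⟨e₄⟩ := nonempty_poly_equiv E₃ s
  exact ⟨((e₀.prodCongr (LinearEquiv.refl (Localization.Away g) _)).trans e₄.symm).trans (e₃.symm.trans e₂)⟩

end Away

end Groth.Agent.H21.CotangentCompare
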