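import Mathlib.RingTheory.Extension.Cotangent.Basic
import Mathlib.RingTheory.MvPolynomial.Localization
import Mathlib.Algebra.MvPolynomial.PDeriv
import Mathlib.RingTheory.Localization.Ideal

/-!
# Conormal modules: adding variables and localizing
-/

set_option autoImplicit false

universe u v w t

open Algebra

namespace Groth.Agent.H21.CotangentPoly

section Localization

variable {R : Type u} {S : Type v} {T : Type v} [CommRing R] [CommRing S] [CommRing T]
  [Algebra R S] [Algebra R T] [Algebra S T] [IsScalarTower R S T]
  {E E' : Extension.{w} R S} {E'' : Extension.{t} R T}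

/-- Conormal modules commute with localization of extensions. -/
theorem isLocalizedModule (f : E.Hom E'') (M : Submonoid E.Ring) (N : Submonoid S)
    [IsLocalization N T]
    (hM : letI := f.toRingHom.toAlgebra; IsLocalization M E''.Ring)
    (hN : M.map (algebraMap E.Ring S) = N) :
    IsLocalizedModule N (Extension.Cotangent.map f) := by
  letI : Algebra E.Ring E''.Ring := f.toRingHom.toAlgebra
  haveI : IsLocalization M E''.Ring := hM
  have hker : E''.ker = E.ker.map (algebraMap E.Ring E''.Ring) := by
    refine le_antisymm (fun x hx => ?_) (Ideal.map_le_iff_le_comap.2 fun a ha => ?_)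
    · obtain ⟨⟨a, m⟩, ham⟩ := IsLocalization.surj M x
      have h0 : algebraMap S T (algebraMap E.Ring S a) = 0 := by
        rw [← f.algebraMap_toRingHom]
        show algebraMap E''.Ring T (algebraMap E.Ring E''.Ring a) = 0
        rw [← ham, map_mul, show algebraMap E''.Ring T x = 0 from hx, zero_mul]
      obtain ⟨⟨n, hn⟩, hna⟩ := (IsLocalization.map_eq_zero_iff N T _).1 h0
      rw [← hN] at hn
      obtain ⟨m', hm', rfl⟩ := hn
      refine (IsLocalization.mem_map_algebraMap_iff M E''.Ring).2
        ⟨⟨⟨m' * a, by simpa [RingHom.mem_ker] using hna⟩, ⟨m' * m, mul_mem hm' m.2⟩⟩, ?_⟩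
      show x * algebraMap _ E''.Ring (m' * (m : E.Ring)) = algebraMap _ E''.Ring (m' * a)
      rw [map_mul, map_mul, mul_left_comm, ham]
    · show algebraMap E''.Ring T (f.toRingHom a) = 0
      rw [f.algebraMap_toRingHom, show algebraMap E.Ring S a = 0 from ha, map_zero]
  refine ⟨fun n => ?_, fun y => ?_, fun {x y} hxy => ?_⟩
  · obtain ⟨c, hc⟩ := IsLocalization.map_units T n
    refine (Module.End.isUnit_iff _).2 ?_
    have : (fun z : E''.Cotangent => (n : S) • z) = fun z => c • z := funext fun z => by
      show algebraMap S T (n : S) • z = _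
      rw [← hc]
      rfl
    show Function.Bijective fun z : E''.Cotangent => (n : S) • z
    rw [this]
    exact MulAction.bijective c
  · obtain ⟨⟨y, hy⟩, rfl⟩ := Extension.Cotangent.mk_surjective y
    obtain ⟨⟨a, m⟩, ham⟩ := (IsLocalization.mem_map_algebraMap_iff M E''.Ring).1 (hker ▸ hy)
    refine ⟨(Extension.Cotangent.mk a,
      ⟨algebraMap E.Ring S m, hN ▸ Submonoid.mem_map_of_mem _ m.2⟩), ?_⟩
    show algebraMap E.Ring S (m : E.Ring) • (Extension.Cotangent.mk ⟨y, hy⟩ : E''.Cotangent) = _
    rw [Extension.Cotangent.map_mk,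
      ← algebraMap_smul T (algebraMap E.Ring S (m : E.Ring)), ← f.algebraMap_toRingHom,
      algebraMap_smul, ← map_smul]
    congr 1
    refine Subtype.ext ?_
    show f.toRingHom m * y = f.toRingHom a
    rw [mul_comm]
    exact ham
  · obtain ⟨d, hd⟩ := Extension.Cotangent.mk_surjective (x - y)
    have h0 : Extension.Cotangent.map f (Extension.Cotangent.mk d) = 0 := by
      rw [hd, map_sub, hxy, sub_self]
    rw [Extension.Cotangent.map_mk, Extension.Cotangent.mk_eq_zero_iff] at h0
    have h0' : algebraMap E.Ring E''.Ring d.1 ∈ (E.ker ^ 2).map (algebraMap E.Ring E''.Ring) := by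
      rw [Ideal.map_pow, ← hker]
      exact h0
    obtain ⟨⟨b, m⟩, hbm⟩ := (IsLocalization.mem_map_algebraMap_iff M E''.Ring).1 h0'
    change algebraMap E.Ring E''.Ring d.1 * algebraMap _ _ (m : E.Ring) = _ at hbm
    rw [← map_mul] at hbm
    obtain ⟨c, hc⟩ := (IsLocalization.eq_iff_exists M E''.Ring).1 hbm
    refine ⟨⟨algebraMap E.Ring S (c * m), hN ▸ Submonoid.mem_map_of_mem _ (mul_mem c.2 m.2)⟩, ?_⟩
    show algebraMap E.Ring S (c * m) • x = algebraMap E.Ring S (c * m) • y
    rw [← sub_eq_zero, ← smul_sub, ← hd, algebraMap_smul, ← map_smul,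
      Extension.Cotangent.mk_eq_zero_iff]
    show (c : E.Ring) * m * d.1 ∈ _
    rw [mul_assoc, mul_comm (m : E.Ring), hc]
    exact Ideal.mul_mem_left _ _ b.2

/-- A localization at elements which are already units on the target keeps the conormal module. -/
theorem nonempty_equiv_of_units (f : E.Hom E') (M : Submonoid E.Ring)
    (hM : letI := f.toRingHom.toAlgebra; IsLocalization M E'.Ring)
    (hu : ∀ m ∈ M, IsUnit (algebraMap E.Ring S m)) :
    Nonempty (E.Cotangent ≃ₗ[S] E'.Cotangent) := by
  let N := M.map (algebraMap E.Ring S)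
  have hN : N ≤ IsUnit.submonoid S := by
    rintro _ ⟨m, hm, rfl⟩
    exact hu m hm
  haveI : IsLocalization N S := IsLocalization.self hN
  haveI := isLocalizedModule f M N hM rfl
  refine ⟨LinearEquiv.ofBijective (Extension.Cotangent.map f) ⟨fun x y hxy => ?_, fun y => ?_⟩⟩
  · obtain ⟨c, hc⟩ := IsLocalizedModule.exists_of_eq (S := N) (f := Extension.Cotangent.map f) hxy
    exact (hN c.2).smul_left_cancel.1 hc
  · obtain ⟨⟨x, c⟩, hxc⟩ := IsLocalizedModule.surj N (Extension.Cotangent.map f) y
    obtain ⟨d, hd⟩ := hN c.2
    refine ⟨(↑d⁻¹ : S) • x, ?_⟩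
    rw [map_smul, ← hxc, Submonoid.smul_def, smul_smul, ← hd, Units.inv_mul, one_smul]

end Localization

section Poly

variable {R : Type u} {S : Type v} [CommRing R] [CommRing S] [Algebra R S]
  (E : Extension.{w} R S) {τ : Type} [Finite τ] (s : τ → S)

/-- The evaluation defining `poly`. -/
noncomputable def polyHom : MvPolynomial τ E.Ring →ₐ[R] S :=
  (MvPolynomial.aeval s).restrictScalars R

theorem polyHom_surjective : Function.Surjective (polyHom E s) := fun x =>
  ⟨MvPolynomial.C (E.σ x), by simp [polyHom]⟩

/-- Adjoining variables to an extension. -/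
noncomputable abbrev poly : Extension.{w} R S where
  Ring := MvPolynomial τ E.Ring
  algebra₂ := (polyHom E s).toRingHom.toAlgebra
  isScalarTower := letI := (polyHom E s).toRingHom.toAlgebra
    IsScalarTower.of_algebraMap_eq fun r => ((polyHom E s).commutes r).symm
  σ x := MvPolynomial.C (E.σ x)
  algebraMap_σ x := by
    show polyHom E s _ = x
    simp [polyHom]

/-- Functoriality of `poly`. -/
noncomputable def polyMap {E' : Extension.{t} R S} (f : E.Hom E') : (poly E s).Hom (poly E' s) where
  toRingHom := MvPolynomial.map f.toRingHom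
  toRingHom_algebraMap r := by
    show MvPolynomial.map f.toRingHom (MvPolynomial.C (algebraMap R E.Ring r)) =
      MvPolynomial.C (algebraMap R E'.Ring (algebraMap R R r))
    simp
  algebraMap_toRingHom x := by
    show MvPolynomial.aeval s (MvPolynomial.map f.toRingHom x) = algebraMap S S (MvPolynomial.aeval s x)
    induction x using MvPolynomial.induction_on with
    | C a =>
      simp only [MvPolynomial.map_C, MvPolynomial.aeval_C, f.algebraMap_toRingHom]
    | add a b ha hb => simp only [map_add, ha, hb]
    | mul_X a i ha => simp only [map_mul, ha, MvPolynomial.map_X, MvPolynomial.aeval_X]; rfl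

/-- Adding variables adds a free summand to the conormal module. -/
theorem nonempty_poly_equiv :
    Nonempty ((poly E s).Cotangent ≃ₗ[S] (E.Cotangent × (τ → S))) := by
  classical
  haveI := Fintype.ofFinite τ
  letI : Algebra (MvPolynomial τ E.Ring) S := (poly E s).algebra₂
  let b : τ → E.Ring := fun j => E.σ (s j)
  let π : (poly E s).Hom E := Extension.Hom.ofAlgHom
    ((MvPolynomial.aeval b).restrictScalars R : MvPolynomial τ E.Ring →ₐ[R] E.Ring)
    (AlgHom.ext fun x => by
      show algebraMap E.Ring S (MvPolynomial.aeval b x) = MvPolynomial.aeval s x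
      induction x using MvPolynomial.induction_on with
      | C a => simp
      | add p q hp hq => simp only [map_add, hp, hq]
      | mul_X p i hp => simp only [map_mul, hp, MvPolynomial.aeval_X, b, Extension.algebraMap_σ])
  let ι : E.Hom (poly E s) := ⟨MvPolynomial.C, fun r => rfl, fun a => by
    show MvPolynomial.aeval s (MvPolynomial.C a) = _
    simp⟩
  let z : τ → (poly E s).ker := fun j => ⟨MvPolynomial.X j - MvPolynomial.C (b j), by
    show MvPolynomial.aeval s (MvPolynomial.X j - MvPolynomial.C (b j)) = 0
    rw [map_sub, MvPolynomial.aeval_X, MvPolynomial.aeval_C, Extension.algebraMap_σ, sub_self]⟩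
  let Φ : E.Cotangent × (τ → S) →ₗ[S] (poly E s).Cotangent :=
    (Extension.Cotangent.map ι).coprod (Fintype.linearCombination S fun j => Extension.Cotangent.mk (z j))
  have hπι : ∀ a, Extension.Cotangent.map π (Extension.Cotangent.map ι a) = a := fun a => by
    obtain ⟨⟨a, ha⟩, rfl⟩ := Extension.Cotangent.mk_surjective a
    rw [Extension.Cotangent.map_mk, Extension.Cotangent.map_mk]
    congr 1
    exact Subtype.ext (MvPolynomial.aeval_C _ _)
  have hπz : ∀ j, Extension.Cotangent.map π (Extension.Cotangent.mk (z j)) = 0 := fun j => by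
    rw [Extension.Cotangent.map_mk, Extension.Cotangent.mk_eq_zero_iff]
    show MvPolynomial.aeval b (MvPolynomial.X j - MvPolynomial.C (b j)) ∈ _
    simp
  refine ⟨(LinearEquiv.ofBijective Φ ⟨?_, fun x => ?_⟩).symm⟩
  · rw [injective_iff_map_eq_zero]
    rintro ⟨a, c⟩ h
    have h1 : a = 0 := by
      have := congrArg (Extension.Cotangent.map π) h
      simpa [Φ, Fintype.linearCombination_apply, hπι, hπz] using this
    subst h1
    let q : MvPolynomial τ E.Ring := ∑ j, MvPolynomial.C (E.σ (c j)) * (z j).1
    have hq : q ∈ (poly E s).ker ^ 2 := by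
      have h2 : Extension.Cotangent.mk (P := poly E s)
          (∑ j, ((MvPolynomial.C (E.σ (c j)) : MvPolynomial τ E.Ring) : (poly E s).Ring) • z j) = 0 := by
        rw [map_sum, ← h]
        simp only [Φ, LinearMap.coprod_apply, map_zero, zero_add, Fintype.linearCombination_apply,
          map_smul]
        refine Finset.sum_congr rfl fun j _ => ?_
        rw [← algebraMap_smul S ((MvPolynomial.C (E.σ (c j)) : (poly E s).Ring))]
        congr 1
        show MvPolynomial.aeval s _ = _
        simp
      rw [Extension.Cotangent.mk_eq_zero_iff] at h2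
      simpa [q] using h2
    have hd : ∀ i, ∀ p ∈ (poly E s).ker ^ 2, MvPolynomial.aeval s (MvPolynomial.pderiv i p) = 0 := by
      intro i p hp
      rw [pow_two] at hp
      refine Submodule.mul_induction_on hp (fun x hx y hy => ?_) fun x y hx hy => by
        rw [map_add, map_add, hx, hy, add_zero]
      change MvPolynomial.aeval s x = 0 at hx
      change MvPolynomial.aeval s y = 0 at hy
      rw [MvPolynomial.pderiv_mul, map_add, map_mul, map_mul, hx, hy, mul_zero, zero_mul, add_zero]
    refine Prod.ext rfl (funext fun i => ?_)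
    have h3 := hd i q hq
    simp only [q, z, map_sum, MvPolynomial.pderiv_C_mul, map_sub, MvPolynomial.pderiv_X,
      MvPolynomial.pderiv_C, sub_zero] at h3
    rw [Finset.sum_eq_single i (fun j _ hji => by simp [Pi.single_eq_of_ne hji]) (by simp)] at h3
    simpa using h3
  · obtain ⟨⟨k, hk⟩, rfl⟩ := Extension.Cotangent.mk_surjective x
    let I : Ideal (MvPolynomial τ E.Ring) := Ideal.span (Set.range fun j => (z j).1)
    have hI : ∀ p : MvPolynomial τ E.Ring, p - MvPolynomial.C (MvPolynomial.aeval b p) ∈ I := fun p => by
      rw [← Ideal.Quotient.eq]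
      induction p using MvPolynomial.induction_on with
      | C a => simp
      | add p q hp hq => simp only [map_add, hp, hq]
      | mul_X p i hp =>
        simp only [map_mul, ← hp, MvPolynomial.aeval_X]
        congr 1
        rw [Ideal.Quotient.eq]
        exact Ideal.subset_span ⟨i, rfl⟩
    obtain ⟨c, hc⟩ := Submodule.mem_span_range_iff_exists_fun (MvPolynomial τ E.Ring) |>.1 (hI k)
    refine ⟨(Extension.Cotangent.map π (Extension.Cotangent.mk ⟨k, hk⟩),
      fun j => MvPolynomial.aeval s (c j)), ?_⟩
    simp only [Φ, LinearMap.coprod_apply, Fintype.linearCombination_apply, Extension.Cotangent.map_mk]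
    have : ∀ j, MvPolynomial.aeval s (c j) • Extension.Cotangent.mk (z j) =
        Extension.Cotangent.mk (P := poly E s) ((c j : (poly E s).Ring) • z j) := fun j => by
      rw [map_smul, ← algebraMap_smul S (c j : (poly E s).Ring)]
      rfl
    simp only [this, ← map_sum]
    have h2 : Extension.Cotangent.map ι (Extension.Cotangent.map π (Extension.Cotangent.mk ⟨k, hk⟩)) =
        Extension.Cotangent.mk (P := poly E s) ⟨MvPolynomial.C (MvPolynomial.aeval b k), by
          show MvPolynomial.aeval s (MvPolynomial.C (MvPolynomial.aeval b k)) = 0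
          rw [MvPolynomial.aeval_C]
          exact (π.algebraMap_toRingHom k).trans (by rw [show algebraMap (poly E s).Ring S k = 0 from hk, map_zero])⟩ := rfl
    rw [h2, ← map_add]
    congr 1
    refine Subtype.ext ?_
    rw [Submodule.coe_add, AddSubmonoidClass.coe_finset_sum]
    show MvPolynomial.C (MvPolynomial.aeval b k) + ∑ j, c j * (z j).1 = k
    simp only [smul_eq_mul] at hc
    rw [hc]
    exact add_sub_cancel _ _

end Poly

end Groth.Agent.H21.CotangentPoly
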