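import Groth.Agent.H21.KBasis
import Mathlib.RingTheory.AlgebraicIndependent.Transcendental

/-! In characteristic zero the elements with zero differential are the algebraic ones. -/

namespace Groth.Agent.H21.DZero

set_option linter.style.haveILetI false

theorem isAlgebraic_of_D_eq_zero {K L : Type*} [Field K] [CharZero K] [Field L] [Algebra K L]
    {x : L} (hx : KaehlerDifferential.D K L x = 0) : IsAlgebraic K x := by
  by_contra htr
  have hind : AlgebraicIndepOn K id ({x} : Set L) :=
    algebraicIndependent_unique_type_iff.2 htr
  obtain ⟨t, hxt, ht⟩ := exists_isTranscendenceBasis_superset hind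
  haveI halg := ht.isAlgebraic_field
  haveI : Algebra.IsSeparable (IntermediateField.adjoin K (Set.range ((↑) : t → L))) L :=
    inferInstance
  obtain ⟨b, hb⟩ := Groth.Agent.H21.KBasis.exists_basis_of_isSeparable ht.1 this
  have := b.ne_zero ⟨x, hxt rfl⟩
  rw [hb] at this
  exact this hx

end Groth.Agent.H21.DZero
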