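import Mathlib.LinearAlgebra.Matrix.Charpoly.Coeff
import Mathlib.LinearAlgebra.Matrix.NonsingularInverse
import Mathlib.RingTheory.Localization.Away.Basic
import Mathlib.RingTheory.Jacobson.Ideal
import Mathlib.Tactic.NoncommRing

/-!
# Matrices over `A[1/t]` inside matrices over `Â[1/t]`

A `Setup` is a map `A → Ah` which is bijective modulo all powers of `t`, with `t` in both Jacobson
radicals, together with the localizations at `t`.  Matrices over `Ah[1/t]` are filtered by the powers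
of `t` times the matrices over `Ah`.
-/

universe u

namespace Groth.Agent.H21.Dense

open Matrix

/-- The hypotheses. -/
structure Setup (A Ah L L' : Type u) [CommRing A] [CommRing Ah] [CommRing L] [CommRing L'] [Algebra A Ah]
    [Algebra A L] [Algebra Ah L'] (t : A) (ψ : L →+* L') : Prop where
  locL : IsLocalization.Away t L
  locL' : IsLocalization.Away (algebraMap A Ah t) L'
  comm : ∀ a, ψ (algebraMap A L a) = algebraMap Ah L' (algebraMap A Ah a)
  dense : ∀ (M : ℕ) (y : Ah), ∃ (a : A) (z : Ah), y = algebraMap A Ah a + algebraMap A Ah t ^ M * z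
  reflect : ∀ (M : ℕ) (a : A) (z : Ah), algebraMap A Ah a = algebraMap A Ah t ^ M * z → ∃ b, a = t ^ M * b
  jac : t ∈ Ideal.jacobson (⊥ : Ideal A)
  jac' : algebraMap A Ah t ∈ Ideal.jacobson (⊥ : Ideal Ah)

variable {A Ah L L' : Type u} [CommRing A] [CommRing Ah] [CommRing L] [CommRing L'] [Algebra A Ah]
  [Algebra A L] [Algebra Ah L'] {t : A} {ψ : L →+* L'}

theorem isUnit_of_quotient {R : Type u} [CommRing R] {r : R} (hr : r ∈ Ideal.jacobson (⊥ : Ideal R)) (x : R)
    (hx : IsUnit (Ideal.Quotient.mk (Ideal.span {r}) x)) : IsUnit x := by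
  obtain ⟨y, hy⟩ := hx.exists_left_inv
  obtain ⟨y, rfl⟩ := Ideal.Quotient.mk_surjective y
  rw [← map_mul, ← map_one (Ideal.Quotient.mk (Ideal.span {r})), Ideal.Quotient.eq, Ideal.mem_span_singleton] at hy
  obtain ⟨w, hw⟩ := hy
  have := Ideal.mem_jacobson_bot.mp hr w
  rw [← hw, sub_add_cancel] at this
  exact (isUnit_of_mul_isUnit_right this)

namespace Setup

variable (S : Setup A Ah L L' t ψ)

include S

theorem isUnit_τ : IsUnit (algebraMap Ah L' (algebraMap A Ah t)) := by
  haveI := S.locL'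
  exact IsLocalization.Away.algebraMap_isUnit (algebraMap A Ah t)

theorem isUnit_t : IsUnit (algebraMap A L t) := by
  haveI := S.locL
  exact IsLocalization.Away.algebraMap_isUnit t

/-- The unit `t` of `L'`. -/
noncomputable def unit : L'ˣ := S.isUnit_τ.unit

theorem coe_unit : (S.unit : L') = algebraMap Ah L' (algebraMap A Ah t) := rfl

/-- `X` lies in `t^z` times the lattice. -/
def Sm {I J : Type} (z : ℤ) (X : Matrix I J L') : Prop :=
  ∃ Y : Matrix I J Ah, X = ((S.unit ^ z : L'ˣ) : L') • Y.map (algebraMap Ah L')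

variable {I J K : Type}

theorem Sm.mono {z w : ℤ} {X : Matrix I J L'} (h : S.Sm z X) (hw : w ≤ z) : S.Sm w X := by
  obtain ⟨Y, rfl⟩ := h
  obtain ⟨k, rfl⟩ : ∃ k : ℕ, z = w + k := ⟨(z - w).toNat, by omega⟩
  refine ⟨(algebraMap A Ah t) ^ k • Y, ?_⟩
  rw [zpow_add, Units.val_mul, mul_smul, zpow_natCast, Units.val_pow_eq_pow_val, coe_unit, ← map_pow]
  congr 1
  ext i j
  simp

theorem sm_zero (z : ℤ) : S.Sm z (0 : Matrix I J L') := ⟨0, by simp⟩

theorem Sm.add {z : ℤ} {X X' : Matrix I J L'} (h : S.Sm z X) (h' : S.Sm z X') : S.Sm z (X + X') := by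
  obtain ⟨Y, rfl⟩ := h
  obtain ⟨Y', rfl⟩ := h'
  exact ⟨Y + Y', by rw [← smul_add, Matrix.map_add _ (map_add _)]⟩

theorem Sm.neg {z : ℤ} {X : Matrix I J L'} (h : S.Sm z X) : S.Sm z (-X) := by
  obtain ⟨Y, rfl⟩ := h
  exact ⟨-Y, by rw [← smul_neg]; congr 1; ext i j; simp⟩

theorem Sm.sub {z : ℤ} {X X' : Matrix I J L'} (h : S.Sm z X) (h' : S.Sm z X') : S.Sm z (X - X') := by
  rw [sub_eq_add_neg]; exact h.add S (h'.neg S)

theorem Sm.mul [Fintype J] {z w : ℤ} {X : Matrix I J L'} {X' : Matrix J K L'} (h : S.Sm z X) (h' : S.Sm w X') :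
    S.Sm (z + w) (X * X') := by
  obtain ⟨Y, rfl⟩ := h
  obtain ⟨Y', rfl⟩ := h'
  exact ⟨Y * Y', by rw [Matrix.map_mul, Matrix.smul_mul, Matrix.mul_smul, smul_smul, ← Units.val_mul, ← zpow_add]⟩

theorem sm_one [DecidableEq I] : S.Sm 0 (1 : Matrix I I L') := ⟨1, by simp⟩

/-- Bounded denominators. -/
theorem exists_sm [Fintype I] [Fintype J] (X : Matrix I J L') : ∃ z : ℕ, S.Sm (-(z : ℤ)) X := by
  haveI := S.locL'
  have h : ∀ i j, ∃ (k : ℕ) (y : Ah), X i j * algebraMap Ah L' (algebraMap A Ah t) ^ k = algebraMap Ah L' y := fun i j => by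
    obtain ⟨k, y, hy⟩ := IsLocalization.Away.surj (algebraMap A Ah t) (X i j)
    exact ⟨k, y, hy⟩
  choose k y hy using h
  let N := ∑ i, ∑ j, k i j
  have hle : ∀ i j, k i j ≤ N := fun i j =>
    (Finset.single_le_sum (fun l _ => Nat.zero_le (k i l)) (Finset.mem_univ j)).trans
      (Finset.single_le_sum (fun l _ => Nat.zero_le (∑ j, k l j)) (Finset.mem_univ i))
  refine ⟨N, Matrix.of fun i j => algebraMap A Ah t ^ (N - k i j) * y i j, ?_⟩
  ext i j
  rw [Matrix.smul_apply, Matrix.map_apply, Matrix.of_apply, map_mul, map_pow, ← hy i j, smul_eq_mul,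
    zpow_neg, zpow_natCast, mul_left_comm (algebraMap Ah L' (algebraMap A Ah t) ^ _), ← pow_add,
    Nat.sub_add_cancel (hle i j), ← S.coe_unit, ← Units.val_pow_eq_pow_val, mul_left_comm, Units.inv_mul, mul_one]

/-- Density. -/
theorem exists_approx [Fintype I] [Fintype J] (X : Matrix I J L') (M : ℤ) :
    ∃ C : Matrix I J L, S.Sm M (X - C.map ψ) := by
  haveI := S.locL
  obtain ⟨z, Y, rfl⟩ := S.exists_sm X
  choose a w haw using fun i j => S.dense (M + z).toNat (Y i j)
  obtain ⟨v, hv⟩ := S.isUnit_t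
  refine ⟨Matrix.of fun i j => ((v⁻¹ ^ z : Lˣ) : L) * algebraMap A L (a i j), ?_⟩
  refine Sm.mono S (z := -(z : ℤ) + ((M + z).toNat : ℤ)) ⟨Matrix.of w, ?_⟩ (by omega)
  have hψv : ψ ((v⁻¹ : Lˣ) : L) ^ z = ((S.unit ^ (-(z : ℤ)) : L'ˣ) : L') := by
    rw [← map_pow, ← Units.val_pow_eq_pow_val]
    have h1 : (Units.map (ψ : L →* L') v) = S.unit := Units.ext (by rw [Units.coe_map, S.coe_unit, ← S.comm, hv]; rfl)
    rw [← h1, zpow_neg, zpow_natCast, ← inv_pow, ← map_inv, ← map_pow]
    rfl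
  ext i j
  rw [zpow_add, Units.val_mul, zpow_natCast]
  simp only [Matrix.sub_apply, Matrix.smul_apply, Matrix.map_apply, Matrix.of_apply, smul_eq_mul, map_mul,
    S.comm, haw i j, map_add, map_pow, Units.val_pow_eq_pow_val, coe_unit]
  rw [hψv]
  ring

/-- Elements which are small downstairs. -/
theorem exists_eq_of_sm {M : ℕ} {C : Matrix I J L} (h : S.Sm M (C.map ψ)) :
    ∃ B : Matrix I J A, C = (algebraMap A L t ^ M) • B.map (algebraMap A L) := by
  haveI := S.locL
  haveI := S.locL'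
  obtain ⟨Y, hY⟩ := h
  have key : ∀ i j, ∃ b : A, C i j = algebraMap A L t ^ M * algebraMap A L b := by
    intro i j
    obtain ⟨k, a, ha⟩ := IsLocalization.Away.surj t (C i j)
    have h1 := congrArg ψ ha
    have h2 := congrFun (congrFun hY i) j
    rw [Matrix.map_apply, Matrix.smul_apply, Matrix.map_apply, smul_eq_mul, zpow_natCast, Units.val_pow_eq_pow_val,
      coe_unit] at h2
    rw [map_mul, map_pow, S.comm, S.comm, h2] at h1
    have h3 : algebraMap Ah L' (algebraMap A Ah a) = algebraMap Ah L' (algebraMap A Ah t ^ (M + k) * Y i j) := by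
      rw [← h1, map_mul, map_pow, pow_add]; ring
    obtain ⟨⟨_, l, rfl⟩, hl⟩ := (IsLocalization.eq_iff_exists (Submonoid.powers (algebraMap A Ah t)) L').mp h3
    obtain ⟨b, hb⟩ := S.reflect (l + (M + k)) (t ^ l * a) (Y i j) (by rw [map_mul, map_pow]; exact hl.trans (by rw [pow_add]; ring))
    refine ⟨b, ?_⟩
    refine ((S.isUnit_t).pow k).mul_left_inj.mp ?_
    refine ((S.isUnit_t).pow l).mul_right_inj.mp ?_
    have h4 := congrArg (algebraMap A L) hb
    simp only [map_mul, map_pow] at h4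
    rw [ha, h4, pow_add, pow_add]; ring
  choose b hb using key
  exact ⟨Matrix.of b, Matrix.ext fun i j => by simp [hb]⟩

/-- `1 + t (matrix)` is invertible, with inverse of the same kind. -/
theorem sm_isUnit [Fintype I] [DecidableEq I] {M : ℕ} (hM : 1 ≤ M) {X : Matrix I I L'} (h : S.Sm M (X - 1)) :
    IsUnit X.det ∧ S.Sm M (X⁻¹ - 1) := by
  obtain ⟨Y, hY⟩ := h
  let T : Matrix I I Ah := 1 + algebraMap A Ah t ^ M • Y
  have hX : X = T.map (algebraMap Ah L') := by
    rw [sub_eq_iff_eq_add] at hY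
    rw [hY, zpow_natCast, Units.val_pow_eq_pow_val, coe_unit]
    ext i j
    by_cases hij : i = j
    · subst hij; simp [T, add_comm]
    · simp [T, hij]
  have hT : IsUnit T.det := by
    refine Dense.isUnit_of_quotient (S.jac') T.det ?_
    rw [RingHom.map_det]
    have : (Ideal.Quotient.mk (Ideal.span {algebraMap A Ah t})).mapMatrix T = 1 := by
      ext i j
      have ht : Ideal.Quotient.mk (Ideal.span {algebraMap A Ah t}) (algebraMap A Ah t) = 0 :=
        Ideal.Quotient.eq_zero_iff_mem.mpr (Ideal.mem_span_singleton_self _)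
      by_cases hij : i = j
      · subst hij; simp [T, ht, zero_pow (by omega : M ≠ 0)]
      · simp [T, hij, ht, zero_pow (by omega : M ≠ 0)]
    rw [this, Matrix.det_one]
    exact isUnit_one
  have hdet : IsUnit X.det := by
    rw [hX, ← RingHom.mapMatrix_apply, ← RingHom.map_det]
    exact hT.map _
  refine ⟨hdet, -(T⁻¹ * Y), ?_⟩
  have h1 : X⁻¹ - 1 = -(X⁻¹ * (X - 1)) := by rw [mul_sub, Matrix.nonsing_inv_mul _ hdet, mul_one]; abel
  have h2 : X⁻¹ = (T⁻¹).map (algebraMap Ah L') := by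
    refine Matrix.inv_eq_left_inv ?_
    rw [hX, ← Matrix.map_mul, Matrix.nonsing_inv_mul _ hT, Matrix.map_one _ (map_zero _) (map_one _)]
  rw [h1, hY, h2, Matrix.mul_smul]
  ext i j
  simp [Matrix.mul_apply, Matrix.map_apply, map_sum, map_mul]

/-- A matrix over `L` congruent to `1` upstairs is invertible. -/
theorem isUnit_of_sm [Fintype I] [DecidableEq I] {M : ℕ} (hM : 1 ≤ M) {C : Matrix I I L}
    (h : S.Sm M (C.map ψ - 1)) : IsUnit C.det := by
  have h' : S.Sm M ((C - 1).map ψ) := by rwa [Matrix.map_sub _ (map_sub ψ), Matrix.map_one _ (map_zero ψ) (map_one ψ)]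
  obtain ⟨B, hB⟩ := S.exists_eq_of_sm h'
  rw [sub_eq_iff_eq_add] at hB
  let T : Matrix I I A := 1 + t ^ M • B
  have hC : C = T.map (algebraMap A L) := by
    rw [hB]
    ext i j
    by_cases hij : i = j
    · subst hij; simp [T, add_comm]
    · simp [T, hij]
  have hT : IsUnit T.det := by
    refine Dense.isUnit_of_quotient S.jac T.det ?_
    rw [RingHom.map_det]
    have : (Ideal.Quotient.mk (Ideal.span {t})).mapMatrix T = 1 := by
      ext i j
      have ht : Ideal.Quotient.mk (Ideal.span {t}) t = 0 :=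
        Ideal.Quotient.eq_zero_iff_mem.mpr (Ideal.mem_span_singleton_self _)
      by_cases hij : i = j
      · subst hij; simp [T, ht, zero_pow (by omega : M ≠ 0)]
      · simp [T, hij, ht, zero_pow (by omega : M ≠ 0)]
    rw [this, Matrix.det_one]
    exact isUnit_one
  rw [hC, ← RingHom.mapMatrix_apply, ← RingHom.map_det]
  exact hT.map _

/-- Nearby idempotents are conjugate. -/
theorem exists_conj [Fintype I] [DecidableEq I] {e f : Matrix I I L'} (he : e * e = e) (hf : f * f = f)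
    {z M : ℕ} (hz : S.Sm (-(z : ℤ)) e) (hM : z + 1 ≤ M) (hef : S.Sm M (f - e)) :
    ∃ w : Matrix I I L', IsUnit w.det ∧ e * w = w * f := by
  refine ⟨e * f + (1 - e) * (1 - f), ?_, ?_⟩
  · refine (S.sm_isUnit le_rfl ?_).1
    have h1 : e * f + (1 - e) * (1 - f) - 1 = (e + e - 1) * (f - e) := by
      noncomm_ring
      simp only [he]
      abel
    rw [h1]
    exact ((((hz.add S hz).sub S ((S.sm_one).mono S (by omega))).mul S hef).mono S (by omega))
  · rw [mul_add, add_mul, ← mul_assoc e (1 - e), mul_sub e 1 e, mul_one, he, sub_self, zero_mul, add_zero,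
      ← mul_assoc e e f, he, mul_assoc e f f, hf, mul_assoc (1 - e) (1 - f) f, sub_mul 1 f f, one_mul, hf, sub_self,
      mul_zero, add_zero]

end Setup

end Groth.Agent.H21.Dense
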