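import Groth.Agent.H21.Dense
import Mathlib.RingTheory.AdicCompletion.Algebra
import Mathlib.RingTheory.AdicCompletion.Completeness
import Mathlib.RingTheory.AdicCompletion.Basic
import Mathlib.RingTheory.PowerSeries.Trunc
import Mathlib.RingTheory.PowerSeries.Inverse
import Mathlib.RingTheory.LaurentSeries

/-!
# The two examples: adic completions and power series
-/

universe u

namespace Groth.Agent.H21.DenseInst

open Groth.Agent.H21.Dense Polynomial

/-- `A → Â` for `t` in the Jacobson radical. -/
theorem completion {A : Type u} [CommRing A] (t : A) (ht : t ∈ Ideal.jacobson (⊥ : Ideal A))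
    [Algebra (Localization.Away t) (Localization.Away (algebraMap A (AdicCompletion (Ideal.span {t}) A) t))]
    (halg : algebraMap (Localization.Away t) (Localization.Away (algebraMap A (AdicCompletion (Ideal.span {t}) A) t)) =
      Localization.awayMap (algebraMap A (AdicCompletion (Ideal.span {t}) A)) t) :
    Setup A (AdicCompletion (Ideal.span {t}) A) (Localization.Away t)
      (Localization.Away (algebraMap A (AdicCompletion (Ideal.span {t}) A) t)) t (algebraMap _ _) where
  locL := inferInstance
  locL' := inferInstance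
  comm a := by rw [halg]; exact IsLocalization.map_eq _ a
  dense M y := by
    obtain ⟨a, ha⟩ := Ideal.Quotient.mk_surjective (AdicCompletion.evalₐ (Ideal.span {t}) M y)
    refine ⟨a, ?_⟩
    let x := y - algebraMap A _ a
    have hx : AdicCompletion.evalₐ (Ideal.span {t}) M x = 0 := by
      rw [map_sub, AlgHom.commutes, Ideal.Quotient.algebraMap_eq, ha, sub_self]
    have h1 : AdicCompletion.eval (Ideal.span {t}) A M x = 0 := by
      rw [← AdicCompletion.factor_evalₐ_eq_eval _ x (by simp), hx, map_zero]
    have h2 : x ∈ (Ideal.span {t} ^ M • ⊤ : Submodule A (AdicCompletion (Ideal.span {t}) A)) := by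
      rw [AdicCompletion.pow_smul_top_eq_ker_eval (Submodule.fg_span_singleton t)]
      exact h1
    rw [Ideal.smul_top_eq_map, Submodule.restrictScalars_mem, Ideal.map_pow, Ideal.map_span, Set.image_singleton,
      Ideal.span_singleton_pow, Ideal.mem_span_singleton] at h2
    obtain ⟨z, hz⟩ := h2
    exact ⟨z, by rw [← hz]; simp [x]⟩
  reflect M a z h := by
    have h1 := congrArg (AdicCompletion.evalₐ (Ideal.span {t}) M) h
    rw [AlgHom.commutes, map_mul, map_pow, AlgHom.commutes, Ideal.Quotient.algebraMap_eq, ← map_pow,
      show Ideal.Quotient.mk (Ideal.span {t} ^ M) (t ^ M) = 0 from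
        Ideal.Quotient.eq_zero_iff_mem.mpr (Ideal.pow_mem_pow (Ideal.mem_span_singleton_self t) M),
      zero_mul, Ideal.Quotient.eq_zero_iff_mem, Ideal.span_singleton_pow, Ideal.mem_span_singleton] at h1
    exact h1
  jac := ht
  jac' := by
    haveI : IsAdicComplete (Ideal.span {t}) (AdicCompletion (Ideal.span {t}) A) :=
      AdicCompletion.isAdicComplete (Submodule.fg_span_singleton t)
    haveI : IsAdicComplete ((Ideal.span {t}).map (algebraMap A (AdicCompletion (Ideal.span {t}) A)))
        (AdicCompletion (Ideal.span {t}) A) :=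
      (IsAdicComplete.map_algebraMap_iff (Ideal.span {t}) (AdicCompletion (Ideal.span {t}) A)).mpr inferInstance
    exact IsAdicComplete.le_jacobson_bot _ (Ideal.mem_map_of_mem _ (Ideal.mem_span_singleton_self t))

/-- Laurent series as a localization of power series, transported. -/
theorem isLocalization_laurent {R L' : Type u} [CommRing R] [CommRing L'] [Algebra (PowerSeries R) L']
    (e : L' ≃+* LaurentSeries R)
    (he : ∀ f, e (algebraMap (PowerSeries R) L' f) = HahnSeries.ofPowerSeries ℤ R f) :
    IsLocalization.Away (PowerSeries.X : PowerSeries R) L' :=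
  IsLocalization.isLocalization_of_algEquiv (Submonoid.powers (PowerSeries.X : PowerSeries R))
    (AlgEquiv.ofRingEquiv (R := PowerSeries R) (f := e.symm) fun f => by
      rw [RingEquiv.symm_apply_eq, he]
      rfl)

/-- `A → R⟦X⟧` for an intermediate ring `R[X] → A → R⟦X⟧`. -/
theorem powerSeries {R A L L' : Type u} [CommRing R] [CommRing A] [CommRing L] [CommRing L'] [Algebra R[X] A]
    [Algebra A (PowerSeries R)] [Algebra A L] [Algebra (PowerSeries R) L'] [Algebra L L']
    (hA : ∀ p : R[X], algebraMap A (PowerSeries R) (algebraMap R[X] A p) = (p : PowerSeries R))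
    [IsLocalization.Away (algebraMap R[X] A X) L] (e : L' ≃+* LaurentSeries R)
    (he : ∀ f, e (algebraMap (PowerSeries R) L' f) = HahnSeries.ofPowerSeries ℤ R f)
    (hcomm : ∀ a, algebraMap L L' (algebraMap A L a) = algebraMap (PowerSeries R) L' (algebraMap A (PowerSeries R) a))
    (hjac : algebraMap R[X] A X ∈ Ideal.jacobson (⊥ : Ideal A))
    (hrefl : ∀ (M : ℕ) (a : A), (PowerSeries.X : PowerSeries R) ^ M ∣ algebraMap A (PowerSeries R) a →
      ∃ b, a = algebraMap R[X] A X ^ M * b) :
    Setup A (PowerSeries R) L L' (algebraMap R[X] A X) (algebraMap L L') where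
  locL := inferInstance
  locL' := by rw [hA, Polynomial.coe_X]; exact isLocalization_laurent e he
  comm := hcomm
  dense M y := by
    refine ⟨algebraMap R[X] A (PowerSeries.trunc M y), ?_⟩
    have h : (PowerSeries.X : PowerSeries R) ^ M ∣ y - (PowerSeries.trunc M y : R[X]) := by
      refine PowerSeries.X_pow_dvd_iff.mpr fun k hk => ?_
      rw [map_sub, Polynomial.coeff_coe, PowerSeries.coeff_trunc, if_pos hk, sub_self]
    obtain ⟨z, hz⟩ := h
    exact ⟨z, by rw [hA, hA, Polynomial.coe_X, ← hz]; ring⟩
  reflect M a z h := hrefl M a ⟨z, by rw [h, hA, Polynomial.coe_X]⟩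
  jac := hjac
  jac' := by
    rw [hA, Polynomial.coe_X, Ideal.mem_jacobson_bot]
    intro y
    rw [PowerSeries.isUnit_iff_constantCoeff]
    simp

end Groth.Agent.H21.DenseInst
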