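import Groth.Agent.H21.Dense
import Groth.Agent.Lib.Henselian.Pair
import Groth.Agent.Lib.Henselian.Roots
import Mathlib.LinearAlgebra.Matrix.Charpoly.LinearMap
import Mathlib.Algebra.Module.Projective
import Mathlib.LinearAlgebra.TensorProduct.Pi
import Mathlib.LinearAlgebra.Matrix.ToLin
import Mathlib.RingTheory.TensorProduct.Maps
import Mathlib.RingTheory.Finiteness.Projective

/-!
# Finite projective modules over `A[1/t]` and over `Â[1/t]`
-/

universe u

open TensorProduct Matrix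

namespace Groth.Agent.H21.DenseProj

open Groth.Agent.H21.Dense

variable (R : Type u) [CommRing R]

/-- A module as the image of an idempotent matrix. -/
structure Pres (M : Type u) [AddCommGroup M] [Module R M] where
  n : ℕ
  i : M →ₗ[R] (Fin n → R)
  p : (Fin n → R) →ₗ[R] M
  pi : p ∘ₗ i = LinearMap.id

variable {R} {M N : Type u} [AddCommGroup M] [Module R M] [AddCommGroup N] [Module R N]

/-- The idempotent. -/
noncomputable def Pres.e (P : Pres R M) : Matrix (Fin P.n) (Fin P.n) R := LinearMap.toMatrix' (P.i ∘ₗ P.p)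

theorem Pres.pi_apply (P : Pres R M) (x : M) : P.p (P.i x) = x := LinearMap.congr_fun P.pi x

theorem Pres.e_mul_e (P : Pres R M) : P.e * P.e = P.e := by
  rw [Pres.e, ← LinearMap.toMatrix'_comp]
  exact congrArg LinearMap.toMatrix' (LinearMap.ext fun v => by simp [P.pi_apply])

/-- The linear map given by a matrix. -/
noncomputable def Pres.hom (P : Pres R M) (Q : Pres R N) (C : Matrix (Fin Q.n) (Fin P.n) R) : M →ₗ[R] N :=
  Q.p ∘ₗ Matrix.toLin' C ∘ₗ P.i

theorem Pres.toLin'_e (P : Pres R M) : Matrix.toLin' P.e = P.i ∘ₗ P.p := Matrix.toLin'_toMatrix' _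

theorem Pres.hom_comp {O : Type u} [AddCommGroup O] [Module R O] (P : Pres R M) (Q : Pres R N) (T : Pres R O)
    (C : Matrix (Fin Q.n) (Fin P.n) R) (D : Matrix (Fin T.n) (Fin Q.n) R) :
    Q.hom T D ∘ₗ P.hom Q C = P.hom T (D * Q.e * C) := by
  simp only [Pres.hom, Matrix.toLin'_mul, Pres.toLin'_e, LinearMap.comp_assoc]

theorem Pres.hom_e (P : Pres R M) : P.hom P P.e = LinearMap.id := by
  refine LinearMap.ext fun x => ?_
  simp [Pres.hom, Pres.toLin'_e, P.pi_apply]

/-- The matrix of a linear map. -/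
noncomputable def Pres.mat (P : Pres R M) (Q : Pres R N) (g : M →ₗ[R] N) : Matrix (Fin Q.n) (Fin P.n) R :=
  LinearMap.toMatrix' (Q.i ∘ₗ g ∘ₗ P.p)

theorem Pres.mat_mul {O : Type u} [AddCommGroup O] [Module R O] (P : Pres R M) (Q : Pres R N) (T : Pres R O)
    (g : M →ₗ[R] N) (h : N →ₗ[R] O) : Q.mat T h * P.mat Q g = P.mat T (h ∘ₗ g) := by
  rw [Pres.mat, Pres.mat, Pres.mat, ← LinearMap.toMatrix'_comp]
  exact congrArg LinearMap.toMatrix' (LinearMap.ext fun x => by simp [Q.pi_apply])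

theorem Pres.mat_id (P : Pres R M) : P.mat P LinearMap.id = P.e := rfl

theorem Pres.e_mat_e (P : Pres R M) (Q : Pres R N) (g : M →ₗ[R] N) : Q.e * P.mat Q g * P.e = P.mat Q g := by
  rw [← Q.mat_id, ← P.mat_id, P.mat_mul Q Q g LinearMap.id, P.mat_mul P Q LinearMap.id]
  rfl

/-- Matrices intertwining the idempotents give an isomorphism. -/
noncomputable def Pres.equiv (P : Pres R M) (Q : Pres R N) (C : Matrix (Fin Q.n) (Fin P.n) R)
    (D : Matrix (Fin P.n) (Fin Q.n) R) (hDC : D * Q.e * C = P.e) (hCD : C * P.e * D = Q.e) : M ≃ₗ[R] N :=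
  LinearEquiv.ofLinear (P.hom Q C) (Q.hom P D) (by rw [Pres.hom_comp, hCD, Pres.hom_e])
    (by rw [Pres.hom_comp, hDC, Pres.hom_e])

/-- Every finite projective module has a presentation. -/
theorem exists_pres [Module.Finite R M] [Module.Projective R M] : Nonempty (Pres R M) := by
  obtain ⟨n, p, i, -, -, hpi⟩ := Module.Finite.exists_comp_eq_id_of_projective R M
  exact ⟨⟨n, i, p, hpi⟩⟩

/-- The image of an idempotent matrix. -/
noncomputable def ofIdem {n : ℕ} (e : Matrix (Fin n) (Fin n) R) (he : e * e = e) :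
    Pres R (LinearMap.range (Matrix.toLin' e)) where
  n := n
  i := Submodule.subtype _
  p := (Matrix.toLin' e).rangeRestrict
  pi := by
    refine LinearMap.ext fun x => Subtype.ext ?_
    obtain ⟨v, hv⟩ := x.2
    show Matrix.toLin' e x.1 = x.1
    rw [← hv, ← LinearMap.comp_apply, ← Matrix.toLin'_mul, he]

theorem ofIdem_e {n : ℕ} (e : Matrix (Fin n) (Fin n) R) (he : e * e = e) : (ofIdem e he).e = e := by
  show LinearMap.toMatrix' (Submodule.subtype _ ∘ₗ (Matrix.toLin' e).rangeRestrict) = e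
  rw [show Submodule.subtype _ ∘ₗ (Matrix.toLin' e).rangeRestrict = Matrix.toLin' e from rfl,
    LinearMap.toMatrix'_toLin']

variable (R) in
theorem finite_projective_range {n : ℕ} (e : Matrix (Fin n) (Fin n) R) (he : e * e = e) :
    Module.Finite R (LinearMap.range (Matrix.toLin' e)) ∧ Module.Projective R (LinearMap.range (Matrix.toLin' e)) :=
  ⟨Module.Finite.range _, Module.Projective.of_split (ofIdem e he).i (ofIdem e he).p (ofIdem e he).pi⟩

section BaseChange

variable {R' : Type u} [CommRing R'] [Algebra R R']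

/-- Base change of a presentation. -/
noncomputable def Pres.baseChange (P : Pres R M) : Pres R' (R' ⊗[R] M) where
  n := P.n
  i := (TensorProduct.piScalarRight R R' R' (Fin P.n)).toLinearMap ∘ₗ P.i.baseChange R'
  p := P.p.baseChange R' ∘ₗ (TensorProduct.piScalarRight R R' R' (Fin P.n)).symm.toLinearMap
  pi := by
    refine LinearMap.ext fun x => ?_
    simp only [LinearMap.comp_apply, LinearEquiv.coe_coe, LinearEquiv.symm_apply_apply]
    rw [← LinearMap.comp_apply, ← LinearMap.baseChange_comp, P.pi, LinearMap.baseChange_id]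

theorem Pres.baseChange_e (P : Pres R M) : (P.baseChange (R' := R')).e = P.e.map (algebraMap R R') := by
  have h : ∀ v : Fin P.n → R, (TensorProduct.piScalarRight R R' R' (Fin P.n)).symm (fun k => algebraMap R R' (v k)) = 1 ⊗ₜ v := by
    intro v
    apply (TensorProduct.piScalarRight R R' R' (Fin P.n)).injective
    rw [LinearEquiv.apply_symm_apply]
    funext k
    simp [Algebra.algebraMap_eq_smul_one]
  refine Matrix.ext fun (i : Fin P.n) (j : Fin P.n) => ?_
  show LinearMap.toMatrix' _ i j = _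
  rw [LinearMap.toMatrix'_apply]
  have hs : (fun j' : Fin P.n => if j' = j then (1 : R') else 0) =
      fun k => algebraMap R R' ((fun j' : Fin P.n => if j' = j then (1 : R) else 0) k) := by
    funext k
    by_cases hk : k = j <;> simp [hk]
  show ((TensorProduct.piScalarRight R R' R' (Fin P.n)).toLinearMap ∘ₗ P.i.baseChange R')
    ((P.p.baseChange R' ∘ₗ (TensorProduct.piScalarRight R R' R' (Fin P.n)).symm.toLinearMap) _) i = _
  simp only [LinearMap.comp_apply, LinearEquiv.coe_coe]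
  rw [show (Pi.single j (1 : R') : Fin P.n → R') = fun j' => if j' = j then (1 : R') else 0 from funext fun j' => by simp [Pi.single_apply],
    hs, h, LinearMap.baseChange_tmul, LinearMap.baseChange_tmul]
  rw [TensorProduct.piScalarRight_apply, Matrix.map_apply]
  rw [show (fun j' : Fin P.n => if j' = j then (1 : R) else 0) = Pi.single j 1 from funext fun j' => by simp [Pi.single_apply]]
  simp [Pres.e, LinearMap.toMatrix'_apply, Algebra.algebraMap_eq_smul_one]

end BaseChange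

section Main

variable {A Ah L L' : Type u} [CommRing A] [CommRing Ah] [CommRing L] [CommRing L'] [Algebra A Ah]
  [Algebra A L] [Algebra Ah L'] [Algebra L L'] {t : A}

variable (S : Setup A Ah L L' t (algebraMap L L'))

include S

/-- Finite projective modules which are isomorphic upstairs are isomorphic. -/
theorem injective {M N : Type u} [AddCommGroup M] [Module L M] [Module.Finite L M] [Module.Projective L M]
    [AddCommGroup N] [Module L N] [Module.Finite L N] [Module.Projective L N]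
    (φ : L' ⊗[L] M ≃ₗ[L'] L' ⊗[L] N) : Nonempty (M ≃ₗ[L] N) := by
  obtain ⟨P⟩ := exists_pres (R := L) (M := M)
  obtain ⟨Q⟩ := exists_pres (R := L) (M := N)
  let P' := P.baseChange (R' := L')
  let Q' := Q.baseChange (R' := L')
  let C' : Matrix (Fin Q.n) (Fin P.n) L' := P'.mat Q' φ.toLinearMap
  let D' : Matrix (Fin P.n) (Fin Q.n) L' := Q'.mat P' φ.symm.toLinearMap
  let ψ := algebraMap L L'
  have heP : P'.e = P.e.map ψ := P.baseChange_e
  have heQ : Q'.e = Q.e.map ψ := Q.baseChange_e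
  have hDC : D' * C' = P.e.map ψ := by
    rw [← heP, ← P'.mat_id, ← φ.symm_comp, ← P'.mat_mul Q' P']
    rfl
  have hCD : C' * D' = Q.e.map ψ := by
    rw [← heQ, ← Q'.mat_id, ← φ.comp_symm, ← Q'.mat_mul P' Q']
    rfl
  have hC' : Q.e.map ψ * C' * P.e.map ψ = C' := by
    rw [← heP, ← heQ]
    exact P'.e_mat_e Q' φ.toLinearMap
  have hD' : P.e.map ψ * D' * Q.e.map ψ = D' := by
    rw [← heP, ← heQ]
    exact Q'.e_mat_e P' φ.symm.toLinearMap
  obtain ⟨a, ha⟩ := S.exists_sm C'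
  obtain ⟨b, hb⟩ := S.exists_sm D'
  obtain ⟨c, hc⟩ := S.exists_sm (P.e.map ψ)
  obtain ⟨d, hd⟩ := S.exists_sm (Q.e.map ψ)
  let M₁ : ℕ := a + b + 1
  obtain ⟨C, hC⟩ := S.exists_approx C' ((M₁ + c + d : ℕ) : ℤ)
  obtain ⟨D, hD⟩ := S.exists_approx D' ((M₁ + c + d : ℕ) : ℤ)
  let C₁ := Q.e * C * P.e
  let D₁ := P.e * D * Q.e
  have hC₁ : S.Sm (M₁ : ℤ) (C' - C₁.map ψ) := by
    rw [Matrix.map_mul, Matrix.map_mul, show C' - Q.e.map ψ * C.map ψ * P.e.map ψ =
      Q.e.map ψ * (C' - C.map ψ) * P.e.map ψ by rw [mul_sub_mul_aux, hC']]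
    exact ((hd.mul S hC).mul S hc).mono S (by omega)
  have hD₁ : S.Sm (M₁ : ℤ) (D' - D₁.map ψ) := by
    rw [Matrix.map_mul, Matrix.map_mul, show D' - P.e.map ψ * D.map ψ * Q.e.map ψ =
      P.e.map ψ * (D' - D.map ψ) * Q.e.map ψ by rw [mul_sub_mul_aux, hD']]
    exact ((hc.mul S hD).mul S hd).mono S (by omega)
  have hCψ : S.Sm (-(a : ℤ)) (C₁.map ψ) := by
    have := ha.sub S (hC₁.mono S (by omega)); rwa [sub_sub_cancel] at this
  have hDψ : S.Sm (-(b : ℤ)) (D₁.map ψ) := by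
    have := hb.sub S (hD₁.mono S (by omega)); rwa [sub_sub_cancel] at this
  have eC : Q.e * C₁ = C₁ := by simp only [C₁, ← Matrix.mul_assoc, Q.e_mul_e]
  have eC' : C₁ * P.e = C₁ := by simp only [C₁, Matrix.mul_assoc, P.e_mul_e]
  have eD : P.e * D₁ = D₁ := by simp only [D₁, ← Matrix.mul_assoc, P.e_mul_e]
  have eD' : D₁ * Q.e = D₁ := by simp only [D₁, Matrix.mul_assoc, Q.e_mul_e]
  have h1 : Function.Bijective (P.hom P (D₁ * C₁)) := by
    refine bij S P (D₁ * C₁) ?_ (by rw [← Matrix.mul_assoc, eD]) (by rw [Matrix.mul_assoc, eC'])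
    rw [Matrix.map_mul, ← hDC, show D₁.map ψ * C₁.map ψ - D' * C' =
      -((D' - D₁.map ψ) * C₁.map ψ + D' * (C' - C₁.map ψ)) by rw [Matrix.sub_mul, Matrix.mul_sub]; abel]
    exact (((hD₁.mul S hCψ).mono S (by omega)).add S ((hb.mul S hC₁).mono S (by omega))).neg S
  have h2 : Function.Bijective (Q.hom Q (C₁ * D₁)) := by
    refine bij S Q (C₁ * D₁) ?_ (by rw [← Matrix.mul_assoc, eC]) (by rw [Matrix.mul_assoc, eD'])
    rw [Matrix.map_mul, ← hCD, show C₁.map ψ * D₁.map ψ - C' * D' =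
      -((C' - C₁.map ψ) * D₁.map ψ + C' * (D' - D₁.map ψ)) by rw [Matrix.sub_mul, Matrix.mul_sub]; abel]
    exact (((hC₁.mul S hDψ).mono S (by omega)).add S ((ha.mul S hD₁).mono S (by omega))).neg S
  rw [show P.hom P (D₁ * C₁) = Q.hom P D₁ ∘ₗ P.hom Q C₁ by rw [Pres.hom_comp, eD'], LinearMap.coe_comp] at h1
  rw [show Q.hom Q (C₁ * D₁) = P.hom Q C₁ ∘ₗ Q.hom P D₁ by rw [Pres.hom_comp, eC'], LinearMap.coe_comp] at h2
  exact ⟨LinearEquiv.ofBijective (P.hom Q C₁) ⟨h1.1.of_comp, h2.2.of_comp⟩⟩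
where
  mul_sub_mul_aux {l m : ℕ} {E : Matrix (Fin l) (Fin l) L'} {X Y : Matrix (Fin l) (Fin m) L'}
      {F : Matrix (Fin m) (Fin m) L'} : E * (X - Y) * F = E * X * F - E * Y * F := by
    rw [Matrix.mul_sub, Matrix.sub_mul]
  bij {M : Type u} [AddCommGroup M] [Module L M] (S : Setup A Ah L L' t (algebraMap L L')) (P : Pres L M)
      (X : Matrix (Fin P.n) (Fin P.n) L)
      (hs : S.Sm (1 : ℤ) (X.map (algebraMap L L') - P.e.map (algebraMap L L')))
      (hl : P.e * X = X) (hr : X * P.e = X) : Function.Bijective (P.hom P X) := by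
    have hU : IsUnit (X + (1 - P.e)).det := by
      refine S.isUnit_of_sm (M := 1) le_rfl ?_
      rw [Matrix.map_add _ (map_add _), Matrix.map_sub _ (map_sub _), Matrix.map_one _ (map_zero _) (map_one _)]
      rw [show X.map (algebraMap L L') + (1 - P.e.map (algebraMap L L')) - 1 = X.map (algebraMap L L') - P.e.map (algebraMap L L') by
        rw [add_sub_assoc, sub_sub_cancel_left, ← sub_eq_add_neg]]
      exact hs
    generalize hUdef : X + (1 - P.e) = U at hU
    have heU : P.e * U = X := by rw [← hUdef, mul_add, hl, mul_sub, mul_one, P.e_mul_e, sub_self, add_zero]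
    have hUe : U * P.e = X := by rw [← hUdef, add_mul, hr, sub_mul, one_mul, P.e_mul_e, sub_self, add_zero]
    have hc : P.e * U⁻¹ = U⁻¹ * P.e := by
      calc P.e * U⁻¹ = U⁻¹ * U * P.e * U⁻¹ := by rw [Matrix.nonsing_inv_mul _ hU, one_mul]
        _ = U⁻¹ * P.e * U * U⁻¹ := by rw [mul_assoc U⁻¹ U P.e, hUe, ← heU, ← mul_assoc]
        _ = U⁻¹ * P.e := by rw [mul_assoc, Matrix.mul_nonsing_inv _ hU, mul_one]
    refine (P.equiv P X (U⁻¹ * P.e) ?_ ?_).bijective
    · rw [mul_assoc U⁻¹ P.e P.e, P.e_mul_e, mul_assoc, hl, ← hUe, ← mul_assoc, Matrix.nonsing_inv_mul _ hU, one_mul]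
    · rw [hr, ← hc, ← mul_assoc, hr, ← hUe, mul_assoc U P.e U⁻¹, hc, ← mul_assoc,
        Matrix.mul_nonsing_inv _ hU, one_mul]

omit S in
/-- A henselian `(A, t)` lifts idempotents of `Â[1/t]`. -/
theorem exists_idem_near (S : Setup A Ah L L' t (algebraMap L L')) [HenselianRing A (Ideal.span {t})] {n : ℕ}
    (e' : Matrix (Fin n) (Fin n) L') (he' : e' * e' = e') (M : ℕ) :
    ∃ e : Matrix (Fin n) (Fin n) L, e * e = e ∧ S.Sm (M : ℤ) (e' - e.map (algebraMap L L')) := by
  let ψ := algebraMap L L'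
  obtain ⟨z, hz⟩ := S.exists_sm e'
  let K : ℕ := M + z + 1
  obtain ⟨X, hX⟩ := S.exists_approx e' ((K + z : ℕ) : ℤ)
  have hXψ : S.Sm (-(z : ℤ)) (X.map ψ) := by
    have := hz.sub S (hX.mono S (by omega)); rwa [sub_sub_cancel] at this
  have hG : S.Sm ((K : ℕ) : ℤ) ((X * X - X).map ψ) := by
    rw [Matrix.map_sub _ (map_sub ψ), Matrix.map_mul,
      show X.map ψ * X.map ψ - X.map ψ = -((e' - X.map ψ) * X.map ψ + e' * (e' - X.map ψ) - (e' - X.map ψ)) by
        rw [Matrix.sub_mul, Matrix.mul_sub, he']; abel]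
    exact ((((hX.mul S hXψ).mono S (by omega)).add S ((hz.mul S hX).mono S (by omega))).sub S (hX.mono S (by omega))).neg S
  obtain ⟨B, hB⟩ := S.exists_eq_of_sm hG
  haveI : HenselianRing A (Ideal.span {t ^ K}) := Groth.Agent.Lib.Henselian.Basic.henselianRing_of_le
    (I := Ideal.span {t ^ K}) (J := Ideal.span {t})
    (Ideal.span_le.mpr (Set.singleton_subset_iff.mpr (Ideal.pow_mem_of_mem _ (Ideal.mem_span_singleton_self t) _ (by omega))))
  let R' := Algebra.adjoin A {B}
  letI : CommRing R' := { (inferInstance : Ring R') with mul_comm := fun a b => mul_comm a b }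
  haveI : Algebra.IsIntegral A R' := ⟨fun x => (isIntegral_algHom_iff R'.val Subtype.val_injective).mp (Matrix.isIntegral x.1)⟩
  let J : Ideal R' := (Ideal.span {t ^ K}).map (algebraMap A R')
  haveI : HenselianRing R' J := Groth.Agent.Lib.Henselian.Pair.henselianRing_of_isIntegral (Ideal.span {t ^ K}) R'
  let γ : R' := algebraMap A R' (t ^ K) * ⟨B, Algebra.subset_adjoin rfl⟩
  have hγ : γ ∈ J := J.mul_mem_right _ (Ideal.mem_map_of_mem _ (Ideal.mem_span_singleton_self _))
  let q : Polynomial R' := Polynomial.C (1 + 4 * γ) * Polynomial.X ^ 2 - Polynomial.C (1 + 4 * γ) * Polynomial.X + Polynomial.C γ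
  obtain ⟨Z, hZq, hZJ⟩ := Groth.Agent.Lib.Henselian.Roots.exists_root_lift J q (a₀ := 0) (by simpa [q] using hγ) (by
    have hγ0 : Ideal.Quotient.mk J γ = 0 := Ideal.Quotient.eq_zero_iff_mem.mpr hγ
    simp [q, Polynomial.derivative_pow, hγ0]
    exact (isUnit_one (M := R' ⧸ J)).neg)
  rw [sub_zero] at hZJ
  let ρ : R' →+* Matrix (Fin n) (Fin n) L := (algebraMap A L).mapMatrix.comp R'.val.toRingHom
  have hργ : ρ γ = X * X - X := by
    rw [hB]
    show ((algebraMap A L).mapMatrix) ((algebraMap A (Matrix (Fin n) (Fin n) A) (t ^ K)) * B) = _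
    rw [← Algebra.smul_def]
    ext i j
    simp
  have hcommB : B.map (algebraMap A L) * X = X * B.map (algebraMap A L) := by
    have hu : IsUnit (algebraMap A L t ^ K) := S.isUnit_t.pow K
    refine hu.smul_left_cancel.mp ?_
    rw [← Matrix.smul_mul, ← Matrix.mul_smul, ← hB]
    noncomm_ring
  have hcomm : ∀ r : R', ρ r * X = X * ρ r := by
    rintro ⟨r, hr⟩
    show r.map (algebraMap A L) * X = X * r.map (algebraMap A L)
    induction hr using Algebra.adjoin_induction with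
    | mem y hy => rw [Set.mem_singleton_iff.mp hy]; exact hcommB
    | algebraMap a =>
      rw [show (algebraMap A (Matrix (Fin n) (Fin n) A) a).map (algebraMap A L) = algebraMap A L a • 1 by
        ext i j; by_cases hij : i = j <;> simp [hij, Matrix.algebraMap_matrix_apply]]
      simp
    | add y y' _ _ hy hy' => rw [Matrix.map_add _ (map_add _), add_mul, mul_add, hy, hy']
    | mul y y' _ _ hy hy' => rw [Matrix.map_mul, mul_assoc, hy', ← mul_assoc, hy, mul_assoc]
  refine ⟨X + (1 - (X + X)) * ρ Z, ?_, ?_⟩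
  · have h0 : (1 + 4 * ρ γ) * (ρ Z * ρ Z) - (1 + 4 * ρ γ) * ρ Z + ρ γ = 0 := by
      have h := congrArg ρ (show (1 + 4 * γ) * Z ^ 2 - (1 + 4 * γ) * Z + γ = 0 by simpa [q, Polynomial.IsRoot] using hZq)
      simpa [map_sub, map_add, map_mul, map_ofNat, sq] using h
    rw [hργ] at h0
    have hc := hcomm Z
    have h1 : (X + (1 - (X + X)) * ρ Z) * (X + (1 - (X + X)) * ρ Z) =
        X * X + (1 - (X + X)) * (X + X) * ρ Z + (1 - (X + X)) * (1 - (X + X)) * (ρ Z * ρ Z) := by
      have h2 : ρ Z * (1 - (X + X)) = (1 - (X + X)) * ρ Z := by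
        rw [mul_sub, mul_add, sub_mul, add_mul, mul_one, one_mul, hc]
      calc _ = X * X + X * (1 - (X + X)) * ρ Z + (1 - (X + X)) * (ρ Z * X) + (1 - (X + X)) * (ρ Z * (1 - (X + X))) * ρ Z := by
            noncomm_ring
        _ = _ := by rw [hc, h2]; noncomm_ring
    rw [h1, ← sub_eq_zero, ← h0]
    noncomm_ring
  · have hZ : S.Sm ((K : ℕ) : ℤ) ((ρ Z).map ψ) := by
      rw [show J = Ideal.span {algebraMap A R' (t ^ K)} by rw [show J = _ from Ideal.map_span _ _, Set.image_singleton],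
        Ideal.mem_span_singleton] at hZJ
      obtain ⟨W, hW⟩ := hZJ
      refine ⟨W.1.map (algebraMap A Ah), ?_⟩
      have hZv : Z.1 = t ^ K • W.1 := by
        rw [hW, Algebra.smul_def]; rfl
      ext i j
      show ψ (algebraMap A L (Z.1 i j)) = _
      rw [hZv, Matrix.smul_apply, smul_eq_mul, map_mul, map_mul, map_pow, map_pow]
      simp only [Matrix.smul_apply, Matrix.map_apply, smul_eq_mul, zpow_natCast, Units.val_pow_eq_pow_val, S.coe_unit, ψ, S.comm]
    rw [Matrix.map_add _ (map_add _), Matrix.map_mul, Matrix.map_sub _ (map_sub _), Matrix.map_add _ (map_add _),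
      Matrix.map_one _ (map_zero _) (map_one _), sub_add_eq_sub_sub]
    exact (hX.mono S (by omega)).sub S (((((S.sm_one).mono S (show -(z : ℤ) ≤ 0 by omega)).sub S (hXψ.add S hXψ)).mul S hZ).mono S (by omega))

omit S in
/-- An idempotent near that of a module presents a form of that module. -/
theorem exists_model (S : Setup A Ah L L' t (algebraMap L L')) {M' : Type u} [AddCommGroup M'] [Module L' M'] (T : Pres L' M')
    (e : Matrix (Fin T.n) (Fin T.n) L) (he : e * e = e) {z K : ℕ} (hz : S.Sm (-(z : ℤ)) T.e) (hK : z + 1 ≤ K)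
    (hne : S.Sm (K : ℤ) (T.e - e.map (algebraMap L L'))) :
    Nonempty (L' ⊗[L] LinearMap.range (Matrix.toLin' e) ≃ₗ[L'] M') := by
  let f : Matrix (Fin T.n) (Fin T.n) L' := e.map (algebraMap L L')
  have hf : f * f = f := by rw [← Matrix.map_mul, he]
  obtain ⟨w, hw, hew⟩ := S.exists_conj T.e_mul_e hf hz hK
    (by rw [show f - T.e = -(T.e - f) by abel]; exact hne.neg S)
  let P' := (ofIdem e he).baseChange (R' := L')
  have heP : P'.e = f := by rw [Pres.baseChange_e, ofIdem_e]; rfl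
  refine ⟨P'.equiv T (T.e * w * f) (f * w⁻¹ * T.e) ?_ ?_⟩
  · rw [heP]
    calc f * w⁻¹ * T.e * T.e * (T.e * w * f) = f * w⁻¹ * (T.e * T.e * T.e) * w * f := by simp only [Matrix.mul_assoc]
      _ = f * w⁻¹ * (T.e * w) * f := by rw [T.e_mul_e, T.e_mul_e, Matrix.mul_assoc (f * w⁻¹)]
      _ = f * (w⁻¹ * w) * (f * f) := by rw [hew]; simp only [Matrix.mul_assoc]
      _ = f := by rw [Matrix.nonsing_inv_mul _ hw, Matrix.mul_one, hf, hf]
  · rw [heP]
    calc T.e * w * f * f * (f * w⁻¹ * T.e) = T.e * (w * (f * f * f)) * w⁻¹ * T.e := by simp only [Matrix.mul_assoc]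
      _ = T.e * (T.e * w) * w⁻¹ * T.e := by rw [hf, hf, hew]
      _ = T.e * T.e * (w * w⁻¹) * T.e := by simp only [Matrix.mul_assoc]
      _ = T.e := by rw [Matrix.mul_nonsing_inv _ hw, Matrix.mul_one, T.e_mul_e, T.e_mul_e]

omit S in
/-- Essential surjectivity for henselian pairs. -/
theorem surjective (S : Setup A Ah L L' t (algebraMap L L')) [HenselianRing A (Ideal.span {t})]
    (M' : Type u) [AddCommGroup M'] [Module L' M'] [Module.Finite L' M'] [Module.Projective L' M'] :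
    ∃ (M : Type u) (_ : AddCommGroup M) (_ : Module L M), Module.Finite L M ∧ Module.Projective L M ∧
      Nonempty (L' ⊗[L] M ≃ₗ[L'] M') := by
  obtain ⟨T⟩ := exists_pres (R := L') (M := M')
  obtain ⟨z, hz⟩ := S.exists_sm T.e
  obtain ⟨e, he, hne⟩ := exists_idem_near S T.e T.e_mul_e (z + 1)
  exact ⟨_, inferInstance, inferInstance, (finite_projective_range L e he).1, (finite_projective_range L e he).2,
    exists_model S T e he hz le_rfl hne⟩

omit S in
/-- Stably free modules descend. -/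
theorem stablyFree (S : Setup A Ah L L' t (algebraMap L L')) (M' : Type u) [AddCommGroup M'] [Module L' M']
    {n m : ℕ} (Φ : (M' × (Fin n → L')) ≃ₗ[L'] (Fin m → L')) :
    ∃ (M : Type u) (_ : AddCommGroup M) (_ : Module L M), Module.Finite L M ∧
      (∃ n m : ℕ, Nonempty ((M × (Fin n → L)) ≃ₗ[L] (Fin m → L))) ∧ Nonempty (L' ⊗[L] M ≃ₗ[L'] M') := by
  let ψ := algebraMap L L'
  let T : Pres L' M' :=
    { n := m
      i := Φ.toLinearMap ∘ₗ LinearMap.inl L' M' (Fin n → L')
      p := LinearMap.fst L' M' (Fin n → L') ∘ₗ Φ.symm.toLinearMap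
      pi := LinearMap.ext fun x => by simp }
  let P' : Matrix (Fin n) (Fin m) L' := LinearMap.toMatrix' (LinearMap.snd L' M' (Fin n → L') ∘ₗ Φ.symm.toLinearMap)
  let Q' : Matrix (Fin m) (Fin n) L' := LinearMap.toMatrix' (Φ.toLinearMap ∘ₗ LinearMap.inr L' M' (Fin n → L'))
  have hPQ : P' * Q' = 1 := by
    rw [← LinearMap.toMatrix'_comp, ← LinearMap.toMatrix'_id]
    exact congrArg LinearMap.toMatrix' (LinearMap.ext fun x => by simp)
  have hT : T.e = 1 - Q' * P' := by
    rw [eq_sub_iff_add_eq, ← LinearMap.toMatrix'_comp, ← LinearMap.toMatrix'_id, Pres.e, ← map_add]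
    refine congrArg LinearMap.toMatrix' (LinearMap.ext fun x => ?_)
    show Φ ((Φ.symm x).1, 0) + Φ (0, (Φ.symm x).2) = x
    rw [← map_add, Prod.mk_add_mk, add_zero, zero_add, Prod.mk.eta, Φ.apply_symm_apply]
  obtain ⟨a, ha⟩ := S.exists_sm P'
  obtain ⟨b, hb⟩ := S.exists_sm Q'
  let K : ℕ := a + b + 1
  obtain ⟨P, hP⟩ := S.exists_approx P' ((K + a + b + a + b : ℕ) : ℤ)
  obtain ⟨Q₀, hQ⟩ := S.exists_approx Q' ((K + a + b + a + b : ℕ) : ℤ)
  have hPψ : S.Sm (-(a : ℤ)) (P.map ψ) := by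
    have := ha.sub S (hP.mono S (by omega)); rwa [sub_sub_cancel] at this
  have hQψ : S.Sm (-(b : ℤ)) (Q₀.map ψ) := by
    have := hb.sub S (hQ.mono S (by omega)); rwa [sub_sub_cancel] at this
  have hW1 : S.Sm ((K + a + b : ℕ) : ℤ) ((P * Q₀).map ψ - 1) := by
    rw [Matrix.map_mul, ← hPQ, show P.map ψ * Q₀.map ψ - P' * Q' =
      -((P' - P.map ψ) * Q₀.map ψ + P' * (Q' - Q₀.map ψ)) by rw [Matrix.sub_mul, Matrix.mul_sub]; abel]
    exact (((hP.mul S hQψ).mono S (by omega)).add S ((ha.mul S hQ).mono S (by omega))).neg S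
  have hW : IsUnit (P * Q₀).det := S.isUnit_of_sm (by omega) hW1
  have hW2 : S.Sm ((K + a + b : ℕ) : ℤ) ((P * Q₀)⁻¹.map ψ - 1) := by
    have h := (S.sm_isUnit (by omega) hW1).2
    rwa [show ((P * Q₀).map ψ)⁻¹ = (P * Q₀)⁻¹.map ψ from Matrix.inv_eq_left_inv (by
      rw [← Matrix.map_mul, Matrix.nonsing_inv_mul _ hW, Matrix.map_one _ (map_zero _) (map_one _)])] at h
  let Q := Q₀ * (P * Q₀)⁻¹
  have hPQ1 : P * Q = 1 := by rw [← Matrix.mul_assoc, Matrix.mul_nonsing_inv _ hW]
  have hQd : S.Sm ((K + a : ℕ) : ℤ) (Q' - Q.map ψ) := by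
    rw [Matrix.map_mul, show Q' - Q₀.map ψ * (P * Q₀)⁻¹.map ψ = (Q' - Q₀.map ψ) - Q₀.map ψ * ((P * Q₀)⁻¹.map ψ - 1) by
      rw [Matrix.mul_sub, Matrix.mul_one]; abel]
    exact (hQ.mono S (by omega)).sub S ((hQψ.mul S hW2).mono S (by omega))
  let e : Matrix (Fin T.n) (Fin T.n) L := (1 : Matrix (Fin m) (Fin m) L) - Q * P
  have he : e * e = e := by
    show ((1 : Matrix (Fin m) (Fin m) L) - Q * P) * (1 - Q * P) = 1 - Q * P
    rw [Matrix.mul_sub, Matrix.mul_one, Matrix.sub_mul, Matrix.one_mul, ← Matrix.mul_assoc (Q * P), Matrix.mul_assoc Q P Q, hPQ1, Matrix.mul_one]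
    abel
  have hne : S.Sm (K : ℤ) (T.e - e.map ψ) := by
    show S.Sm (K : ℤ) (T.e - ((1 : Matrix (Fin m) (Fin m) L) - Q * P).map ψ)
    rw [hT, Matrix.map_sub _ (map_sub _), Matrix.map_one _ (map_zero _) (map_one _), Matrix.map_mul,
      show 1 - Q' * P' - (1 - Q.map ψ * P.map ψ) = -((Q' - Q.map ψ) * P.map ψ + Q' * (P' - P.map ψ)) by
        rw [Matrix.sub_mul, Matrix.mul_sub]; abel]
    exact (((hQd.mul S hPψ).mono S (by omega)).add S ((hb.mul S hP).mono S (by omega))).neg S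
  have hz : S.Sm (-((a + b : ℕ) : ℤ)) T.e := by
    rw [hT]
    exact ((S.sm_one).mono S (by omega)).sub S ((hb.mul S ha).mono S (by omega))
  refine ⟨_, inferInstance, inferInstance, (finite_projective_range L e he).1, ⟨n, m, ?_⟩,
    exists_model S T e he hz (by omega) hne⟩
  have hPQv : ∀ v, P *ᵥ (Q *ᵥ v) = v := fun v => by rw [Matrix.mulVec_mulVec, hPQ1, Matrix.one_mulVec]
  have hev : ∀ x : Fin m → L, Matrix.toLin' e x = x - Q *ᵥ (P *ᵥ x) := fun x => by
    rw [Matrix.mulVec_mulVec]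
    show ((1 : Matrix (Fin m) (Fin m) L) - Q * P) *ᵥ x = _
    rw [Matrix.sub_mulVec, Matrix.one_mulVec]
  have hPe : ∀ y : LinearMap.range (Matrix.toLin' e), P *ᵥ (y : Fin m → L) = 0 := by
    rintro ⟨y, x, rfl⟩
    show P *ᵥ (Matrix.toLin' e x) = 0
    rw [hev, Matrix.mulVec_sub, hPQv, sub_self]
  refine ⟨LinearEquiv.ofLinear
    ((Submodule.subtype _) ∘ₗ LinearMap.fst L _ _ + Matrix.toLin' Q ∘ₗ LinearMap.snd L _ _)
    ((Matrix.toLin' e).rangeRestrict.prod (Matrix.toLin' P)) (LinearMap.ext fun x => ?_) (LinearMap.ext fun yv => ?_)⟩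
  · show Matrix.toLin' e x + Q *ᵥ (P *ᵥ x) = x
    rw [hev]
    exact sub_add_cancel _ _
  · obtain ⟨y, v⟩ := yv
    have h1 : P *ᵥ ((y : Fin m → L) + Q *ᵥ v) = v := by rw [Matrix.mulVec_add, hPe, hPQv, zero_add]
    refine Prod.ext (Subtype.ext ?_) h1
    show Matrix.toLin' e ((y : Fin m → L) + Q *ᵥ v) = y
    rw [hev, h1, add_sub_cancel_right]

end Main

end Groth.Agent.H21.DenseProj
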