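import Groth.Agent.H21.NormModule
import Mathlib.RingTheory.Norm.Transitivity
import Mathlib.LinearAlgebra.Matrix.Reindex
import Mathlib.LinearAlgebra.TensorPower.Basic
import Mathlib.RingTheory.Localization.Away.Basic

/-!
# The top exterior power over `A` of a locally free module over a finite locally free algebra
-/

set_option autoImplicit false

universe u

open scoped TensorProduct

namespace Groth.Agent.H21.DetNorm

section top

variable {R : Type u} [CommRing R] {M : Type u} [AddCommGroup M] [Module R M] {r : ℕ}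

/-- The determinant functional attached to coordinates `ψ`. -/
noncomputable def tau (ψ : M →ₗ[R] (Fin r → R)) : ⋀[R]^r M →ₗ[R] R :=
  exteriorPower.alternatingMapLinearEquiv
    ((Matrix.detRowAlternating (n := Fin r) (R := R)).compLinearMap ψ)

theorem tau_apply (ψ : M →ₗ[R] (Fin r → R)) (v : Fin r → M) :
    tau ψ (exteriorPower.ιMulti R r v) = (Matrix.of fun i => ψ (v i)).det := by
  rw [tau, exteriorPower.alternatingMapLinearEquiv_apply_ιMulti]
  rfl

theorem tau_self (ψ : M →ₗ[R] (Fin r → R)) (F : R) (v : Fin r → M)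
    (h : ∀ i, ψ (v i) = F • Pi.single i 1) : tau ψ (exteriorPower.ιMulti R r v) = F ^ r := by
  rw [tau_apply]
  have : (Matrix.of fun i => ψ (v i)) = F • (1 : Matrix (Fin r) (Fin r) R) := by
    ext i j
    simp [h, Matrix.one_apply, Pi.single_apply, eq_comm]
  rw [this, Matrix.det_smul, Matrix.det_one, Fintype.card_fin, mul_one]

theorem smul_eq_tau (ψ : M →ₗ[R] (Fin r → R)) (F : R) (v : Fin r → M)
    (h : ∀ x, F • x = ∑ l, ψ x l • v l) (z : ⋀[R]^r M) :
    F ^ r • z = tau ψ z • exteriorPower.ιMulti R r v := by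
  suffices F ^ r • (LinearMap.id : ⋀[R]^r M →ₗ[R] ⋀[R]^r M) =
      (LinearMap.toSpanSingleton R (⋀[R]^r M) (exteriorPower.ιMulti R r v)).comp (tau ψ) from
    LinearMap.congr_fun this z
  refine exteriorPower.linearMap_ext (AlternatingMap.ext fun m => ?_)
  simp only [LinearMap.compAlternatingMap_apply, LinearMap.smul_apply, LinearMap.id_apply,
    LinearMap.comp_apply, LinearMap.toSpanSingleton_apply, tau_apply]
  have h1 := AlternatingMap.map_smul_univ (exteriorPower.ιMulti R r) (fun _ => F) m
  rw [Finset.prod_const, Finset.card_univ, Fintype.card_fin] at h1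
  rw [← h1]
  simp only [h]
  exact map_sum_smul' (exteriorPower.ιMulti R r (M := M)) v (Matrix.of fun i => ψ (m i))
where
  map_sum_smul' {N : Type u} [AddCommGroup N] [Module R N] (f : M [⋀^Fin r]→ₗ[R] N) (t : Fin r → M)
      (c : Matrix (Fin r) (Fin r) R) : f (fun i => ∑ j, c i j • t j) = c.det • f t := by
    classical
    let T := Fintype.linearCombination R t
    have hg : f.compLinearMap T =
        (LinearMap.toSpanSingleton R N (f t)).compAlternatingMap Matrix.detRowAlternating := by
      refine Module.Basis.ext_alternating (Pi.basisFun R (Fin r)) fun v hv => ?_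
      obtain ⟨σ, rfl⟩ : ∃ σ : Equiv.Perm (Fin r), (⇑σ : Fin r → Fin r) = v :=
        ⟨Equiv.ofBijective v (Finite.injective_iff_bijective.mp hv), rfl⟩
      show (f.compLinearMap T) ((fun j => Pi.basisFun R (Fin r) j) ∘ σ) =
        LinearMap.toSpanSingleton R N (f t)
          (Matrix.detRowAlternating ((fun j => Pi.basisFun R (Fin r) j) ∘ σ))
      rw [AlternatingMap.map_perm, AlternatingMap.map_perm]
      have h2 : Matrix.detRowAlternating (fun j => Pi.basisFun R (Fin r) j) = (1 : R) := by
        show Matrix.det (fun j => Pi.basisFun R (Fin r) j) = 1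
        rw [← Matrix.det_one (n := Fin r) (R := R)]
        congr 1
        ext i j
        simp [Matrix.one_apply, Pi.basisFun_apply, Pi.single_apply, eq_comm]
      rw [map_zsmul_unit, h2]
      simp [T, AlternatingMap.compLinearMap_apply]
    exact DFunLike.congr_fun hg c
  map_zsmul_unit {N : Type u} [AddCommGroup N] [Module R N] (g : R →ₗ[R] N) (z : ℤˣ) (x : R) :
      g (z • x) = z • g x := by
    simp only [Units.smul_def, map_zsmul]

end top

section generic

variable {A : Type u} [CommRing A] {P Q : Type u} [AddCommGroup P] [Module A P]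
  [AddCommGroup Q] [Module A Q]

theorem bijective_proj (G : Submodule A (P × Q))
    (h : ∀ q : PrimeSpectrum A,
      (∃ g : A, g ∉ q.asIdeal ∧ ∀ x, g • x ∈ G.map (LinearMap.fst A P Q)) ∧
      (∃ g : A, g ∉ q.asIdeal ∧ ∀ y, g • y ∈ G.map (LinearMap.snd A P Q)) ∧
      ∀ x ∈ G, (x.1 = 0 → ∃ g : A, g ∉ q.asIdeal ∧ g • x.2 = 0) ∧
        (x.2 = 0 → ∃ g : A, g ∉ q.asIdeal ∧ g • x.1 = 0)) :
    Nonempty (P ≃ₗ[A] Q) := by
  let p₁ := LinearMap.fst A P Q ∘ₗ G.subtype
  let p₂ := LinearMap.snd A P Q ∘ₗ G.subtype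
  have hb₁ : Function.Bijective p₁ := by
    constructor
    · refine (injective_iff_map_eq_zero (p₁ : G →ₗ[A] P)).mpr fun x hx => ?_
      refine Subtype.ext (Prod.ext hx (NormModule.eq_zero_of_local (A := A) _ fun q => ?_))
      exact ((h q).2.2 x.1 x.2).1 hx
    · rw [← LinearMap.range_eq_top, LinearMap.range_comp, Submodule.range_subtype]
      exact NormModule.eq_top_of_local _ fun q => (h q).1
  have hb₂ : Function.Bijective p₂ := by
    constructor
    · refine (injective_iff_map_eq_zero (p₂ : G →ₗ[A] Q)).mpr fun x hx => ?_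
      refine Subtype.ext (Prod.ext (NormModule.eq_zero_of_local (A := A) _ fun q => ?_) hx)
      exact ((h q).2.2 x.1 x.2).2 hx
    · rw [← LinearMap.range_eq_top, LinearMap.range_comp, Submodule.range_subtype]
      exact NormModule.eq_top_of_local _ fun q => (h q).2.1
  exact ⟨(LinearEquiv.ofBijective p₁ hb₁).symm.trans (LinearEquiv.ofBijective p₂ hb₂)⟩

/-- If near every prime both sides are approximately generated by the components of a single element
of `G`, compatibly on all of `G`, then `G` is the graph of an isomorphism. -/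
theorem equiv_of_local_generator (G : Submodule A (P × Q))
    (h : ∀ q : PrimeSpectrum A, ∃ f : A, f ∉ q.asIdeal ∧
      ∃ x₀ ∈ G, ∃ (φ₁ : P →ₗ[A] A) (φ₂ : Q →ₗ[A] A) (a b : ℕ),
        (∀ p, f ^ a • p = φ₁ p • x₀.1) ∧ (∀ y, f ^ b • y = φ₂ y • x₀.2) ∧
        ∀ x ∈ G, algebraMap A (Localization.Away f) (φ₁ x.1) =
          algebraMap A (Localization.Away f) (φ₂ x.2)) :
    Nonempty (P ≃ₗ[A] Q) := by
  refine bijective_proj G fun q => ?_
  obtain ⟨f, hf, x₀, hx₀, φ₁, φ₂, a, b, ha, hb, hc⟩ := h q
  have hp : ∀ k, f ^ k ∉ q.asIdeal := fun k => q.asIdeal.primeCompl.pow_mem hf k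
  refine ⟨⟨f ^ a, hp a, fun x => ⟨φ₁ x • x₀, G.smul_mem _ hx₀, (ha x).symm⟩⟩,
    ⟨f ^ b, hp b, fun y => ⟨φ₂ y • x₀, G.smul_mem _ hx₀, (hb y).symm⟩⟩, fun x hx => ⟨fun h0 => ?_, fun h0 => ?_⟩⟩
  · have h1 := hc x hx
    rw [h0, map_zero, map_zero, eq_comm, IsLocalization.map_eq_zero_iff (Submonoid.powers f)] at h1
    obtain ⟨⟨_, m, rfl⟩, hm⟩ := h1
    refine ⟨f ^ (m + b), hp _, ?_⟩
    rw [pow_add, mul_smul, hb, smul_smul, hm, zero_smul]
  · have h1 := hc x hx
    rw [h0, map_zero, map_zero, IsLocalization.map_eq_zero_iff (Submonoid.powers f)] at h1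
    obtain ⟨⟨_, m, rfl⟩, hm⟩ := h1
    refine ⟨f ^ (m + a), hp _, ?_⟩
    rw [pow_add, mul_smul, ha, smul_smul, hm, zero_smul]

end generic

section multiplication

variable {A B : Type u} [CommRing A] [CommRing B] [Algebra A B] {n : ℕ}
variable (ψ : B →ₗ[A] (Fin n → A)) (w : Fin n → B) (f : A)

theorem mul_coord (h : ∀ x, f • x = ∑ i, ψ x i • w i) (a b : B) (i' : Fin n) :
    f * ψ (a * b) i' = ∑ i, ψ a i * ψ (w i * b) i' := by
  have : f • (a * b) = ∑ i, ψ a i • (w i * b) := by
    rw [← smul_mul_assoc, h, Finset.sum_mul]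
    simp [smul_mul_assoc]
  have h2 := congrFun (congrArg ψ this) i'
  simpa [map_sum, Finset.sum_apply] using h2

/-- Multiplication matrices over `A[1/f]`. -/
noncomputable def rho (h : ∀ x, f • x = ∑ i, ψ x i • w i) (h' : ∀ i, ψ (w i) = f • Pi.single i 1) :
    B →+* Matrix (Fin n) (Fin n) (Localization.Away f) where
  toFun b := Matrix.of fun i j =>
    IsLocalization.Away.invSelf f * algebraMap A (Localization.Away f) (ψ (w i * b) j)
  map_one' := by
    ext i j
    rw [Matrix.of_apply, mul_one, h', Pi.smul_apply, smul_eq_mul, map_mul, ← mul_assoc,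
      mul_comm _ (algebraMap A _ f), IsLocalization.Away.mul_invSelf, one_mul, Matrix.one_apply,
      Pi.single_apply]
    by_cases hij : i = j <;> simp [hij, Ne.symm]
  map_mul' b c := by
    ext i j
    have h1 := congrArg (algebraMap A (Localization.Away f)) (mul_coord ψ w f h (w i * b) c j)
    rw [map_mul, map_sum] at h1
    simp only [Matrix.mul_apply, Matrix.of_apply]
    rw [← mul_assoc (w i)]
    calc _ = IsLocalization.Away.invSelf f * ((algebraMap A (Localization.Away f) f *
            IsLocalization.Away.invSelf f) * algebraMap A (Localization.Away f) (ψ (w i * b * c) j)) := by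
          rw [IsLocalization.Away.mul_invSelf, one_mul]
      _ = IsLocalization.Away.invSelf f * IsLocalization.Away.invSelf f *
            (algebraMap A (Localization.Away f) f * algebraMap A (Localization.Away f) (ψ (w i * b * c) j)) := by
          ring
      _ = _ := by
          rw [h1, Finset.mul_sum]
          refine Finset.sum_congr rfl fun l _ => ?_
          rw [map_mul]
          ring
  map_zero' := by ext i j; simp
  map_add' b c := by ext i j; simp [mul_add]

theorem coord_mul (h : ∀ x, f • x = ∑ i, ψ x i • w i) (h' : ∀ i, ψ (w i) = f • Pi.single i 1)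
    (a b : B) (i' : Fin n) :
    algebraMap A (Localization.Away f) (ψ (a * b) i') =
      ∑ i, algebraMap A (Localization.Away f) (ψ a i) * rho ψ w f h h' b i i' := by
  have h1 := congrArg (algebraMap A (Localization.Away f)) (mul_coord ψ w f h a b i')
  rw [map_mul, map_sum] at h1
  calc _ = (algebraMap A (Localization.Away f) f * IsLocalization.Away.invSelf f) *
        algebraMap A (Localization.Away f) (ψ (a * b) i') := by
          rw [IsLocalization.Away.mul_invSelf, one_mul]
    _ = IsLocalization.Away.invSelf f *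
        (algebraMap A (Localization.Away f) f * algebraMap A (Localization.Away f) (ψ (a * b) i')) := by ring
    _ = _ := by
      rw [h1, Finset.mul_sum]
      refine Finset.sum_congr rfl fun l _ => ?_
      rw [map_mul]
      simp only [rho, RingHom.coe_mk, MonoidHom.coe_mk, OneHom.coe_mk, Matrix.of_apply]
      ring

end multiplication

section main

variable (A B : Type u) [CommRing A] [CommRing B] [Algebra A B] (n k : ℕ)
variable (M : Type u) [AddCommGroup M] [Module B M] [Module A M] [IsScalarTower A B M]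

/-- The index bijection. -/
def idx : Fin (n * (k + 1)) ≃ Fin (k + 1) × Fin n :=
  (finCongr (mul_comm n (k + 1))).trans finProdFinEquiv.symm

variable {A B n k M}

/-- first component of a generator. -/
noncomputable def gen₁ (e : Fin (k + 1) → M) (a : Fin (k + 1) → Fin n → B) : ⋀[A]^(n * (k + 1)) M :=
  exteriorPower.ιMulti A (n * (k + 1)) fun l => a (idx n k l).1 (idx n k l).2 • e (idx n k l).1

/-- second component of a generator. -/
noncomputable def gen₂ (e : Fin (k + 1) → M) (a : Fin (k + 1) → Fin n → B) :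
    (TensorPower A k (⋀[A]^n B)) ⊗[A] (⋀[A]^n (⋀[B]^(k + 1) M)) :=
  (PiTensorProduct.tprod A fun j : Fin k => exteriorPower.ιMulti A n (a j.castSucc)) ⊗ₜ[A]
    exteriorPower.ιMulti A n fun i => a (Fin.last k) i • exteriorPower.ιMulti B (k + 1) e

variable (A B n k M) in
/-- The graph. -/
noncomputable def graph : Submodule A ((⋀[A]^(n * (k + 1)) M) ×
    ((TensorPower A k (⋀[A]^n B)) ⊗[A] (⋀[A]^n (⋀[B]^(k + 1) M)))) :=
  Submodule.span A (Set.range fun x : (Fin (k + 1) → M) × (Fin (k + 1) → Fin n → B) =>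
    (gen₁ x.1 x.2, gen₂ x.1 x.2))

variable (A B n k M) in
/-- Local data near a prime. -/
def LocalData (f : A) : Prop :=
  ∃ (ψ : B →ₗ[A] (Fin n → A)) (w : Fin n → B) (χ : M →ₗ[B] (Fin (k + 1) → B)) (e : Fin (k + 1) → M),
    (∀ x, f • x = ∑ i, ψ x i • w i) ∧ (∀ i, ψ (w i) = f • Pi.single i 1) ∧
    (∀ x, f • x = ∑ j, χ x j • e j) ∧ ∀ j, χ (e j) = algebraMap A B f • Pi.single j 1

set_option maxHeartbeats 1600000 in
theorem local_generator (f : A) (hf : LocalData A B n k M f) :
    ∃ x₀ ∈ graph A B n k M, ∃ (φ₁ : ⋀[A]^(n * (k + 1)) M →ₗ[A] A)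
      (φ₂ : (TensorPower A k (⋀[A]^n B)) ⊗[A] (⋀[A]^n (⋀[B]^(k + 1) M)) →ₗ[A] A) (a b : ℕ),
      (∀ p, f ^ a • p = φ₁ p • x₀.1) ∧ (∀ y, f ^ b • y = φ₂ y • x₀.2) ∧
      ∀ x ∈ graph A B n k M, algebraMap A (Localization.Away f) (φ₁ x.1) =
        algebraMap A (Localization.Away f) (φ₂ x.2) := by
  obtain ⟨ψ, w, χ, e, hψ, hψw, hχ, hχe⟩ := hf
  let φ := algebraMap A (Localization.Away f)
  let Ψ : M →ₗ[A] (Fin (n * (k + 1)) → A) := LinearMap.pi fun l =>
    LinearMap.proj (idx n k l).2 ∘ₗ ψ ∘ₗ LinearMap.proj (idx n k l).1 ∘ₗ χ.restrictScalars A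
  have hΨ : ∀ x, (f * f) • x = ∑ l, Ψ x l • (w (idx n k l).2 • e (idx n k l).1) := by
    intro x
    rw [← (idx n k).symm.sum_comp, Fintype.sum_prod_type, mul_smul, hχ x, Finset.smul_sum]
    refine Finset.sum_congr rfl fun j _ => ?_
    simp only [Equiv.apply_symm_apply, Ψ, LinearMap.pi_apply, LinearMap.comp_apply,
      LinearMap.proj_apply, LinearMap.restrictScalars_apply, ← smul_assoc, ← Finset.sum_smul, ← hψ]
  let χ' : ⋀[B]^(k + 1) M →ₗ[B] B := tau χ
  let Ω : ⋀[B]^(k + 1) M := exteriorPower.ιMulti B (k + 1) e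
  let ΨL : ⋀[B]^(k + 1) M →ₗ[A] (Fin n → A) := ψ ∘ₗ χ'.restrictScalars A
  have hΨL : ∀ y, (f * f ^ (k + 1)) • y = ∑ i, ΨL y i • (w i • Ω) := by
    intro y
    have h := smul_eq_tau χ (algebraMap A B f) e (fun x => by rw [algebraMap_smul, hχ]) y
    rw [← map_pow, algebraMap_smul] at h
    simp only [ΨL, LinearMap.comp_apply, LinearMap.restrictScalars_apply, ← smul_assoc,
      ← Finset.sum_smul, ← hψ]
    rw [mul_smul, h, smul_assoc]
  let τN := tau ψ
  let τT : TensorPower A k (⋀[A]^n B) →ₗ[A] A :=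
    PiTensorProduct.lift ((MultilinearMap.mkPiAlgebra A (Fin k) A).compLinearMap fun _ => τN)
  let φ₁ := tau Ψ
  let φ₂ : (TensorPower A k (⋀[A]^n B)) ⊗[A] (⋀[A]^n (⋀[B]^(k + 1) M)) →ₗ[A] A :=
    LinearMap.mul' A A ∘ₗ TensorProduct.map τT (tau ΨL)
  have hT : ∀ t : TensorPower A k (⋀[A]^n B), (f ^ n) ^ k • t =
      τT t • PiTensorProduct.tprod A fun _ : Fin k => exteriorPower.ιMulti A n w := by
    intro t
    suffices (f ^ n) ^ k • (LinearMap.id : TensorPower A k (⋀[A]^n B) →ₗ[A] TensorPower A k (⋀[A]^n B)) =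
        (LinearMap.toSpanSingleton A (TensorPower A k (⋀[A]^n B))
          (PiTensorProduct.tprod A fun _ : Fin k => exteriorPower.ιMulti A n w)).comp τT from
      LinearMap.congr_fun this t
    refine PiTensorProduct.ext (MultilinearMap.ext fun m => ?_)
    simp only [LinearMap.compMultilinearMap_apply, LinearMap.smul_apply, LinearMap.id_apply,
      LinearMap.comp_apply, LinearMap.toSpanSingleton_apply, τT, PiTensorProduct.lift.tprod,
      MultilinearMap.compLinearMap_apply, MultilinearMap.mkPiAlgebra_apply, τN]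
    have h1 := MultilinearMap.map_smul_univ
      (PiTensorProduct.tprod A (s := fun _ : Fin k => ⋀[A]^n B)) (fun _ => f ^ n) m
    rw [Finset.prod_const, Finset.card_univ, Fintype.card_fin] at h1
    rw [← h1, ← MultilinearMap.map_smul_univ]
    congr 1
    funext i
    exact smul_eq_tau ψ f w hψ (m i)
  refine ⟨(gen₁ e fun _ => w, gen₂ e fun _ => w), Submodule.subset_span ⟨(e, fun _ => w), rfl⟩,
    φ₁, φ₂, 2 * (n * (k + 1)), n * k + (k + 2) * n, fun p => ?_, fun y => ?_, fun x hx => ?_⟩
  · have := smul_eq_tau Ψ (f * f) _ hΨ p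
    rwa [← pow_two, ← pow_mul] at this
  · suffices f ^ (n * k + (k + 2) * n) • (LinearMap.id :
        (TensorPower A k (⋀[A]^n B)) ⊗[A] (⋀[A]^n (⋀[B]^(k + 1) M)) →ₗ[A] _) =
        (LinearMap.toSpanSingleton A _ (gen₂ (A := A) e fun _ => w)).comp φ₂ from
      LinearMap.congr_fun this y
    refine TensorProduct.ext' fun t z => ?_
    simp only [LinearMap.smul_apply, LinearMap.id_apply, LinearMap.comp_apply,
      LinearMap.toSpanSingleton_apply, φ₂, TensorProduct.map_tmul, LinearMap.mul'_apply, gen₂]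
    rw [pow_add, mul_smul, ← TensorProduct.tmul_smul, TensorProduct.smul_tmul', pow_mul, hT,
      show f ^ ((k + 2) * n) = (f * f ^ (k + 1)) ^ n by rw [← pow_succ', ← pow_mul],
      smul_eq_tau ΨL _ _ hΨL z, TensorProduct.tmul_smul, ← TensorProduct.smul_tmul', smul_smul,
      mul_comm]
  · induction hx using Submodule.span_induction with
    | zero => simp
    | add x y _ _ hx hy => simp only [Prod.fst_add, Prod.snd_add, map_add, hx, hy]
    | smul c x _ hx => simp only [Prod.smul_fst, Prod.smul_snd, map_smul, smul_eq_mul, map_mul, hx]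
    | mem x hx =>
      obtain ⟨⟨e', a⟩, rfl⟩ := hx
      let ρ := rho ψ w f hψ hψw
      let g : Matrix (Fin (k + 1)) (Fin (k + 1)) B := Matrix.of fun j => χ (e' j)
      let α : Fin (k + 1) → Matrix (Fin n) (Fin n) (Localization.Away f) :=
        fun j => (Matrix.of fun i => ψ (a j i)).map φ
      have h1 : φ (φ₁ (gen₁ e' a)) = (∏ j, (α j).det) * (ρ g.det).det := by
        have hprod : ((Matrix.of fun l => Ψ (a (idx n k l).1 (idx n k l).2 • e' (idx n k l).1)).map φ) =
            ((Matrix.blockDiagonal α).submatrix Prod.swap Prod.swap *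
              (g.map ρ).comp _ _ _ _ _).submatrix (idx n k) (idx n k) := by
          ext l l'
          obtain ⟨⟨j, i⟩, rfl⟩ := (idx n k).symm.surjective l
          obtain ⟨⟨j', i'⟩, rfl⟩ := (idx n k).symm.surjective l'
          simp only [Matrix.map_apply, Matrix.of_apply, Matrix.submatrix_apply,
            Equiv.apply_symm_apply, Ψ, LinearMap.pi_apply, LinearMap.comp_apply,
            LinearMap.proj_apply, LinearMap.restrictScalars_apply, map_smul, Pi.smul_apply,
            smul_eq_mul, Matrix.mul_apply, Fintype.sum_prod_type, Prod.swap_prod_mk,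
            Matrix.blockDiagonal_apply, Matrix.comp_apply, g, α, ite_mul, zero_mul]
          rw [Finset.sum_comm]
          simp only [Finset.sum_ite_eq, Finset.mem_univ, if_true]
          exact coord_mul ψ w f hψ hψw (a j i) (χ (e' j) j') i'
        rw [show φ₁ (gen₁ e' a) = _ from tau_apply Ψ _, RingHom.map_det, RingHom.mapMatrix_apply,
          hprod, Matrix.det_submatrix_equiv_self, Matrix.det_mul,
          show (Prod.swap : Fin (k + 1) × Fin n → Fin n × Fin (k + 1)) = ⇑(Equiv.prodComm _ _) from rfl,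
          Matrix.det_submatrix_equiv_self, Matrix.det_blockDiagonal, Matrix.det_det]
      have h2 : φ (φ₂ (gen₂ e' a)) = (∏ j : Fin k, (α j.castSucc).det) * ((α (Fin.last k)).det * (ρ g.det).det) := by
        simp only [φ₂, gen₂, LinearMap.comp_apply, TensorProduct.map_tmul, LinearMap.mul'_apply,
          τT, PiTensorProduct.lift.tprod, MultilinearMap.compLinearMap_apply,
          MultilinearMap.mkPiAlgebra_apply, τN, tau_apply, map_mul, map_prod, RingHom.map_det,
          RingHom.mapMatrix_apply, ← Matrix.det_mul]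
        congr 2
        ext i i'
        simp only [Matrix.map_apply, Matrix.of_apply, Matrix.mul_apply, ΨL, LinearMap.comp_apply,
          LinearMap.restrictScalars_apply, map_smul, smul_eq_mul, α, χ', tau_apply]
        exact coord_mul ψ w f hψ hψw (a (Fin.last k) i) g.det i'
      show φ (φ₁ (gen₁ e' a)) = φ (φ₂ (gen₂ e' a))
      rw [h1, h2, Fin.prod_univ_castSucc, mul_assoc]

end main

end Groth.Agent.H21.DetNorm
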