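import Mathlib.RingTheory.Smooth.Locus
import Mathlib.RingTheory.Smooth.StandardSmooth
import Mathlib.LinearAlgebra.Matrix.SchurComplement
import Mathlib.RingTheory.Nakayama
import Groth.Prelude.Def_CAlgX

/-!
# The smooth locus of a determinantal scheme
-/

set_option autoImplicit false

universe u

namespace Groth.Agent.H21.DetSmooth

open Matrix

section General

variable {R : Type u} [CommRing R]

/-- Perturbing a matrix with small minors changes its determinant only to second order. -/
theorem det_add_sub_mem {N : ℕ} (I 𝔪 : Ideal R) (hI : I ≤ 𝔪) (M A : Matrix (Fin (N + 1)) (Fin (N + 1)) R)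
    (hA : ∀ i j, A i j ∈ I) (hM : ∀ a b : Fin N → Fin (N + 1), (M.submatrix a b).det ∈ 𝔪) :
    (M + A).det - M.det ∈ 𝔪 * I := by
  classical
  let H : Finset (Fin (N + 1)) → Matrix (Fin (N + 1)) (Fin (N + 1)) R :=
    fun S => Matrix.of fun i j => if i ∈ S then M i j + A i j else M i j
  suffices h : ∀ S, (H S).det - M.det ∈ 𝔪 * I by
    have e : H Finset.univ = M + A := by ext i j; simp [H]
    exact e ▸ h Finset.univ
  intro S
  induction S using Finset.induction with
  | empty =>
    have : H ∅ = M := by ext i j; simp [H]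
    simp [this]
  | insert i S hi ih =>
    have hs : (H (insert i S)).det = (H S).det + ((H S).updateRow i (A i)).det := by
      have e1 : H (insert i S) = (H S).updateRow i (H S i + A i) := by
        refine Matrix.ext fun a b => ?_
        by_cases h : a = i
        · subst h; simp [H, hi]
        · simp [H, h]
      rw [e1, det_updateRow_add, updateRow_eq_self]
    rw [hs, add_sub_right_comm]
    refine add_mem ih ?_
    rw [Matrix.det_succ_row _ i]
    refine Ideal.sum_mem _ fun j _ => ?_
    rw [updateRow_self, mul_comm ((-1 : R) ^ _) (A i j), mul_assoc, mul_comm (A i j)]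
    refine Ideal.mul_mem_mul (Ideal.mul_mem_left _ _ ?_) (hA i j)
    have hsub : ((H S).updateRow i (A i)).submatrix i.succAbove j.succAbove =
        (H S).submatrix i.succAbove j.succAbove := by
      refine Matrix.ext fun a b => ?_
      simp [updateRow_ne (Fin.succAbove_ne i a)]
    rw [hsub]
    have hq : (H S).map (Ideal.Quotient.mk 𝔪) = M.map (Ideal.Quotient.mk 𝔪) := by
      refine Matrix.ext fun a b => ?_
      simp only [H, Matrix.map_apply, Matrix.of_apply]
      split_ifs
      · rw [map_add, Ideal.Quotient.eq_zero_iff_mem.2 (hI (hA a b)), add_zero]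
      · rfl
    rw [← Ideal.Quotient.eq_zero_iff_mem, RingHom.map_det, RingHom.mapMatrix_apply,
      ← submatrix_map, hq, submatrix_map, ← RingHom.mapMatrix_apply, ← RingHom.map_det,
      Ideal.Quotient.eq_zero_iff_mem]
    exact hM _ _

/-- Minors of a product through a smaller dimension vanish. -/
theorem det_mul_eq_zero {N : ℕ} (U : Matrix (Fin (N + 1)) (Fin N) R)
    (V : Matrix (Fin N) (Fin (N + 1)) R) : (U * V).det = 0 := by
  let U' : Matrix (Fin (N + 1)) (Fin (N + 1)) R := Matrix.of fun i => Fin.snoc (U i) 0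
  let V' : Matrix (Fin (N + 1)) (Fin (N + 1)) R :=
    Matrix.of (Fin.snoc (α := fun _ => Fin (N + 1) → R) (fun k => V k) 0)
  have h : U * V = U' * V' := by
    refine Matrix.ext fun i j => ?_
    simp [Matrix.mul_apply, U', V', Fin.sum_univ_castSucc]
  have h0 : U'.det = 0 := Matrix.det_eq_zero_of_column_eq_zero (Fin.last N) (fun i => by simp [U'])
  rw [h, det_mul, h0, zero_mul]

/-- If all minors of size `r + 1` vanish and `M` is an invertible minor, the matrix factors. -/
theorem eq_mul_of_minors {n m : Type*} {r : ℕ} (X : Matrix n m R) (f : Fin r → n) (g : Fin r → m)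
    (hM : IsUnit (X.submatrix f g).det)
    (h : ∀ (a : Fin (r + 1) → n) (b : Fin (r + 1) → m), (X.submatrix a b).det = 0) :
    X = X.submatrix id g * ((X.submatrix f g)⁻¹ * X.submatrix f id) := by
  refine Matrix.ext fun i j => ?_
  letI := Matrix.invertibleOfIsUnitDet _ hM
  have key : (fromBlocks (X.submatrix f g) (X.submatrix f (fun _ : Fin 1 => j))
      (X.submatrix (fun _ : Fin 1 => i) g)
      (X.submatrix (fun _ : Fin 1 => i) (fun _ : Fin 1 => j))).det = 0 := by
    have e : fromBlocks (X.submatrix f g) (X.submatrix f (fun _ : Fin 1 => j))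
        (X.submatrix (fun _ : Fin 1 => i) g)
        (X.submatrix (fun _ : Fin 1 => i) (fun _ : Fin 1 => j)) =
        (X.submatrix (Sum.elim f (fun _ => i) ∘ finSumFinEquiv.symm)
          (Sum.elim g (fun _ => j) ∘ finSumFinEquiv.symm)).submatrix finSumFinEquiv finSumFinEquiv := by
      refine Matrix.ext fun a b => ?_
      rcases a with a | a <;> rcases b with b | b <;> simp
    rw [e, det_submatrix_equiv_self]
    exact h _ _
  rw [det_fromBlocks₁₁] at key
  have h1 := hM.mul_right_eq_zero.1 key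
  rw [det_fin_one, Matrix.sub_apply, sub_eq_zero, invOf_eq_nonsing_inv, Matrix.mul_assoc] at h1
  exact h1

end General

variable (k : Type u) [Field k] (n m r : ℕ)

/-- The generic matrix. -/
noncomputable abbrev gen : Matrix (Fin n) (Fin m) (MvPolynomial (Fin n × Fin m) k) :=
  Matrix.of fun i j => MvPolynomial.X (i, j)

/-- The determinantal ring. -/
abbrev DRing : Type u :=
  MvPolynomial (Fin n × Fin m) k ⧸ CAlgX.minorIdeal (gen k n m) (r + 1)

variable {k n m r}

theorem minor_mem (a : Fin r → Fin n) (b : Fin r → Fin m) :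
    ((gen k n m).submatrix a b).det ∈ CAlgX.minorIdeal (gen k n m) r :=
  Ideal.subset_span ⟨(a, b), rfl⟩

theorem not_formallySmooth (hr : r < min n m) (P : Ideal (DRing k n m r)) [P.IsPrime]
    (hP : (CAlgX.minorIdeal (gen k n m) r).map
      (Ideal.Quotient.mk (CAlgX.minorIdeal (gen k n m) (r + 1))) ≤ P) :
    ¬ Algebra.FormallySmooth k (Localization.AtPrime P) := by
  intro hs
  let I := CAlgX.minorIdeal (gen k n m) (r + 1)
  let P' : Ideal (MvPolynomial (Fin n × Fin m) k) := P.comap (Ideal.Quotient.mk I)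
  haveI : P'.IsPrime := Ideal.IsPrime.comap _
  let Rp := Localization.AtPrime P'
  let IP : Ideal Rp := I.map (algebraMap _ Rp)
  let 𝔪 := IsLocalRing.maximalIdeal Rp
  have hIP' : I ≤ P' := fun x hx => by
    show Ideal.Quotient.mk I x ∈ P
    rw [Ideal.Quotient.eq_zero_iff_mem.2 hx]
    exact zero_mem _
  have hIm : IP ≤ 𝔪 := Ideal.map_le_iff_le_comap.2 fun x hx =>
    (IsLocalization.AtPrime.to_map_mem_maximal_iff Rp P' x).2 (hIP' hx)
  letI : CommRing (Rp ⧸ 𝔪 * IP) := Ideal.Quotient.commRing _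
  let J : Ideal (Rp ⧸ 𝔪 * IP) := IP.map (Ideal.Quotient.mk _)
  have hJ : IsNilpotent J := by
    have h2 : J * J = ⊥ := by
      rw [← Ideal.map_mul, Ideal.map_eq_bot_iff_le_ker, Ideal.mk_ker]
      exact Ideal.mul_mono_left hIm
    exact ⟨2, ((pow_two J).trans h2 :)⟩
  let π : MvPolynomial (Fin n × Fin m) k →ₐ[k] (Rp ⧸ 𝔪 * IP) ⧸ J :=
    ((Ideal.Quotient.mkₐ k J).comp (Ideal.Quotient.mkₐ k (𝔪 * IP))).comp
      (IsScalarTower.toAlgHom k (MvPolynomial (Fin n × Fin m) k) Rp)
  let ρ : DRing k n m r →ₐ[k] (Rp ⧸ 𝔪 * IP) ⧸ J := Ideal.Quotient.liftₐ I π fun x hx =>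
    Ideal.Quotient.eq_zero_iff_mem.2 (Ideal.mem_map_of_mem _ (Ideal.mem_map_of_mem _ hx))
  have hu : ∀ y : P.primeCompl, IsUnit (ρ y) := by
    rintro ⟨y, hy⟩
    obtain ⟨y, rfl⟩ := Ideal.Quotient.mk_surjective y
    exact (((IsLocalization.map_units Rp (⟨y, hy⟩ : P'.primeCompl)).map
      (Ideal.Quotient.mk (𝔪 * IP))).map (Ideal.Quotient.mk J) :)
  let g := IsLocalization.liftAlgHom (A := k) (M := P.primeCompl) (S := Localization.AtPrime P) (P := (Rp ⧸ 𝔪 * IP) ⧸ J) (f := ρ) hu
  obtain ⟨σ, hσ⟩ := Algebra.FormallySmooth.exists_lift J hJ g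
  let τ : MvPolynomial (Fin n × Fin m) k →ₐ[k] Rp ⧸ 𝔪 * IP :=
    (σ.comp (IsScalarTower.toAlgHom k (DRing k n m r) (Localization.AtPrime P))).comp
      (Ideal.Quotient.mkₐ k I)
  have hτ : ∀ v, ∃ a ∈ IP, τ (MvPolynomial.X v) =
      Ideal.Quotient.mk (𝔪 * IP) (algebraMap (MvPolynomial (Fin n × Fin m) k) Rp (MvPolynomial.X v) + a) := by
    intro v
    have h1 : Ideal.Quotient.mk J (τ (MvPolynomial.X v)) = π (MvPolynomial.X v) := by
      have h2 := DFunLike.congr_fun hσ (algebraMap _ _ (Ideal.Quotient.mk I (MvPolynomial.X v)))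
      refine h2.trans ?_
      exact (IsLocalization.lift_eq (S := Localization.AtPrime P) hu (Ideal.Quotient.mk I (MvPolynomial.X v)) :)
    obtain ⟨a, ha, hae⟩ := (Ideal.mem_map_iff_of_surjective _ Ideal.Quotient.mk_surjective).1
      ((Ideal.Quotient.eq).1 h1)
    refine ⟨a, ha, ?_⟩
    rw [map_add, hae]
    exact (add_sub_cancel _ _).symm
  choose a ha hae using hτ
  have hle : IP ≤ 𝔪 * IP := by
    refine Ideal.map_le_iff_le_comap.2 (Ideal.span_le.2 ?_)
    rintro _ ⟨⟨p, q⟩, rfl⟩
    let M : Matrix (Fin (r + 1)) (Fin (r + 1)) Rp :=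
      ((gen k n m).submatrix p q).map (algebraMap _ Rp)
    let A : Matrix (Fin (r + 1)) (Fin (r + 1)) Rp := Matrix.of fun i j => a (p i, q j)
    have h1 : (M + A).det ∈ 𝔪 * IP := by
      rw [← Ideal.Quotient.eq_zero_iff_mem]
      have h0 : τ ((gen k n m).submatrix p q).det = 0 := by
        have : Ideal.Quotient.mk I ((gen k n m).submatrix p q).det = 0 :=
          Ideal.Quotient.eq_zero_iff_mem.2 (minor_mem p q)
        simp [τ, this]
      rw [AlgHom.map_det] at h0
      rw [RingHom.map_det, ← h0]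
      congr 1
      refine Matrix.ext fun i j => ?_
      exact (hae (p i, q j)).symm
    have h2 := det_add_sub_mem IP 𝔪 hIm M A (fun i j => ha _) fun c e => by
      have : M.submatrix c e =
          ((gen k n m).submatrix (p ∘ c) (q ∘ e)).map (algebraMap _ Rp) := rfl
      rw [this, ← RingHom.mapMatrix_apply, ← RingHom.map_det,
        IsLocalization.AtPrime.to_map_mem_maximal_iff Rp P']
      exact hP (Ideal.mem_map_of_mem _ (minor_mem _ _))
    have hd : algebraMap _ Rp ((gen k n m).submatrix p q).det = M.det := by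
      simp only [M, RingHom.map_det, RingHom.mapMatrix_apply]
    show algebraMap _ Rp _ ∈ 𝔪 * IP
    rw [hd]
    simpa using sub_mem h1 h2
  have hbot : IP = ⊥ := Submodule.eq_bot_of_le_smul_of_le_jacobson_bot 𝔪 IP
    (IsNoetherian.noetherian IP) hle (IsLocalRing.maximalIdeal_le_jacobson _)
  obtain ⟨hrn, hrm⟩ := lt_min_iff.1 hr
  let p : Fin (r + 1) → Fin n := Fin.castLE hrn
  let q : Fin (r + 1) → Fin m := Fin.castLE hrm
  have h0 : ((gen k n m).submatrix p q).det = 0 := by
    refine IsLocalization.injective Rp P'.primeCompl_le_nonZeroDivisors ?_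
    rw [map_zero, ← Ideal.mem_bot, ← hbot]
    exact Ideal.mem_map_of_mem _ (minor_mem p q)
  have h1 := congrArg (MvPolynomial.eval fun v : Fin n × Fin m =>
    if (v.1 : ℕ) = v.2 then (1 : k) else 0) h0
  rw [map_zero, RingHom.map_det] at h1
  refine one_ne_zero (α := k) ?_
  rw [← h1, ← Matrix.det_one (R := k) (n := Fin (r + 1))]
  congr 1
  refine Matrix.ext fun i j => ?_
  simp [p, q, Matrix.one_apply, Fin.ext_iff]

theorem smooth_away (f : Fin r → Fin n) (g : Fin r → Fin m) :
    Algebra.Smooth k (Localization.Away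
      (Ideal.Quotient.mk (CAlgX.minorIdeal (gen k n m) (r + 1)) ((gen k n m).submatrix f g).det)) := by
  classical
  let I := CAlgX.minorIdeal (gen k n m) (r + 1)
  let d := ((gen k n m).submatrix f g).det
  let s := {v : Fin n × Fin m // v.1 ∈ Set.range f ∨ v.2 ∈ Set.range g}
  let ι₀ : MvPolynomial s k →ₐ[k] MvPolynomial (Fin n × Fin m) k := MvPolynomial.rename Subtype.val
  let U₀ : Matrix (Fin n) (Fin r) (MvPolynomial s k) :=
    Matrix.of fun i b => MvPolynomial.X ⟨(i, g b), Or.inr ⟨b, rfl⟩⟩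
  let V₀ : Matrix (Fin r) (Fin m) (MvPolynomial s k) :=
    Matrix.of fun a j => MvPolynomial.X ⟨(f a, j), Or.inl ⟨a, rfl⟩⟩
  let M₀ := U₀.submatrix f id
  let d₀ := M₀.det
  let L := Localization.Away d₀
  let B' := Localization.Away (Ideal.Quotient.mk I d)
  let U := U₀.map (algebraMap _ L)
  let V := V₀.map (algebraMap _ L)
  let M := M₀.map (algebraMap _ L)
  have hMu : IsUnit M.det := by
    rw [show M.det = algebraMap _ L d₀ by simp [M, d₀, RingHom.map_det]]
    exact IsLocalization.Away.algebraMap_isUnit d₀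
  let Y : Matrix (Fin n) (Fin m) L := U * (M⁻¹ * V)
  have hYU : Y.submatrix id g = U := by
    have : V.submatrix id g = M := by
      refine Matrix.ext fun a b => ?_
      simp [V, M, M₀, U₀, V₀]
    calc Y.submatrix id g = U * (M⁻¹ * V.submatrix id g) := by
          refine Matrix.ext fun i b => ?_
          simp [Y, Matrix.mul_apply]
      _ = U := by rw [this, Matrix.nonsing_inv_mul _ hMu, Matrix.mul_one]
  have hYV : Y.submatrix f id = V := by
    calc Y.submatrix f id = M * (M⁻¹ * V) := by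
          refine Matrix.ext fun i b => ?_
          simp [Y, M, M₀, U, Matrix.mul_apply]
      _ = V := by rw [← Matrix.mul_assoc, Matrix.mul_nonsing_inv _ hMu, Matrix.one_mul]
  let ψ : MvPolynomial (Fin n × Fin m) k →ₐ[k] L := MvPolynomial.aeval fun v => Y v.1 v.2
  have hψgen : (gen k n m).map ψ = Y := by
    refine Matrix.ext fun i j => ?_
    simp [ψ]
  have hψI : ∀ x ∈ I, ψ x = 0 := by
    refine fun x hx => RingHom.mem_ker.1 ((Ideal.span_le (I := RingHom.ker ψ)).2 ?_ hx)
    rintro _ ⟨⟨p, q⟩, rfl⟩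
    show ψ _ = 0
    rw [AlgHom.map_det, AlgHom.mapMatrix_apply, ← Matrix.submatrix_map, hψgen]
    have : Y.submatrix p q = U.submatrix p id * ((M⁻¹ * V).submatrix id q) :=
      Matrix.submatrix_mul _ _ p id q Function.bijective_id
    rw [this]
    exact det_mul_eq_zero _ _
  have hψd : ψ d = algebraMap _ L d₀ := by
    have h1 : Y.submatrix f g = M := by
      refine Matrix.ext fun a b => ?_
      exact (congrFun₂ hYU (f a) b :)
    rw [AlgHom.map_det, AlgHom.mapMatrix_apply, ← Matrix.submatrix_map, hψgen, h1]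
    simp [M, d₀, RingHom.map_det]
  let ψ' : DRing k n m r →ₐ[k] L := Ideal.Quotient.liftₐ I ψ hψI
  have hu : ∀ y : Submonoid.powers (Ideal.Quotient.mk I d), IsUnit (ψ' y) := by
    rintro ⟨_, e, rfl⟩
    rw [map_pow]
    refine IsUnit.pow e ?_
    show IsUnit (ψ d)
    rw [hψd]
    exact IsLocalization.Away.algebraMap_isUnit d₀
  let F : B' →ₐ[k] L := IsLocalization.liftAlgHom (M := Submonoid.powers (Ideal.Quotient.mk I d)) hu
  let φ : MvPolynomial (Fin n × Fin m) k →ₐ[k] B' :=
    (IsScalarTower.toAlgHom k (DRing k n m r) B').comp (Ideal.Quotient.mkₐ k I)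
  let Xb : Matrix (Fin n) (Fin m) B' := (gen k n m).map φ
  have hXd : (Xb.submatrix f g).det = φ d := by
    rw [AlgHom.map_det, AlgHom.mapMatrix_apply, Matrix.submatrix_map]
  have hφd : IsUnit (φ d) := IsLocalization.Away.algebraMap_isUnit (Ideal.Quotient.mk I d)
  have hι₀d : ι₀ d₀ = d := by
    rw [AlgHom.map_det]
    congr 1
    refine Matrix.ext fun a b => ?_
    simp [M₀, U₀, ι₀]
  have hv : ∀ y : Submonoid.powers d₀, IsUnit ((φ.comp ι₀) y) := by
    rintro ⟨_, e, rfl⟩
    rw [map_pow]
    refine IsUnit.pow e ?_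
    show IsUnit (φ (ι₀ d₀))
    rw [hι₀d]
    exact hφd
  let G : L →ₐ[k] B' := IsLocalization.liftAlgHom (M := Submonoid.powers d₀) hv
  have hG : ∀ x, G (algebraMap _ L x) = φ (ι₀ x) := fun x => by
    simp [G, IsLocalization.liftAlgHom_apply]
  have hF : ∀ x, F (φ x) = ψ x := fun x =>
    (IsLocalization.lift_eq (S := B') hu (Ideal.Quotient.mk I x) :)
  have hGM : M.map G = Xb.submatrix f g := by
    refine Matrix.ext fun a b => ?_
    simp [M, M₀, U₀, Xb, hG, ι₀]
  have hGY : Y.map G = Xb := by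
    have hinv : M⁻¹.map G = (Xb.submatrix f g)⁻¹ := by
      refine (Matrix.inv_eq_left_inv ?_).symm
      rw [← hGM, ← Matrix.map_mul, Matrix.nonsing_inv_mul _ hMu, Matrix.map_one _ (map_zero G) (map_one G)]
    have hGU : U.map G = Xb.submatrix id g := by
      refine Matrix.ext fun a b => ?_
      simp [U, U₀, Xb, hG, ι₀]
    have hGV : V.map G = Xb.submatrix f id := by
      refine Matrix.ext fun a b => ?_
      simp [V, V₀, Xb, hG, ι₀]
    rw [show Y.map G = U.map G * (M⁻¹.map G * V.map G) by simp only [Y, Matrix.map_mul], hinv, hGU, hGV]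
    refine (eq_mul_of_minors Xb f g (hXd ▸ hφd) fun p q => ?_).symm
    rw [show Xb.submatrix p q = φ.mapMatrix ((gen k n m).submatrix p q) from rfl, ← AlgHom.map_det]
    show algebraMap (DRing k n m r) B' (Ideal.Quotient.mk I ((gen k n m).submatrix p q).det) = 0
    rw [Ideal.Quotient.eq_zero_iff_mem.2 (minor_mem p q : _ ∈ I), map_zero]
  have e₁ : G.comp F = AlgHom.id k B' := by
    refine IsLocalization.algHom_ext (Submonoid.powers (Ideal.Quotient.mk I d)) ?_
    refine Ideal.Quotient.algHom_ext _ (MvPolynomial.algHom_ext fun v => ?_)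
    show G (F (φ (MvPolynomial.X v))) = φ (MvPolynomial.X v)
    rw [hF, MvPolynomial.aeval_X]
    exact congrFun₂ hGY v.1 v.2
  have e₂ : F.comp G = AlgHom.id k L := by
    refine IsLocalization.algHom_ext (Submonoid.powers d₀) (MvPolynomial.algHom_ext fun v => ?_)
    show F (G (algebraMap _ L (MvPolynomial.X v))) = algebraMap _ L (MvPolynomial.X v)
    rw [hG, hF]
    simp only [ι₀, MvPolynomial.rename_X, ψ, MvPolynomial.aeval_X]
    obtain ⟨⟨i, j⟩, hij⟩ := v
    rcases hij with ⟨a, ha⟩ | ⟨b, hb⟩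
    · dsimp only at ha ⊢
      subst ha
      exact (congrFun₂ hYV a j :)
    · dsimp only at hb ⊢
      subst hb
      exact (congrFun₂ hYU i b :)
  haveI : Algebra.Smooth k (MvPolynomial s k) := ⟨inferInstance, inferInstance⟩
  haveI : Algebra.Smooth (MvPolynomial s k) L := Algebra.Smooth.of_isLocalization_Away d₀
  haveI : Algebra.Smooth k L := Algebra.Smooth.comp k (MvPolynomial s k) L
  exact Algebra.Smooth.of_equiv (AlgEquiv.ofAlgHom F G e₂ e₁).symm

end Groth.Agent.H21.DetSmooth
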