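import Groth.Agent.Lib.Henselian.Roots
import Mathlib.RingTheory.Nakayama

/-!
# Elkik approximation along `t` for algebras smooth after inverting `t`

If `B = A[X]/J` and `B[1/t]` is smooth, there are finitely many `f_k ∈ J` generating `J` up to powers
of `t` and matrices `H`, `E` with `E f = 0` and `(Df) H + E ≡ t^c` modulo `(f)`.  The system
`f(x₀ + t^q H₀ u) + t^q E(x) u = 0` is then `t^(q+c)` times a system that Hensel's lemma solves,
and the identities force `f(x) = 0`.
-/

universe u

open MvPolynomial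

namespace Groth.Agent.H21.Elkik

/-- First order Taylor expansion modulo the square of an ideal. -/
theorem taylor {R U : Type*} [CommRing R] [CommRing U] [Algebra R U] {n : ℕ} (K : Ideal U)
    (a δ : Fin n → U) (hδ : ∀ i, δ i ∈ K) (p : MvPolynomial (Fin n) R) :
    aeval (fun i => a i + δ i) p - aeval a p - ∑ i, aeval a (pderiv i p) * δ i ∈ K ^ 2 := by
  classical
  induction p using MvPolynomial.induction_on with
  | C r => simp
  | add p q hp hq =>
    convert add_mem hp hq using 1
    simp only [map_add, add_mul, Finset.sum_add_distrib]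
    abel
  | mul_X p j hp =>
    have hsum : ∑ i, aeval a (pderiv i (p * X j)) * δ i =
        (∑ i, aeval a (pderiv i p) * δ i) * a j + aeval a p * δ j := by
      simp only [pderiv_mul, pderiv_X, map_add, map_mul, aeval_X, add_mul, Finset.sum_add_distrib, Finset.sum_mul]
      congr 1
      · exact Finset.sum_congr rfl fun i _ => by ring
      · rw [Finset.sum_eq_single j (fun i _ hi => by simp [Pi.single_apply, Ne.symm hi]) (by simp)]
        simp
    have hK : (∑ i, aeval a (pderiv i p) * δ i) * δ j ∈ K ^ 2 := by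
      rw [pow_two]
      exact Ideal.mul_mem_mul (sum_mem fun i _ => K.mul_mem_left _ (hδ i)) (hδ j)
    convert add_mem (Ideal.mul_mem_right (a j + δ j) _ hp) hK using 1
    rw [hsum]
    simp only [map_mul, aeval_X]
    ring

/-- Zeroth order Taylor expansion. -/
theorem taylor₀ {R U : Type*} [CommRing R] [CommRing U] [Algebra R U] {n : ℕ} (K : Ideal U)
    (a δ : Fin n → U) (hδ : ∀ i, δ i ∈ K) (p : MvPolynomial (Fin n) R) :
    aeval (fun i => a i + δ i) p - aeval a p ∈ K := by
  have h := add_mem (Ideal.pow_le_self two_ne_zero (taylor K a δ hδ p))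
    (sum_mem (t := (Finset.univ : Finset (Fin n))) fun i _ => K.mul_mem_left (aeval a (pderiv i p)) (hδ i))
  rwa [sub_add_cancel] at h

/-- A common exponent for finitely many elements. -/
theorem exists_common {P : Type*} [CommRing P] (τ : P) (I : Ideal P) {κ : Type*} [Fintype κ]
    (x : κ → P) (h : ∀ k, ∃ e : ℕ, τ ^ e * x k ∈ I) : ∃ e : ℕ, ∀ k, τ ^ e * x k ∈ I := by
  choose e he using h
  refine ⟨∑ k, e k, fun k => ?_⟩
  have hle : e k ≤ ∑ l, e l := Finset.single_le_sum (fun l _ => Nat.zero_le _) (Finset.mem_univ k)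
  rw [show ∑ l, e l = (∑ l, e l - e k) + e k by omega, pow_add, mul_assoc]
  exact I.mul_mem_left _ (he k)

variable {A : Type u} [CommRing A] (t : A)

/-- The approximation statement for the equations. -/
theorem approximate [HenselianRing A (Ideal.span {t})] {N : ℕ}
    (hbd : ∀ a : A, (∃ e : ℕ, t ^ e * a = 0) → t ^ N * a = 0)
    {n m c : ℕ} (f : Fin m → MvPolynomial (Fin n) A) (H : Fin n → Fin m → MvPolynomial (Fin n) A)
    (E : Fin m → Fin m → MvPolynomial (Fin n) A) (hEf : ∀ k, ∑ j, E k j * f j = 0)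
    (hDH : ∀ k j, ∑ i, pderiv i (f k) * H i j + E k j - (if k = j then C t ^ c else 0) ∈ Ideal.span (Set.range f))
    (q : ℕ) (hq : c + 1 ≤ q) (hqN : N ≤ q) (x₀ : Fin n → A)
    (hx₀ : ∀ k, t ^ (q + c + 1) ∣ eval x₀ (f k)) :
    ∃ x : Fin n → A, (∀ k, eval x (f k) = 0) ∧ ∀ i, t ^ q ∣ x i - x₀ i := by
  classical
  let I := Ideal.span (Set.range f)
  have hE2 : ∀ k l, ∑ j, E k j * E j l - C t ^ c * E k l ∈ I := by
    intro k l
    have hED : ∀ i, ∑ j, E k j * pderiv i (f j) ∈ I := by
      intro i
      have h := congrArg (pderiv i) (hEf k)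
      rw [map_sum, map_zero] at h
      simp only [pderiv_mul, Finset.sum_add_distrib] at h
      rw [eq_neg_of_add_eq_zero_right h]
      exact I.neg_mem (sum_mem fun j _ => I.mul_mem_left _ (Ideal.subset_span ⟨j, rfl⟩))
    have h1 : ∑ j, E k j * (∑ i, pderiv i (f j) * H i l + E j l - (if j = l then C t ^ c else 0)) ∈ I :=
      sum_mem fun j _ => I.mul_mem_left _ (hDH j l)
    have h2 : ∑ j, E k j * ∑ i, pderiv i (f j) * H i l ∈ I := by
      simp only [Finset.mul_sum]
      rw [Finset.sum_comm]
      refine sum_mem fun i _ => ?_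
      rw [Finset.sum_congr rfl fun j _ => (mul_assoc (E k j) (pderiv i (f j)) (H i l)).symm, ← Finset.sum_mul]
      exact I.mul_mem_right _ (hED i)
    convert sub_mem h1 h2 using 1
    simp only [mul_sub, mul_add, Finset.sum_sub_distrib, Finset.sum_add_distrib, mul_ite, mul_zero,
      Finset.sum_ite_eq', Finset.mem_univ, if_true]
    ring
  have hI0 : ∀ g ∈ I, t ^ (q + c + 1) ∣ eval x₀ g := by
    intro g hg
    obtain ⟨w, rfl⟩ := Ideal.mem_span_range_iff_exists_fun.mp hg
    rw [map_sum]
    exact Finset.dvd_sum fun j _ => by rw [map_mul]; exact (hx₀ j).mul_left _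
  choose w hw using hx₀
  choose d hd using fun k j => hI0 _ (hDH k j)
  let τ : MvPolynomial (Fin m) A := C t
  let K : Ideal (MvPolynomial (Fin m) A) := Ideal.span {τ ^ q}
  let δ : Fin n → MvPolynomial (Fin m) A := fun i => τ ^ q * ∑ j, C (eval x₀ (H i j)) * X j
  let Xu : Fin n → MvPolynomial (Fin m) A := fun i => C (x₀ i) + δ i
  have hδ : ∀ i, δ i ∈ K := fun i => K.mul_mem_right _ (Ideal.mem_span_singleton_self _)
  have hC : ∀ g : MvPolynomial (Fin n) A, aeval (fun i => C (σ := Fin m) (x₀ i)) g = C (eval x₀ g) := fun g =>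
    AlgHom.congr_fun (MvPolynomial.algHom_ext (f := aeval fun i => C (σ := Fin m) (x₀ i))
      (g := (Algebra.ofId A (MvPolynomial (Fin m) A)).comp (aeval x₀)) fun i => by simp) g
  have hT2 : ∀ k, ∃ R : MvPolynomial (Fin m) A,
      aeval Xu (f k) = C (eval x₀ (f k)) + (∑ i, C (eval x₀ (pderiv i (f k))) * δ i) + τ ^ (2 * q) * R := by
    intro k
    have h := taylor (R := A) K (fun i => C (σ := Fin m) (x₀ i)) δ hδ (f k)
    rw [Ideal.span_singleton_pow, Ideal.mem_span_singleton] at h
    obtain ⟨R, hR⟩ := h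
    refine ⟨R, ?_⟩
    simp only [hC] at hR
    rw [← pow_mul, mul_comm q 2] at hR
    linear_combination hR
  have hT1 : ∀ k j, ∃ S : MvPolynomial (Fin m) A, aeval Xu (E k j) = C (eval x₀ (E k j)) + τ ^ q * S := by
    intro k j
    have h := taylor₀ (R := A) K (fun i => C (σ := Fin m) (x₀ i)) δ hδ (E k j)
    rw [Ideal.mem_span_singleton] at h
    obtain ⟨S, hS⟩ := h
    refine ⟨S, ?_⟩
    rw [hC] at hS
    linear_combination hS
  choose R hR using hT2
  choose S hS using hT1
  let W : Fin m → MvPolynomial (Fin m) A := fun k =>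
    C (w k) + τ ^ q * ∑ j, C (d k j) * X j + τ ^ (q - c - 1) * (R k + ∑ j, S k j * X j)
  let G : Fin m → MvPolynomial (Fin m) A := fun k => X k + τ * W k
  have hZ : ∀ k, aeval Xu (f k) + τ ^ q * ∑ j, aeval Xu (E k j) * X j = τ ^ (q + c) * G k := by
    intro k
    have hd' : ∀ j, ∑ i, C (σ := Fin m) (eval x₀ (pderiv i (f k))) * C (eval x₀ (H i j)) + C (eval x₀ (E k j)) =
        (if k = j then τ ^ c else 0) + τ ^ (q + c + 1) * C (d k j) := by
      intro j
      have h := congrArg (C (σ := Fin m)) (hd k j)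
      rw [map_sub, map_add, map_sum] at h
      simp only [map_sub, map_add, map_sum, map_mul, map_pow] at h
      by_cases hkj : k = j
      · subst hkj
        simp only [if_true, map_pow, eval_C, eval_pow] at h ⊢
        simp only [τ]
        linear_combination h
      · simp only [hkj, if_false, map_zero, sub_zero] at h ⊢
        simp only [τ]
        linear_combination h
    have hlin : (∑ i, C (eval x₀ (pderiv i (f k))) * δ i) + τ ^ q * ∑ j, C (eval x₀ (E k j)) * X j =
        τ ^ q * (τ ^ c * X k + τ ^ (q + c + 1) * ∑ j, C (d k j) * X j) := by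
      have h1 : ∑ i, C (σ := Fin m) (eval x₀ (pderiv i (f k))) * δ i =
          τ ^ q * ∑ j, (∑ i, C (eval x₀ (pderiv i (f k))) * C (eval x₀ (H i j))) * X j := by
        simp only [δ, Finset.mul_sum, Finset.sum_mul]
        rw [Finset.sum_comm]
        exact Finset.sum_congr rfl fun j _ => Finset.sum_congr rfl fun i _ => by ring
      rw [h1, ← mul_add, ← Finset.sum_add_distrib]
      congr 1
      rw [Finset.sum_congr rfl fun j _ => (add_mul (∑ i, C (σ := Fin m) (eval x₀ (pderiv i (f k))) * C (eval x₀ (H i j))) (C (eval x₀ (E k j))) (X j)).symm]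
      simp only [hd', add_mul, Finset.sum_add_distrib, Finset.mul_sum, ite_mul, zero_mul,
        Finset.sum_ite_eq, Finset.mem_univ, if_true, mul_assoc]
    have hpow : τ ^ q = τ ^ (c + 1) * τ ^ (q - c - 1) := by rw [← pow_add]; congr 1; omega
    have hw' : C (σ := Fin m) (eval x₀ (f k)) = τ ^ (q + c + 1) * C (w k) := by
      rw [hw k, map_mul, map_pow]
    rw [hR]
    simp only [hS, add_mul, Finset.sum_add_distrib, mul_add, mul_assoc, ← Finset.mul_sum]
    simp only [G, W]
    rw [hw']
    have h2q : τ ^ (2 * q) = τ ^ q * τ ^ q := by rw [two_mul, pow_add]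
    rw [h2q]
    linear_combination hlin + τ ^ q * (R k + ∑ j, S k j * X j) * hpow
  obtain ⟨u, hu, -⟩ := Groth.Agent.Lib.Henselian.Roots.exists_square_system_root (Ideal.span {t}) G 0
    (fun k => Ideal.mem_span_singleton.mpr ⟨eval 0 (W k), by simp [G, τ]⟩) (by
      rw [RingHom.map_det]
      suffices h : (Ideal.Quotient.mk (Ideal.span {t})).mapMatrix (Matrix.of fun i j => eval 0 (pderiv j (G i))) = 1 by
        rw [h, Matrix.det_one]; exact isUnit_one
      ext i j
      simp only [RingHom.mapMatrix_apply, Matrix.map_apply, Matrix.of_apply, Matrix.one_apply]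
      have ht : Ideal.Quotient.mk (Ideal.span {t}) t = 0 := Ideal.Quotient.eq_zero_iff_mem.mpr (Ideal.mem_span_singleton_self t)
      simp only [G, τ, map_add, pderiv_C_mul, map_mul, eval_C, ht, zero_mul, add_zero, pderiv_X]
      split_ifs with hij
      · subst hij; simp
      · simp [Pi.single_apply, hij, Ne.symm hij])
  let x : Fin n → A := fun i => eval u (Xu i)
  have hxev : ∀ g : MvPolynomial (Fin n) A, eval u (aeval Xu g) = eval x g := fun g =>
    AlgHom.congr_fun (MvPolynomial.algHom_ext (f := (aeval u).comp (aeval Xu)) (g := aeval x) fun i => by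
      simp [x]) g
  refine ⟨x, ?_, fun i => ?_⟩
  swap
  · refine ⟨eval u (∑ j, C (eval x₀ (H i j)) * X j), ?_⟩
    simp only [x, Xu, δ, τ, map_add, map_mul, map_pow, eval_C]
    ring
  let v : Fin m → A := fun k => ∑ j, eval x (E k j) * u j
  have hy : ∀ k, eval x (f k) = -(t ^ q * v k) := by
    intro k
    have h := congrArg (eval u) (hZ k)
    simp only [map_add, map_mul, map_pow, map_sum, τ, eval_C, eval_X, hxev, hu k, mul_zero] at h
    linear_combination h
  let Y : Ideal A := Ideal.span (Set.range fun k => eval x (f k))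
  have hY : ∀ k, t ^ c * eval x (f k) ∈ Ideal.span {t ^ q} * Y := by
    intro k
    have hEy : ∑ j, eval x (E k j) * eval x (f j) = 0 := by
      simpa using congrArg (eval x) (hEf k)
    have h1 : t ^ q * ∑ j, eval x (E k j) * v j = 0 := by
      rw [← neg_eq_zero, Finset.mul_sum, ← Finset.sum_neg_distrib, ← hEy]
      exact Finset.sum_congr rfl fun j _ => by rw [hy]; ring
    have h2 : ∑ j, eval x (E k j) * v j - t ^ c * v k ∈ Y := by
      have : ∀ l, eval x (∑ j, E k j * E j l - C t ^ c * E k l) ∈ Y := fun l => by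
        have := Ideal.mem_map_of_mem (eval x) (hE2 k l)
        rwa [Ideal.map_span, ← Set.range_comp] at this
      convert sum_mem (t := (Finset.univ : Finset (Fin m))) fun l _ => Y.mul_mem_right (u l) (this l) using 1
      simp only [map_sub, map_sum, map_mul, map_pow, eval_C, v, sub_mul, Finset.sum_sub_distrib, Finset.mul_sum, Finset.sum_mul]
      rw [Finset.sum_comm]
      simp only [mul_assoc]
    have h3 := Ideal.mul_mem_mul (Ideal.mem_span_singleton_self (t ^ q)) h2
    convert h3 using 1
    rw [mul_sub, h1, hy]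
    ring
  have hjac : Ideal.span {t ^ (q - c)} ≤ Ideal.jacobson ⊥ := by
    refine le_trans (Ideal.span_le.mpr ?_) (HenselianRing.jac (R := A) (I := Ideal.span {t}))
    exact Set.singleton_subset_iff.mpr (Ideal.pow_mem_of_mem _ (Ideal.mem_span_singleton_self t) _ (by omega))
  let Y' : Ideal A := Ideal.span {t ^ c} * Y
  have hY' : Y' = ⊥ := by
    refine Submodule.eq_bot_of_le_smul_of_le_jacobson_bot _ _ ?_ ?_ hjac
    · exact Submodule.FG.mul (Submodule.fg_span (Set.finite_singleton _)) (Submodule.fg_span (Set.finite_range _))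
    · show Y' ≤ Ideal.span {t ^ (q - c)} * Y'
      rw [← mul_assoc, Ideal.span_singleton_mul_span_singleton, ← pow_add, Nat.sub_add_cancel (by omega : c ≤ q)]
      rw [show Y' = Ideal.span {t ^ c} * Y from rfl, Ideal.span_singleton_mul_le_iff]
      intro y hy
      induction hy using Submodule.span_induction with
      | mem y hy => obtain ⟨k, rfl⟩ := hy; exact hY k
      | zero => rw [mul_zero]; exact zero_mem _
      | add a b _ _ ha hb => rw [mul_add]; exact add_mem ha hb
      | smul r a _ ha => rw [smul_eq_mul, mul_left_comm]; exact Ideal.mul_mem_left _ r ha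
  intro k
  have h0 : t ^ c * eval x (f k) = 0 := by
    have : t ^ c * eval x (f k) ∈ Y' := Ideal.mul_mem_mul (Ideal.mem_span_singleton_self _) (Ideal.subset_span ⟨k, rfl⟩)
    rwa [hY', Ideal.mem_bot] at this
  rw [hy k] at h0 ⊢
  have hv : t ^ N * v k = 0 := hbd _ ⟨c + q, by rw [pow_add]; linear_combination -h0⟩
  rw [show q = (q - N) + N by omega, pow_add, mul_assoc, hv, mul_zero, neg_zero]

end Groth.Agent.H21.Elkik
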