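import Groth.Agent.H21.Elkik
import Mathlib.RingTheory.MvPolynomial.Localization
import Mathlib.RingTheory.Smooth.Basic
import Mathlib.RingTheory.FinitePresentation
import Mathlib.Algebra.MvPolynomial.PDeriv
import Mathlib.RingTheory.Localization.Ideal

/-!
# The equations coming from smoothness after inverting `t`
-/

universe u v

open MvPolynomial

namespace Groth.Agent.H21.ElkikEq

variable {A : Type u} [CommRing A] {At : Type u} [CommRing At] [Algebra A At] (t : A)
  [IsLocalization.Away t At] {n : ℕ} {K' : Type u} [CommRing K'] [Algebra At K']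

theorem isLocalization_poly :
    @IsLocalization _ _ ((Submonoid.powers t).map (C (σ := Fin n))) (MvPolynomial (Fin n) At) _
      (MvPolynomial.algebraMvPolynomial (σ := Fin n) (R := A) (S := At)) :=
  MvPolynomial.isLocalization _ _

/-- Denominators in `MvPolynomial σ A → MvPolynomial σ A[1/t]`. -/
theorem exists_num (F : MvPolynomial (Fin n) At) :
    ∃ (e : ℕ) (g : MvPolynomial (Fin n) A), C (algebraMap A At t) ^ e * F = map (algebraMap A At) g := by
  letI := MvPolynomial.algebraMvPolynomial (σ := Fin n) (R := A) (S := At)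
  haveI := isLocalization_poly (At := At) (n := n) t
  obtain ⟨⟨g, ⟨_, _, ⟨e, rfl⟩, rfl⟩⟩, hgs⟩ := IsLocalization.surj ((Submonoid.powers t).map (C (σ := Fin n))) F
  refine ⟨e, g, ?_⟩
  rw [mul_comm]
  refine Eq.trans ?_ hgs
  congr 1
  show _ = map (algebraMap A At) (C (t ^ e))
  rw [map_C, map_pow, map_pow]

theorem exists_pow_mul_mem {J : Ideal (MvPolynomial (Fin n) A)} {g : MvPolynomial (Fin n) A}
    (hg : map (algebraMap A At) g ∈ J.map (map (algebraMap A At))) : ∃ e : ℕ, C t ^ e * g ∈ J := by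
  letI := MvPolynomial.algebraMvPolynomial (σ := Fin n) (R := A) (S := At)
  haveI := isLocalization_poly (At := At) (n := n) t
  obtain ⟨⟨a, s⟩, has⟩ := (IsLocalization.mem_map_algebraMap_iff ((Submonoid.powers t).map (C (σ := Fin n))) (MvPolynomial (Fin n) At)).mp hg
  change algebraMap (MvPolynomial (Fin n) A) (MvPolynomial (Fin n) At) g * _ = _ at has
  rw [← map_mul] at has
  obtain ⟨s', hs'⟩ := (IsLocalization.eq_iff_exists ((Submonoid.powers t).map (C (σ := Fin n))) (MvPolynomial (Fin n) At)).mp has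
  obtain ⟨_, ⟨e, rfl⟩, he⟩ := s.2
  obtain ⟨_, ⟨e', rfl⟩, he'⟩ := s'.2
  refine ⟨e' + e, ?_⟩
  rw [pow_add, ← map_pow, ← map_pow, he, he', mul_assoc, mul_comm (s : MvPolynomial (Fin n) A) g, hs']
  exact J.mul_mem_left _ a.2

theorem exists_num_mem {J : Ideal (MvPolynomial (Fin n) A)} {F : MvPolynomial (Fin n) At}
    (hF : F ∈ J.map (map (algebraMap A At))) :
    ∃ (e : ℕ) (g : MvPolynomial (Fin n) A), g ∈ J ∧ map (algebraMap A At) g = C (algebraMap A At t) ^ e * F := by
  letI := MvPolynomial.algebraMvPolynomial (σ := Fin n) (R := A) (S := At)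
  haveI := isLocalization_poly (At := At) (n := n) t
  obtain ⟨⟨a, ⟨_, _, ⟨e, rfl⟩, rfl⟩⟩, has⟩ :=
    (IsLocalization.mem_map_algebraMap_iff ((Submonoid.powers t).map (C (σ := Fin n))) (MvPolynomial (Fin n) At)).mp hF
  refine ⟨e, a, a.2, ?_⟩
  rw [mul_comm]
  refine has.symm.trans ?_
  congr 1
  show map (algebraMap A At) (C (t ^ e)) = _
  rw [map_C, map_pow, map_pow]

/-- A formally smooth quotient of a polynomial ring has a first order retraction of its relations. -/
theorem exists_section {K : Type v} [CommRing K] [Algebra At K] [Algebra.FormallySmooth At K]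
    (Φ : MvPolynomial (Fin n) At →ₐ[At] K) (hΦ : Function.Surjective Φ) :
    ∃ a : Fin n → MvPolynomial (Fin n) At, (∀ i, a i - X i ∈ RingHom.ker Φ) ∧
      ∀ F, Φ F = 0 → aeval a F ∈ RingHom.ker Φ ^ 2 := by
  let J := RingHom.ker Φ
  let q : MvPolynomial (Fin n) At →ₐ[At] MvPolynomial (Fin n) At ⧸ J ^ 2 := Ideal.Quotient.mkₐ At (J ^ 2)
  let g₂ : (MvPolynomial (Fin n) At ⧸ J ^ 2) →ₐ[At] K :=
    Ideal.Quotient.liftₐ (J ^ 2) Φ fun x hx => (Ideal.pow_le_self two_ne_zero hx : x ∈ J)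
  have hg₂q : ∀ p, g₂ (q p) = Φ p := fun p => Ideal.Quotient.liftₐ_apply _ _ _ _
  have hg₂ : Function.Surjective g₂ := fun z => by
    obtain ⟨p, rfl⟩ := hΦ z
    exact ⟨q p, hg₂q p⟩
  have hnil : IsNilpotent (RingHom.ker (g₂ : (MvPolynomial (Fin n) At ⧸ J ^ 2) →+* K)) := by
    refine ⟨2, le_bot_iff.mp ?_⟩
    intro x hx
    replace hx := (pow_two (RingHom.ker (g₂ : (MvPolynomial (Fin n) At ⧸ J ^ 2) →+* K))).le hx
    refine Submodule.mul_induction_on hx (fun u hu v hv => ?_) fun u v hu hv => add_mem hu hv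
    obtain ⟨u, rfl⟩ := Ideal.Quotient.mk_surjective u
    obtain ⟨v, rfl⟩ := Ideal.Quotient.mk_surjective v
    rw [← map_mul, Ideal.mem_bot, Ideal.Quotient.eq_zero_iff_mem, pow_two]
    exact Ideal.mul_mem_mul ((hg₂q u).symm.trans hu) ((hg₂q v).symm.trans hv)
  let σ : K →ₐ[At] MvPolynomial (Fin n) At ⧸ J ^ 2 :=
    Algebra.FormallySmooth.liftOfSurjective (AlgHom.id At K) g₂ hg₂ hnil
  choose a ha using fun i => Ideal.Quotient.mk_surjective (σ (Φ (X i)))
  refine ⟨a, fun i => ?_, fun F hF => ?_⟩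
  · rw [RingHom.mem_ker, map_sub, sub_eq_zero, ← hg₂q, show q (a i) = σ (Φ (X i)) from ha i]
    exact Algebra.FormallySmooth.liftOfSurjective_apply _ _ hg₂ hnil _
  · have h : q (aeval a F) = σ (Φ F) :=
      AlgHom.congr_fun (MvPolynomial.algHom_ext (f := q.comp (aeval a)) (g := σ.comp Φ) fun i => by
        simp only [AlgHom.comp_apply, aeval_X]; exact ha i) F
    rw [hF, map_zero] at h
    exact Ideal.Quotient.eq_zero_iff_mem.mp h

/-- The matrices `H` and `E` from a first order retraction of the relations. -/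
theorem exists_matrices {m : ℕ} (f : Fin m → MvPolynomial (Fin n) A) (Φ : MvPolynomial (Fin n) At →ₐ[At] K')
    (hker : RingHom.ker Φ = (Ideal.span (Set.range f)).map (map (algebraMap A At)))
    (a : Fin n → MvPolynomial (Fin n) At) (ha : ∀ i, a i - X i ∈ RingHom.ker Φ)
    (ha2 : ∀ F, Φ F = 0 → aeval a F ∈ RingHom.ker Φ ^ 2) :
    ∃ (c : ℕ) (H : Fin n → Fin m → MvPolynomial (Fin n) A) (E : Fin m → Fin m → MvPolynomial (Fin n) A),
      (∀ k, ∑ j, E k j * f j = 0) ∧
      ∀ k j, ∑ i, pderiv i (f k) * H i j + E k j - (if k = j then C t ^ c else 0) ∈ Ideal.span (Set.range f) := by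
  classical
  let I := Ideal.span (Set.range f)
  choose e h hhI hh using fun i => exists_num_mem t (J := I) (hker ▸ ha i : a i - X i ∈ I.map (map (algebraMap A At)))
  let c₁ := ∑ i, e i
  let h' : Fin n → MvPolynomial (Fin n) A := fun i => C t ^ (c₁ - e i) * h i
  have hh'I : ∀ i, h' i ∈ I := fun i => I.mul_mem_left _ (hhI i)
  have hh' : ∀ i, map (algebraMap A At) (h' i) = C (algebraMap A At t) ^ c₁ * (a i - X i) := fun i => by
    have hle : e i ≤ c₁ := Finset.single_le_sum (fun l _ => Nat.zero_le _) (Finset.mem_univ i)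
    rw [map_mul, hh, map_pow, map_C, ← mul_assoc, ← pow_add, Nat.sub_add_cancel hle]
  let r : Fin m → MvPolynomial (Fin n) A := fun k => C t ^ c₁ * f k + ∑ i, pderiv i (f k) * h' i
  have hr : ∀ k, ∃ e : ℕ, C t ^ e * r k ∈ I ^ 2 := by
    intro k
    refine exists_pow_mul_mem (At := At) t ?_
    have hmem : Φ (map (algebraMap A At) (f k)) = 0 :=
      RingHom.mem_ker.mp (hker ▸ Ideal.mem_map_of_mem _ (Ideal.subset_span ⟨k, rfl⟩))
    have h1 := Groth.Agent.H21.Elkik.taylor (R := At) (RingHom.ker Φ) X (fun i => a i - X i) ha (map (algebraMap A At) (f k))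
    simp only [aeval_X_left_apply, add_sub_cancel] at h1
    have h3 := Ideal.mul_mem_left _ (C (algebraMap A At t) ^ c₁) (sub_mem (ha2 _ hmem) h1)
    rw [Ideal.map_pow, ← hker]
    convert h3 using 1
    simp only [r, map_add, map_mul, map_sum, map_pow, map_C, hh', ← pderiv_map]
    rw [show ∀ x y z : MvPolynomial (Fin n) At, x - (x - y - z) = y + z from fun x y z => by ring, mul_add, Finset.mul_sum]
    exact congrArg₂ (· + ·) rfl (Finset.sum_congr rfl fun i _ => by ring)
  obtain ⟨e₂, he₂⟩ := Groth.Agent.H21.Elkik.exists_common (C t : MvPolynomial (Fin n) A) (I ^ 2) r hr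
  choose H hH using fun i => Ideal.mem_span_range_iff_exists_fun.mp (hh'I i)
  have hI2 : ∀ x ∈ I ^ 2, ∃ ε : Fin m → MvPolynomial (Fin n) A, (∀ j, ε j ∈ I) ∧ ∑ j, ε j * f j = x := by
    intro x hx
    rw [pow_two] at hx
    refine Submodule.mul_induction_on hx (fun u hu v hv => ?_) ?_
    · obtain ⟨w, rfl⟩ := Ideal.mem_span_range_iff_exists_fun.mp hv
      exact ⟨fun j => u * w j, fun j => I.mul_mem_right _ hu, by rw [Finset.mul_sum]; simp only [mul_assoc]⟩
    · rintro u v ⟨ε, hε, rfl⟩ ⟨ε', hε', rfl⟩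
      exact ⟨ε + ε', fun j => add_mem (hε j) (hε' j), by simp [add_mul, Finset.sum_add_distrib]⟩
  choose ε hεI hε using fun k => hI2 _ (he₂ k)
  refine ⟨c₁ + e₂, fun i j => -(C t ^ e₂ * H i j),
    fun k j => (if k = j then C t ^ (c₁ + e₂) else 0) + C t ^ e₂ * ∑ i, pderiv i (f k) * H i j - ε k j,
    fun k => ?_, fun k j => ?_⟩
  · have he : ∑ j, ε k j * f j = C t ^ e₂ * (C t ^ c₁ * f k) + C t ^ e₂ * ∑ i, pderiv i (f k) * h' i := by
      rw [hε k, ← mul_add]
    simp only [sub_mul, add_mul, Finset.sum_sub_distrib, Finset.sum_add_distrib, ite_mul, zero_mul,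
      Finset.sum_ite_eq, Finset.mem_univ, if_true, he]
    simp only [← hH, Finset.mul_sum, Finset.sum_mul, mul_assoc]
    rw [Finset.sum_comm, pow_add]
    ring
  · convert I.neg_mem (hεI k j) using 1
    simp only [mul_neg, Finset.sum_neg_distrib, Finset.mul_sum]
    rw [Finset.sum_congr rfl fun i _ => show pderiv i (f k) * (C t ^ e₂ * H i j) = C t ^ e₂ * (pderiv i (f k) * H i j) by ring]
    ring

/-- Finitely many relations, generating up to powers of `t`. -/
theorem exists_relations {B : Type u} [CommRing B] [Algebra A B] [Algebra B K'] [Algebra A K']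
    [IsScalarTower A B K'] [IsScalarTower A At K'] [IsLocalization (Algebra.algebraMapSubmonoid B (Submonoid.powers t)) K']
    [Algebra.FinitePresentation At K'] (π : MvPolynomial (Fin n) A →ₐ[A] B) (hπ : Function.Surjective π) :
    ∃ (Φ : MvPolynomial (Fin n) At →ₐ[At] K'), Function.Surjective Φ ∧
      ∃ (m : ℕ) (f : Fin m → MvPolynomial (Fin n) A), (∀ k, π (f k) = 0) ∧
        RingHom.ker Φ = (Ideal.span (Set.range f)).map (map (algebraMap A At)) ∧
        ∀ g, π g = 0 → ∃ e : ℕ, C t ^ e * g ∈ Ideal.span (Set.range f) := by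
  classical
  let Φ : MvPolynomial (Fin n) At →ₐ[At] K' := aeval fun i => algebraMap B K' (π (X i))
  have hΦ : ∀ g, Φ (map (algebraMap A At) g) = algebraMap B K' (π g) := by
    intro g
    show aeval (fun i => algebraMap B K' (π (X i))) (map (algebraMap A At) g) = _
    rw [aeval_map_algebraMap]
    exact AlgHom.congr_fun (MvPolynomial.algHom_ext (f := aeval fun i => algebraMap B K' (π (X i)))
      (g := (IsScalarTower.toAlgHom A B K').comp π) fun i => by simp) g
  have hsurj : Function.Surjective Φ := by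
    intro z
    obtain ⟨⟨b, ⟨_, _, ⟨e, rfl⟩, rfl⟩⟩, hz⟩ := IsLocalization.surj (Algebra.algebraMapSubmonoid B (Submonoid.powers t)) z
    obtain ⟨g, rfl⟩ := hπ b
    obtain ⟨v, hv⟩ := IsLocalization.map_units At (⟨t ^ e, e, rfl⟩ : Submonoid.powers t)
    refine ⟨map (algebraMap A At) g * algebraMap At _ ↑v⁻¹, ?_⟩
    change z * algebraMap B K' (algebraMap A B (t ^ e)) = algebraMap B K' (π g) at hz
    rw [map_mul, hΦ, AlgHom.commutes, ← hz, ← IsScalarTower.algebraMap_apply A B K', IsScalarTower.algebraMap_apply A At K',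
      mul_assoc, ← map_mul, ← show (v : At) = algebraMap A At (t ^ e) from hv, Units.mul_inv, map_one, mul_one]
  refine ⟨Φ, hsurj, ?_⟩
  obtain ⟨G, hG⟩ := Algebra.FinitePresentation.ker_fG_of_surjective Φ hsurj
  have hrep : ∀ F : G, ∃ f : MvPolynomial (Fin n) A, π f = 0 ∧
      (F : MvPolynomial (Fin n) At) ∈ Ideal.span {map (algebraMap A At) f} := by
    intro F
    obtain ⟨e, g, hg⟩ := exists_num (A := A) t (F : MvPolynomial (Fin n) At)
    have hF : Φ (F : MvPolynomial (Fin n) At) = 0 :=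
      RingHom.mem_ker.mp (show (F : MvPolynomial (Fin n) At) ∈ RingHom.ker Φ.toRingHom from hG ▸ Submodule.subset_span F.2)
    have h0 : algebraMap B K' (π g) = 0 := by rw [← hΦ, ← hg, map_mul, hF, mul_zero]
    obtain ⟨⟨_, _, ⟨e', rfl⟩, rfl⟩, he⟩ := (IsLocalization.map_eq_zero_iff (Algebra.algebraMapSubmonoid B (Submonoid.powers t)) K' _).mp h0
    refine ⟨C t ^ e' * g, ?_, ?_⟩
    · rw [map_mul, map_pow, ← MvPolynomial.algebraMap_eq, AlgHom.commutes, ← map_pow]
      exact he
    · obtain ⟨v, hv⟩ := ((IsLocalization.Away.algebraMap_isUnit (S := At) t).map (C (σ := Fin n))).pow (e' + e)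
      refine Ideal.mem_span_singleton.mpr ⟨↑v⁻¹, ?_⟩
      rw [map_mul, ← hg, map_pow, map_C, ← mul_assoc, ← pow_add, ← hv, mul_comm (v : MvPolynomial (Fin n) At), mul_assoc,
        Units.mul_inv, mul_one]
  choose f₀ hf₀ hf₀G using hrep
  obtain ⟨m, ⟨en⟩⟩ : ∃ m, Nonempty (G ≃ Fin m) := ⟨_, ⟨G.equivFin⟩⟩
  have hker : RingHom.ker Φ = (Ideal.span (Set.range fun k => f₀ (en.symm k))).map (map (algebraMap A At)) := by
    refine le_antisymm ?_ ?_
    · rw [show RingHom.ker Φ = _ from hG.symm, Submodule.span_le]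
      intro F hF
      refine (Ideal.span_le.mpr ?_ : Ideal.span {map (algebraMap A At) (f₀ ⟨F, hF⟩)} ≤ _) (hf₀G ⟨F, hF⟩)
      exact Set.singleton_subset_iff.mpr (Ideal.mem_map_of_mem _ (Ideal.subset_span ⟨en ⟨F, hF⟩, by simp⟩))
    · rw [Ideal.map_le_iff_le_comap, Ideal.span_le]
      rintro _ ⟨k, rfl⟩
      show Φ (map (algebraMap A At) (f₀ (en.symm k))) = 0
      rw [hΦ, hf₀, map_zero]
  refine ⟨m, fun k => f₀ (en.symm k), fun k => hf₀ _, hker, fun g hg => exists_pow_mul_mem (At := At) t ?_⟩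
  rw [← hker, RingHom.mem_ker, hΦ, hg, map_zero]

end Groth.Agent.H21.ElkikEq
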