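import Groth.Agent.S15756
import Mathlib.AlgebraicGeometry.Morphisms.Smooth
import Mathlib.AlgebraicGeometry.Morphisms.Affine
import Mathlib.RingTheory.MvPolynomial.Localization
import Mathlib.RingTheory.FinitePresentation
import Mathlib.RingTheory.Localization.Away.Basic

/-! Elkik: sections over `A[1/t]` of affine smooth schemes with a point over `Â[1/t]`. -/

set_option autoImplicit false

universe u

namespace Groth.Agent.H21.ElkikSect

open MvPolynomial

variable {A : Type u} [CommRing A] (t : A)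

local notation "At" => Localization.Away t
set_option quotPrecheck false in
local notation "Ah" => AdicCompletion (Ideal.span ({t} : Set A)) A
set_option quotPrecheck false in
local notation "Aht" => Localization.Away (algebraMap A (AdicCompletion (Ideal.span ({t} : Set A)) A) t)

theorem exists_retraction [HenselianRing A (Ideal.span {t})]
    (hbd : ∃ N : ℕ, ∀ a : A, (∃ m : ℕ, t ^ m * a = 0) → t ^ N * a = 0)
    (C : Type u) [CommRing C] [Algebra (Localization.Away t) C] [Algebra.Smooth (Localization.Away t) C]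
    (σ : C →+* Aht) (hσ : σ.comp (algebraMap At C) = Localization.awayMap (algebraMap A Ah) t) :
    ∃ τ : C →+* At, τ.comp (algebraMap At C) = RingHom.id At := by
  classical
  letI : Algebra A C := ((algebraMap At C).comp (algebraMap A At)).toAlgebra
  haveI : IsScalarTower A At C := IsScalarTower.of_algebraMap_eq' rfl
  have hσA : ∀ a : A, σ (algebraMap A C a) = algebraMap A Aht a := fun a => by
    rw [IsScalarTower.algebraMap_apply A At C]
    exact (RingHom.congr_fun hσ (algebraMap A At a)).trans ((IsLocalization.lift_eq _ a).trans (IsScalarTower.algebraMap_apply A Ah Aht a).symm)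
  let σA : C →ₐ[A] Aht := { σ with commutes' := hσA }
  have htC : IsUnit (algebraMap A C t) := by
    rw [IsScalarTower.algebraMap_apply A At C]
    exact (IsLocalization.Away.algebraMap_isUnit t).map (algebraMap At C)
  -- scaled generators
  obtain ⟨n, π₀, hπ₀⟩ := Algebra.FiniteType.iff_quotient_mvPolynomial''.mp
    (inferInstance : Algebra.FiniteType At C)
  have hden : ∀ i, ∃ (k : ℕ) (y : Ah), σ (π₀ (X i)) * algebraMap Ah Aht (algebraMap A Ah t) ^ k = algebraMap Ah Aht y :=
    fun i => IsLocalization.Away.surj (algebraMap A Ah t) (σ (π₀ (X i)))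
  choose k y hy using hden
  let z : Fin n → C := fun i => π₀ (X i) * algebraMap A C t ^ k i
  let π : MvPolynomial (Fin n) At →ₐ[At] C := aeval z
  have hπ : Function.Surjective π := by
    have h : ∀ i, π₀ (X i) ∈ π.range := fun i => by
      refine ⟨MvPolynomial.C (IsLocalization.mk' At 1 (⟨t ^ k i, k i, rfl⟩ : Submonoid.powers t)) * X i, ?_⟩
      show π _ = _
      rw [map_mul, aeval_C, aeval_X]
      show algebraMap At C _ * (π₀ (X i) * algebraMap A C t ^ k i) = _
      rw [mul_left_comm, ← map_pow, IsScalarTower.algebraMap_apply A At C, ← map_mul]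
      rw [IsLocalization.mk'_spec At 1 (⟨t ^ k i, k i, rfl⟩ : Submonoid.powers t), map_one, map_one, mul_one]
    intro c
    obtain ⟨p, rfl⟩ := hπ₀ c
    induction p using MvPolynomial.induction_on with
    | C a => exact ⟨MvPolynomial.C a, by rw [← MvPolynomial.algebraMap_eq, AlgHom.commutes, AlgHom.commutes]⟩
    | add p q hp hq =>
      obtain ⟨p', hp'⟩ := hp
      obtain ⟨q', hq'⟩ := hq
      exact ⟨p' + q', by rw [map_add, map_add, hp', hq']⟩
    | mul_X p i hp =>
      obtain ⟨p', hp'⟩ := hp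
      obtain ⟨x', hx'⟩ := h i
      exact ⟨p' * x', by rw [map_mul, map_mul, hp', show π x' = π₀ (X i) from hx']⟩
  have hfg : (RingHom.ker π.toRingHom).FG :=
    Algebra.FinitePresentation.ker_fG_of_surjective π hπ
  obtain ⟨F, hF⟩ := hfg
  -- clear denominators
  letI : Algebra (MvPolynomial (Fin n) A) (MvPolynomial (Fin n) At) := MvPolynomial.algebraMvPolynomial
  let M : Submonoid (MvPolynomial (Fin n) A) := (Submonoid.powers t).map (MvPolynomial.C (σ := Fin n))
  haveI : IsLocalization M (MvPolynomial (Fin n) At) := MvPolynomial.isLocalization _ _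
  let ι : MvPolynomial (Fin n) A →ₐ[A] MvPolynomial (Fin n) At := IsScalarTower.toAlgHom A _ _
  let πA : MvPolynomial (Fin n) A →ₐ[A] C := aeval z
  have hπι : ∀ p, π (algebraMap (MvPolynomial (Fin n) A) (MvPolynomial (Fin n) At) p) = πA p := by
    intro p
    show π (MvPolynomial.map (algebraMap A At) p) = πA p
    exact MvPolynomial.aeval_map_algebraMap At z p
  have hlift : ∀ g ∈ F, ∃ f : MvPolynomial (Fin n) A, ∃ j : ℕ,
      algebraMap (MvPolynomial (Fin n) A) (MvPolynomial (Fin n) At) f =
        g * algebraMap (MvPolynomial (Fin n) A) (MvPolynomial (Fin n) At) (MvPolynomial.C t) ^ j := by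
    intro g _
    obtain ⟨⟨f, ⟨_, _, ⟨j, rfl⟩, rfl⟩⟩, hf⟩ := IsLocalization.surj M g
    exact ⟨f, j, by rw [← map_pow, ← map_pow]; exact hf.symm⟩
  choose f j hf using hlift
  have hfker : ∀ g (hg : g ∈ F), πA (f g hg) = 0 := by
    intro g hg
    have h0 : π g = 0 := RingHom.mem_ker.mp (hF ▸ Ideal.subset_span hg)
    rw [← hπι, hf g hg, map_mul, h0, zero_mul]
  let Y : MvPolynomial (Fin n) A →ₐ[A] Ah := aeval y
  have hY : ∀ p, algebraMap Ah Aht (Y p) = σ (πA p) := by
    intro p
    have h : (IsScalarTower.toAlgHom A Ah Aht).comp Y = σA.comp πA := MvPolynomial.algHom_ext fun i => by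
      show algebraMap Ah Aht (Y (X i)) = σ (πA (X i))
      rw [aeval_X, aeval_X, map_mul, ← hy i, map_pow, hσA]
      rfl
    exact AlgHom.congr_fun h p
  have hkill : ∀ g (hg : g ∈ F), ∃ e : ℕ, (algebraMap A Ah t) ^ e * Y (f g hg) = 0 := by
    intro g hg
    have h := hY (f g hg)
    rw [hfker g hg, map_zero] at h
    obtain ⟨⟨_, e, rfl⟩, he⟩ := (IsLocalization.map_eq_zero_iff (Submonoid.powers (algebraMap A Ah t)) Aht _).mp h
    exact ⟨e, he⟩
  choose e he using hkill
  let J : Ideal (MvPolynomial (Fin n) A) :=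
    Ideal.span (Set.range fun g : F => MvPolynomial.C (t ^ e g.1 g.2) * f g.1 g.2)
  have hJπ : ∀ p ∈ J, πA p = 0 := by
    intro p hp
    refine RingHom.mem_ker.mp (Ideal.span_le (I := RingHom.ker πA) |>.mpr ?_ hp)
    rintro _ ⟨g, rfl⟩
    show _ ∈ RingHom.ker πA
    rw [RingHom.mem_ker, map_mul, hfker g.1 g.2, mul_zero]
  have hJY : ∀ p ∈ J, Y p = 0 := by
    intro p hp
    refine RingHom.mem_ker.mp (Ideal.span_le (I := RingHom.ker Y) |>.mpr ?_ hp)
    rintro _ ⟨g, rfl⟩
    show _ ∈ RingHom.ker Y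
    rw [RingHom.mem_ker, map_mul, aeval_C, map_pow]
    exact he g.1 g.2
  let B := MvPolynomial (Fin n) A ⧸ J
  let σB : B →ₐ[A] Ah := Ideal.Quotient.liftₐ J Y hJY
  let ρ : B →ₐ[A] C := Ideal.Quotient.liftₐ J πA hJπ
  letI : Algebra B C := ρ.toRingHom.toAlgebra
  haveI : IsScalarTower A B C := IsScalarTower.of_algebraMap_eq fun a => (ρ.commutes a).symm
  haveI hloc : IsLocalization (Algebra.algebraMapSubmonoid B (Submonoid.powers t)) C := by
    refine (isLocalization_iff _ C).mpr ⟨?_, ?_, ?_⟩
    · rintro ⟨_, _, ⟨m, rfl⟩, rfl⟩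
      show IsUnit (algebraMap B C (algebraMap A B (t ^ m)))
      rw [← IsScalarTower.algebraMap_apply, map_pow]
      exact htC.pow m
    · intro c
      obtain ⟨P, rfl⟩ := hπ c
      obtain ⟨⟨p, ⟨_, _, ⟨m, rfl⟩, rfl⟩⟩, hp⟩ := IsLocalization.surj M P
      refine ⟨⟨Ideal.Quotient.mk J p, ⟨_, _, ⟨m, rfl⟩, rfl⟩⟩, ?_⟩
      show π P * algebraMap B C (algebraMap A B (t ^ m)) = πA p
      rw [← IsScalarTower.algebraMap_apply, ← hπι, ← hp, map_mul]
      refine congrArg (π P * ·) ?_
      rw [hπι]
      exact (πA.commutes (t ^ m)).symm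
    · intro b b' hbb
      obtain ⟨p, rfl⟩ := Ideal.Quotient.mk_surjective b
      obtain ⟨q, rfl⟩ := Ideal.Quotient.mk_surjective b'
      change πA p = πA q at hbb
      let ιR : MvPolynomial (Fin n) A →+* MvPolynomial (Fin n) At :=
        algebraMap (MvPolynomial (Fin n) A) (MvPolynomial (Fin n) At)
      have hsub : ιR (p - q) ∈ RingHom.ker π.toRingHom := by
        rw [RingHom.mem_ker]
        show π (algebraMap (MvPolynomial (Fin n) A) (MvPolynomial (Fin n) At) (p - q)) = 0
        rw [hπι, map_sub, hbb, sub_self]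
      have hle : RingHom.ker π.toRingHom ≤ J.map ιR := by
        rw [← hF, Ideal.span_le]
        intro g hg
        have hu : IsUnit (ιR (MvPolynomial.C (t ^ e g hg)) * ιR (MvPolynomial.C t) ^ j g hg) := by
          refine (IsLocalization.map_units (MvPolynomial (Fin n) At) (⟨_, _, ⟨e g hg, rfl⟩, rfl⟩ : M)).mul
            (IsUnit.pow _ ?_)
          exact IsLocalization.map_units (MvPolynomial (Fin n) At) (⟨_, _, ⟨1, pow_one t⟩, rfl⟩ : M)
        have hmem : g * (ιR (MvPolynomial.C (t ^ e g hg)) * ιR (MvPolynomial.C t) ^ j g hg) ∈ J.map ιR := by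
          rw [mul_left_comm, ← hf g hg, ← map_mul]
          exact Ideal.mem_map_of_mem _ (Ideal.subset_span ⟨⟨g, hg⟩, rfl⟩)
        obtain ⟨v, hv⟩ := hu.exists_right_inv
        have := Ideal.mul_mem_right v _ hmem
        rwa [mul_assoc, hv, mul_one] at this
      obtain ⟨_, ⟨_, ⟨m, rfl⟩, rfl⟩, hm⟩ :=
        (IsLocalization.algebraMap_mem_map_algebraMap_iff M (MvPolynomial (Fin n) At) J (p - q)).mp (hle hsub)
      refine ⟨⟨_, _, ⟨m, rfl⟩, rfl⟩, ?_⟩
      show Ideal.Quotient.mk J (MvPolynomial.C (t ^ m)) * Ideal.Quotient.mk J p =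
        Ideal.Quotient.mk J (MvPolynomial.C (t ^ m)) * Ideal.Quotient.mk J q
      rw [← map_mul, ← map_mul, Ideal.Quotient.eq, ← mul_sub]
      exact hm
  haveI : Algebra.FiniteType A B :=
    Algebra.FiniteType.of_surjective (Ideal.Quotient.mkₐ A J) Ideal.Quotient.mk_surjective
  have hsm : Algebra.Smooth At (Localization (Algebra.algebraMapSubmonoid B (Submonoid.powers t))) := by
    let L := Localization (Algebra.algebraMapSubmonoid B (Submonoid.powers t))
    let ε : C ≃ₐ[B] L := IsLocalization.algEquiv (Algebra.algebraMapSubmonoid B (Submonoid.powers t)) C L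
    have hε : ε.toRingEquiv.toRingHom.comp (algebraMap At C) = algebraMap At L := by
      refine IsLocalization.ringHom_ext (Submonoid.powers t) (RingHom.ext fun a => ?_)
      show ε (algebraMap At C (algebraMap A At a)) = algebraMap At L (algebraMap A At a)
      rw [← IsScalarTower.algebraMap_apply, ← IsScalarTower.algebraMap_apply,
        IsScalarTower.algebraMap_apply A B C, AlgEquiv.commutes, ← IsScalarTower.algebraMap_apply]
    exact Algebra.Smooth.of_equiv (AlgEquiv.ofRingEquiv (f := ε.toRingEquiv) fun a => RingHom.congr_fun hε a)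
  obtain ⟨τ, -⟩ := Groth.Agent.S15756.result A t hbd B hsm 0 σB
  have hunit : ∀ s : Algebra.algebraMapSubmonoid B (Submonoid.powers t),
      IsUnit (((algebraMap A At).comp τ.toRingHom) s.1) := by
    rintro ⟨_, _, ⟨m, rfl⟩, rfl⟩
    show IsUnit (algebraMap A At (τ (algebraMap A B (t ^ m))))
    rw [τ.commutes]
    exact IsLocalization.map_units At (⟨_, m, rfl⟩ : Submonoid.powers t)
  refine ⟨IsLocalization.lift hunit, IsLocalization.ringHom_ext (Submonoid.powers t) (RingHom.ext fun a => ?_)⟩
  show IsLocalization.lift hunit (algebraMap At C (algebraMap A At a)) = algebraMap A At a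
  rw [← IsScalarTower.algebraMap_apply, IsScalarTower.algebraMap_apply A B C, IsLocalization.lift_eq]
  exact congrArg (algebraMap A At) (τ.commutes a)

open CategoryTheory AlgebraicGeometry

theorem exists_section [HenselianRing A (Ideal.span {t})]
    (hbd : ∃ N : ℕ, ∀ a : A, (∃ m : ℕ, t ^ m * a = 0) → t ^ N * a = 0)
    {X : Scheme.{u}} (f : X ⟶ Spec (CommRingCat.of (Localization.Away t))) [IsAffineHom f] [Smooth f]
    (s : Spec (CommRingCat.of (Localization.Away (algebraMap A (AdicCompletion (Ideal.span {t}) A) t))) ⟶ X)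
    (hs : s ≫ f = Spec.map (CommRingCat.ofHom
      (Localization.awayMap (algebraMap A (AdicCompletion (Ideal.span {t}) A)) t))) :
    ∃ r : Spec (CommRingCat.of (Localization.Away t)) ⟶ X, r ≫ f = 𝟙 _ := by
  haveI : IsAffine X := isAffine_of_isAffineHom f
  obtain ⟨g, hg⟩ := Spec.map_surjective (X.isoSpec.inv ≫ f)
  obtain ⟨σ, hσ⟩ := Spec.map_surjective (s ≫ X.isoSpec.hom)
  have hsm : RingHom.Smooth g.hom := by
    have : Smooth (Spec.map g) := by rw [hg]; infer_instance
    exact (HasRingHomProperty.Spec_iff (P := @Smooth)).mp this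
  letI : Algebra (Localization.Away t) Γ(X, ⊤) := g.hom.toAlgebra
  haveI : Algebra.Smooth (Localization.Away t) Γ(X, ⊤) := hsm
  have hcomp : g ≫ σ = CommRingCat.ofHom
      (Localization.awayMap (algebraMap A (AdicCompletion (Ideal.span {t}) A)) t) :=
    Spec.map_injective (by rw [Spec.map_comp, hσ, hg]; simpa using hs)
  obtain ⟨τ, hτ⟩ := exists_retraction t hbd Γ(X, ⊤) σ.hom (congrArg CommRingCat.Hom.hom hcomp)
  refine ⟨Spec.map (CommRingCat.ofHom τ) ≫ X.isoSpec.inv, ?_⟩
  rw [Category.assoc, ← hg, ← Spec.map_comp,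
    show g ≫ CommRingCat.ofHom τ = 𝟙 _ from CommRingCat.hom_ext hτ, Spec.map_id]

end Groth.Agent.H21.ElkikSect
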