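import Mathlib.Algebra.Algebra.Epi
import Mathlib.RingTheory.Flat.FaithfullyFlat.Algebra
import Mathlib.RingTheory.Localization.AtPrime.Basic
import Mathlib.RingTheory.LocalRing.ResidueField.Ideal
import Mathlib.RingTheory.RingHom.Flat
import Mathlib.RingTheory.TensorProduct.Maps
import Mathlib.RingTheory.Flat.Localization

set_option autoImplicit false

open TensorProduct

universe u v w

namespace Groth.Agent.H21.EpiFlat

variable {R : Type u} {S : Type v} [CommRing R] [CommRing S] [Algebra R S]

theorem ringHom_ext [Algebra.IsEpi R S] {T : Type w} [CommRing T] (g₁ g₂ : S →+* T)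
    (h : g₁.comp (algebraMap R S) = g₂.comp (algebraMap R S)) : g₁ = g₂ := by
  let : Algebra R T := (g₁.comp (algebraMap R S)).toAlgebra
  let a₁ : S →ₐ[R] T := AlgHom.mk g₁ fun r => rfl
  let a₂ : S →ₐ[R] T := AlgHom.mk g₂ fun r => (RingHom.congr_fun h r).symm
  ext s
  have := congrArg (Algebra.TensorProduct.lift a₁ a₂ fun a b => Commute.all _ _)
    ((Algebra.isEpi_iff_forall_one_tmul_eq R S).mp inferInstance s)
  simpa [a₁, a₂] using this.symm

theorem bijective_of_faithfullyFlat_of_isEpi [Module.FaithfullyFlat R S] [Algebra.IsEpi R S] :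
    Function.Bijective (algebraMap R S) := by
  refine ⟨FaithfulSMul.algebraMap_injective R S, ?_⟩
  have h : Function.Surjective ((Algebra.linearMap R S).lTensor S) := by
    intro t
    induction t using TensorProduct.induction_on with
    | zero => exact ⟨0, map_zero _⟩
    | tmul a b =>
      refine ⟨(a * b) ⊗ₜ 1, ?_⟩
      rw [LinearMap.lTensor_tmul, Algebra.linearMap_apply, map_one]
      calc (a * b) ⊗ₜ[R] (1 : S) = (a ⊗ₜ[R] 1) * (b ⊗ₜ[R] 1) := by simp
        _ = (a ⊗ₜ[R] 1) * (1 ⊗ₜ[R] b) := by rw [Algebra.tmul_comm R 1 b]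
        _ = a ⊗ₜ[R] b := by simp
    | add s t hs ht =>
      obtain ⟨x, rfl⟩ := hs
      obtain ⟨y, rfl⟩ := ht
      exact ⟨x + y, map_add _ _ _⟩
  exact (Module.FaithfullyFlat.lTensor_surjective_iff_surjective R S _).mp h

theorem isEpi_trans_localization [Algebra.IsEpi R S] (M : Submonoid S) (T : Type w) [CommRing T]
    [Algebra S T] [IsLocalization M T] [Algebra R T] [IsScalarTower R S T] : Algebra.IsEpi R T := by
  refine (Algebra.isEpi_iff_forall_one_tmul_eq R T).mpr fun a => ?_
  let L : T →ₐ[R] T ⊗[R] T := Algebra.TensorProduct.includeLeft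
  let R' : T →ₐ[R] T ⊗[R] T := Algebra.TensorProduct.includeRight
  have h1 : L.toRingHom.comp (algebraMap S T) = R'.toRingHom.comp (algebraMap S T) :=
    ringHom_ext (R := R) _ _ (RingHom.ext fun r => by
      simp only [RingHom.comp_apply, ← IsScalarTower.algebraMap_apply]
      exact (L.commutes r).trans (R'.commutes r).symm)
  exact (RingHom.congr_fun (IsLocalization.ringHom_ext M h1) a).symm

theorem isEpi_of_tower (R' : Type*) [CommRing R'] [Algebra R R'] [Algebra R' S] [IsScalarTower R R' S]
    [Algebra.IsEpi R S] : Algebra.IsEpi R' S := by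
  refine (Algebra.isEpi_iff_forall_one_tmul_eq R' S).mpr fun a => ?_
  have := congrArg (TensorProduct.mapOfCompatibleSMul R' R R S S)
    ((Algebra.isEpi_iff_forall_one_tmul_eq R S).mp inferInstance a)
  simpa using this

theorem bijective_localRingHom {A B : Type u} [CommRing A] [CommRing B] (f : A →+* B) (hf : f.Flat)
    (he : @Algebra.IsEpi A B _ _ f.toAlgebra) (P : Ideal B) [P.IsPrime] :
    Function.Bijective (Localization.localRingHom (P.comap f) P f rfl) := by
  let : Algebra A B := f.toAlgebra
  have : Module.Flat A B := hf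
  have : Algebra.IsEpi A B := he
  let : Algebra (Localization.AtPrime (P.comap f)) (Localization.AtPrime P) :=
    (Localization.localRingHom (P.comap f) P f rfl).toAlgebra
  have : IsScalarTower A (Localization.AtPrime (P.comap f)) (Localization.AtPrime P) :=
    IsScalarTower.of_algebraMap_eq fun a => by
      rw [RingHom.algebraMap_toAlgebra, Localization.localRingHom_to_map]
      rfl
  have : IsLocalHom (algebraMap (Localization.AtPrime (P.comap f)) (Localization.AtPrime P)) :=
    Localization.isLocalHom_localRingHom _ _ _ _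
  have : Module.Flat A (Localization.AtPrime P) := Module.Flat.trans A B _
  have : Module.Flat (Localization.AtPrime (P.comap f)) (Localization.AtPrime P) :=
    (Module.flat_iff_of_isLocalization (Localization.AtPrime (P.comap f))
      (P.comap f).primeCompl (Localization.AtPrime P)).mpr inferInstance
  have : Module.FaithfullyFlat (Localization.AtPrime (P.comap f)) (Localization.AtPrime P) :=
    Module.FaithfullyFlat.of_flat_of_isLocalHom
  have : Algebra.IsEpi A (Localization.AtPrime P) := isEpi_trans_localization P.primeCompl _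
  have : Algebra.IsEpi (Localization.AtPrime (P.comap f)) (Localization.AtPrime P) :=
    isEpi_of_tower (R := A) _
  exact bijective_of_faithfullyFlat_of_isEpi

theorem bijective_residueFieldMap {A B : Type u} [CommRing A] [CommRing B] (f : A →+* B) (hf : f.Flat)
    (he : @Algebra.IsEpi A B _ _ f.toAlgebra) (Q : Ideal A) [Q.IsPrime] (P : Ideal B) [P.IsPrime]
    (h : Q = P.comap f) :
    Function.Bijective (Ideal.ResidueField.map Q P f h) := by
  subst h
  refine ⟨RingHom.injective _, fun x => ?_⟩
  obtain ⟨y, rfl⟩ := IsLocalRing.residue_surjective x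
  obtain ⟨z, rfl⟩ := (bijective_localRingHom f hf he P).surjective y
  exact ⟨IsLocalRing.residue _ z, rfl⟩

end Groth.Agent.H21.EpiFlat
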