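import Groth.Agent.H21.EpiFlat
import Mathlib.RingTheory.HopkinsLevitzki
import Mathlib.RingTheory.Ideal.MinimalPrime.Localization
import Mathlib.RingTheory.LocalRing.Module
import Mathlib.RingTheory.Support
import Mathlib.RingTheory.Ideal.Quotient.Noetherian
import Mathlib.Algebra.Module.Torsion.Basic
import Mathlib.RingTheory.Localization.Finiteness
import Mathlib.Algebra.Module.LocalizedModule.Submodule

/-! The chain of iterated equalizer subalgebras of a finite extension of a Noetherian ring. -/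

set_option autoImplicit false

open TensorProduct

universe u

namespace Groth.Agent.H21.EqualizerChain

/-- A finite algebra which is a local epimorphism at `p` is locally surjective at `p`. -/
theorem exists_smul_mem_range {A C : Type u} [CommRing A] [CommRing C] [Algebra A C]
    [Module.Finite A C] (p : Ideal A) [p.IsPrime]
    (h : ∀ b : C, ∃ s : A, s ∉ p ∧ s • (b ⊗ₜ[A] (1 : C)) = s • ((1 : C) ⊗ₜ[A] b)) (b : C) :
    ∃ s : A, s ∉ p ∧ s • b ∈ LinearMap.range (Algebra.linearMap A C) := by
  let κ := p.ResidueField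
  let F := κ ⊗[A] C
  have hepi : Algebra.IsEpi κ F := by
    rw [Algebra.isEpi_iff_forall_one_tmul_eq]
    intro x
    induction x using TensorProduct.induction_on with
    | zero => rw [TensorProduct.tmul_zero, TensorProduct.zero_tmul]
    | tmul c b =>
      obtain ⟨s, hs, hsb⟩ := h b
      let ι : C →ₐ[A] F := Algebra.TensorProduct.includeRight
      let Φ : C ⊗[A] C →ₐ[A] F ⊗[κ] F :=
        Algebra.TensorProduct.lift
          (((Algebra.TensorProduct.includeLeft (R := κ) (S := κ) (A := F) (B := F)).restrictScalars A).comp ι)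
          (((Algebra.TensorProduct.includeRight (R := κ) (A := F) (B := F)).restrictScalars A).comp ι)
          (fun _ _ => Commute.all _ _)
      have hΦ := congrArg Φ hsb
      rw [map_smul, map_smul] at hΦ
      simp only [Φ, ι, Algebra.TensorProduct.lift_tmul, AlgHom.comp_apply, AlgHom.restrictScalars_apply,
        Algebra.TensorProduct.includeLeft_apply, Algebra.TensorProduct.includeRight_apply,
        Algebra.TensorProduct.tmul_mul_tmul, one_mul, mul_one, map_one, ← Algebra.TensorProduct.one_def] at hΦ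
      have hu : IsUnit (algebraMap A κ s) := isUnit_iff_ne_zero.mpr fun h0 =>
        hs (Ideal.algebraMap_residueField_eq_zero.mp h0)
      rw [← algebraMap_smul κ s, ← algebraMap_smul κ s] at hΦ
      have hb' := (hu.smul_left_cancel).mp hΦ
      have hb : ((1 : κ) ⊗ₜ[A] b : F) ⊗ₜ[κ] (1 : F) = (1 : F) ⊗ₜ[κ] ((1 : κ) ⊗ₜ[A] b) := hb'
      rw [show (c ⊗ₜ[A] b : F) = c • ((1 : κ) ⊗ₜ[A] b) by rw [TensorProduct.smul_tmul', smul_eq_mul, mul_one],
        TensorProduct.tmul_smul, ← hb, TensorProduct.smul_tmul']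
    | add x y hx hy => rw [TensorProduct.tmul_add, hx, hy, TensorProduct.add_tmul]
  have hsurj : Function.Surjective (algebraMap κ F) := by
    rcases subsingleton_or_nontrivial F with hF | hF
    · exact fun y => ⟨0, Subsingleton.elim _ _⟩
    · exact (Groth.Agent.H21.EpiFlat.bijective_of_faithfullyFlat_of_isEpi (R := κ) (S := F)).2
  let W := LinearMap.range (Algebra.linearMap A C)
  have hnot : (⟨p, ‹_›⟩ : PrimeSpectrum A) ∉ Module.support A (C ⧸ W) := by
    rw [Module.mem_support_iff_nontrivial_residueField_tensorProduct, not_nontrivial_iff_subsingleton]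
    refine subsingleton_of_forall_eq 0 fun y => ?_
    obtain ⟨z, rfl⟩ := LinearMap.lTensor_surjective κ W.mkQ_surjective y
    obtain ⟨c, rfl⟩ := hsurj z
    change (W.mkQ.lTensor κ) (c ⊗ₜ[A] (1 : C)) = 0
    rw [LinearMap.lTensor_tmul, show W.mkQ (1 : C) = 0 from
      (Submodule.Quotient.mk_eq_zero W).mpr ⟨1, by simp⟩, TensorProduct.tmul_zero]
  obtain ⟨s, hs, hsb⟩ := Module.notMem_support_iff'.mp hnot (W.mkQ b)
  exact ⟨s, hs, (Submodule.Quotient.mk_eq_zero W).mp (by rw [Submodule.Quotient.mk_smul]; exact hsb)⟩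

theorem isArtinian_of_torsion {L T : Type u} [CommRing L] [IsLocalRing L] [IsNoetherianRing L]
    [AddCommGroup T] [Module L T] [Module.Finite L T] (K : Ideal L) (hne : K ≠ ⊤)
    (hrad : IsLocalRing.maximalIdeal L ≤ K.radical) (hK : Module.IsTorsionBySet L T K) :
    IsArtinian L T := by
  have : Nontrivial (L ⧸ K) := Ideal.Quotient.nontrivial_iff.mpr hne
  have : IsLocalRing (L ⧸ K) :=
    IsLocalRing.of_surjective' (Ideal.Quotient.mk K) Ideal.Quotient.mk_surjective
  have hart : IsArtinianRing (L ⧸ K) := by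
    rw [isArtinianRing_iff_isNilpotent_maximalIdeal]
    obtain ⟨n, hn⟩ := Ideal.exists_pow_le_of_le_radical_of_fg hrad
      ((inferInstance : IsNoetherianRing L).noetherian _)
    refine ⟨n, ?_⟩
    rw [show IsLocalRing.maximalIdeal (L ⧸ K) = (IsLocalRing.maximalIdeal L).map (Ideal.Quotient.mk K) from
        ((IsLocalRing.eq_maximalIdeal ((Ideal.IsMaximal.map_of_surjective_of_ker_le Ideal.Quotient.mk_surjective
          (by rw [Ideal.mk_ker]; exact IsLocalRing.le_maximalIdeal hne) : _))).symm),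
      ← Ideal.map_pow, Ideal.zero_eq_bot, Ideal.map_eq_bot_iff_le_ker, Ideal.mk_ker]
    exact hn
  let _ := hK.module
  have : IsScalarTower L (L ⧸ K) T := hK.isScalarTower
  have : Module.Finite (L ⧸ K) T := Module.Finite.of_restrictScalars_finite L (L ⧸ K) T
  exact isArtinian_of_surjective_algebraMap (R := L ⧸ K) (S := L) Ideal.Quotient.mk_surjective

theorem exists_eq_bot (A B : Type u) [CommRing A] [CommRing B] [Algebra A B] [IsNoetherianRing A]
    [Module.Finite A B] (C : ℕ → Subalgebra A B)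
    (hstep : ∀ (i : ℕ) (b : B), b ∈ C (i + 1) ↔ ∃ hb : b ∈ C i,
      ((⟨b, hb⟩ : C i) ⊗ₜ[A] (1 : C i) : C i ⊗[A] C i) = (1 : C i) ⊗ₜ[A] (⟨b, hb⟩ : C i)) :
    ∃ m : ℕ, C m = ⊥ := by
  classical
  let W : Submodule A B := LinearMap.range (Algebra.linearMap A B)
  let Q : ℕ → Submodule A (B ⧸ W) := fun i => (C i).toSubmodule.map W.mkQ
  have hC : Antitone C := antitone_nat_of_succ_le fun i b hb => ((hstep i b).mp hb).1
  have hQ : Antitone Q := fun i j h => Submodule.map_mono (fun b hb => hC h hb)
  have hJ : Monotone fun i => (Q i).annihilator := fun i j h => Submodule.annihilator_mono (hQ h)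
  obtain ⟨N, hN⟩ := monotone_stabilizes_iff_noetherian.mpr (inferInstance : IsNoetherian A A) ⟨_, hJ⟩
  replace hN : ∀ m, N ≤ m → (Q N).annihilator = (Q m).annihilator := hN
  by_cases htop : (Q N).annihilator = ⊤
  · refine ⟨N, eq_bot_iff.mpr fun b hb => ?_⟩
    have h0 : Q N = ⊥ := Submodule.annihilator_eq_top_iff.mp htop
    have hb' : W.mkQ b ∈ Q N := Submodule.mem_map_of_mem hb
    rw [h0, Submodule.mem_bot, Submodule.mkQ_apply, Submodule.Quotient.mk_eq_zero] at hb'
    obtain ⟨a, rfl⟩ := hb'
    exact Algebra.mem_bot.mpr ⟨a, rfl⟩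
  exfalso
  obtain ⟨p, hp⟩ := Ideal.nonempty_minimalPrimes htop
  have : p.IsPrime := hp.1.1
  let L := Localization.AtPrime p
  have : IsNoetherianRing L := IsLocalization.isNoetherianRing p.primeCompl L inferInstance
  let K : Ideal L := (Q N).annihilator.map (algebraMap A L)
  let f := LocalizedModule.mkLinearMap p.primeCompl (Q N)
  let T := LocalizedModule p.primeCompl (Q N)
  have hK : Module.IsTorsionBySet L T K := by
    intro y ⟨k, hk⟩
    have hle : K ≤ Module.annihilator L T := by
      rw [Ideal.map_le_iff_le_comap]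
      intro a ha
      rw [Ideal.mem_comap, Module.mem_annihilator]
      intro y
      induction y using LocalizedModule.induction_on with
      | _ m s =>
        rw [algebraMap_smul, LocalizedModule.smul'_mk,
          show a • m = 0 from Subtype.ext (Submodule.mem_annihilator.mp ha m m.2), LocalizedModule.zero_mk]
    exact Module.mem_annihilator.mp (hle hk) y
  have hKne : K ≠ ⊤ := by
    intro h
    have h2 : IsLocalRing.maximalIdeal L = ⊤ := eq_top_iff.mpr (by
      rw [← h]
      exact (Ideal.map_mono hp.1.2).trans (Localization.AtPrime.map_eq_maximalIdeal (I := p)).le)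
    exact (IsLocalRing.maximalIdeal.isMaximal L).ne_top h2
  have hT : IsArtinian L T := by
    refine isArtinian_of_torsion (L := L) (T := T) K hKne ?_ hK
    rw [IsLocalization.AtPrime.radical_map_of_mem_minimalPrimes L p _ hp]
    exact (Localization.AtPrime.map_eq_maximalIdeal (I := p)).ge
  let P : ℕ → Submodule L T := fun i => ((Q i).comap (Q N).subtype).localized p.primeCompl
  have hP : Antitone P := fun i j h => by
    intro y hy
    rw [Submodule.mem_localized'] at hy ⊢
    obtain ⟨m, hm, s, rfl⟩ := hy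
    exact ⟨m, hQ h hm, s, rfl⟩
  obtain ⟨m, hm⟩ := monotone_stabilizes_iff_artinian.mpr hT ⟨fun i => OrderDual.toDual (P (N + i)), fun i j h => hP (Nat.add_le_add_left h N)⟩
  have hm1 : P (N + m) = P (N + (m + 1)) := hm (m + 1) (Nat.le_succ m)
  have key : ∀ b ∈ C (N + m), ∃ s, s ∉ p ∧ s • b ∈ C (N + m + 1) := by
    intro b hb
    have hbN : W.mkQ b ∈ Q N := hQ (Nat.le_add_right N m) (Submodule.mem_map_of_mem hb)
    have hbm : f ⟨W.mkQ b, hbN⟩ ∈ P (N + m) := by
      rw [Submodule.mem_localized']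
      exact ⟨⟨W.mkQ b, hbN⟩, Submodule.mem_map_of_mem hb, 1, IsLocalizedModule.mk'_one _ _ _⟩
    rw [hm1, Submodule.mem_localized'] at hbm
    obtain ⟨z, hz, s, hzs⟩ := hbm
    rw [← IsLocalizedModule.mk'_one p.primeCompl, IsLocalizedModule.mk'_eq_mk'_iff] at hzs
    obtain ⟨c, hc⟩ := hzs
    simp only [one_smul] at hc
    have hcz : (c • z : Q N).1 ∈ Q (N + (m + 1)) := Submodule.smul_mem _ _ hz
    have heq : (c : A) • (s : A) • W.mkQ b = (c • z : Q N).1 := by
      have := congrArg Subtype.val hc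
      simpa [Submonoid.smul_def] using this
    rw [← heq] at hcz
    obtain ⟨b', hb', hbb'⟩ := Submodule.mem_map.mp hcz
    refine ⟨c * s, (p.primeCompl.mul_mem c.2 s.2), ?_⟩
    rw [← map_smul, ← map_smul, eq_comm, Submodule.mkQ_apply, Submodule.mkQ_apply, Submodule.Quotient.eq, smul_smul] at hbb'
    obtain ⟨a, ha⟩ := hbb'
    have h' : ((c : A) * (s : A)) • b = algebraMap A B a + b' := by
      rw [show algebraMap A B a = _ from ha, sub_add_cancel]
    rw [show N + m + 1 = N + (m + 1) from rfl, h']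
    exact (C (N + (m + 1))).add_mem ((C (N + (m + 1))).algebraMap_mem a) hb'
  have : Module.Finite A (C (N + m)) :=
    inferInstanceAs (Module.Finite A (C (N + m)).toSubmodule)
  have hsat := exists_smul_mem_range (C := C (N + m)) p fun b => by
    obtain ⟨s, hs, hsb⟩ := key b.1 b.2
    obtain ⟨hb', heq⟩ := (hstep (N + m) _).mp hsb
    refine ⟨s, hs, ?_⟩
    rw [TensorProduct.smul_tmul', ← TensorProduct.tmul_smul]
    exact heq
  obtain ⟨t, ht⟩ := (IsNoetherian.noetherian (Q (N + m)) : (Q (N + m)).FG)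
  have hs : ∀ y ∈ t, ∃ s : A, s ∉ p ∧ s • y = 0 := fun y hy => by
    obtain ⟨b, hb, rfl⟩ := Submodule.mem_map.mp (ht ▸ Submodule.subset_span hy)
    obtain ⟨s, hs, a, ha⟩ := hsat ⟨b, hb⟩
    refine ⟨s, hs, ?_⟩
    rw [← map_smul, Submodule.mkQ_apply, Submodule.Quotient.mk_eq_zero]
    exact ⟨a, congrArg Subtype.val ha⟩
  choose s hs hsy using hs
  have hprod : (∏ y ∈ t.attach, s y.1 y.2) ∈ (Q (N + m)).annihilator := by
    rw [← ht, Submodule.mem_annihilator_span]
    rintro ⟨y, hy⟩
    rw [← Finset.prod_erase_mul _ _ (Finset.mem_attach t ⟨y, hy⟩), mul_smul, hsy, smul_zero]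
  rw [← hN (N + m) (Nat.le_add_right N m)] at hprod
  obtain ⟨y, -, hy⟩ := (Ideal.IsPrime.prod_mem_iff (hp := hp.1.1)).mp (hp.1.2 hprod)
  exact hs _ _ hy

end Groth.Agent.H21.EqualizerChain
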