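import Mathlib.RingTheory.Etale.Basic
import Mathlib.RingTheory.TensorProduct.Maps
import Mathlib.RingTheory.Ideal.Quotient.Operations
import Mathlib.RingTheory.Kaehler.Basic

/-! Formally étale maps identify infinitesimal neighbourhoods. -/

namespace Groth.Agent.H21.EtalePow

set_option linter.style.haveILetI false

open TensorProduct

universe u

theorem bijective (R S : Type u) [CommRing R] [CommRing S] [Algebra R S] [Algebra.FormallyEtale R S]
    (J : Ideal S) (hJ : Function.Surjective (algebraMap R (S ⧸ J))) (n : ℕ)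
    (hle : (J.comap (algebraMap R S)) ^ n ≤ (J ^ n).comap (algebraMap R S)) :
    Function.Bijective (Ideal.quotientMap (J ^ n) (algebraMap R S) hle) := by
  rcases Nat.eq_zero_or_pos n with rfl | hn
  · haveI : Subsingleton (S ⧸ J ^ 0) := Ideal.Quotient.subsingleton_iff.2 (by simp)
    haveI : Subsingleton (R ⧸ (J.comap (algebraMap R S)) ^ 0) :=
      Ideal.Quotient.subsingleton_iff.2 (by simp)
    exact ⟨fun x y _ => Subsingleton.elim x y, fun y => ⟨0, Subsingleton.elim _ _⟩⟩
  let I := J.comap (algebraMap R S)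
  let Q := R ⧸ I ^ n
  let r : Q →ₐ[R] S ⧸ J := Ideal.Quotient.liftₐ (I ^ n) (Algebra.ofId R (S ⧸ J))
    (fun a ha => Ideal.Quotient.eq_zero_iff_mem.2 (Ideal.pow_le_self hn.ne' ha : a ∈ I))
  have hr : Function.Surjective r := fun y => by
    obtain ⟨a, rfl⟩ := hJ y
    exact ⟨Ideal.Quotient.mk _ a, rfl⟩
  have hker : RingHom.ker r ≤ I.map (Ideal.Quotient.mk (I ^ n)) := by
    intro x hx
    obtain ⟨a, rfl⟩ := Ideal.Quotient.mk_surjective x
    have hx0 : Ideal.Quotient.mk J (algebraMap R S a) = 0 := hx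
    exact Ideal.mem_map_of_mem _ (show a ∈ I from Ideal.mem_comap.2 (Ideal.Quotient.eq_zero_iff_mem.1 hx0))
  have hnil : IsNilpotent (RingHom.ker r) :=
    ⟨n, le_bot_iff.1 ((Ideal.pow_right_mono hker n).trans
      (by rw [← Ideal.map_pow, Ideal.map_quotient_self]))⟩
  let ψ : S →ₐ[R] Q :=
    Algebra.FormallySmooth.liftOfSurjective (Ideal.Quotient.mkₐ R J) r hr hnil
  have hψ : ∀ s, r (ψ s) = Ideal.Quotient.mk J s := fun s =>
    Algebra.FormallySmooth.liftOfSurjective_apply _ r hr hnil s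
  have hψJ : J ^ n ≤ RingHom.ker ψ := by
    have h1 : J.map ψ ≤ RingHom.ker r := Ideal.map_le_iff_le_comap.2 fun s hs => by
      show r (ψ s) = 0
      rw [hψ]
      exact Ideal.Quotient.eq_zero_iff_mem.2 hs
    intro s hs
    have h2 := (Ideal.map_pow ψ J n ▸ Ideal.mem_map_of_mem ψ hs : ψ s ∈ (J.map ψ) ^ n)
    have h3 := Ideal.pow_right_mono (h1.trans hker) n h2
    rw [← Ideal.map_pow, Ideal.map_quotient_self] at h3
    exact Ideal.mem_bot.1 h3
  let q := Ideal.quotientMap (J ^ n) (algebraMap R S) hle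
  let q' : Q →ₐ[R] S ⧸ J ^ n := ⟨q, fun _ => rfl⟩
  let ψ' : S ⧸ J ^ n →ₐ[R] Q := Ideal.Quotient.liftₐ (J ^ n) ψ hψJ
  have h1 : ∀ x, ψ' (q x) = x := fun x => by
    obtain ⟨a, rfl⟩ := Ideal.Quotient.mk_surjective x
    show ψ (algebraMap R S a) = _
    rw [AlgHom.commutes]
    rfl
  have h2 : q'.comp ψ = Ideal.Quotient.mkₐ R (J ^ n) := by
    refine Algebra.FormallyUnramified.ext (J.map (Ideal.Quotient.mk (J ^ n))) ⟨n, ?_⟩ fun s => ?_
    · rw [← Ideal.map_pow, Ideal.map_quotient_self, Ideal.zero_eq_bot]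
    · rw [Ideal.Quotient.eq]
      obtain ⟨a, ha⟩ := Ideal.Quotient.mk_surjective (ψ s)
      have hmem : algebraMap R S a - s ∈ J := by
        rw [← Ideal.Quotient.eq, ← hψ s, ← ha]
        rfl
      show q (ψ s) - Ideal.Quotient.mk (J ^ n) s ∈ _
      rw [← ha]
      exact (map_sub (Ideal.Quotient.mk (J ^ n)) _ _) ▸ Ideal.mem_map_of_mem _ hmem
  refine Function.bijective_iff_has_inverse.2 ⟨ψ', h1, fun y => ?_⟩
  obtain ⟨s, rfl⟩ := Ideal.Quotient.mk_surjective y
  exact AlgHom.congr_fun h2 s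

/-- Base change of `S → S'` along `R → S'` on the left factor. -/
theorem formallyEtale_map (R S S' : Type u) [CommRing R] [CommRing S] [Algebra R S]
    [CommRing S'] [Algebra R S'] [Algebra S S'] [IsScalarTower R S S'] [Algebra.FormallyEtale S S'] :
    @Algebra.FormallyEtale (S' ⊗[R] S) (S' ⊗[R] S') _ _
      (Algebra.TensorProduct.map (AlgHom.id S' S')
        (IsScalarTower.toAlgHom R S S')).toRingHom.toAlgebra := by
  let μ := Algebra.TensorProduct.map (AlgHom.id S' S') (IsScalarTower.toAlgHom R S S')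
  letI : Algebra (S' ⊗[R] S) (S' ⊗[R] S') := μ.toRingHom.toAlgebra
  have hμ : ∀ a b, algebraMap (S' ⊗[R] S) (S' ⊗[R] S') (a ⊗ₜ b) = a ⊗ₜ algebraMap S S' b :=
    fun a b => rfl
  rw [Algebra.FormallyEtale.iff_comp_bijective]
  intro B _ _ I hI
  let am := algebraMap (S' ⊗[R] S) B
  letI : Algebra R B := (am.comp (algebraMap R (S' ⊗[R] S))).toAlgebra
  letI : Algebra S B := (am.comp
    (Algebra.TensorProduct.includeRight : S →ₐ[R] S' ⊗[R] S).toRingHom).toAlgebra
  haveI : IsScalarTower R (S' ⊗[R] S) B := IsScalarTower.of_algebraMap_eq fun _ => rfl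
  haveI : IsScalarTower R S B := IsScalarTower.of_algebraMap_eq fun r => by
    show am (algebraMap R (S' ⊗[R] S) r) = am (Algebra.TensorProduct.includeRight (algebraMap R S r))
    rw [AlgHom.commutes]
  let l : S' →ₐ[R] B := (IsScalarTower.toAlgHom R (S' ⊗[R] S) B).comp
    Algebra.TensorProduct.includeLeft
  let sec : ∀ f : S' ⊗[R] S' →ₐ[S' ⊗[R] S] B, S' →ₐ[S] B := fun f =>
    { f.toRingHom.comp (Algebra.TensorProduct.includeRight : S' →ₐ[R] S' ⊗[R] S').toRingHom with
      commutes' := fun b => by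
        show f ((1 : S') ⊗ₜ algebraMap S S' b) = _
        rw [← hμ, AlgHom.commutes]
        rfl }
  have hleft : ∀ (f : S' ⊗[R] S' →ₐ[S' ⊗[R] S] B) a, f (a ⊗ₜ 1) = l a := fun f a => by
    rw [← map_one (algebraMap S S'), ← hμ, AlgHom.commutes]
    rfl
  constructor
  · intro f₁ f₂ he
    have h : sec f₁ = sec f₂ := Algebra.FormallyUnramified.comp_injective I hI
      (AlgHom.ext fun x => AlgHom.congr_fun he (1 ⊗ₜ x))
    refine AlgHom.ext fun t => ?_
    induction t with
    | zero => simp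
    | add x y hx hy => simp [hx, hy]
    | tmul a b =>
      rw [show a ⊗ₜ[R] b = (a ⊗ₜ[R] (1 : S')) * ((1 : S') ⊗ₜ[R] b) by simp, map_mul, map_mul,
        hleft, hleft]
      exact congrArg _ (AlgHom.congr_fun h b)
  · intro g
    let g' : S' →ₐ[S] B ⧸ I :=
      { g.toRingHom.comp (Algebra.TensorProduct.includeRight : S' →ₐ[R] S' ⊗[R] S').toRingHom with
        commutes' := fun b => by
          show g ((1 : S') ⊗ₜ algebraMap S S' b) = _
          rw [← hμ, AlgHom.commutes]
          rfl }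
    obtain ⟨h, hh⟩ := (Algebra.FormallyEtale.comp_bijective S S' I hI).2 g'
    let f₀ := Algebra.TensorProduct.lift l (h.restrictScalars R) (fun _ _ => Commute.all _ _)
    have hf₀ : ∀ x, f₀ (algebraMap (S' ⊗[R] S) (S' ⊗[R] S') x) = am x := fun x => by
      induction x with
      | zero => simp
      | add x y hx hy => simp [hx, hy]
      | tmul a b =>
        rw [hμ, show f₀ (a ⊗ₜ algebraMap S S' b) = l a * h (algebraMap S S' b) from
          Algebra.TensorProduct.lift_tmul _ _ _ _ _, AlgHom.commutes]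
        show am (a ⊗ₜ 1) * am (1 ⊗ₜ b) = _
        rw [← map_mul]
        simp
    refine ⟨{ f₀.toRingHom with commutes' := hf₀ }, AlgHom.ext fun t => ?_⟩
    induction t with
    | zero => simp
    | add x y hx hy => rw [map_add, map_add, hx, hy]
    | tmul a b =>
      show Ideal.Quotient.mk I (f₀ (a ⊗ₜ b)) = g (a ⊗ₜ b)
      rw [show f₀ (a ⊗ₜ b) = l a * h b from Algebra.TensorProduct.lift_tmul _ _ _ _ _, map_mul,
        show a ⊗ₜ[R] b = (a ⊗ₜ[R] (1 : S')) * ((1 : S') ⊗ₜ[R] b) by simp, map_mul,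
        ← map_one (algebraMap S S'), ← hμ a 1, AlgHom.commutes, map_one]
      exact congrArg₂ (· * ·) rfl (AlgHom.congr_fun hh b)

end Groth.Agent.H21.EtalePow
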