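import Groth.Agent.Lib.LocalFlat.Basic
import Mathlib.RingTheory.Smooth.Fiber
import Mathlib.RingTheory.Kaehler.Basic
import Mathlib.RingTheory.Nilpotent.Defs
import Mathlib.LinearAlgebra.TensorProduct.Quotient

/-! Étaleness lifts along square-zero thickenings given `I ⊗ B' → B'` injective. -/

namespace Groth.Agent.H21.EtaleThick

set_option linter.style.haveILetI false

open TensorProduct Groth.Agent.Lib.LocalFlat.Basic

universe u

variable (A' : Type u) [CommRing A'] (A : Type u) [CommRing A] [Algebra A' A]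
  (B' : Type u) [CommRing B'] [Algebra A' B'] (B : Type u) [CommRing B] [Algebra B' B]
  [Algebra A B] [Algebra A' B] [IsScalarTower A' A B] [IsScalarTower A' B' B]

theorem smul_top_eq (I : Ideal A') :
    (I • ⊤ : Submodule A' B') = (I.map (algebraMap A' B')).restrictScalars A' :=
  Ideal.smul_top_eq_map I

theorem flat (hA : Function.Surjective (algebraMap A' A))
    (hI : RingHom.ker (algebraMap A' A) ^ 2 = ⊥) (hB : Function.Surjective (algebraMap B' B))
    [Module.Flat A B]
    (hJI : RingHom.ker (algebraMap B' B) = (RingHom.ker (algebraMap A' A)).map (algebraMap A' B'))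
    (hinj : Function.Injective ((RingHom.ker (algebraMap A' A)).subtype.lTensor B')) :
    Module.Flat A' B' := by
  let I := RingHom.ker (algebraMap A' A)
  let ρ : A' ⧸ I →+* A := Ideal.Quotient.lift I (algebraMap A' A) (fun a ha => ha)
  have hρ : Function.Bijective ρ := by
    refine ⟨RingHom.kerLift_injective _, fun a => ?_⟩
    obtain ⟨a, rfl⟩ := hA a
    exact ⟨Ideal.Quotient.mk I a, rfl⟩
  letI : Algebra (A' ⧸ I) A := ρ.toAlgebra
  letI : Algebra (A' ⧸ I) B := ((algebraMap A B).comp ρ).toAlgebra
  haveI : IsScalarTower (A' ⧸ I) A B := IsScalarTower.of_algebraMap_eq fun _ => rfl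
  haveI : IsScalarTower A' (A' ⧸ I) B := IsScalarTower.of_algebraMap_eq fun a => by
    show algebraMap A' B a = algebraMap A B (algebraMap A' A a)
    rw [← IsScalarTower.algebraMap_apply]
  haveI : Module.Flat (A' ⧸ I) A :=
    Module.Flat.of_linearEquiv (LinearEquiv.ofBijective (Algebra.linearMap (A' ⧸ I) A) hρ).symm
  haveI : Module.Flat (A' ⧸ I) B := Module.Flat.trans (A' ⧸ I) A B
  let π : B' →ₗ[A'] B := (IsScalarTower.toAlgHom A' B' B).toLinearMap
  have hπ : LinearMap.ker π = I • ⊤ := by
    rw [smul_top_eq, ← hJI]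
    rfl
  let e : (A' ⧸ I) ⊗[A'] B' ≃ₗ[A'] B :=
    (TensorProduct.quotTensorEquivQuotSMul B' I).trans
      ((Submodule.quotEquivOfEq _ _ hπ.symm).trans
        (LinearMap.quotKerEquivOfSurjective π (fun b => hB b)))
  haveI : Module.Flat (A' ⧸ I) ((A' ⧸ I) ⊗[A'] B') :=
    Module.Flat.of_linearEquiv (e.extendScalarsOfSurjective Ideal.Quotient.mk_surjective)
  refine flat_of_tor1Zero fun J _ => Tor1Zero.of_pow_smul_eq_zero (I := I) hinj 2 fun r hr x => ?_
  have hr0 : r = 0 := by rwa [hI, Ideal.mem_bot] at hr
  rw [hr0, zero_smul]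

theorem finitePresentation (hA : Function.Surjective (algebraMap A' A))
    (hI : RingHom.ker (algebraMap A' A) ^ 2 = ⊥) (hB : Function.Surjective (algebraMap B' B))
    [Algebra.FinitePresentation A B]
    (hJI : RingHom.ker (algebraMap B' B) = (RingHom.ker (algebraMap A' A)).map (algebraMap A' B'))
    (hinj : Function.Injective ((RingHom.ker (algebraMap A' A)).subtype.lTensor B')) :
    Algebra.FinitePresentation A' B' := by
  classical
  let I := RingHom.ker (algebraMap A' A)
  obtain ⟨n, φ, hφ, hker⟩ := Algebra.FinitePresentation.out (R := A) (A := B)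
  choose b hb using fun i => hB (φ (MvPolynomial.X i))
  let P := MvPolynomial (Fin n) A'
  let ψ : P →ₐ[A'] B' := MvPolynomial.aeval b
  let β : P →+* MvPolynomial (Fin n) A := MvPolynomial.map (algebraMap A' A)
  have hβ : Function.Surjective β := MvPolynomial.map_surjective _ hA
  have hcomm : ∀ p, algebraMap B' B (ψ p) = φ (β p) := by
    intro p
    have : (algebraMap B' B).comp (ψ : P →+* B') = (φ : MvPolynomial (Fin n) A →+* B).comp β := by
      refine MvPolynomial.ringHom_ext (fun r => ?_) (fun i => ?_)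
      · show algebraMap B' B (MvPolynomial.aeval b (MvPolynomial.C r)) =
          φ (MvPolynomial.map (algebraMap A' A) (MvPolynomial.C r))
        rw [MvPolynomial.map_C, MvPolynomial.aeval_C,
          ← IsScalarTower.algebraMap_apply A' B' B, ← MvPolynomial.algebraMap_eq, AlgHom.commutes,
          ← IsScalarTower.algebraMap_apply A' A B]
      · show algebraMap B' B (MvPolynomial.aeval b (MvPolynomial.X i)) =
          φ (MvPolynomial.map (algebraMap A' A) (MvPolynomial.X i))
        rw [MvPolynomial.map_X, MvPolynomial.aeval_X, hb]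
    exact RingHom.congr_fun this p
  -- `IB' ⊆ (I B')`, so `ψ` is surjective
  have hIB : ∀ x : B', algebraMap B' B x = 0 → x ∈ (I • ⊤ : Submodule A' B') := by
    intro x hx
    rw [smul_top_eq, ← hJI]
    exact hx
  have hmod : ∀ x : B', ∃ p, x - ψ p ∈ (I • ⊤ : Submodule A' B') := by
    intro x
    obtain ⟨q, hq⟩ := hφ (algebraMap B' B x)
    obtain ⟨p, rfl⟩ := hβ q
    exact ⟨p, hIB _ (by rw [map_sub, hcomm, hq, sub_self])⟩
  have hψ : Function.Surjective ψ := by
    have h1 : ∀ x ∈ (I • ⊤ : Submodule A' B'), ∃ p, ψ p = x := by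
      intro x hx
      refine Submodule.smul_induction_on hx (fun r hr y _ => ?_) (fun x y hx hy => ?_)
      · obtain ⟨p, hp⟩ := hmod y
        refine ⟨r • p, ?_⟩
        have h0 : r • (y - ψ p) = 0 := by
          refine Submodule.smul_induction_on hp (fun s hs z _ => ?_) (fun u v hu hv => ?_)
          · have : r * s = 0 := by
              have := Ideal.mul_mem_mul hr hs
              rwa [← pow_two, hI, Ideal.mem_bot] at this
            rw [smul_smul, this, zero_smul]
          · rw [smul_add, hu, hv, add_zero]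
        rw [smul_sub, sub_eq_zero] at h0
        rw [map_smul, ← h0]
      · obtain ⟨p, rfl⟩ := hx
        obtain ⟨q, rfl⟩ := hy
        exact ⟨p + q, map_add _ _ _⟩
    intro x
    obtain ⟨p, hp⟩ := hmod x
    obtain ⟨q, hq⟩ := h1 _ hp
    exact ⟨q + p, by rw [map_add, hq, sub_add_cancel]⟩
  let K := RingHom.ker ψ
  have hKmap : K.map β = RingHom.ker φ := by
    apply le_antisymm
    · rw [Ideal.map_le_iff_le_comap]
      intro p hp
      show φ (β p) = 0
      rw [← hcomm, (RingHom.mem_ker).1 hp, map_zero]
    · intro q hq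
      obtain ⟨p, rfl⟩ := hβ q
      have hmem : ψ p ∈ (I • ⊤ : Submodule A' B') :=
        hIB _ (by rw [hcomm, (RingHom.mem_ker).1 hq])
      rw [← LinearMap.range_eq_top.2 (show Function.Surjective ψ.toLinearMap from hψ),
        LinearMap.range_eq_map, ← Submodule.map_smul''] at hmem
      obtain ⟨p₁, hp₁, hp₂⟩ := hmem
      have hp₁' : β p₁ = 0 := by
        refine Submodule.smul_induction_on hp₁ (fun r hr y _ => ?_) fun u v hu hv => by
          rw [map_add, hu, hv, add_zero]
        show MvPolynomial.map (algebraMap A' A) (r • y) = 0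
        rw [Algebra.smul_def, map_mul, MvPolynomial.algebraMap_eq, MvPolynomial.map_C,
          (RingHom.mem_ker).1 hr, map_zero, zero_mul]
      have : p - p₁ ∈ K := by
        rw [RingHom.mem_ker, map_sub]
        exact sub_eq_zero.2 hp₂.symm
      have := Ideal.mem_map_of_mem β this
      rwa [map_sub, hp₁', sub_zero] at this
  obtain ⟨T, hTspan⟩ := (show (RingHom.ker φ).FG from hker)
  choose lift hlift using fun t : T => (Ideal.mem_map_iff_of_surjective β hβ).1
    (show (t : MvPolynomial (Fin n) A) ∈ K.map β from hKmap ▸ hTspan ▸ Ideal.subset_span t.2)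
  let K₀ : Ideal P := Ideal.span (Set.range lift)
  have hK₀ : K₀ ≤ K := Ideal.span_le.2 (by rintro _ ⟨t, rfl⟩; exact (hlift t).1)
  have hK₀map : K₀.map β = RingHom.ker φ := by
    rw [← hTspan, Ideal.map_span, ← Set.range_comp]
    congr 1
    ext q
    exact ⟨fun ⟨t, ht⟩ => by rw [← ht, Function.comp_apply, (hlift t).2]; exact t.2,
      fun hq => ⟨⟨q, hq⟩, (hlift ⟨q, hq⟩).2⟩⟩
  have hstep : ∀ z ∈ K, ∃ w ∈ K₀, z - w ∈ (I • K.restrictScalars A' : Submodule A' P) := by
    intro z hz
    have hzm : β z ∈ K₀.map β := hK₀map ▸ hKmap ▸ Ideal.mem_map_of_mem β hz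
    obtain ⟨w, hw, hwz⟩ := (Ideal.mem_map_iff_of_surjective β hβ).1 hzm
    refine ⟨w, hw, ?_⟩
    have hzw : z - w ∈ (I • ⊤ : Submodule A' P) := by
      rw [smul_top_eq, Submodule.restrictScalars_mem, MvPolynomial.algebraMap_eq,
        ← MvPolynomial.ker_map, RingHom.mem_ker, map_sub]
      exact sub_eq_zero.2 hwz.symm
    let μ : I ⊗[A'] P →ₗ[A'] P := (TensorProduct.lid A' P).toLinearMap ∘ₗ I.subtype.rTensor P
    obtain ⟨ξ, hξ⟩ : z - w ∈ LinearMap.range μ := by
      refine Submodule.smul_induction_on hzw (fun r hr y _ => ⟨⟨r, hr⟩ ⊗ₜ y, by simp [μ]⟩)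
        (fun u v hu hv => add_mem hu hv)
    have h0 : ψ.toLinearMap.lTensor I ξ = 0 := by
      apply (TensorProduct.comm A' I B').injective
      apply hinj
      rw [map_zero, map_zero]
      apply (TensorProduct.rid A' B').injective
      rw [map_zero]
      have : ∀ η, TensorProduct.rid A' B' (I.subtype.lTensor B'
          (TensorProduct.comm A' I B' (ψ.toLinearMap.lTensor I η))) = ψ (μ η) := by
        intro η
        induction η using TensorProduct.induction_on with
        | zero => simp
        | tmul r y => simp [μ]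
        | add u v hu hv => simp only [map_add, hu, hv]
      rw [this, hξ, map_sub, (RingHom.mem_ker).1 hz, (RingHom.mem_ker).1 (hK₀ hw), sub_zero]
    obtain ⟨θ, rfl⟩ := ((lTensor_exact I (LinearMap.exact_subtype_ker_map ψ.toLinearMap) hψ) ξ).1 h0
    rw [← hξ]
    have : ∀ θ, μ ((LinearMap.ker ψ.toLinearMap).subtype.lTensor I θ) ∈
        (I • K.restrictScalars A' : Submodule A' P) := by
      intro θ
      induction θ using TensorProduct.induction_on with
      | zero => simp
      | tmul r y =>
        simp only [μ, LinearMap.lTensor_tmul, LinearMap.comp_apply, LinearMap.rTensor_tmul,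
          LinearEquiv.coe_coe, TensorProduct.lid_tmul]
        exact Submodule.smul_mem_smul r.2 y.2
      | add u v hu hv => simp only [map_add]; exact add_mem hu hv
    exact this θ
  have hKeq : K = K₀ := by
    refine le_antisymm (fun z hz => ?_) hK₀
    obtain ⟨w, hw, hzw⟩ := hstep z hz
    have h2 : z - w ∈ K₀ := by
      refine Submodule.smul_induction_on hzw (fun r hr y hy => ?_) fun u v hu hv => add_mem hu hv
      obtain ⟨w', hw', hyw⟩ := hstep y hy
      have h0 : r • (y - w') = 0 := by
        refine Submodule.smul_induction_on hyw (fun s hs z _ => ?_) (fun u v hu hv => ?_)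
        · have : r * s = 0 := by
            have := Ideal.mul_mem_mul hr hs
            rwa [← pow_two, hI, Ideal.mem_bot] at this
          rw [smul_smul, this, zero_smul]
        · rw [smul_add, hu, hv, add_zero]
      rw [smul_sub, sub_eq_zero] at h0
      rw [h0, Algebra.smul_def]
      exact K₀.mul_mem_left _ hw'
    have := K₀.add_mem h2 hw
    rwa [sub_add_cancel] at this
  exact Algebra.FinitePresentation.of_surjective hψ
    (show K.FG from hKeq ▸ Submodule.fg_span (Set.finite_range lift))

theorem formallyUnramified (hA : Function.Surjective (algebraMap A' A))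
    (hB : Function.Surjective (algebraMap B' B)) (hJ : RingHom.ker (algebraMap B' B) ^ 2 = ⊥)
    [Algebra.FormallyUnramified A B]
    (hJI : RingHom.ker (algebraMap B' B) = (RingHom.ker (algebraMap A' A)).map (algebraMap A' B')) :
    Algebra.FormallyUnramified A' B' := by
  haveI : Algebra.FormallyUnramified A' A :=
    Algebra.FormallyUnramified.of_surjective (Algebra.ofId A' A) hA
  haveI : Algebra.FormallyUnramified A' B := Algebra.FormallyUnramified.comp A' A B
  let J := RingHom.ker (algebraMap B' B)
  have hzero : ∀ x ∈ J, (1 : B) ⊗ₜ[B'] KaehlerDifferential.D A' B' x = 0 := by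
    intro x hx
    rw [show J = (RingHom.ker (algebraMap A' A)).map (algebraMap A' B') from hJI, Ideal.map] at hx
    have hall : ∀ y, ∀ x ∈ Submodule.span B' (algebraMap A' B' '' RingHom.ker (algebraMap A' A)),
        (1 : B) ⊗ₜ[B'] KaehlerDifferential.D A' B' (y * x) = 0 := by
      intro y x hx
      induction hx using Submodule.span_induction generalizing y with
      | mem z hz =>
        obtain ⟨a, ha, rfl⟩ := hz
        rw [Derivation.leibniz, Derivation.map_algebraMap, smul_zero, zero_add,
          ← TensorProduct.smul_tmul, ← Algebra.algebraMap_eq_smul_one,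
          ← IsScalarTower.algebraMap_apply, IsScalarTower.algebraMap_apply A' A B,
          (RingHom.mem_ker).1 ha, map_zero, TensorProduct.zero_tmul]
      | zero => simp
      | add u v _ _ hu hv => rw [mul_add, map_add, TensorProduct.tmul_add, hu, hv, add_zero]
      | smul c u _ hu => rw [smul_eq_mul, ← mul_assoc]; exact hu _
    simpa using hall 1 x hx
  haveI : Subsingleton (B ⊗[B'] Ω[B'⁄A']) := by
    suffices H : ∀ t : B ⊗[B'] Ω[B'⁄A'], t = 0 from ⟨fun u v => (H u).trans (H v).symm⟩
    intro t
    obtain ⟨c, rfl⟩ := (KaehlerDifferential.exact_kerCotangentToTensor_mapBaseChange A' B' B hB t).1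
      (Subsingleton.elim _ _)
    obtain ⟨x, rfl⟩ := Ideal.toCotangent_surjective _ c
    rw [KaehlerDifferential.kerCotangentToTensor_toCotangent]
    exact hzero x x.2
  let e : (B' ⧸ J) ≃ₗ[B'] B :=
    LinearMap.quotKerEquivOfSurjective (Algebra.linearMap B' B) hB
  have hsub : Subsingleton (Ω[B'⁄A'] ⧸ (J • ⊤ : Submodule B' Ω[B'⁄A'])) :=
    ((TensorProduct.quotTensorEquivQuotSMul Ω[B'⁄A'] J).symm.trans
      (LinearEquiv.rTensor _ e)).toEquiv.subsingleton
  have htop : (J • ⊤ : Submodule B' Ω[B'⁄A']) = ⊤ :=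
    Submodule.Quotient.subsingleton_iff.1 hsub
  refine ⟨⟨fun u v => ?_⟩⟩
  have hbot : (⊤ : Submodule B' Ω[B'⁄A']) = ⊥ := by
    rw [← htop]
    conv_lhs => rw [← htop]
    rw [← Submodule.smul_assoc, Ideal.smul_eq_mul, ← pow_two, hJ, Submodule.bot_smul]
  have hu : u ∈ (⊥ : Submodule B' Ω[B'⁄A']) := hbot ▸ Submodule.mem_top
  have hv : v ∈ (⊥ : Submodule B' Ω[B'⁄A']) := hbot ▸ Submodule.mem_top
  rw [Submodule.mem_bot] at hu hv
  rw [hu, hv]

end Groth.Agent.H21.EtaleThick
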