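import Groth.Agent.H2.FlatDescend.Model
import Mathlib.RingTheory.Flat.FaithfullyFlat.Algebra

/-! A faithfully flat algebra of finite presentation has a faithfully flat model of finite
presentation over any base. -/

set_option autoImplicit false

universe u

open TensorProduct

namespace Groth.Agent.H21.FFModel

/-- Base change of a flat algebra to a ring whose spectrum lands in the image is faithfully flat. -/
theorem faithfullyFlat_of_range (C D B : Type u) [CommRing C] [CommRing D] [CommRing B] [Algebra C D]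
    [Algebra C B] [Module.Flat C B]
    (h : ∀ p : PrimeSpectrum D, PrimeSpectrum.comap (algebraMap C D) p ∈
      Set.range (PrimeSpectrum.comap (algebraMap C B))) :
    Module.FaithfullyFlat D (D ⊗[C] B) := by
  refine Module.FaithfullyFlat.of_comap_surjective fun p => ?_
  obtain ⟨q, hq⟩ : p ∈ Set.range (PrimeSpectrum.comap (algebraMap D (D ⊗[C] B))) := by
    rw [← PrimeSpectrum.nontrivial_iff_mem_rangeComap]
    let c := PrimeSpectrum.comap (algebraMap C D) p
    haveI h1 : Nontrivial (c.asIdeal.ResidueField ⊗[C] B) :=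
      (PrimeSpectrum.nontrivial_iff_mem_rangeComap c).mpr (h p)
    let φ : c.asIdeal.ResidueField →+* p.asIdeal.ResidueField :=
      Ideal.ResidueField.map _ _ (algebraMap C D) rfl
    letI : Algebra c.asIdeal.ResidueField p.asIdeal.ResidueField := φ.toAlgebra
    haveI : IsScalarTower C c.asIdeal.ResidueField p.asIdeal.ResidueField :=
      IsScalarTower.of_algebraMap_eq fun x => by
        rw [RingHom.algebraMap_toAlgebra, IsScalarTower.algebraMap_apply C D p.asIdeal.ResidueField]
        exact (Ideal.ResidueField.map_algebraMap ..).symm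
    haveI : Nontrivial (p.asIdeal.ResidueField ⊗[c.asIdeal.ResidueField]
        (c.asIdeal.ResidueField ⊗[C] B)) :=
      (Module.FaithfullyFlat.nontrivial_tensorProduct_iff_right _ _).mpr h1
    haveI : Nontrivial (p.asIdeal.ResidueField ⊗[C] B) :=
      (TensorProduct.AlgebraTensorModule.cancelBaseChange C c.asIdeal.ResidueField
        c.asIdeal.ResidueField p.asIdeal.ResidueField B).injective.nontrivial
    exact (TensorProduct.AlgebraTensorModule.cancelBaseChange C D
        D p.asIdeal.ResidueField B).symm.injective.nontrivial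
  exact ⟨q, hq⟩

theorem model_of {R A B : Type u} [CommRing R] [CommRing A] [CommRing B] [Algebra R A]
    [Algebra A B] (C B₀ : Type u) [CommRing C] [CommRing B₀] [Algebra C A] [Algebra C B₀]
    [Algebra.FinitePresentation C B₀] [Module.Flat C B₀] (e : B ≃ₐ[A] A ⊗[C] B₀)
    (A₀ : Type u) [CommRing A₀] [Algebra R A₀] [Algebra.FinitePresentation R A₀] [Algebra A₀ A]
    [IsScalarTower R A₀ A] [Algebra C A₀] [IsScalarTower C A₀ A]
    (h : ∀ p : PrimeSpectrum A₀, PrimeSpectrum.comap (algebraMap C A₀) p ∈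
      Set.range (PrimeSpectrum.comap (algebraMap C B₀))) :
    ∃ (A₀ B₀ : Type u) (_ : CommRing A₀) (_ : CommRing B₀) (_ : Algebra R A₀) (_ : Algebra A₀ A)
      (_ : IsScalarTower R A₀ A) (_ : Algebra A₀ B₀), Algebra.FinitePresentation R A₀ ∧
      Algebra.FinitePresentation A₀ B₀ ∧ Module.FaithfullyFlat A₀ B₀ ∧
      Nonempty (B ≃ₐ[A] A ⊗[A₀] B₀) :=
  ⟨A₀, A₀ ⊗[C] B₀, inferInstance, inferInstance, inferInstance, inferInstance, inferInstance,
    inferInstance, inferInstance, inferInstance, faithfullyFlat_of_range C _ B₀ h,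
    ⟨e.trans (Algebra.TensorProduct.cancelBaseChange C A₀ A A B₀).symm⟩⟩

/-- Main statement. -/
theorem exists_model {R A B : Type u} [CommRing R] [CommRing A] [CommRing B] [Algebra R A]
    [Algebra A B] [Algebra.FinitePresentation A B] [Module.FaithfullyFlat A B] :
    ∃ (A₀ B₀ : Type u) (_ : CommRing A₀) (_ : CommRing B₀) (_ : Algebra R A₀) (_ : Algebra A₀ A)
      (_ : IsScalarTower R A₀ A) (_ : Algebra A₀ B₀), Algebra.FinitePresentation R A₀ ∧
      Algebra.FinitePresentation A₀ B₀ ∧ Module.FaithfullyFlat A₀ B₀ ∧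
      Nonempty (B ≃ₐ[A] A ⊗[A₀] B₀) := by
  classical
  obtain ⟨C, B₀, _, _, _, _, hft, hfl, hfp, ⟨e⟩⟩ := H2.FlatDescend.exists_flat_model A B
  have hopen := PrimeSpectrum.isOpenMap_comap_of_hasGoingDown_of_finitePresentation (R := C) (S := B₀)
  obtain ⟨s, hs⟩ := (PrimeSpectrum.isOpen_iff _).mp hopen.isOpen_range
  have htop : (Ideal.span s).map (algebraMap C A) = ⊤ := by
    by_contra hne
    obtain ⟨m, hm, hle⟩ := Ideal.exists_le_maximal _ hne
    obtain ⟨Q, hQ⟩ := PrimeSpectrum.comap_surjective_of_faithfullyFlat (A := A) (B := B) ⟨m, hm.isPrime⟩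
    let θ : B₀ →+* B := e.symm.toRingEquiv.toRingHom.comp
      (Algebra.TensorProduct.includeRight : B₀ →ₐ[C] A ⊗[C] B₀).toRingHom
    have hθ : θ.comp (algebraMap C B₀) = (algebraMap A B).comp (algebraMap C A) := by
      ext x
      show e.symm (1 ⊗ₜ algebraMap C B₀ x) = _
      rw [show (1 : A) ⊗ₜ algebraMap C B₀ x = algebraMap C (A ⊗[C] B₀) x from
          (Algebra.TensorProduct.includeRight : B₀ →ₐ[C] A ⊗[C] B₀).commutes x,
        IsScalarTower.algebraMap_apply C A (A ⊗[C] B₀), AlgEquiv.commutes]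
      rfl
    have hmem : PrimeSpectrum.comap (algebraMap C A) ⟨m, hm.isPrime⟩ ∈
        Set.range (PrimeSpectrum.comap (algebraMap C B₀)) := by
      refine ⟨PrimeSpectrum.comap θ Q, ?_⟩
      rw [← hQ, ← PrimeSpectrum.comap_comp_apply, hθ, PrimeSpectrum.comap_comp_apply]
    have hnot : PrimeSpectrum.comap (algebraMap C A) ⟨m, hm.isPrime⟩ ∈ PrimeSpectrum.zeroLocus s :=
      fun x hx => hle (Ideal.mem_map_of_mem _ (Ideal.subset_span hx))
    rw [← hs] at hnot
    exact hnot hmem
  rw [Ideal.map_span, Ideal.eq_top_iff_one] at htop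
  obtain ⟨n, a, g, hg⟩ := Submodule.mem_span_set'.mp htop
  choose c hc hc' using fun i => (g i).2
  let D := Algebra.adjoin C (Set.range a)
  haveI : Algebra.FiniteType C D := D.fg_iff_finiteType.mp
    (Subalgebra.fg_def.mpr ⟨_, Set.finite_range a, rfl⟩)
  haveI : Algebra.FiniteType ℤ D := Algebra.FiniteType.trans hft inferInstance
  haveI : Algebra.FinitePresentation ℤ D := Algebra.FinitePresentation.of_finiteType.mp inferInstance
  have hrange : ∀ p : PrimeSpectrum D, PrimeSpectrum.comap (algebraMap C D) p ∈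
      Set.range (PrimeSpectrum.comap (algebraMap C B₀)) := by
    intro p
    by_contra hp
    have hp' : PrimeSpectrum.comap (algebraMap C D) p ∈ PrimeSpectrum.zeroLocus s := hs ▸ hp
    apply p.isPrime.ne_top
    rw [Ideal.eq_top_iff_one]
    have : (1 : D) = ∑ i, (⟨a i, Algebra.subset_adjoin ⟨i, rfl⟩⟩ : D) *
        algebraMap C D (c i) := by
      apply Subtype.ext
      rw [AddSubmonoidClass.coe_finsetSum, OneMemClass.coe_one, ← hg]
      refine Finset.sum_congr rfl fun i _ => ?_
      show a i * _ = a i * _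
      rw [← hc' i]
      rfl
    rw [this]
    exact sum_mem fun i _ => Ideal.mul_mem_left _ _ (hp' (hc i))
  let ψ : R ⊗[ℤ] D →ₐ[R] A := Algebra.TensorProduct.lift (Algebra.ofId R A)
    (D.val.restrictScalars ℤ) (fun _ _ => Commute.all _ _)
  letI : Algebra (R ⊗[ℤ] D) A := ψ.toRingHom.toAlgebra
  haveI : IsScalarTower R (R ⊗[ℤ] D) A :=
    IsScalarTower.of_algebraMap_eq (R := R) (S := R ⊗[ℤ] D) (A := A) fun r => (ψ.commutes r).symm
  letI : Algebra C (R ⊗[ℤ] D) :=
    ((Algebra.TensorProduct.includeRight : D →ₐ[ℤ] R ⊗[ℤ] D).toRingHom.comp (algebraMap C D)).toAlgebra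
  haveI : IsScalarTower C (R ⊗[ℤ] D) A := IsScalarTower.of_algebraMap_eq fun x => by
    show algebraMap C A x = ψ (1 ⊗ₜ algebraMap C D x)
    simp [ψ]
  exact model_of C B₀ e (R ⊗[ℤ] D) fun p => by
    have := hrange (PrimeSpectrum.comap
      (Algebra.TensorProduct.includeRight : D →ₐ[ℤ] R ⊗[ℤ] D).toRingHom p)
    rw [RingHom.algebraMap_toAlgebra, PrimeSpectrum.comap_comp_apply]
    exact this

end Groth.Agent.H21.FFModel
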