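import Mathlib.RingTheory.Flat.Rank
import Mathlib.RingTheory.Etale.Field
import Mathlib.RingTheory.Etale.Basic
import Mathlib.RingTheory.RingHom.Etale
import Mathlib.RingTheory.Finiteness.ModuleFinitePresentation
import Mathlib.RingTheory.TotallySplit
import Mathlib.RingTheory.Flat.FaithfullyFlat.Algebra
import Mathlib.Algebra.Algebra.Epi
import Mathlib.FieldTheory.IsAlgClosed.Basic

set_option autoImplicit false
set_option linter.unusedSectionVars false

open TensorProduct

universe u

namespace Groth.Agent.H21.FinEtale

variable {R A B : Type u} [CommRing R] [CommRing A] [CommRing B] [Algebra R A] [Algebra R B]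
  [Module.Finite R A] [Algebra.Etale R A] [Module.Finite R B] [Algebra.Etale R B]

theorem finite_flat_of_algHom (f : A →ₐ[R] B) :
    f.toRingHom.Finite ∧ f.toRingHom.Etale := by
  let : Algebra A B := f.toRingHom.toAlgebra
  have : IsScalarTower R A B := IsScalarTower.of_algebraMap_eq fun r => (f.commutes r).symm
  refine ⟨Module.Finite.of_restrictScalars_finite R A B, ?_⟩
  change Algebra.Etale A B
  exact { formallyEtale := Algebra.FormallyEtale.of_restrictScalars (R := R)
          finitePresentation := Algebra.FinitePresentation.of_restrict_scalars_finitePresentation R A B }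

/-- The kernel of a map of finite étale algebras is generated by an idempotent. -/
theorem exists_idem_ker (f : A →ₐ[R] B) :
    ∃ e : A, IsIdempotentElem e ∧ RingHom.ker f = Ideal.span {e} := by
  let : Algebra A B := f.toRingHom.toAlgebra
  obtain ⟨hfin, het⟩ := finite_flat_of_algHom f
  have : Module.Finite A B := hfin
  have : Algebra.Etale A B := het
  have : Module.FinitePresentation A B := Module.FinitePresentation.of_finite_of_finitePresentation A B
  let s : Set (PrimeSpectrum A) := (Module.rankAtStalk (R := A) B) ⁻¹' (Set.Ioi 0)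
  have hs : IsClopen s :=
    ⟨⟨Module.isLocallyConstant_rankAtStalk (R := A) (M := B) (Set.Ioi 0)ᶜ⟩,
      Module.isLocallyConstant_rankAtStalk (R := A) (M := B) (Set.Ioi 0)⟩
  obtain ⟨e₁, he₁, hse⟩ := PrimeSpectrum.exists_idempotent_basicOpen_eq_of_isClopen hs
  have hs' : ∀ p, e₁ ∉ p.asIdeal ↔ p ∈ Set.range (PrimeSpectrum.comap (algebraMap A B)) := fun p => by
    rw [← PrimeSpectrum.rankAtStalk_pos_iff_mem_range_comap]
    exact (Set.ext_iff.mp hse p).symm
  refine ⟨1 - e₁, he₁.one_sub, le_antisymm (fun a ha => ?_) ?_⟩
  swap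
  · rw [Ideal.span_singleton_le_iff_mem, RingHom.mem_ker]
    have hnil : IsNilpotent (f (1 - e₁)) := by
      rw [nilpotent_iff_mem_prime]
      intro P hP
      have h := (hs' (PrimeSpectrum.comap (algebraMap A B) ⟨P, hP⟩)).mpr ⟨_, rfl⟩
      have h0 : f e₁ * f (1 - e₁) ∈ P := by
        rw [← map_mul, mul_sub, mul_one, he₁.eq, sub_self, map_zero]; exact zero_mem _
      exact (hP.mem_or_mem h0).resolve_left h
    exact (he₁.one_sub.map f).eq_zero_of_isNilpotent hnil
  have hker : Ideal.span {1 - e₁} ≤ RingHom.ker (algebraMap A B) := by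
    rw [Ideal.span_singleton_le_iff_mem, RingHom.mem_ker]
    have hnil : IsNilpotent (f (1 - e₁)) := by
      rw [nilpotent_iff_mem_prime]
      intro P hP
      have h := (hs' (PrimeSpectrum.comap (algebraMap A B) ⟨P, hP⟩)).mpr ⟨_, rfl⟩
      have h0 : f e₁ * f (1 - e₁) ∈ P := by
        rw [← map_mul, mul_sub, mul_one, he₁.eq, sub_self, map_zero]; exact zero_mem _
      exact (hP.mem_or_mem h0).resolve_left h
    exact (he₁.one_sub.map f).eq_zero_of_isNilpotent hnil
  let A' := A ⧸ Ideal.span {1 - e₁}
  let : Algebra A' B := (Ideal.Quotient.lift _ (algebraMap A B) fun x hx => hker hx).toAlgebra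
  have : IsScalarTower A A' B := IsScalarTower.of_algebraMap_eq fun _ => rfl
  have : Algebra.IsEpi A A' := Algebra.isEpi_of_surjective_algebraMap A A' Ideal.Quotient.mk_surjective
  have : Module.Flat A' B := Module.Flat.of_linearEquiv (TensorProduct.lid' A A' B).symm
  have : Module.Finite A' B := Module.Finite.of_restrictScalars_finite A A' B
  have hsurj : Function.Surjective (PrimeSpectrum.comap (algebraMap A' B)) := by
    intro p
    have he' : e₁ ∉ (PrimeSpectrum.comap (algebraMap A A') p).asIdeal := fun h => by
      apply p.2.ne_top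
      rw [Ideal.eq_top_iff_one, ← map_one (algebraMap A A')]
      have : algebraMap A A' (1 - e₁) = 0 := Ideal.Quotient.eq_zero_iff_mem.mpr
        (Ideal.subset_span rfl)
      rw [congrArg (algebraMap A A') (show (1 : A) = (1 - e₁) + e₁ by ring), map_add, this, zero_add]
      exact h
    obtain ⟨P, hP⟩ := (hs' _).mp he'
    refine ⟨P, PrimeSpectrum.comap_injective_of_surjective _ Ideal.Quotient.mk_surjective ?_⟩
    refine PrimeSpectrum.ext (Ideal.ext fun x => ?_)
    exact Ideal.ext_iff.mp (congrArg PrimeSpectrum.asIdeal hP) x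
  have hinj := PrimeSpectrum.comap_surjective_iff_injective_of_finite.mp hsurj
  exact Ideal.Quotient.eq_zero_iff_mem.mp (hinj (show algebraMap A' B (Ideal.Quotient.mk _ a) =
    algebraMap A' B 0 by rw [map_zero]; exact ha))

/-- Quotient by an idempotent. -/
theorem quotient_etale_finite {e : A} (he : IsIdempotentElem e) :
    Algebra.Etale R (A ⧸ Ideal.span {e}) ∧ Module.Finite R (A ⧸ Ideal.span {e}) := by
  have : IsLocalization.Away (1 - e) (A ⧸ Ideal.span {e}) :=
    IsLocalization.away_of_isIdempotentElem he.one_sub (by rw [sub_sub_cancel]; exact Ideal.mk_ker)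
      Ideal.Quotient.mk_surjective
  have : Algebra.Etale A (A ⧸ Ideal.span {e}) := Algebra.Etale.of_isLocalizationAway (1 - e)
  exact ⟨Algebra.Etale.comp R A _, inferInstance⟩

/-- An injective map of finite étale algebras of equal ranks is bijective. -/
theorem bijective_of_injective_of_rankAtStalk_eq (f : A →ₐ[R] B) (hf : Function.Injective f)
    (h : ∀ P : PrimeSpectrum R, Module.rankAtStalk A P = Module.rankAtStalk B P) :
    Function.Bijective f := by
  let : Algebra A B := f.toRingHom.toAlgebra
  have : IsScalarTower R A B := IsScalarTower.of_algebraMap_eq fun r => (f.commutes r).symm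
  obtain ⟨hfin, het⟩ := finite_flat_of_algHom f
  have : Module.Finite A B := hfin
  have : Algebra.Etale A B := het
  have : Module.FinitePresentation R A := Module.FinitePresentation.of_finite_of_finitePresentation R A
  have : Module.FinitePresentation R B := Module.FinitePresentation.of_finite_of_finitePresentation R B
  have hff : Module.FaithfullyFlat A B := Module.FaithfullyFlat.of_comap_surjective
    (PrimeSpectrum.comap_surjective_iff_injective_of_finite.mpr hf)
  refine ⟨hf, ?_⟩
  let C := B ⧸ LinearMap.range f.toLinearMap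
  suffices Subsingleton C from LinearMap.range_eq_top.mp
    (Submodule.Quotient.subsingleton_iff.mp this)
  have : Module.Finite R C := inferInstance
  refine (Module.support_eq_empty_iff (R := R) (M := C)).mp (Set.eq_empty_iff_forall_notMem.mpr fun P => ?_)
  rw [Module.notMem_support_iff]
  suffices Subsingleton (P.asIdeal.ResidueField ⊗[R] C) by
    have := (Module.mem_support_iff_nontrivial_residueField_tensorProduct (R := R) (M := C) P).not.mpr
      (not_nontrivial _)
    rwa [Module.notMem_support_iff] at this
  let κ := P.asIdeal.ResidueField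
  let g := f.toLinearMap.baseChange κ
  have hginj : Function.Injective g := by
    intro x y hxy
    let M := A ⊗[R] κ
    have hm := Module.FaithfullyFlat.tensorProduct_mk_injective (A := A) (B := B) M
    let ψ : B ⊗[A] M ≃ₗ[B] B ⊗[R] κ := AlgebraTensorModule.cancelBaseChange R A B B κ
    have hψ : ∀ z : A ⊗[R] κ, ψ ((1 : B) ⊗ₜ[A] z) = LinearMap.rTensor κ f.toLinearMap z := by
      intro z
      induction z using TensorProduct.induction_on with
      | zero => simp
      | tmul a c =>
        rw [AlgebraTensorModule.cancelBaseChange_tmul, LinearMap.rTensor_tmul]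
        congr 1
        rw [Algebra.smul_def, mul_one]
        rfl
      | add s t hs ht => simp only [tmul_add, map_add, hs, ht]
    have hr : Function.Injective (LinearMap.rTensor κ f.toLinearMap) := fun a b hab =>
      hm (ψ.injective ((hψ a).trans (hab.trans (hψ b).symm)))
    have hl : Function.Injective (LinearMap.lTensor κ f.toLinearMap) := by
      rw [LinearMap.lTensor_inj_iff_rTensor_inj]; exact hr
    exact hl hxy
  have hgsurj : Function.Surjective g := by
    refine (LinearMap.injective_iff_surjective_of_finrank_eq_finrank ?_).mp hginj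
    rw [← Module.rankAtStalk_eq (M := A), ← Module.rankAtStalk_eq (M := B), h]
  refine subsingleton_of_forall_eq 0 fun z => ?_
  obtain ⟨w, rfl⟩ := LinearMap.lTensor_surjective κ
    (Submodule.mkQ_surjective (LinearMap.range f.toLinearMap)) z
  obtain ⟨v, rfl⟩ := hgsurj w
  have : ((LinearMap.range f.toLinearMap).mkQ.lTensor κ) ∘ₗ f.toLinearMap.lTensor κ = 0 := by
    rw [← LinearMap.lTensor_comp, (LinearMap.range_le_ker_iff).mp (by rw [Submodule.ker_mkQ]),
      LinearMap.lTensor_zero]
  exact LinearMap.congr_fun this v

variable (R A) in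
/-- The fibre at a geometric point as homomorphisms. -/
noncomputable def fibEquiv (Ω : Type u) [Field Ω] [IsAlgClosed Ω] [Algebra R Ω] :
    (A →ₐ[R] Ω) ≃ PrimeSpectrum (Ω ⊗[R] A) :=
  (Algebra.TensorProduct.liftEquivRight R Ω A Ω).trans
    (Algebra.IsFiniteSplit.algHomEquivPrimeSpectrum Ω (Ω ⊗[R] A))

theorem card_algHom (Ω : Type u) [Field Ω] [IsAlgClosed Ω] [Algebra R Ω] :
    Nat.card (A →ₐ[R] Ω) = Module.rankAtStalk (R := R) A
      (PrimeSpectrum.comap (algebraMap R Ω) ⊥) := by
  have : Module.FinitePresentation R A := Module.FinitePresentation.of_finite_of_finitePresentation R A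
  rw [Nat.card_congr (fibEquiv R A Ω), ← Module.rankAtStalk_baseChange,
    Module.rankAtStalk_eq_finrank_of_free]
  let e := Algebra.FormallyEtale.equivPiOfIsSepClosed Ω (Ω ⊗[R] A)
  have : IsArtinianRing (Ω ⊗[R] A) := IsArtinianRing.of_finite Ω _
  rw [Pi.natCast_apply, e.toLinearEquiv.finrank_eq]
  have := Fintype.ofFinite (PrimeSpectrum (Ω ⊗[R] A))
  rw [Module.finrank_pi, Fintype.card_eq_nat_card]
  rfl

end Groth.Agent.H21.FinEtale
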