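import Mathlib.FieldTheory.IsAlgClosed.Basic
import Mathlib.LinearAlgebra.FreeModule.Finite.Matrix
import Mathlib.LinearAlgebra.Dual.Lemmas
import Mathlib.RingTheory.Artinian.Module
import Mathlib.RingTheory.Etale.Pi
import Mathlib.RingTheory.Etale.Field
import Mathlib.RingTheory.Unramified.Field
import Mathlib.RingTheory.Smooth.Basic
import Mathlib.RingTheory.TensorProduct.Maps

/-! Finite algebras over algebraically closed fields. -/

set_option autoImplicit false

open scoped TensorProduct

universe u v w

namespace Groth.Agent.H21.FiniteAlgClosed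

variable (k : Type u) [Field k] [IsAlgClosed k] (A : Type v) [CommRing A] [Algebra k A]
  [Module.Finite k A]

abbrev evalPi : A →ₐ[k] ((A →ₐ[k] k) → k) := AlgHom.pi (R := k) (fun f : A →ₐ[k] k => f)

theorem exists_point_of_isMaximal (m : Ideal A) [m.IsMaximal] :
    ∃ χ : A →ₐ[k] k, RingHom.ker χ = m := by
  let : Field (A ⧸ m) := Ideal.Quotient.field m
  have hb : Function.Bijective (algebraMap k (A ⧸ m)) :=
    IsAlgClosed.algebraMap_bijective_of_isIntegral
  let e : k ≃ₐ[k] (A ⧸ m) := AlgEquiv.ofBijective (Algebra.ofId k (A ⧸ m)) hb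
  refine ⟨(e.symm : (A ⧸ m) →ₐ[k] k).comp (Ideal.Quotient.mkₐ k m), ?_⟩
  ext x
  simp [RingHom.mem_ker, Ideal.Quotient.eq_zero_iff_mem]

theorem ker_evalPi : RingHom.ker (evalPi k A) = nilradical A := by
  have : IsArtinianRing A := IsArtinianRing.of_finite k A
  refine le_antisymm (fun x hx => ?_) (fun x hx => ?_)
  · rw [nilradical_eq_sInf, Ideal.mem_sInf]
    intro p hp
    have : p.IsPrime := hp
    obtain ⟨χ, hχ⟩ := exists_point_of_isMaximal k A p
    rw [← hχ, RingHom.mem_ker]
    exact congrFun hx χ
  · rw [mem_nilradical] at hx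
    rw [RingHom.mem_ker]
    exact (hx.map (evalPi k A)).eq_zero

theorem surjective_evalPi : Function.Surjective (evalPi k A) := by
  classical
  have : Fintype (A →ₐ[k] k) := Fintype.ofFinite _
  have key : ∀ f : A →ₐ[k] k, ∃ a : A, evalPi k A a = Pi.single f 1 := by
    intro f
    have h1 : ∀ g : A →ₐ[k] k, ∃ a : A, f a = 1 ∧ (g ≠ f → g a = 0) := by
      intro g
      by_cases hg : g = f
      · exact ⟨1, map_one f, fun h => absurd hg h⟩
      obtain ⟨x, hx⟩ : ∃ x, g x ≠ f x := by
        by_contra h
        exact hg (AlgHom.ext (by simpa using h))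
      have hne : f x - g x ≠ 0 := sub_ne_zero.mpr (Ne.symm hx)
      refine ⟨algebraMap k A (f x - g x)⁻¹ * (x - algebraMap k A (g x)), ?_, fun _ => ?_⟩
      · simp [inv_mul_cancel₀ hne]
      · simp
    choose a ha using h1
    refine ⟨∏ g ∈ Finset.univ.erase f, a g, funext fun g => ?_⟩
    show g (∏ h ∈ Finset.univ.erase f, a h) = (Pi.single f 1 : (A →ₐ[k] k) → k) g
    rw [map_prod]
    rcases eq_or_ne g f with rfl | hg
    · rw [Pi.single_eq_same]
      exact Finset.prod_eq_one fun h _ => (ha h).1
    · rw [Pi.single_eq_of_ne hg]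
      exact Finset.prod_eq_zero (Finset.mem_erase.mpr ⟨hg, Finset.mem_univ _⟩) ((ha g).2 hg)
  choose e he using key
  intro y
  refine ⟨∑ f, algebraMap k A (y f) * e f, ?_⟩
  rw [map_sum]
  ext g
  simp [he, Pi.single_apply]

noncomputable def quotEquiv : (A ⧸ nilradical A) ≃ₐ[k] ((A →ₐ[k] k) → k) :=
  (Ideal.quotientEquivAlgOfEq k (ker_evalPi k A).symm).trans
    (Ideal.quotientKerAlgEquivOfSurjective (surjective_evalPi k A))

theorem formallyEtale_quot : Algebra.FormallyEtale k (A ⧸ nilradical A) :=
  Algebra.FormallyEtale.of_equiv (quotEquiv k A).symm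

theorem formallyEtale_of_isReduced [IsReduced A] : Algebra.FormallyEtale k A := by
  have := formallyEtale_quot k A
  exact Algebra.FormallyEtale.of_equiv
    ((Ideal.quotientEquivAlgOfEq k (nilradical_eq_zero A)).trans (AlgEquiv.quotientBot k A))

include k in
theorem isNilpotent_nilradical : IsNilpotent (nilradical A) := by
  have : IsArtinianRing A := IsArtinianRing.of_finite k A
  exact IsArtinianRing.isNilpotent_nilradical

theorem existsUnique_section : ∃! s : (A ⧸ nilradical A) →ₐ[k] A,
    (Ideal.Quotient.mkₐ k (nilradical A)).comp s = AlgHom.id k (A ⧸ nilradical A) := by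
  have := formallyEtale_quot k A
  have hI := isNilpotent_nilradical k A
  refine ⟨Algebra.FormallySmooth.lift (nilradical A) hI (AlgHom.id k _),
    Algebra.FormallySmooth.comp_lift _ hI _, fun t ht => ?_⟩
  refine Algebra.FormallyUnramified.lift_unique (nilradical A) hI _ _ ?_
  rw [ht, Algebra.FormallySmooth.comp_lift]

theorem subsingleton_derivation_iff : Subsingleton (Derivation k A A) ↔ IsReduced A := by
  constructor
  · intro hsub
    have : IsArtinianRing A := IsArtinianRing.of_finite k A
    by_contra hred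
    obtain ⟨z, hz⟩ : ∃ z : A, z ∈ nilradical A ∧ z ≠ 0 := by
      by_contra h
      refine hred ⟨fun x hx => ?_⟩
      by_contra hx0
      exact h ⟨x, mem_nilradical.mpr hx, hx0⟩
    have : IsNoetherianRing A := IsNoetherianRing.of_finite k A
    obtain ⟨⟨m, hm⟩, t, ht0, htN, hmt⟩ :
        ∃ (m : {m : Ideal A // m.IsMaximal}) (t : A), t ≠ 0 ∧ t ∈ nilradical A ∧
          ∀ a ∈ m.1, a * t = 0 := by
      obtain ⟨I, hI⟩ : ∃ I : Ideal A, Minimal (fun I : Ideal A => I ≠ ⊥ ∧ I ≤ nilradical A) I :=
        exists_minimal_of_wellFoundedLT _ ⟨nilradical A, fun h => hz.2 (by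
          have := hz.1; rwa [h, Ideal.mem_bot] at this), le_rfl⟩
      obtain ⟨t, htI, ht0⟩ := Submodule.exists_mem_ne_zero_of_ne_bot hI.1.1
      have hann : (Submodule.annihilator (Ideal.span {t} : Ideal A)) ≠ ⊤ := by
        intro h
        exact ht0 (Ideal.span_singleton_eq_bot.mp (Submodule.annihilator_eq_top_iff.mp h))
      obtain ⟨m, hm, hle⟩ := Ideal.exists_le_maximal _ hann
      refine ⟨⟨m, hm⟩, t, ht0, hI.1.2 htI, fun a ha => ?_⟩
      by_contra hat
      have hatI : a * t ∈ I := I.mul_mem_left a htI
      have hle' : Ideal.span {a * t} ≤ I := (Ideal.span_singleton_le_iff_mem I).mpr hatI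
      have heq := hI.2 ⟨fun h => hat (Ideal.span_singleton_eq_bot.mp h), hle'.trans hI.1.2⟩ hle'
      obtain ⟨b, hb⟩ := Ideal.mem_span_singleton'.mp (heq htI)
      have h1 : (1 - b * a) ∈ Submodule.annihilator (Ideal.span {t} : Ideal A) := by
        rw [Ideal.span, Submodule.mem_annihilator_span_singleton, smul_eq_mul, sub_mul, one_mul,
          mul_assoc, hb, sub_self]
      apply hm.ne_top
      rw [Ideal.eq_top_iff_one]
      have := m.add_mem (hle h1) (m.mul_mem_left b ha)
      rwa [sub_add_cancel] at this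
    obtain ⟨χ, hχ⟩ := exists_point_of_isMaximal k A m
    have hsub1 : ∀ a, a - algebraMap k A (χ a) ∈ m := fun a => by
      rw [← hχ, RingHom.mem_ker, map_sub, AlgHom.commutes]; simp
    have hmne : m ^ 2 ≠ m := by
      intro h
      obtain ⟨e, he, hme⟩ := (Ideal.isIdempotentElem_iff_of_fg m ((inferInstance : IsNoetherianRing A).noetherian m)).mp
        (by rw [IsIdempotentElem, ← pow_two, h])
      have htm : t ∈ m := by
        rw [← hχ, RingHom.mem_ker]
        exact (IsNilpotent.map (mem_nilradical.mp htN) χ).eq_zero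
      rw [hme] at htm
      obtain ⟨c, hc⟩ := Submodule.mem_span_singleton.mp htm
      have het : e * t = 0 := hmt e (hme ▸ Submodule.mem_span_singleton_self e)
      apply ht0
      rw [← hc, smul_eq_mul] at het ⊢
      rwa [mul_comm e, mul_assoc, he.eq] at het
    obtain ⟨x, hxm, hx2⟩ : ∃ x ∈ m, x ∉ m ^ 2 := by
      by_contra h
      exact hmne (le_antisymm (Ideal.pow_le_self two_ne_zero) fun x hx => by
        by_contra hx2; exact h ⟨x, hx, hx2⟩)
    let K : Submodule k A := (m ^ 2).restrictScalars k ⊔ Submodule.span k {(1 : A)}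
    have hxK : x ∉ K := by
      intro h
      obtain ⟨y, hy, c1, hc1, hyc⟩ := Submodule.mem_sup.mp h
      obtain ⟨c, rfl⟩ := Submodule.mem_span_singleton.mp hc1
      have hy' : χ y = 0 := by
        rw [← RingHom.mem_ker, hχ]; exact Ideal.pow_le_self two_ne_zero hy
      have hx' : χ x = 0 := by rw [← RingHom.mem_ker, hχ]; exact hxm
      have hc : c = 0 := by
        have := congrArg χ hyc
        simpa [hy', hx'] using this
      rw [hc, zero_smul, add_zero] at hyc
      exact hx2 (hyc ▸ hy)
    obtain ⟨φ, hφx, hφK⟩ := Submodule.exists_dual_map_eq_bot_of_notMem hxK inferInstance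
    have hφ : ∀ y ∈ K, φ y = 0 := fun y hy => by
      have : φ y ∈ K.map φ := Submodule.mem_map_of_mem hy
      rwa [hφK, Submodule.mem_bot] at this
    have hst : ∀ (a : A), a * t = χ a • t := fun a => by
      have := hmt _ (hsub1 a)
      rw [sub_mul, sub_eq_zero] at this
      rw [this, Algebra.smul_def]
    let D : Derivation k A A := Derivation.mk'
      { toFun := fun a => φ a • t
        map_add' := fun a b => by rw [map_add, add_smul]
        map_smul' := fun c a => by rw [map_smul, RingHom.id_apply, smul_eq_mul, mul_smul] }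
      (fun a b => by
        show φ (a * b) • t = a * (φ b • t) + b * (φ a • t)
        have h : φ (a * b) = χ a * φ b + χ b * φ a := by
          have h0 : φ ((a - algebraMap k A (χ a)) * (b - algebraMap k A (χ b))) = 0 :=
            hφ _ (Submodule.mem_sup_left (by
              rw [Submodule.restrictScalars_mem, pow_two]
              exact Ideal.mul_mem_mul (hsub1 a) (hsub1 b)))
          have hexp : (a - algebraMap k A (χ a)) * (b - algebraMap k A (χ b)) =
              a * b - χ a • b - χ b • a + (χ a * χ b) • (1 : A) := by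
            simp only [Algebra.smul_def, map_mul]; ring
          have h1 : φ (1 : A) = 0 := hφ _ (Submodule.mem_sup_right (Submodule.mem_span_singleton_self _))
          rw [hexp] at h0
          simp only [map_add, map_sub, map_smul, h1, smul_eq_mul, mul_zero, add_zero] at h0
          linear_combination h0
        rw [h, mul_smul_comm, mul_smul_comm, hst, hst, smul_smul, smul_smul, ← add_smul]
        congr 1; ring)
    have h0 : D x = 0 := by rw [Subsingleton.elim D 0]; rfl
    exact ht0 ((smul_eq_zero.mp h0).resolve_left hφx)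
  · intro _
    have := formallyEtale_of_isReduced k A
    exact (KaehlerDifferential.linearMapEquivDerivation k A).toEquiv.symm.subsingleton

theorem exists_greatest_reduced_subalgebra :
    ∃ B : Subalgebra k A, IsReduced ↥B ∧ (∀ C : Subalgebra k A, IsReduced ↥C → C ≤ B) ∧
      Function.Bijective ((Ideal.Quotient.mkₐ k (nilradical A)).comp B.val) := by
  obtain ⟨s, hs, -⟩ := existsUnique_section k A
  have hs' : ∀ x, Ideal.Quotient.mkₐ k (nilradical A) (s x) = x := fun x => AlgHom.congr_fun hs x
  have : IsReduced (A ⧸ nilradical A) :=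
    (Ideal.isRadical_iff_quotient_reduced _).mp (Ideal.radical_isRadical _)
  have hinj : Function.Injective s := fun x y h => by rw [← hs' x, h, hs' y]
  refine ⟨s.range, isReduced_of_injective (AlgEquiv.ofInjective s hinj).symm
    (AlgEquiv.ofInjective s hinj).symm.injective, fun C hC => ?_, ?_, fun x => ⟨⟨s x, x, rfl⟩, hs' x⟩⟩
  · have : Module.Finite k ↥C := inferInstanceAs (Module.Finite k ↥C.toSubmodule)
    have := formallyEtale_of_isReduced k C
    have heq : C.val = (s.comp (Ideal.Quotient.mkₐ k (nilradical A))).comp C.val :=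
      Algebra.FormallyUnramified.lift_unique (nilradical A) (isNilpotent_nilradical k A) _ _
        (AlgHom.ext fun c => (hs' _).symm)
    intro c hc
    exact ⟨_, (AlgHom.congr_fun heq ⟨c, hc⟩).symm⟩
  · rintro ⟨_, x, rfl⟩ ⟨_, y, rfl⟩ h
    have hxy : x = y := (hs' x).symm.trans ((show Ideal.Quotient.mkₐ k (nilradical A) (s x) =
      Ideal.Quotient.mkₐ k (nilradical A) (s y) from h).trans (hs' y))
    subst hxy; rfl

theorem ker_tensor (B : Type w) [CommRing B] [Algebra k B] [Module.Finite k B] :
    RingHom.ker (Algebra.TensorProduct.map (Ideal.Quotient.mkₐ k (nilradical A))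
      (Ideal.Quotient.mkₐ k (nilradical B))).toRingHom = nilradical (A ⊗[k] B) := by
  have hA := formallyEtale_quot k A
  have hB := formallyEtale_quot k B
  have : Algebra.FormallyUnramified (A ⧸ nilradical A) ((A ⧸ nilradical A) ⊗[k] (B ⧸ nilradical B)) :=
    inferInstance
  have : Algebra.FormallyUnramified k ((A ⧸ nilradical A) ⊗[k] (B ⧸ nilradical B)) :=
    Algebra.FormallyUnramified.comp k (A ⧸ nilradical A) _
  have : IsReduced ((A ⧸ nilradical A) ⊗[k] (B ⧸ nilradical B)) :=
    Algebra.FormallyUnramified.isReduced_of_field k _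
  apply le_antisymm
  · change RingHom.ker (Algebra.TensorProduct.map (Ideal.Quotient.mkₐ k (nilradical A))
      (Ideal.Quotient.mkₐ k (nilradical B))) ≤ _
    rw [Algebra.TensorProduct.map_ker _ _ (Ideal.Quotient.mkₐ_surjective _ _)
      (Ideal.Quotient.mkₐ_surjective _ _), sup_le_iff, Ideal.map_le_iff_le_comap,
      Ideal.map_le_iff_le_comap]
    constructor
    · intro a ha
      rw [← RingHom.ker_coe_toRingHom, Ideal.Quotient.mkₐ_ker, mem_nilradical] at ha
      exact mem_nilradical.mpr (ha.map _)
    · intro a ha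
      rw [← RingHom.ker_coe_toRingHom, Ideal.Quotient.mkₐ_ker, mem_nilradical] at ha
      exact mem_nilradical.mpr (ha.map _)
  · intro x hx
    exact (IsNilpotent.map (mem_nilradical.mp hx) _).eq_zero

end Groth.Agent.H21.FiniteAlgClosed
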