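import Groth.Agent.H21.FinEtale
import Mathlib.RingTheory.Etale.Descent
import Mathlib.RingTheory.Etale.Pi
import Mathlib.RingTheory.Finiteness.Descent
import Mathlib.RingTheory.Flat.Equalizer
import Mathlib.RingTheory.TensorProduct.Pi
import Mathlib.FieldTheory.IsAlgClosed.Basic
import Mathlib.Algebra.Polynomial.Expand
import Mathlib.RingTheory.IntegralClosure.Algebra.Basic

set_option autoImplicit false
set_option linter.unusedSectionVars false

open TensorProduct

universe u v w

namespace Groth.Agent.H21.FixedAlg

variable {R A : Type u} [CommRing R] [CommRing A] [Algebra R A] {G : Type v} [Group G] [Finite G]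
  (σ : G →* (A →ₐ[R] A))

/-- The fixed subalgebra of a finite group of endomorphisms. -/
def fixed : Subalgebra R A := ⨅ g : G, AlgHom.equalizer (σ g) (AlgHom.id R A)

theorem mem_fixed {x : A} : x ∈ fixed σ ↔ ∀ g, σ g x = x := by
  simp only [fixed, Algebra.mem_iInf, AlgHom.mem_equalizer, AlgHom.id_apply]

variable (S : Type u) [CommRing S] [Algebra R S]

theorem baseChange_fixed [Module.Flat R S] :
    Function.Injective (Algebra.TensorProduct.map (AlgHom.id S S) (fixed σ).val) ∧
      ∀ t : S ⊗[R] A, (∀ g, Algebra.TensorProduct.map (AlgHom.id S S) (σ g) t = t) ↔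
        t ∈ (Algebra.TensorProduct.map (AlgHom.id S S) (fixed σ).val).range := by
  classical
  have := Fintype.ofFinite G
  let d : A →ₗ[R] (G → A) := LinearMap.pi fun g => (σ g).toLinearMap - LinearMap.id
  have hex : Function.Exact (fixed σ).val.toLinearMap d := by
    intro x
    constructor
    · intro hx
      refine ⟨⟨x, (mem_fixed σ).mpr fun g => ?_⟩, rfl⟩
      exact sub_eq_zero.mp (congrFun hx g)
    · rintro ⟨c, rfl⟩
      funext g
      simp [d, (mem_fixed σ).mp c.2 g]
  have hex' := Module.Flat.lTensor_exact S hex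
  have hmap : ∀ t, LinearMap.lTensor S (fixed σ).val.toLinearMap t =
      Algebra.TensorProduct.map (AlgHom.id S S) (fixed σ).val t := by
    intro t
    induction t using TensorProduct.induction_on with
    | zero => simp
    | tmul a b => simp
    | add s t hs ht => simp [hs, ht]
  have hd : ∀ t g, TensorProduct.piRight R R S (fun _ : G => A) (LinearMap.lTensor S d t) g =
      Algebra.TensorProduct.map (AlgHom.id S S) (σ g) t - t := by
    intro t g
    induction t using TensorProduct.induction_on with
    | zero => simp
    | tmul a b => simp [d, tmul_sub]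
    | add s t hs ht => simp only [map_add, Pi.add_apply, hs, ht]; abel
  refine ⟨fun a b h => ?_, fun t => ⟨fun h => ?_, ?_⟩⟩
  · rw [← hmap, ← hmap] at h
    exact Module.Flat.lTensor_preserves_injective_linearMap (M := S) _ Subtype.val_injective h
  · have hz : LinearMap.lTensor S d t = 0 :=
      (TensorProduct.piRight R R S (fun _ : G => A)).injective (funext fun g => by
        rw [hd, h, sub_self, map_zero, Pi.zero_apply])
    obtain ⟨c, hc⟩ := (hex' t).mp hz
    exact ⟨c, (hmap c).symm.trans hc⟩
  · rintro ⟨c, rfl⟩ g
    induction c using TensorProduct.induction_on with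
    | zero => simp
    | tmul a b => simp [(mem_fixed σ).mp b.2 g]
    | add s t hs ht => simp_all

/-- Fixed elements of a split algebra under a group of algebra endomorphisms. -/
theorem exists_range_eq_fixed {B T : Type u} [CommRing B] [CommRing T] [Algebra B T]
    (τ : G →* (T →ₐ[B] T)) {n : ℕ} (e : T ≃ₐ[B] (Fin n → B)) :
    ∃ φ : (Fin n → B) →ₐ[B] T, ∀ t, t ∈ φ.range ↔ ∀ g, τ g t = t := by
  classical
  have := Fintype.ofFinite G
  let δ : Fin n → T := fun j => e.symm (Pi.single j 1)
  let u : Fin n → T := fun j => 1 - ∏ g : G, (1 - τ g (δ j))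
  have hδ : ∀ j, IsIdempotentElem (δ j) := fun j => by
    change e.symm _ * e.symm _ = _
    rw [← map_mul, ← Pi.single_mul, one_mul]
  have hu : ∀ j, IsIdempotentElem (u j) := fun j => by
    refine IsIdempotentElem.one_sub ?_
    change _ * _ = _
    rw [← Finset.prod_mul_distrib]
    exact Finset.prod_congr rfl fun g _ => ((hδ j).map (τ g)).one_sub
  have huinv : ∀ h j, τ h (u j) = u j := by
    intro h j
    simp only [u, map_sub, map_one, map_prod]
    congr 1
    refine Fintype.prod_equiv (Equiv.mulLeft h) _ _ fun g => ?_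
    rw [Equiv.coe_mulLeft, map_mul]
    rfl
  let w : Fin n → T := fun j => u j * ∏ k ∈ Finset.univ.filter (· < j), (1 - u k)
  have hwinv : ∀ h j, τ h (w j) = w j := fun h j => by
    simp only [w, map_mul, map_prod, map_sub, map_one, huinv]
  have hcδ : ∀ c j, c * δ j = e c j • δ j := fun c j => e.injective (by
    rw [map_mul, map_smul]
    simp only [δ, AlgEquiv.apply_symm_apply]
    ext i
    rcases eq_or_ne i j with rfl | h <;> simp [*])
  have huone : ∀ j, u j * δ j = δ j := fun j => by
    have h0 : (∏ g : G, (1 - τ g (δ j))) * δ j = 0 := by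
      rw [← Finset.mul_prod_erase _ _ (Finset.mem_univ (1 : G)), map_one, mul_comm _ (δ j),
        ← mul_assoc, AlgHom.one_apply, mul_sub, mul_one, (hδ j).eq, sub_self, zero_mul]
    rw [sub_mul, one_mul, h0, sub_zero]
  have hsum : ∀ m : ℕ, (∑ j ∈ Finset.univ.filter (fun j : Fin n => j.1 < m), w j) =
      1 - ∏ j ∈ Finset.univ.filter (fun j : Fin n => j.1 < m), (1 - u j) := by
    intro m
    induction m with
    | zero => simp
    | succ m ih =>
      by_cases hm : m < n
      · have hs : Finset.univ.filter (fun j : Fin n => j.1 < m + 1) =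
            insert ⟨m, hm⟩ (Finset.univ.filter (fun j : Fin n => j.1 < m)) := by
          ext j; simp [Fin.ext_iff]; omega
        have hn : (⟨m, hm⟩ : Fin n) ∉ Finset.univ.filter (fun j : Fin n => j.1 < m) := by simp
        rw [hs, Finset.sum_insert hn, Finset.prod_insert hn, ih]
        simp only [w, show Finset.univ.filter (· < (⟨m, hm⟩ : Fin n)) =
          Finset.univ.filter (fun j : Fin n => j.1 < m) from by ext j; simp [Fin.lt_def]]
        ring
      · rw [show Finset.univ.filter (fun j : Fin n => j.1 < m + 1) =
          Finset.univ.filter (fun j : Fin n => j.1 < m) from by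
            ext j; simp; have := j.isLt; omega, ih]
  have hprod : (∏ j, (1 - u j)) = 0 := by
    set P := ∏ j, (1 - u j) with hP
    have h1 : (1 : T) = ∑ j, δ j := e.injective (by
      simp only [δ, map_sum, map_one, AlgEquiv.apply_symm_apply]
      exact (Finset.univ_sum_single (fun _ : Fin n => (1 : B))).symm)
    rw [← mul_one P, h1, Finset.mul_sum]
    refine Finset.sum_eq_zero fun j _ => ?_
    rw [hP, ← Finset.mul_prod_erase _ _ (Finset.mem_univ j), mul_comm, ← mul_assoc, mul_sub, mul_one,
      mul_comm (δ j), huone, sub_self, zero_mul]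
  have hsum1 : ∑ j, w j = 1 := by
    have := hsum n
    rw [show Finset.univ.filter (fun j : Fin n => j.1 < n) = Finset.univ from by ext j; simp, hprod,
      sub_zero] at this
    exact this
  have hwi : ∀ j, IsIdempotentElem (w j) := fun j => by
    refine (hu j).mul ?_
    change _ * _ = _
    rw [← Finset.prod_mul_distrib]
    exact Finset.prod_congr rfl fun k _ => (hu k).one_sub
  have horth : ∀ i j, i < j → w i * w j = 0 := fun i j hij => by
    simp only [w]
    rw [← Finset.mul_prod_erase (Finset.univ.filter (· < j)) _ (a := i) (by simpa using hij)]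
    calc _ = (u i * (1 - u i)) * ((∏ k ∈ Finset.univ.filter (· < i), (1 - u k)) *
          (u j * ∏ k ∈ (Finset.univ.filter (· < j)).erase i, (1 - u k))) := by ring
      _ = 0 := by rw [mul_sub, mul_one, (hu i).eq, sub_self, zero_mul]
  let φ₀ : (Fin n → B) →ₗ[B] T := Fintype.linearCombination B w
  have hφ₀ : ∀ x, φ₀ x = ∑ j, x j • w j := fun x => rfl
  let φ : (Fin n → B) →ₐ[B] T := AlgHom.ofLinearMap φ₀
    (by rw [hφ₀]; simp [hsum1])
    (fun x y => by
      simp only [hφ₀, Finset.sum_mul, Finset.mul_sum]
      refine Finset.sum_congr rfl fun i _ => ?_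
      rw [Finset.sum_eq_single i]
      · rw [Pi.mul_apply, smul_mul_smul_comm, (hwi i).eq]
      · intro j _ hj
        rcases lt_or_gt_of_ne hj with h | h
        · rw [smul_mul_smul_comm, horth j i h, smul_zero]
        · rw [smul_mul_smul_comm, mul_comm (w j), horth i j h, smul_zero]
      · simp)
  refine ⟨φ, fun t => ⟨?_, fun ht => ⟨e t, ?_⟩⟩⟩
  · rintro ⟨x, rfl⟩ g
    change τ g (φ₀ x) = φ₀ x
    simp only [hφ₀, map_sum, map_smul, hwinv]
  · change φ₀ (e t) = t
    conv_rhs => rw [← mul_one t, ← hsum1, Finset.mul_sum]
    rw [hφ₀]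
    refine Finset.sum_congr rfl fun j _ => ?_
    have h1 : ∀ g, t * τ g (δ j) = e t j • τ g (δ j) := fun g => by
      conv_lhs => rw [← ht g, ← map_mul, hcδ, map_smul]
    have h2 : (t - algebraMap B T (e t j)) * u j = 0 := by
      have h3 : ∀ g, (t - algebraMap B T (e t j)) * (1 - τ g (δ j)) = t - algebraMap B T (e t j) := by
        intro g
        rw [mul_sub, mul_one, sub_mul, h1, ← Algebra.smul_def, sub_self, sub_zero]
      have h4 : ∀ F : Finset G, (t - algebraMap B T (e t j)) * ∏ g ∈ F, (1 - τ g (δ j)) =
          t - algebraMap B T (e t j) := by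
        intro F
        induction F using Finset.induction_on with
        | empty => simp
        | insert a F ha ih => rw [Finset.prod_insert ha, ← mul_assoc, h3, ih]
      simp only [u, mul_sub, mul_one, h4, sub_self]
    have h5 : t * u j = e t j • u j := by
      rw [Algebra.smul_def, ← sub_eq_zero, ← sub_mul, h2]
    change e t j • (u j * _) = t * (u j * _)
    rw [← mul_assoc, h5, smul_mul_assoc]

/-- Descent: fixed algebras of finite étale algebras which split over a faithfully flat cover. -/
theorem finite_etale_fixed {B : Type u} [CommRing B] [Algebra R B] [Module.FaithfullyFlat R B]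
    {n : ℕ} (e : B ⊗[R] A ≃ₐ[B] (Fin n → B)) :
    Algebra.Etale R (fixed σ) ∧ Module.Finite R (fixed σ) := by
  let τ : G →* (B ⊗[R] A →ₐ[B] B ⊗[R] A) :=
    { toFun := fun g => Algebra.TensorProduct.map (AlgHom.id B B) (σ g)
      map_one' := by
        apply AlgHom.ext
        intro t
        induction t using TensorProduct.induction_on with
        | zero => simp
        | tmul a b => simp
        | add s t hs ht => simp only [map_add, hs, ht]
      map_mul' := fun g h => by
        apply AlgHom.ext
        intro t
        induction t using TensorProduct.induction_on with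
        | zero => simp
        | tmul a b => simp [map_mul]
        | add s t hs ht => simp only [map_add, hs, ht] }
  obtain ⟨φ, hφ⟩ := exists_range_eq_fixed τ e
  obtain ⟨hinj, hrange⟩ := baseChange_fixed σ B
  have : Module.Finite B (B ⊗[R] A) := Module.Finite.equiv e.symm.toLinearEquiv
  have : Algebra.Etale B (B ⊗[R] A) := Algebra.Etale.of_equiv e.symm
  obtain ⟨d, hd, hker⟩ := FinEtale.exists_idem_ker φ
  obtain ⟨het, hfin⟩ := FinEtale.quotient_etale_finite (R := B) hd
  rw [← hker] at het hfin
  let ψ := Algebra.TensorProduct.map (AlgHom.id B B) (fixed σ).val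
  have heq : φ.range = ψ.range := le_antisymm (fun t ht => (hrange t).mp ((hφ t).mp ht))
    fun t ht => (hφ t).mpr ((hrange t).mpr ht)
  let ee : ((Fin n → B) ⧸ RingHom.ker φ) ≃ₐ[B] B ⊗[R] fixed σ :=
    (Ideal.quotientKerEquivRange φ).trans
      ((Subalgebra.equivOfEq _ _ heq).trans (AlgEquiv.ofInjective ψ hinj).symm)
  have : Algebra.Etale B (B ⊗[R] fixed σ) := Algebra.Etale.of_equiv ee
  have : Module.Finite B (B ⊗[R] fixed σ) := Module.Finite.equiv ee.toLinearEquiv
  exact ⟨Algebra.Etale.of_etale_tensorProduct_of_faithfullyFlat B,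
    Module.Finite.of_finite_tensorProduct_of_faithfullyFlat B⟩

/-- Two homomorphisms to a field agreeing on invariants differ by a group element. -/
theorem exists_smul_eq {A : Type u} [CommRing A] {G : Type v} [Group G] [Finite G]
    (σ : G →* (A →+* A)) {K : Type w} [Field K] (f₁ f₂ : A →+* K)
    (h : ∀ a : A, (∀ g, σ g a = a) → f₁ a = f₂ a) : ∃ γ : G, ∀ a, f₂ a = f₁ (σ γ a) := by
  classical
  have := Fintype.ofFinite G
  by_contra hne
  push Not at hne
  choose c hc using hne
  let ι := Fintype.equivFin G
  let τ : G → (Polynomial A →+* Polynomial A) := fun g => Polynomial.mapRingHom (σ g)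
  let a : Polynomial A := ∑ g, Polynomial.C (c g) * Polynomial.X ^ (ι g : ℕ)
  let P : Polynomial (Polynomial A) := ∏ g, (Polynomial.X - Polynomial.C (τ g a))
  have hP : ∀ k, P.map (τ k) = P := by
    intro k
    simp only [P, Polynomial.map_prod, Polynomial.map_sub, Polynomial.map_X, Polynomial.map_C]
    refine Fintype.prod_equiv (Equiv.mulLeft k) _ _ fun g => ?_
    simp only [τ, Equiv.coe_mulLeft, map_mul, Polynomial.coe_mapRingHom, Polynomial.map_map]
    rfl
  have hQ : P.map (Polynomial.mapRingHom f₁) = P.map (Polynomial.mapRingHom f₂) := by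
    refine Polynomial.ext fun i => Polynomial.ext fun j => ?_
    simp only [Polynomial.coeff_map, Polynomial.coe_mapRingHom]
    refine h _ fun g => ?_
    have := congrArg (fun q => Polynomial.coeff (Polynomial.coeff q i) j) (hP g)
    simpa [τ] using this
  have h2 : (P.map (Polynomial.mapRingHom f₂)).eval (Polynomial.map f₂ a) = 0 := by
    simp only [P, Polynomial.map_prod, Polynomial.eval_prod]
    refine Finset.prod_eq_zero (Finset.mem_univ 1) ?_
    simp [τ, RingHom.one_def]
  rw [← hQ] at h2
  simp only [P, Polynomial.map_prod, Polynomial.eval_prod, Finset.prod_eq_zero_iff] at h2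
  obtain ⟨γ, -, hγ⟩ := h2
  simp only [Polynomial.map_sub, Polynomial.map_X, Polynomial.map_C, Polynomial.eval_sub,
    Polynomial.eval_X, Polynomial.eval_C, Polynomial.coe_mapRingHom, τ, sub_eq_zero] at hγ
  have := congrArg (fun q => Polynomial.coeff q (ι γ)) hγ
  simp only [Polynomial.coeff_map, a, Polynomial.finset_sum_coeff, Polynomial.coeff_C_mul_X_pow] at this
  rw [Finset.sum_eq_single γ (fun g _ hg => if_neg fun hh => hg (ι.injective (Fin.ext hh).symm))
    (by simp), if_pos rfl] at this
  exact hc γ this

end Groth.Agent.H21.FixedAlg
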