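import Groth.Agent.Lib.PBasis.FieldSmooth

/-! Injectivity of `H₁(L/K) ⊗ M → H₁(M/K)` for fields. -/

set_option autoImplicit false

universe u v

open TensorProduct

namespace Groth.Agent.H21.H1Inj

open Algebra MvPolynomial

variable {K L M : Type u} [Field K] [Field L] [Field M] [Algebra K L] [Algebra L M] [Algebra K M]
  [IsScalarTower K L M]

/-- Functoriality of generators. -/
noncomputable def hom : Generators.Hom (Generators.self K L) (Generators.self K M) :=
  ⟨fun l => X (algebraMap L M l), fun l => aeval_X _ _⟩

theorem δAux_rename (P : Type v) [CommRing P] [Algebra P K] [Algebra P L] [IsScalarTower P K L]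
    [Algebra P M] [IsScalarTower P K M] (q : MvPolynomial L K) :
    Generators.H1Cotangent.δAux P (Generators.self K M) ((hom (M := M)).toAlgHom q) =
      LinearMap.rTensor _ (IsScalarTower.toAlgHom K L M).toLinearMap
        (Generators.H1Cotangent.δAux P (Generators.self K L) q) := by
  induction q using MvPolynomial.induction_on' with
  | monomial n r =>
    rw [Generators.H1Cotangent.δAux_monomial, Generators.Hom.toAlgHom_monomial]
    have : r • (n.prod fun i k => (hom (K := K) (L := L) (M := M)).val i ^ k) =
        monomial (n.mapDomain (algebraMap L M)) r := by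
      rw [monomial_eq, Finsupp.prod_mapDomain_index (by simp) (fun _ _ _ => by rw [pow_add]),
        Algebra.smul_def, MvPolynomial.algebraMap_eq]
      rfl
    rw [this, Generators.H1Cotangent.δAux_monomial, LinearMap.rTensor_tmul]
    congr 1
    rw [Finsupp.prod_mapDomain_index (by simp) (fun _ _ _ => by rw [pow_add])]
    exact (by
      rw [AlgHom.toLinearMap_apply, IsScalarTower.coe_toAlgHom', map_finsuppProd]
      simp only [map_pow]
      rfl)
  | add a b ha hb => rw [map_add, map_add, ha, hb, ← map_add, ← map_add]

set_option backward.isDefEq.respectTransparency false in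
theorem δ_natural (P : Type v) [CommRing P] [Algebra P K] [Algebra P L] [IsScalarTower P K L]
    [Algebra P M] [IsScalarTower P K M] (x : H1Cotangent K L) :
    H1Cotangent.δ P K M (H1Cotangent.map K K L M x) =
      LinearMap.rTensor _ (IsScalarTower.toAlgHom K L M).toLinearMap (H1Cotangent.δ P K L x) := by
  obtain ⟨x, hx⟩ := x
  obtain ⟨⟨q, hq⟩, rfl⟩ := Extension.Cotangent.mk_surjective x
  show H1Cotangent.δ P K M (Extension.H1Cotangent.map _ ⟨_, hx⟩) = _
  rw [Extension.H1Cotangent.map_eq _ (hom (K := K) (L := L) (M := M)).toExtensionHom]
  show Generators.H1Cotangent.δ _ _ ⟨_, _⟩ = LinearMap.rTensor _ _ (Generators.H1Cotangent.δ _ _ ⟨_, hx⟩)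
  simp only [LinearMap.domRestrict_apply, Extension.Cotangent.map_mk]
  rw [Generators.H1Cotangent.δ_eq_δAux, Generators.H1Cotangent.δ_eq_δAux]
  exact δAux_rename P q

theorem injective_of_formallySmooth (P : Type v) [Field P] [Algebra P K] [Algebra P L]
    [IsScalarTower P K L] [Algebra P M] [IsScalarTower P K M] [Algebra.FormallySmooth P L] :
    Function.Injective ((H1Cotangent.map K K L M).liftBaseChange M) := by
  have hδ : Function.Injective (H1Cotangent.δ P K L) := by
    rw [injective_iff_map_eq_zero]
    intro y hy
    obtain ⟨z, rfl⟩ := (H1Cotangent.exact_map_δ P K L y).1 hy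
    rw [Subsingleton.elim z 0, map_zero]
  let c := TensorProduct.AlgebraTensorModule.cancelBaseChange K L M M (Ω[K⁄P])
  have h2 : ∀ z, (H1Cotangent.δ P K M) ((H1Cotangent.map K K L M).liftBaseChange M z) =
      c (LinearMap.lTensor M (H1Cotangent.δ P K L) z) := by
    intro z
    induction z with
    | zero => simp
    | add a b ha hb => simp [ha, hb]
    | tmul m x =>
      rw [LinearMap.liftBaseChange_tmul, map_smul, δ_natural, LinearMap.lTensor_tmul]
      generalize H1Cotangent.δ P K L x = w
      induction w with
      | zero => simp
      | add a b ha hb => simp only [map_add, smul_add, tmul_add, ha, hb]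
      | tmul l ω =>
        rw [LinearMap.rTensor_tmul, smul_tmul']
        simp [c, Algebra.smul_def, mul_comm]
  intro a b hab
  have h3 := congrArg (H1Cotangent.δ P K M) hab
  rw [h2, h2] at h3
  exact Module.Flat.lTensor_preserves_injective_linearMap _ hδ (c.injective h3)

theorem injective : Function.Injective ((H1Cotangent.map K K L M).liftBaseChange M) := by
  obtain h | ⟨p, hp, hpk⟩ := CharP.exists' K
  · haveI : CharZero L := charZero_of_injective_algebraMap (algebraMap K L).injective
    letI : Algebra ℚ K := DivisionRing.toRatAlgebra
    letI : Algebra ℚ L := DivisionRing.toRatAlgebra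
    haveI : CharZero M := charZero_of_injective_algebraMap (algebraMap K M).injective
    letI : Algebra ℚ M := DivisionRing.toRatAlgebra
    haveI : IsScalarTower ℚ K L := IsScalarTower.of_algebraMap_eq' (RingHom.ext_rat _ _)
    haveI : IsScalarTower ℚ K M := IsScalarTower.of_algebraMap_eq' (RingHom.ext_rat _ _)
    haveI := Lib.PBasis.Separable.formallySmooth_of_charZero ℚ L
    exact injective_of_formallySmooth ℚ
  · haveI : CharP L p := charP_of_injective_algebraMap (algebraMap K L).injective p
    let P := ULift.{u} (ZMod p)
    letI : Algebra P K :=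
      ((ZMod.castHom (dvd_refl p) K).comp (ULift.ringEquiv : P ≃+* ZMod p).toRingHom).toAlgebra
    letI : Algebra P L := ((algebraMap K L).comp (algebraMap P K)).toAlgebra
    letI : Algebra P M := ((algebraMap K M).comp (algebraMap P K)).toAlgebra
    haveI : IsScalarTower P K L := IsScalarTower.of_algebraMap_eq' rfl
    haveI : IsScalarTower P K M := IsScalarTower.of_algebraMap_eq' rfl
    haveI : CharP P p := charP_of_injective_ringHom
      (f := (ULift.ringEquiv : P ≃+* ZMod p).symm.toRingHom) (RingEquiv.injective _) p
    haveI : Finite P := Finite.of_equiv (ZMod p) Equiv.ulift.symm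
    haveI : PerfectRing P p := PerfectRing.ofFiniteOfIsReduced p P
    haveI := Lib.PBasis.Separable.formallySmooth_of_perfect_charP L p P
    exact injective_of_formallySmooth P

end Groth.Agent.H21.H1Inj
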