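import Groth.Agent.Lib.Henselian.PairHenselization
import Groth.Agent.Lib.Henselian.Pair
import Mathlib.RingTheory.TensorProduct.DirectLimitFG
import Mathlib.RingTheory.TensorProduct.Finite
import Mathlib.LinearAlgebra.TensorProduct.RightExactness

/-! Idempotents of integral algebras lift over an étale neighbourhood. -/

set_option autoImplicit false

open TensorProduct
open Groth.Agent.Lib.Henselian Groth.Agent.Lib.Henselian.PairHenselization Groth.Agent.Lib.Henselian.Pointed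

universe u

namespace Groth.Agent.H21.HenselIdem

variable {A : Type u} [CommRing A] (I : Ideal A) (B : Type u) [CommRing B] [Algebra A B]

local notation "H" => PairHenselization I

/-- A tensor dying in the henselization dies in a neighbourhood. -/
theorem exists_kill_tensor {A' : Type u} [CommRing A'] [Algebra A A'] [Algebra.Etale A A']
    (hn : IsNbhd I A') (φ : A' →ₐ[A] H) (x : A' ⊗[A] B) (hx : φ.toLinearMap.rTensor B x = 0) :
    ∃ (A'' : Type u) (_ : CommRing A'') (_ : Algebra A A'') (_ : Algebra.Etale A A''),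
      IsNbhd I A'' ∧ ∃ ρ : A' →ₐ[A] A'', ρ.toLinearMap.rTensor B x = 0 := by
  classical
  have hH := isPairHenselization I
  obtain ⟨J, hJ, y, rfl⟩ := Submodule.exists_fg_le_eq_rTensor_subtype x
  have hfac : φ.toLinearMap ∘ₗ J.subtype =
      (J.map φ.toLinearMap).subtype ∘ₗ φ.toLinearMap.submoduleMap J := rfl
  rw [← LinearMap.rTensor_comp_apply, hfac, LinearMap.rTensor_comp_apply] at hx
  obtain ⟨Q, hPQ, hQ, hQ0⟩ := TensorProduct.eq_zero_of_fg_of_subtype_eq_zero (hJ.map _) hx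
  obtain ⟨s, hs⟩ := hQ
  obtain ⟨A₁, _, _, _, hn₁, φ₁, hsub⟩ := exists_isNbhd_range hH s
  obtain ⟨A₂, _, _, _, hn₂, ⟨a⟩, ⟨b⟩⟩ := exists_isNbhd_pair I A' A₁ hn hn₁
  obtain ⟨φ₂⟩ := (nonempty_unique_algHom hH hn₂).map fun hu => hu.default
  have ha : φ₂.comp a = φ := subsingleton_algHom hH hn _ _
  have hb : φ₂.comp b = φ₁ := subsingleton_algHom hH hn₁ _ _
  let W := LinearMap.range φ₂.toLinearMap
  have hQW : Q ≤ W := by
    rw [← hs, Submodule.span_le]
    intro q hq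
    obtain ⟨u, rfl⟩ := hsub hq
    exact ⟨b u, AlgHom.congr_fun hb u⟩
  let f := φ₂.toLinearMap.rangeRestrict
  have h0 : f.rTensor B (a.toLinearMap.rTensor B (J.subtype.rTensor B y)) = 0 := by
    rw [← LinearMap.rTensor_comp_apply, ← LinearMap.rTensor_comp_apply]
    have : f ∘ₗ a.toLinearMap ∘ₗ J.subtype =
        Submodule.inclusion hQW ∘ₗ Submodule.inclusion hPQ ∘ₗ φ.toLinearMap.submoduleMap J := by
      refine LinearMap.ext fun j => Subtype.ext ?_
      exact AlgHom.congr_fun ha j.1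
    rw [LinearMap.comp_assoc, this, LinearMap.rTensor_comp_apply, LinearMap.rTensor_comp_apply, hQ0, map_zero]
  have hex : Function.Exact (LinearMap.ker f).subtype f := f.exact_subtype_ker_map
  obtain ⟨z, hz⟩ := (rTensor_exact B hex φ₂.toLinearMap.surjective_rangeRestrict _).mp h0
  obtain ⟨S, hS⟩ := TensorProduct.exists_finset z
  obtain ⟨A₃, _, _, _, hn₃, ρ, hρ⟩ := exists_isNbhd_kill hH φ₂ (S.image fun p => (p.1 : A₂)) (by
    intro t ht
    obtain ⟨p, -, rfl⟩ := Finset.mem_image.mp ht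
    exact congrArg Subtype.val (LinearMap.mem_ker.mp p.1.2))
  refine ⟨A₃, inferInstance, inferInstance, inferInstance, hn₃, ρ.comp a, ?_⟩
  rw [show (ρ.comp a).toLinearMap = ρ.toLinearMap ∘ₗ a.toLinearMap from rfl,
    LinearMap.rTensor_comp_apply, ← hz, hS, map_sum, map_sum]
  refine Finset.sum_eq_zero fun p hp => ?_
  rw [LinearMap.rTensor_tmul, LinearMap.rTensor_tmul]
  show ρ p.1.1 ⊗ₜ[A] p.2 = 0
  rw [hρ _ (Finset.mem_image_of_mem _ hp), TensorProduct.zero_tmul]

/-- A tensor over the henselization comes from a neighbourhood. -/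
theorem exists_range_tensor (x : H ⊗[A] B) :
    ∃ (A' : Type u) (_ : CommRing A') (_ : Algebra A A') (_ : Algebra.Etale A A'),
      IsNbhd I A' ∧ ∃ (φ : A' →ₐ[A] H) (y : A' ⊗[A] B), φ.toLinearMap.rTensor B y = x := by
  classical
  obtain ⟨S, rfl⟩ := TensorProduct.exists_finset x
  obtain ⟨A', _, _, _, hn, φ, hsub⟩ := exists_isNbhd_range (isPairHenselization I) (S.image Prod.fst)
  choose g hg using fun (p : H × B) (hp : p ∈ S) => hsub (Finset.mem_image_of_mem Prod.fst hp)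
  refine ⟨A', inferInstance, inferInstance, inferInstance, hn, φ,
    ∑ p : S, g p.1 p.2 ⊗ₜ[A] p.1.2, ?_⟩
  rw [map_sum, ← Finset.sum_coe_sort S]
  refine Finset.sum_congr rfl fun p _ => ?_
  rw [LinearMap.rTensor_tmul]
  show φ (g p.1 p.2) ⊗ₜ[A] p.1.2 = _
  rw [hg]

variable [Algebra.IsIntegral A B]

theorem exists_etale_lift_idempotent (e : B ⧸ I.map (algebraMap A B)) (he : IsIdempotentElem e) :
    ∃ (A' : Type u) (_ : CommRing A') (_ : Algebra A A'), Algebra.Etale A A' ∧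
      Function.Bijective (algebraMap (A ⧸ I) (A' ⧸ I.map (algebraMap A A'))) ∧
      ∃ e' : A' ⊗[A] B, IsIdempotentElem e' ∧
        ∀ b : B, Ideal.Quotient.mk (I.map (algebraMap A B)) b = e →
          e' - 1 ⊗ₜ b ∈ I.map (algebraMap A (A' ⊗[A] B)) := by
  classical
  have hH := isPairHenselization I
  obtain ⟨b₀, rfl⟩ := Ideal.Quotient.mk_surjective e
  let C := H ⊗[A] B
  have : HenselianRing H (I.map (algebraMap A H)) := hH.1
  have hbase : (I.map (algebraMap A H)).map (algebraMap H C) = I.map (algebraMap A C) := by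
    rw [Ideal.map_map, ← IsScalarTower.algebraMap_eq]
  have hmapB : ∀ (A' : Type u) [CommRing A'] [Algebra A A'] (z : B), z ∈ I.map (algebraMap A B) →
      (1 : A') ⊗ₜ[A] z ∈ I.map (algebraMap A (A' ⊗[A] B)) := fun A' _ _ z hz => by
    have h := Ideal.mem_map_of_mem (Algebra.TensorProduct.includeRight : B →ₐ[A] A' ⊗[A] B).toRingHom hz
    rw [Ideal.map_map] at h
    have hc : (Algebra.TensorProduct.includeRight : B →ₐ[A] A' ⊗[A] B).toRingHom.comp (algebraMap A B) =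
        algebraMap A (A' ⊗[A] B) :=
      RingHom.ext fun a => (Algebra.TensorProduct.includeRight : B →ₐ[A] A' ⊗[A] B).commutes a
    rw [hc] at h
    exact h
  have hidem : IsIdempotentElem (Ideal.Quotient.mk ((I.map (algebraMap A H)).map (algebraMap H C)) (1 ⊗ₜ b₀)) := by
    rw [IsIdempotentElem, ← map_mul, Ideal.Quotient.eq, hbase, Algebra.TensorProduct.tmul_mul_tmul,
      one_mul, ← TensorProduct.tmul_sub]
    exact hmapB _ _ (Ideal.Quotient.eq.mp (by rw [map_mul]; exact he))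
  obtain ⟨ε, hε, hεb⟩ := (Pair.idempotents_bijOn (I.map (algebraMap A H)) C).surjOn hidem
  rw [Ideal.Quotient.eq, hbase] at hεb
  obtain ⟨A₁, _, _, _, hn₁, φ₁, ε₁, hε₁⟩ := exists_range_tensor I B ε
  let Φ₁ : A₁ ⊗[A] B →ₐ[A] C := Algebra.TensorProduct.map φ₁ (AlgHom.id A B)
  have hΦ₁ : ∀ y, Φ₁ y = φ₁.toLinearMap.rTensor B y := fun y => rfl
  obtain ⟨A₂, _, _, hA₂, hn₂, ρ, hρ⟩ := exists_kill_tensor I B hn₁ φ₁ (ε₁ * ε₁ - ε₁) (by
    rw [← hΦ₁, map_sub, map_mul, hΦ₁, hε₁, hε.eq, sub_self])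
  obtain ⟨φ₂⟩ := (nonempty_unique_algHom hH hn₂).map fun hu => hu.default
  have hφ : φ₂.comp ρ = φ₁ := subsingleton_algHom hH hn₁ _ _
  let P := Algebra.TensorProduct.map ρ (AlgHom.id A B)
  let Φ₂ : A₂ ⊗[A] B →ₐ[A] C := Algebra.TensorProduct.map φ₂ (AlgHom.id A B)
  have hcomp : Φ₂.comp P = Φ₁ := by
    rw [← Algebra.TensorProduct.map_comp, hφ, AlgHom.comp_id]
  refine ⟨A₂, inferInstance, inferInstance, hA₂, hn₂, P ε₁, ?_, fun b hb => ?_⟩
  · rw [IsIdempotentElem, ← map_mul, ← sub_eq_zero, ← map_sub]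
    exact hρ
  have hd : ∀ x : A₂ ⊗[A] B, ∃ c : B, x - 1 ⊗ₜ c ∈ I.map (algebraMap A (A₂ ⊗[A] B)) := by
    intro x
    induction x using TensorProduct.induction_on with
    | zero => exact ⟨0, by simp⟩
    | tmul u c =>
      obtain ⟨r, hr⟩ := exists_sub_mem_of_isNbhd hn₂ u
      refine ⟨r • c, ?_⟩
      rw [TensorProduct.tmul_smul, TensorProduct.smul_tmul', ← Algebra.algebraMap_eq_smul_one,
        ← TensorProduct.sub_tmul]
      have h := Ideal.mul_mem_right ((1 : A₂) ⊗ₜ[A] c) _ (Ideal.mem_map_of_mem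
        (Algebra.TensorProduct.includeLeft : A₂ →ₐ[A] A₂ ⊗[A] B).toRingHom hr)
      rw [Ideal.map_map, show (Algebra.TensorProduct.includeLeft : A₂ →ₐ[A] A₂ ⊗[A] B).toRingHom.comp (algebraMap A A₂) =
        algebraMap A (A₂ ⊗[A] B) from RingHom.ext fun a => (Algebra.TensorProduct.includeLeft : A₂ →ₐ[A] A₂ ⊗[A] B).commutes a] at h
      simpa using h
    | add x y hx hy =>
      obtain ⟨c, hc⟩ := hx
      obtain ⟨c', hc'⟩ := hy
      exact ⟨c + c', by rw [TensorProduct.tmul_add, add_sub_add_comm]; exact add_mem hc hc'⟩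
  obtain ⟨c, hc⟩ := hd (P ε₁ - 1 ⊗ₜ b)
  let χ : H →ₐ[A] B ⧸ I.map (algebraMap A B) :=
    (Ideal.Quotient.liftₐ I (Algebra.ofId A (B ⧸ I.map (algebraMap A B))) (fun a ha => by
      show algebraMap A (B ⧸ I.map (algebraMap A B)) a = 0
      rw [IsScalarTower.algebraMap_apply A B (B ⧸ I.map (algebraMap A B)), Ideal.Quotient.algebraMap_eq,
        Ideal.Quotient.eq_zero_iff_mem]
      exact Ideal.mem_map_of_mem _ ha)).comp (Lim.α A (A ⧸ I))
  let Ψ : C →ₐ[A] B ⧸ I.map (algebraMap A B) :=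
    Algebra.TensorProduct.lift χ (Ideal.Quotient.mkₐ A _) fun _ _ => Commute.all _ _
  have hΨ : ∀ z ∈ I.map (algebraMap A C), Ψ z = 0 := by
    intro z hz
    have h := Ideal.mem_map_of_mem Ψ.toRingHom hz
    rw [Ideal.map_map, show Ψ.toRingHom.comp (algebraMap A C) = algebraMap A (B ⧸ I.map (algebraMap A B)) from
      RingHom.ext fun a => Ψ.commutes a, IsScalarTower.algebraMap_eq A B (B ⧸ I.map (algebraMap A B)),
      ← Ideal.map_map, Ideal.Quotient.algebraMap_eq, Ideal.map_quotient_self] at h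
    exact h
  have hΦI : ∀ z ∈ I.map (algebraMap A (A₂ ⊗[A] B)), Φ₂ z ∈ I.map (algebraMap A C) := fun z hz => by
    have h := Ideal.mem_map_of_mem Φ₂.toRingHom hz
    rwa [Ideal.map_map, show Φ₂.toRingHom.comp (algebraMap A (A₂ ⊗[A] B)) = algebraMap A C from
      RingHom.ext fun a => Φ₂.commutes a] at h
  have h0 : Ψ ((1 : H) ⊗ₜ[A] c) = 0 := by
    have h1 := hΨ _ (hΦI _ hc)
    have e1 : Φ₂ (P ε₁) = ε := by
      rw [← AlgHom.comp_apply, hcomp, hΦ₁, hε₁]
    have e2 : ∀ z : B, Φ₂ (1 ⊗ₜ z) = 1 ⊗ₜ z := fun z => by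
      rw [Algebra.TensorProduct.map_tmul, map_one]; rfl
    simp only [map_sub, e1, e2] at h1
    have h2 : Ψ (ε - 1 ⊗ₜ b) = 0 := by
      rw [show ε - 1 ⊗ₜ b = (ε - 1 ⊗ₜ b₀) + 1 ⊗ₜ (b₀ - b) by rw [TensorProduct.tmul_sub]; abel, map_add,
        hΨ _ hεb, hΨ _ (hmapB _ _ (Ideal.Quotient.eq.mp hb.symm)), add_zero]
    rw [← map_sub, h2, zero_sub, neg_eq_zero] at h1
    exact h1
  have hcI : c ∈ I.map (algebraMap A B) := by
    rw [Algebra.TensorProduct.lift_tmul, map_one, one_mul] at h0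
    exact Ideal.Quotient.eq_zero_iff_mem.mp h0
  have := add_mem hc (hmapB A₂ c hcI)
  rwa [sub_add_cancel] at this

end Groth.Agent.H21.HenselIdem
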