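import Mathlib.RingTheory.GradedAlgebra.HomogeneousLocalization
import Mathlib.RingTheory.FiniteType
import Mathlib.Algebra.Polynomial.AlgebraMap

/-! Realising a finite type algebra as a degree zero homogeneous localization. -/

set_option autoImplicit false

open Polynomial

universe u

namespace Groth.Agent.H21.Homogenize

variable {R R' : Type u} [CommRing R] [CommRing R'] [Algebra R R'] {n : ℕ} (x : Fin n → R')

/-- The generators in degree one. -/
noncomputable def gens : Option (Fin n) → (R × R')[X] :=
  fun o => monomial 1 ((0 : R), o.elim 1 x)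

variable (R) in
/-- The graded algebra. -/
noncomputable def S : Subalgebra R (R × R')[X] := Algebra.adjoin R (Set.range (gens x))

variable (R) in
/-- The grading. -/
noncomputable def deg (d : ℕ) : Submodule R (S R x) :=
  (LinearMap.range ((monomial d : (R × R') →ₗ[R × R'] (R × R')[X]).restrictScalars R)).comap
    (S R x).val.toLinearMap

theorem mem_deg {d : ℕ} {p : S R x} :
    p ∈ deg R x d ↔ (p : (R × R')[X]) = monomial d ((p : (R × R')[X]).coeff d) := by
  constructor
  · rintro ⟨c, hc⟩
    replace hc : monomial d c = (p : (R × R')[X]) := hc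
    rw [← hc, coeff_monomial, if_pos rfl]
  · intro h
    exact ⟨_, h.symm⟩

theorem monomial_coeff_mem (p : (R × R')[X]) (hp : p ∈ S R x) (d : ℕ) :
    monomial d (p.coeff d) ∈ S R x := by
  classical
  revert d
  induction hp using Algebra.adjoin_induction with
  | mem y hy =>
    intro d
    obtain ⟨o, rfl⟩ := hy
    rw [gens, coeff_monomial]
    split_ifs with h
    · subst h; exact Algebra.subset_adjoin ⟨o, rfl⟩
    · rw [monomial_zero_right]; exact zero_mem _
  | algebraMap r =>
    intro d
    rw [Polynomial.algebraMap_apply, coeff_C]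
    split_ifs with h
    · subst h; rw [monomial_zero_left, ← Polynomial.algebraMap_apply]; exact Subalgebra.algebraMap_mem _ r
    · rw [monomial_zero_right]; exact zero_mem _
  | add y z _ _ hy hz =>
    intro d; rw [coeff_add, map_add]; exact add_mem (hy d) (hz d)
  | mul y z _ _ hy hz =>
    intro d
    rw [coeff_mul, map_sum]
    refine sum_mem fun ij hij => ?_
    rw [← Finset.mem_antidiagonal.mp hij, ← monomial_mul_monomial]
    exact mul_mem (hy _) (hz _)

instance addSubgroupClass : AddSubgroupClass (Submodule R (S R x)) (S R x) where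
  add_mem {s} _ _ ha hb := s.add_mem ha hb
  zero_mem s := s.zero_mem
  neg_mem {s a} ha := by
    have h : (-1 : R) • a = -a := neg_one_smul R a
    exact h ▸ s.smul_mem (-1 : R) ha

instance gradedMonoid : SetLike.GradedMonoid (deg R x) where
  one_mem := ⟨1, rfl⟩
  mul_mem i j a b ha hb := by
    refine ⟨(a : (R × R')[X]).coeff i * (b : (R × R')[X]).coeff j, ?_⟩
    show monomial (i + j) _ = (a : (R × R')[X]) * (b : (R × R')[X])
    conv_rhs => rw [(mem_deg x).mp ha, (mem_deg x).mp hb, monomial_mul_monomial]

theorem isInternal : DirectSum.IsInternal (deg R x) := by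
  classical
  have hc : ∀ (v : DirectSum ℕ fun d => deg R x d) (d : ℕ),
      ((DirectSum.coeLinearMap (deg R x) v : S R x) : (R × R')[X]).coeff d =
        ((v d : S R x) : (R × R')[X]).coeff d := by
    intro v d
    induction v using DirectSum.induction_on with
    | zero => simp
    | of i y =>
      rw [DirectSum.coeLinearMap_of]
      rcases eq_or_ne i d with rfl | h
      · rw [DirectSum.of_eq_same]
      · rw [DirectSum.of_eq_of_ne _ _ _ h.symm, (mem_deg x).mp y.2, coeff_monomial, if_neg h]
        simp
    | add a b ha hb => simp [ha, hb]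
  refine ⟨?_, fun p => ?_⟩
  · intro v w h
    refine DFinsupp.ext fun d => Subtype.ext (Subtype.ext ?_)
    have h' : DirectSum.coeLinearMap (deg R x) v = DirectSum.coeLinearMap (deg R x) w := h
    rw [(mem_deg x).mp (v d).2, (mem_deg x).mp (w d).2, ← hc v d, ← hc w d, h']
  · refine ⟨∑ d ∈ (p : (R × R')[X]).support, DirectSum.of (fun d => deg R x d) d
      ⟨⟨_, monomial_coeff_mem x _ p.2 d⟩, ⟨_, rfl⟩⟩, ?_⟩
    rw [map_sum]
    apply Subtype.ext
    rw [AddSubmonoidClass.coe_finsetSum]
    conv_rhs => rw [as_sum_support (p : (R × R')[X])]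
    refine Finset.sum_congr rfl fun d _ => ?_
    rw [DirectSum.coeAddMonoidHom_of]

noncomputable instance gradedAlgebra : GradedAlgebra (deg R x) :=
  { gradedMonoid x, (isInternal x).chooseDecomposition _ with }

theorem injective_algebraMap : Function.Injective (algebraMap R (S R x)) := by
  intro a b h
  have h1 := congrArg (fun p : S R x => ((p : (R × R')[X]).coeff 0).1) h
  simpa [Polynomial.algebraMap_apply] using h1

theorem mem_range_of_deg_zero (p : S R x) (hp : p ∈ deg R x 0) : p ∈ Set.range (algebraMap R (S R x)) := by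
  have key : ∀ q ∈ S R x, (q : (R × R')[X]).coeff 0 ∈ Set.range (algebraMap R (R × R')) := by
    intro q hq
    induction hq using Algebra.adjoin_induction with
    | mem y hy => obtain ⟨o, rfl⟩ := hy; exact ⟨0, by simp [gens, coeff_monomial]⟩
    | algebraMap r => exact ⟨r, by simp [Polynomial.algebraMap_apply]⟩
    | add y z _ _ hy hz =>
      obtain ⟨a, ha⟩ := hy
      obtain ⟨b, hb⟩ := hz
      exact ⟨a + b, by rw [map_add, coeff_add, ha, hb]⟩
    | mul y z _ _ hy hz =>
      obtain ⟨a, ha⟩ := hy
      obtain ⟨b, hb⟩ := hz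
      exact ⟨a * b, by rw [map_mul, mul_coeff_zero, ha, hb]⟩
  obtain ⟨r, hr⟩ := key _ p.2
  refine ⟨r, Subtype.ext ?_⟩
  rw [(mem_deg x).mp hp, ← hr, monomial_zero_left]
  rfl

variable (R) in
/-- Dehomogenisation. -/
noncomputable def dehom : S R x →ₐ[R] R' :=
  ((Polynomial.aeval (1 : R')).restrictScalars R).comp
    (((Polynomial.mapAlgHom (AlgHom.snd R R R'))).comp (S R x).val)

theorem dehom_of_mem {d : ℕ} {p : S R x} (hp : p ∈ deg R x d) :
    dehom R x p = ((p : (R × R')[X]).coeff d).2 := by
  show Polynomial.aeval (1 : R') (Polynomial.map (RingHom.snd R R') (p : (R × R')[X])) = _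
  conv_lhs => rw [(mem_deg x).mp hp]
  simp

variable (R) in
/-- The distinguished element. -/
noncomputable def f : S R x := ⟨gens x none, Algebra.subset_adjoin ⟨none, rfl⟩⟩

theorem f_mem : f R x ∈ deg R x 1 := ⟨_, rfl⟩

theorem dehom_f : dehom R x (f R x) = 1 := by
  rw [dehom_of_mem x (f_mem x)]
  simp [f, gens]

open HomogeneousLocalization in
theorem exists_equiv (hx : Algebra.adjoin R (Set.range x) = ⊤) :
    ∃ e : HomogeneousLocalization.Away (deg R x) (f R x) ≃+* R',
      ∀ r : R, (e.symm (algebraMap R R' r)).val =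
        algebraMap (S R x) (Localization.Away (f R x)) (algebraMap R (S R x) r) := by
  have hu : IsUnit ((dehom R x).toRingHom (f R x)) := by
    show IsUnit (dehom R x (f R x))
    rw [dehom_f]; exact isUnit_one
  let L : Localization.Away (f R x) →+* R' := IsLocalization.Away.lift (f R x) hu
  let E : HomogeneousLocalization.Away (deg R x) (f R x) →+* R' :=
    L.comp (algebraMap _ (Localization (Submonoid.powers (f R x))))
  have hE : ∀ (n : ℕ) (p : S R x) (hp : p ∈ deg R x (n • 1)),
      E (Away.mk (deg R x) (f_mem x) n p hp) = dehom R x p := by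
    intro n p hp
    show L (Localization.mk p ⟨f R x ^ n, _⟩) = _
    rw [Localization.mk_eq_mk']
    have h := congrArg L (IsLocalization.mk'_spec (Localization.Away (f R x)) p
      (⟨f R x ^ n, n, rfl⟩ : Submonoid.powers (f R x)))
    simp only [L, map_mul, IsLocalization.Away.lift_eq, AlgHom.toRingHom_eq_coe, RingHom.coe_coe,
      map_pow, dehom_f, one_pow, mul_one] at h
    exact h
  have hinj : Function.Injective E := by
    rw [injective_iff_map_eq_zero]
    intro z hz
    obtain ⟨n, p, hp, rfl⟩ := Away.mk_surjective (deg R x) (f_mem x) z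
    rw [hE, dehom_of_mem x hp] at hz
    apply HomogeneousLocalization.val_injective
    rw [Away.val_mk, val_zero, Localization.mk_eq_mk', IsLocalization.mk'_eq_zero_iff]
    refine ⟨⟨f R x, 1, pow_one _⟩, Subtype.ext ?_⟩
    show (gens x none : (R × R')[X]) * (p : (R × R')[X]) = 0
    rw [(mem_deg x).mp hp, gens, monomial_mul_monomial, monomial_eq_zero_iff]
    exact Prod.ext (zero_mul _) (by show (1 : R') * _ = 0; rw [one_mul, hz])
  have hsurj : Function.Surjective E := by
    have key : ∀ y : R', ∃ (d : ℕ) (p : S R x), p ∈ deg R x d ∧ dehom R x p = y := by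
      intro y
      have hy : y ∈ Algebra.adjoin R (Set.range x) := hx ▸ Algebra.mem_top
      induction hy using Algebra.adjoin_induction with
      | mem y hy =>
        obtain ⟨i, rfl⟩ := hy
        refine ⟨1, ⟨gens x (some i), Algebra.subset_adjoin ⟨_, rfl⟩⟩, ⟨_, rfl⟩, ?_⟩
        rw [dehom_of_mem x (d := 1) ⟨_, rfl⟩]
        simp [gens]
      | algebraMap r =>
        exact ⟨0, algebraMap R (S R x) r, ⟨algebraMap R (R × R') r, rfl⟩, AlgHom.commutes _ r⟩
      | add y z _ _ hy hz =>
        obtain ⟨a, p, hp, rfl⟩ := hy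
        obtain ⟨b, q, hq, rfl⟩ := hz
        refine ⟨a + b, p * f R x ^ b + q * f R x ^ a, add_mem ?_ ?_, by simp [dehom_f]⟩
        · exact SetLike.mul_mem_graded hp (by simpa using SetLike.pow_mem_graded b (f_mem (R := R) x))
        · rw [add_comm a b]
          exact SetLike.mul_mem_graded hq (by simpa using SetLike.pow_mem_graded a (f_mem (R := R) x))
      | mul y z _ _ hy hz =>
        obtain ⟨a, p, hp, rfl⟩ := hy
        obtain ⟨b, q, hq, rfl⟩ := hz
        exact ⟨a + b, p * q, SetLike.mul_mem_graded hp hq, map_mul _ _ _⟩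
    intro y
    obtain ⟨d, p, hp, rfl⟩ := key y
    exact ⟨Away.mk (deg R x) (f_mem x) d p (by simpa using hp), hE _ _ _⟩
  refine ⟨RingEquiv.ofBijective E ⟨hinj, hsurj⟩, fun r => ?_⟩
  have h0 : algebraMap R (S R x) r ∈ deg R x (0 • 1) := by
    rw [zero_smul]; exact ⟨algebraMap R (R × R') r, rfl⟩
  have h1 : (RingEquiv.ofBijective E ⟨hinj, hsurj⟩).symm (algebraMap R R' r) =
      Away.mk (deg R x) (f_mem x) 0 (algebraMap R (S R x) r) h0 := by
    rw [RingEquiv.symm_apply_eq]
    exact ((hE _ _ h0).trans (AlgHom.commutes _ r)).symm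
  rw [h1, Away.val_mk]
  rw [Localization.mk_eq_mk']
  simp only [pow_zero]
  exact IsLocalization.mk'_one _ _

end Groth.Agent.H21.Homogenize
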