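import Mathlib.RingTheory.ZariskisMainTheorem
import Mathlib.RingTheory.Ideal.GoingUp

/-! Splitting off a finite part of a special fibre inside the integral closure. -/

set_option autoImplicit false

universe u

namespace Groth.Agent.H21.IdemSplit

variable {A B : Type u} [CommRing A] [CommRing B] [Algebra A B]

/-- Elements `x` of the integral closure with `x * b` integral. -/
def J (b : B) : Ideal (integralClosure A B) where
  carrier := {x | (x : B) * b ∈ integralClosure A B}
  zero_mem' := by simp
  add_mem' {x y} hx hy := by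
    simp only [Set.mem_setOf_eq, Subalgebra.coe_add, add_mul] at *
    exact add_mem hx hy
  smul_mem' c x hx := by
    simp only [Set.mem_setOf_eq, smul_eq_mul, Subalgebra.coe_mul, mul_assoc] at *
    exact mul_mem c.2 hx

/-- Elements at which the integral closure agrees with `B`. -/
def K : Ideal (integralClosure A B) := ⨅ b : B, (J b).radical

theorem mem_K {x : integralClosure A B} :
    x ∈ K ↔ ∀ b : B, ∃ n, (x : B) ^ n * b ∈ integralClosure A B := by
  simp only [K, Submodule.mem_iInf]
  exact forall_congr' fun b => ⟨fun ⟨n, hn⟩ => ⟨n, by simpa [J] using hn⟩,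
    fun ⟨n, hn⟩ => ⟨n, by simpa [J] using hn⟩⟩

theorem exists_notMem [Algebra.FiniteType A B] (I : Ideal A) (C : Type u) [CommRing C] [Algebra A C]
    [Module.Finite A C] (π : B →ₐ[A] C) (hπ : Function.Surjective π) (e : B)
    (hker : ∀ x, π x = 0 → e * x ∈ I.map (algebraMap A B)) (he : π e = 1)
    (hI : ∀ i ∈ I, algebraMap A C i = 0)
    (Q : Ideal C) [Q.IsPrime] : ∃ r : integralClosure A B, r ∈ K ∧ π r ∉ Q := by
  let q := Q.comap π.toRingHom
  haveI : q.IsPrime := Ideal.IsPrime.comap _
  have heq : e ∉ q := fun h => by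
    have : π e ∈ Q := h
    rw [he] at this
    exact Ideal.IsPrime.ne_top ‹_› ((Ideal.eq_top_iff_one _).mpr this)
  let p := q.under A
  let T := Localization.AtPrime q ⧸ p.map (algebraMap A (Localization.AtPrime q))
  have hIT : ∀ x ∈ I.map (algebraMap A B), algebraMap B T x = 0 := by
    intro x hx
    have hIp : I ≤ p := fun i hi => by
      show π (algebraMap A B i) ∈ Q
      rw [AlgHom.commutes, hI i hi]; exact Q.zero_mem
    have h1 := Ideal.mem_map_of_mem (algebraMap B (Localization.AtPrime q)) hx
    rw [Ideal.map_map, ← IsScalarTower.algebraMap_eq] at h1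
    rw [IsScalarTower.algebraMap_apply B (Localization.AtPrime q) T]
    exact Ideal.Quotient.eq_zero_iff_mem.mpr (Ideal.map_mono hIp h1)
  have heu : IsUnit (algebraMap B T e) := by
    rw [IsScalarTower.algebraMap_apply B (Localization.AtPrime q) T]
    exact (IsLocalization.map_units (M := q.primeCompl) _ ⟨e, heq⟩).map _
  have hk : ∀ x, π x = 0 → algebraMap B T x = 0 := by
    intro x hx
    have := hIT _ (hker x hx)
    rw [map_mul] at this
    exact heu.mul_right_eq_zero.mp this
  let g : C →ₐ[A] T := AlgHom.liftOfSurjective π hπ (IsScalarTower.toAlgHom A B T) hk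
  have hg : ∀ x, g (π x) = algebraMap B T x := fun x => AlgHom.liftOfSurjective_apply ..
  haveI : Algebra.QuasiFinite A T := by
    refine .of_forall_exists_mul_mem_range g fun y => ?_
    obtain ⟨y, rfl⟩ := Ideal.Quotient.mk_surjective y
    obtain ⟨b, ⟨s, hs⟩, rfl⟩ := IsLocalization.exists_mk'_eq q.primeCompl y
    refine ⟨π s, ?_, π b, ?_⟩
    · rw [hg, IsScalarTower.algebraMap_apply B (Localization.AtPrime q) T]
      exact (IsLocalization.map_units (M := q.primeCompl) _ ⟨s, hs⟩).map _
    · show g (π b) = _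
      rw [hg, hg, IsScalarTower.algebraMap_apply B (Localization.AtPrime q) T b,
        IsScalarTower.algebraMap_apply B (Localization.AtPrime q) T s]
      show Ideal.Quotient.mk _ _ = Ideal.Quotient.mk _ _ * Ideal.Quotient.mk _ _
      rw [← map_mul, IsLocalization.mk'_spec_mk]
  haveI : Algebra.WeaklyQuasiFiniteAt A q := (Algebra.weaklyQuasiFiniteAt_iff q).mpr ‹_›
  obtain ⟨r, hr, hi, H⟩ := Algebra.zariskisMainProperty_iff.mp
    (Algebra.ZariskisMainProperty.of_finiteType_of_weaklyQuasiFiniteAt (R := A) q)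
  exact ⟨⟨r, hi⟩, mem_K.mpr H, hr⟩

theorem exists_lift [Algebra.FiniteType A B] (I : Ideal A) (C : Type u) [CommRing C] [Algebra A C]
    [Module.Finite A C] (π : B →ₐ[A] C) (hπ : Function.Surjective π) (e : B)
    (hker : ∀ x, π x = 0 → e * x ∈ I.map (algebraMap A B)) (he : π e = 1)
    (hI : ∀ i ∈ I, algebraMap A C i = 0) (hidem : e * e - e ∈ I.map (algebraMap A B)) :
    ∃ g : integralClosure A B, g ∈ K ∧
      g * g - g ∈ I.map (algebraMap A (integralClosure A B)) ∧
      (g : B) - e ∈ I.map (algebraMap A B) := by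
  let φ : integralClosure A B →ₐ[A] C := π.comp (integralClosure A B).val
  have hcov : K ⊔ RingHom.ker φ.toRingHom = (⊤ : Ideal (integralClosure A B)) := by
    by_contra hne
    obtain ⟨P, hP, hle⟩ := Ideal.exists_le_maximal _ hne
    letI : Algebra (integralClosure A B) C := φ.toRingHom.toAlgebra
    haveI : IsScalarTower A (integralClosure A B) C :=
      IsScalarTower.of_algebraMap_eq fun a => (φ.commutes a).symm
    haveI : Algebra.IsIntegral A C := Algebra.IsIntegral.of_finite A C
    haveI : Algebra.IsIntegral (integralClosure A B) C := Algebra.IsIntegral.tower_top A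
    obtain ⟨Q, -, hQ, hQP⟩ := Ideal.exists_ideal_over_prime_of_isIntegral (S := C) P ⊥
      (le_sup_right.trans hle)
    haveI := hQ
    obtain ⟨r, hrK, hr⟩ := exists_notMem I C π hπ e hker he hI Q
    have : r ∈ P := hle (Ideal.mem_sup_left hrK)
    rw [← hQP] at this
    exact hr this
  obtain ⟨k, hk, j, hj, hkj⟩ := Submodule.mem_sup.mp ((Ideal.eq_top_iff_one _).mp hcov)
  have hek : e * ((k : B) - 1) ∈ I.map (algebraMap A B) := by
    apply hker
    have : π ((k : B) + j) = 1 := by
      rw [← Subalgebra.coe_add, hkj, OneMemClass.coe_one, map_one]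
    rw [map_add, show π (j : B) = 0 from hj, add_zero] at this
    rw [map_sub, map_one, this, sub_self]
  obtain ⟨n, hn⟩ := mem_K.mp hk e
  let M : Ideal B := I.map (algebraMap A B)
  have hE : Ideal.Quotient.mk M e * Ideal.Quotient.mk M (k : B) = Ideal.Quotient.mk M e := by
    rw [← map_mul, Ideal.Quotient.eq]
    convert hek using 1; ring
  let k1 : integralClosure A B := k * ⟨(k : B) ^ n * e, hn⟩
  have hk1K : k1 ∈ K := K.mul_mem_right _ hk
  have hk1 : Ideal.Quotient.mk M (k1 : B) = Ideal.Quotient.mk M e := by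
    have : ∀ m, Ideal.Quotient.mk M e * Ideal.Quotient.mk M (k : B) ^ m = Ideal.Quotient.mk M e := by
      intro m; induction m with
      | zero => simp
      | succ m ih => rw [pow_succ, ← mul_assoc, ih, hE]
    calc Ideal.Quotient.mk M (k1 : B)
        = Ideal.Quotient.mk M e * Ideal.Quotient.mk M (k : B) ^ (n + 1) := by
          simp only [k1, Subalgebra.coe_mul, map_mul, map_pow]; ring
      _ = _ := this _
  have hidem' : Ideal.Quotient.mk M e * Ideal.Quotient.mk M e = Ideal.Quotient.mk M e := by
    rw [← map_mul, Ideal.Quotient.eq]; exact hidem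
  have hz : (k1 : B) * k1 - k1 ∈ M := by
    rw [← Ideal.Quotient.eq, map_mul, hk1, hidem']
  have key : ∀ z ∈ M, ∃ m, ∃ w ∈ I.map (algebraMap A (integralClosure A B)),
      (w : B) = (k1 : B) ^ m * z := by
    intro z hz
    induction hz using Submodule.span_induction with
    | mem x hx =>
      obtain ⟨i, hi, rfl⟩ := hx
      exact ⟨0, algebraMap A _ i, Ideal.mem_map_of_mem _ hi, by simp⟩
    | zero => exact ⟨0, 0, zero_mem _, by simp⟩
    | add x y _ _ hx hy =>
      obtain ⟨a, v, hv, hv'⟩ := hx
      obtain ⟨b, w, hw, hw'⟩ := hy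
      refine ⟨a + b, k1 ^ b * v + k1 ^ a * w, add_mem (Ideal.mul_mem_left _ _ hv) (Ideal.mul_mem_left _ _ hw), ?_⟩
      simp only [Subalgebra.coe_add, Subalgebra.coe_mul, Subalgebra.coe_pow, hv', hw']
      ring
    | smul c x _ hx =>
      obtain ⟨a, v, hv, hv'⟩ := hx
      obtain ⟨b, hb⟩ := mem_K.mp hk1K c
      refine ⟨b + a, ⟨_, hb⟩ * v, Ideal.mul_mem_left _ _ hv, ?_⟩
      simp only [Subalgebra.coe_mul, hv', smul_eq_mul]
      ring
  obtain ⟨m, w, hw, hw'⟩ := key _ hz
  have h1 : k1 ^ (m + 2) - k1 ^ (m + 1) ∈ I.map (algebraMap A (integralClosure A B)) := by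
    convert hw using 1
    apply Subtype.ext
    simp only [Subalgebra.coe_sub, Subalgebra.coe_pow, hw']
    ring
  refine ⟨k1 ^ (m + 1), K.pow_mem_of_mem hk1K _ m.succ_pos, ?_, ?_⟩
  · let N := I.map (algebraMap A (integralClosure A B))
    have hs : ∀ t, Ideal.Quotient.mk N (k1 ^ (m + 1 + t)) = Ideal.Quotient.mk N (k1 ^ (m + 1)) := by
      intro t; induction t with
      | zero => rfl
      | succ t ih =>
        rw [show m + 1 + (t + 1) = (m + 1 + t) + 1 from rfl, pow_succ, map_mul, ih, ← map_mul,
          ← pow_succ]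
        exact Ideal.Quotient.eq.mpr h1
    rw [← Ideal.Quotient.eq, ← pow_add]
    exact hs _
  · rw [← Ideal.Quotient.eq, Subalgebra.coe_pow, map_pow, hk1]
    exact IsIdempotentElem.pow_succ_eq m hidem'

theorem bijective {g : integralClosure A B} (hg : g ∈ K) :
    Function.Bijective (algebraMap (Localization.Away g)
      (Localization (Algebra.algebraMapSubmonoid B (Submonoid.powers g)))) := by
  haveI : IsScalarTower (integralClosure A B) (Localization.Away g)
      (Localization (Algebra.algebraMapSubmonoid B (Submonoid.powers g))) :=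
    IsScalarTower.of_algebraMap_eq fun x =>
      (IsLocalization.map_eq (M := Submonoid.powers g) (g := algebraMap (integralClosure A B) B)
        (T := Algebra.algebraMapSubmonoid B (Submonoid.powers g))
        (Submonoid.powers g).le_comap_map x).symm
  constructor
  · rw [injective_iff_map_eq_zero]
    intro a ha
    obtain ⟨x, s, rfl⟩ := IsLocalization.exists_mk'_eq (Submonoid.powers g) a
    rw [IsLocalization.algebraMap_mk' B, IsLocalization.mk'_eq_zero_iff] at ha
    obtain ⟨⟨_, ⟨_, ⟨m, rfl⟩, rfl⟩⟩, hm⟩ := ha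
    refine (IsLocalization.mk'_eq_zero_iff ..).mpr ⟨⟨g ^ m, m, rfl⟩, ?_⟩
    exact Subtype.ext (by simpa using hm)
  · intro y
    obtain ⟨b, ⟨_, ⟨_, ⟨j, rfl⟩, rfl⟩⟩, rfl⟩ :=
      IsLocalization.exists_mk'_eq (Algebra.algebraMapSubmonoid B (Submonoid.powers g)) y
    obtain ⟨n, hn⟩ := mem_K.mp hg b
    refine ⟨IsLocalization.mk' _ (⟨_, hn⟩ : integralClosure A B)
      (⟨g ^ (n + j), n + j, rfl⟩ : Submonoid.powers g), ?_⟩
    rw [IsLocalization.algebraMap_mk' B]
    refine IsLocalization.mk'_eq_of_eq ?_
    simp only [map_pow, Subalgebra.algebraMap_def, Algebra.algebraMap_self, RingHom.id_apply]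
    ring

end Groth.Agent.H21.IdemSplit
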