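import Groth.Agent.H47.FlatModel
import Groth.Agent.S6883

/-! Flatness descends along injective integral maps. -/

set_option autoImplicit false

universe u

open TensorProduct

namespace Groth.Agent.H21.IntegralFlat

open Groth.Agent.H47

theorem flat_of_integral (R S : Type u) [CommRing R] [CommRing S] [Algebra R S]
    [Algebra.IsIntegral R S] (hinj : Function.Injective (algebraMap R S))
    (B : Type u) [CommRing B] [Algebra R B] [Algebra.FinitePresentation R B]
    (M : Type u) [AddCommGroup M] [Module B M] [Module R M] [IsScalarTower R B M]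
    [Module.FinitePresentation B M] [Module.Flat S (S ⊗[R] M)] : Module.Flat R M := by
  classical
  rcases subsingleton_or_nontrivial R with hR | hR
  · haveI := Module.subsingleton R M
    infer_instance
  obtain ⟨R₀, hfg, n, m, T₀, ⟨e⟩⟩ := FlatModel.exists_model R B M
  haveI : Algebra.FiniteType ℤ R₀ := R₀.fg_iff_finiteType.1 hfg
  haveI : IsNoetherianRing R₀ := Algebra.FiniteType.isNoetherianRing ℤ R₀
  have hS : Module.Flat S (S ⊗[R₀] FlatStage.Pres T₀) :=
    (FlatStage.flat_baseChange_of_equiv T₀ e).mp inferInstance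
  obtain ⟨C, ⟨s, hs⟩, hC⟩ := FlatModel.exists_fg_subalgebra_flat T₀ S hS
  choose p hp hp' using fun x : S => Algebra.IsIntegral.isIntegral (R := R) x
  let coef : Finset R := s.biUnion fun x => (Finset.range ((p x).natDegree + 1)).image (p x).coeff
  let R₁ : Subalgebra R₀ R := Algebra.adjoin R₀ (coef : Set R)
  haveI : Algebra.FiniteType R₀ R₁ := R₁.fg_iff_finiteType.1 ⟨coef, rfl⟩
  haveI : IsNoetherianRing R₁ := Algebra.FiniteType.isNoetherianRing R₀ R₁
  let S₁ : Subalgebra R₁ S := Algebra.adjoin R₁ (s : Set S)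
  have hint : ∀ x ∈ (s : Set S), IsIntegral R₁ x := by
    intro x hx
    have hle : ((p x).coeffs : Set R) ⊆ Set.range R₁.val := by
      intro r hr
      obtain ⟨k, hk, rfl⟩ := Polynomial.mem_coeffs_iff.1 hr
      refine ⟨⟨_, Algebra.subset_adjoin (Finset.mem_biUnion.2 ⟨x, hx, Finset.mem_image.2
        ⟨k, Finset.mem_range.2 (Nat.lt_succ_of_le (Polynomial.le_natDegree_of_mem_supp _ hk)), rfl⟩⟩)⟩, rfl⟩
    obtain ⟨q, hq, -, hqm⟩ := Polynomial.lifts_and_degree_eq_and_monic
      (f := R₁.val.toRingHom) ((Polynomial.lifts_iff_coeffs_subset_range _).mpr hle) (hp x)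
    refine ⟨q, hqm, ?_⟩
    have := hp' x
    rw [← hq, Polynomial.eval₂_map] at this
    exact this
  haveI : Module.Finite R₁ S₁ := Module.Finite.iff_fg.mpr (fg_adjoin_of_finite s.finite_toSet hint)
  haveI : IsNoetherianRing S₁ := Algebra.FiniteType.isNoetherianRing R₁ S₁
  have hCS : C ≤ S₁.restrictScalars R₀ := hs ▸ Algebra.adjoin_le Algebra.subset_adjoin
  letI : Algebra C S₁ := (Subalgebra.inclusion hCS).toRingHom.toAlgebra
  haveI : IsScalarTower R₀ C S₁ :=
    IsScalarTower.of_algebraMap_eq fun r => ((Subalgebra.inclusion hCS).commutes r).symm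
  have hS₁ : Module.Flat S₁ (S₁ ⊗[R₀] FlatStage.Pres T₀) :=
    FlatAdic.flat_of_tower (A := R₀) C S₁
  haveI : Module.Flat S₁ (S₁ ⊗[R₁] (R₁ ⊗[R₀] FlatStage.Pres T₀)) :=
    Module.Flat.of_linearEquiv (AlgebraTensorModule.cancelBaseChange R₀ R₁ S₁ S₁ (FlatStage.Pres T₀))
  have h1 : Module.Flat R₁ (R₁ ⊗[R₀] FlatStage.Pres T₀) :=
    Groth.Agent.S6883.result R₁ S₁ (fun a b h => Subtype.ext (hinj (congrArg Subtype.val h)))
      (R₁ ⊗[R₀] FlatStage.Pres T₀)
  have h2 : Module.Flat R (R ⊗[R₀] FlatStage.Pres T₀) := FlatAdic.flat_of_tower (A := R₀) R₁ R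
  exact Module.Flat.of_linearEquiv e.symm

end Groth.Agent.H21.IntegralFlat
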