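import Groth.Agent.Lib.Henselian.QuasiFinite
import Mathlib.Algebra.Polynomial.Reverse
import Mathlib.RingTheory.ZariskisMainTheorem

/-! Ideals of `R[s]` comaximal to `m` and the localisation at monic polynomials. -/

set_option autoImplicit false

universe u

open Polynomial IsLocalRing

namespace Groth.Agent.H21.InvLine

variable {R : Type u} [CommRing R]

/-- A monic polynomial is invertible modulo an ideal comaximal with `mR[X]`. -/
theorem exists_inv_mod [IsLocalRing R] (I : Ideal R[X])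
    (hI : I ⊔ (maximalIdeal R).map (algebraMap R R[X]) = ⊤) {Q : R[X]} (hQ : Q.Monic) :
    ∃ Q' : R[X], Q * Q' - 1 ∈ I := by
  suffices h : I ⊔ Ideal.span {Q} = ⊤ by
    obtain ⟨a, ha, b, hb, hab⟩ := Submodule.mem_sup.mp ((Ideal.eq_top_iff_one _).mp h)
    obtain ⟨c, rfl⟩ := Ideal.mem_span_singleton'.mp hb
    refine ⟨c, ?_⟩
    rw [show Q * c - 1 = -a by rw [← hab]; ring]
    exact I.neg_mem ha
  by_contra hne
  obtain ⟨M, hM, hle⟩ := Ideal.exists_le_maximal _ hne
  have hQM : Q ∈ M := hle (Ideal.mem_sup_right (Ideal.mem_span_singleton_self Q))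
  haveI := hQ.finite_adjoinRoot
  let π : AdjoinRoot Q →ₐ[R] R[X] ⧸ M := Ideal.Quotient.liftₐ _ (Ideal.Quotient.mkₐ R M)
    (fun a ha => Ideal.Quotient.eq_zero_iff_mem.mpr
      ((Ideal.span_le.mpr (Set.singleton_subset_iff.mpr hQM)) ha))
  have hπ : Function.Surjective π := fun y => by
    obtain ⟨y, rfl⟩ := Ideal.Quotient.mk_surjective y
    exact ⟨AdjoinRoot.mk Q y, rfl⟩
  haveI : Module.Finite R (R[X] ⧸ M) := Module.Finite.of_surjective π.toLinearMap hπ
  haveI : Algebra.IsIntegral R (R[X] ⧸ M) := Algebra.IsIntegral.of_finite R _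
  letI := Ideal.Quotient.field M
  have hmax : ((⊥ : Ideal (R[X] ⧸ M)).comap (algebraMap R (R[X] ⧸ M))).IsMaximal :=
    Ideal.isMaximal_comap_of_isIntegral_of_isMaximal ⊥
  have hm : (maximalIdeal R).map (algebraMap R R[X]) ≤ M := by
    rw [Ideal.map_le_iff_le_comap]
    intro r hr
    have := IsLocalRing.eq_maximalIdeal hmax
    rw [← this, Ideal.mem_comap, Submodule.mem_bot] at hr
    exact Ideal.mem_comap.mpr (Ideal.Quotient.eq_zero_iff_mem.mp
      (hr : Ideal.Quotient.mk M (algebraMap R R[X] r) = 0))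
  exact hM.ne_top (eq_top_iff.mpr (hI ▸ sup_le (le_sup_left.trans hle) hm))

/-- An ideal saturated for monic polynomials with finite closed fibre is comaximal to `mR[X]`. -/
theorem sup_eq_top_of_saturated [HenselianLocalRing R] (I : Ideal R[X])
    (hsat : ∀ Q x : R[X], Q.Monic → Q * x ∈ I → x ∈ I) {Q₀ : R[X]} (hQ₀ : Q₀.Monic)
    (hmem : Q₀ ∈ I ⊔ (maximalIdeal R).map (algebraMap R R[X])) :
    I ⊔ (maximalIdeal R).map (algebraMap R R[X]) = ⊤ := by
  by_contra hne
  let J := I ⊔ (maximalIdeal R).map (algebraMap R R[X])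
  obtain ⟨M, hM, hle⟩ := Ideal.exists_le_maximal _ hne
  let A := R[X] ⧸ I
  let mk : R[X] →+* A := Ideal.Quotient.mk I
  let q : Ideal A := M.map mk
  have hqc : q.comap mk = M := by
    rw [Ideal.comap_map_of_surjective _ Ideal.Quotient.mk_surjective, ← RingHom.ker_eq_comap_bot,
      Ideal.mk_ker, sup_eq_left.mpr (le_sup_left.trans hle)]
  haveI hq : q.IsPrime := Ideal.map_isPrime_of_surjective (hf := Ideal.Quotient.mk_surjective)
    (by rw [Ideal.mk_ker]; exact le_sup_left.trans hle)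
  have hqR : q.under R = maximalIdeal R := by
    refine ((maximalIdeal.isMaximal R).eq_of_le (Ideal.IsPrime.ne_top inferInstance) fun r hr => ?_).symm
    show mk (algebraMap R R[X] r) ∈ q
    exact Ideal.mem_map_of_mem _ (hle (Ideal.mem_sup_right (Ideal.mem_map_of_mem _ hr)))
  haveI : q.LiesOver (maximalIdeal R) := ⟨hqR.symm⟩
  have hF : Module.Finite R (A ⧸ (q.under R).map (algebraMap R A)) := by
    rw [hqR]
    haveI := hQ₀.finite_adjoinRoot
    let π : AdjoinRoot Q₀ →ₐ[R] A ⧸ (maximalIdeal R).map (algebraMap R A) :=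
      Ideal.Quotient.liftₐ _ ((Ideal.Quotient.mkₐ R _).comp (Ideal.Quotient.mkₐ R I)) fun a ha => by
        obtain ⟨c, rfl⟩ := Ideal.mem_span_singleton'.mp ha
        obtain ⟨i, hi, y, hy, hiy⟩ := Submodule.mem_sup.mp hmem
        show Ideal.Quotient.mk _ (mk (c * Q₀)) = 0
        rw [Ideal.Quotient.eq_zero_iff_mem, ← hiy, mul_add, map_add,
          show mk (c * i) = 0 from Ideal.Quotient.eq_zero_iff_mem.mpr (I.mul_mem_left _ hi), zero_add]
        have := Ideal.mem_map_of_mem mk (Ideal.mul_mem_left _ c hy)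
        rwa [Ideal.map_map] at this
    have hπ : Function.Surjective π := fun z => by
      obtain ⟨z, rfl⟩ := Ideal.Quotient.mk_surjective z
      obtain ⟨z, rfl⟩ := Ideal.Quotient.mk_surjective z
      exact ⟨AdjoinRoot.mk Q₀ z, rfl⟩
    exact Module.Finite.of_surjective π.toLinearMap hπ
  haveI : Algebra.FiniteType R A := inferInstance
  haveI : Algebra.WeaklyQuasiFiniteAt R q :=
    by have : Algebra.QuasiFinite R (A ⧸ (q.under R).map (algebraMap R A)) := inferInstance
       exact inferInstance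
  haveI : Algebra.QuasiFiniteAt R q := Algebra.QuasiFiniteAt.of_weaklyQuasiFiniteAt q
  obtain ⟨e, he, heq, hfin⟩ := Lib.Henselian.QuasiFinite.exists_idempotent_of_quasiFiniteAt (R := R) q
  obtain ⟨χ, hχ, hχ'⟩ := (Algebra.IsIntegral.of_finite R (A ⧸ Ideal.span ({1 - e} : Set A))).isIntegral
    (Ideal.Quotient.mk _ (mk X))
  obtain ⟨e', rfl⟩ := Ideal.Quotient.mk_surjective e
  refine heq ?_
  suffices h : mk e' = 0 by rw [h]; exact q.zero_mem
  rw [Ideal.Quotient.eq_zero_iff_mem]
  refine hsat χ e' hχ (Ideal.Quotient.eq_zero_iff_mem.mp ?_)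
  have h1 : Ideal.Quotient.mk (Ideal.span ({1 - mk e'} : Set A)) (mk χ) = 0 := by
    rw [← hχ']
    show ((Ideal.Quotient.mkₐ R (Ideal.span ({1 - mk e'} : Set A))).comp (Ideal.Quotient.mkₐ R I)) χ = _
    rw [← aeval_def, ← aeval_X_left_apply χ, ← aeval_algHom_apply]
    simp only [aeval_X_left_apply]
    rfl
  obtain ⟨c, hc⟩ := Ideal.mem_span_singleton'.mp (Ideal.Quotient.eq_zero_iff_mem.mp h1)
  rw [map_mul, ← hc, mul_assoc, sub_mul, one_mul, he.eq, sub_self, mul_zero]

variable (R) in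
/-- The hypotheses on `ψ : R[s] → L`. -/
structure IsMonicLoc {L : Type u} [CommRing L] (ψ : R[X] →+* L) : Prop where
  isUnit : ∀ Q : R[X], Q.Monic → IsUnit (ψ Q)
  surj : ∀ l : L, ∃ Q P : R[X], Q.Monic ∧ ψ Q * l = ψ P
  ker : ∀ y : R[X], ψ y = 0 → ∃ Q : R[X], Q.Monic ∧ Q * y = 0

theorem exists_of_mem_map {L : Type u} [CommRing L] {ψ : R[X] →+* L} (h : IsMonicLoc R ψ)
    {I : Ideal R[X]} {l : L} (hl : l ∈ I.map ψ) :
    ∃ Q : R[X], Q.Monic ∧ ∃ i ∈ I, ψ Q * l = ψ i := by
  induction hl using Submodule.span_induction with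
  | mem x hx => obtain ⟨i, hi, rfl⟩ := hx; exact ⟨1, monic_one, i, hi, by rw [map_one, one_mul]⟩
  | zero => exact ⟨1, monic_one, 0, I.zero_mem, by rw [mul_zero, map_zero]⟩
  | add x y _ _ hx hy =>
    obtain ⟨Q, hQ, i, hi, hi'⟩ := hx
    obtain ⟨Q', hQ', j, hj, hj'⟩ := hy
    refine ⟨Q * Q', hQ.mul hQ', Q' * i + Q * j,
      add_mem (I.mul_mem_left _ hi) (I.mul_mem_left _ hj), ?_⟩
    rw [map_add, map_mul, map_mul, map_mul, ← hi', ← hj']; ring
  | smul c x _ hx =>
    obtain ⟨Q, hQ, i, hi, hi'⟩ := hx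
    obtain ⟨Q', P, hQ', hP⟩ := h.surj c
    refine ⟨Q' * Q, hQ'.mul hQ, P * i, I.mul_mem_left _ hi, ?_⟩
    rw [map_mul, map_mul, ← hi', ← hP, smul_eq_mul]; ring

theorem main [HenselianLocalRing R] {L : Type u} [CommRing L] [Algebra R L] (ψ : R[X] →ₐ[R] L)
    (h : IsMonicLoc R ψ.toRingHom) :
    (∀ I : Ideal R[X], I ⊔ (maximalIdeal R).map (algebraMap R R[X]) = ⊤ →
        (I.map ψ.toRingHom).comap ψ.toRingHom = I ∧
        I.map ψ.toRingHom ⊔ (maximalIdeal R).map (algebraMap R L) = ⊤ ∧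
        Function.Bijective (Ideal.quotientMap (I.map ψ.toRingHom) ψ.toRingHom Ideal.le_comap_map)) ∧
    (∀ J : Ideal L, J ⊔ (maximalIdeal R).map (algebraMap R L) = ⊤ →
        (J.comap ψ.toRingHom).map ψ.toRingHom = J ∧
        J.comap ψ.toRingHom ⊔ (maximalIdeal R).map (algebraMap R R[X]) = ⊤) := by
  have hm : ((maximalIdeal R).map (algebraMap R R[X])).map ψ.toRingHom =
      (maximalIdeal R).map (algebraMap R L) := by
    rw [Ideal.map_map, AlgHom.toRingHom_eq_coe, AlgHom.comp_algebraMap]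
  constructor
  · intro I hI
    have hc : (I.map ψ.toRingHom).comap ψ.toRingHom = I := by
      refine le_antisymm (fun x hx => ?_) Ideal.le_comap_map
      obtain ⟨Q, hQ, i, hi, hi'⟩ := exists_of_mem_map h hx
      rw [← map_mul, ← sub_eq_zero, ← map_sub] at hi'
      obtain ⟨Q₁, hQ₁, hQ₁'⟩ := h.ker _ hi'
      obtain ⟨Q', hQ'⟩ := exists_inv_mod I hI (hQ₁.mul hQ)
      have : x = Q₁ * i * Q' - x * (Q₁ * Q * Q' - 1) := by
        linear_combination Q' * hQ₁'
      rw [this]
      exact sub_mem (I.mul_mem_right _ (I.mul_mem_left _ hi)) (I.mul_mem_left _ hQ')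
    refine ⟨hc, ?_, ?_, ?_⟩
    · rw [← hm, ← Ideal.map_sup, hI, Ideal.map_top]
    · exact Ideal.quotientMap_injective' hc.le
    · intro z
      obtain ⟨l, rfl⟩ := Ideal.Quotient.mk_surjective z
      obtain ⟨Q, P, hQ, hP⟩ := h.surj l
      obtain ⟨Q', hQ'⟩ := exists_inv_mod I hI hQ
      refine ⟨Ideal.Quotient.mk I (P * Q'), ?_⟩
      rw [Ideal.quotientMap_mk, Ideal.Quotient.eq, map_mul, ← hP]
      have := Ideal.mem_map_of_mem ψ.toRingHom hQ'
      rw [map_sub, map_mul, map_one] at this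
      convert Ideal.mul_mem_left _ l this using 1
      ring
  · intro J hJ
    have hc : (J.comap ψ.toRingHom).map ψ.toRingHom = J := by
      refine le_antisymm Ideal.map_comap_le fun l hl => ?_
      obtain ⟨Q, P, hQ, hP⟩ := h.surj l
      obtain ⟨u, hu⟩ := h.isUnit Q hQ
      have : ψ.toRingHom P ∈ J := hP ▸ J.mul_mem_left _ hl
      have h2 := Ideal.mul_mem_left _ (↑u⁻¹ : L) (Ideal.mem_map_of_mem ψ.toRingHom
        (show P ∈ J.comap ψ.toRingHom from this))
      rwa [← hP, ← hu, Units.inv_mul_cancel_left] at h2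
    refine ⟨hc, ?_⟩
    obtain ⟨j, hj, y, hy, hjy⟩ := Submodule.mem_sup.mp ((Ideal.eq_top_iff_one _).mp hJ)
    rw [← hm] at hy
    obtain ⟨Q, hQ, i, hi, hi'⟩ := exists_of_mem_map h hy
    refine sup_eq_top_of_saturated _ (fun Q' x hQ' hx => ?_) hQ ?_
    · show ψ.toRingHom x ∈ J
      obtain ⟨u, hu⟩ := h.isUnit Q' hQ'
      have h2 : ψ.toRingHom Q' * ψ.toRingHom x ∈ J := by rw [← map_mul]; exact hx
      have h3 := J.mul_mem_left (↑u⁻¹ : L) h2
      rwa [← hu, Units.inv_mul_cancel_left] at h3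
    · rw [show Q = (Q - i) + i by ring]
      refine Submodule.mem_sup.mpr ⟨Q - i, ?_, i, hi, rfl⟩
      show ψ.toRingHom (Q - i) ∈ J
      rw [map_sub, ← hi', show ψ.toRingHom Q - ψ.toRingHom Q * y = ψ.toRingHom Q * j by
        linear_combination ψ.toRingHom Q * hjy.symm]
      exact J.mul_mem_left _ hj

theorem isMonicLoc_of_isLocalization {L : Type u} [CommRing L] [Algebra R[X] L]
    [IsLocalization (Submonoid.closure ({f : R[X] | f.coeff 0 = 1} ∪ {X})) L]
    [Algebra R L] [IsScalarTower R R[X] L]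
    (ψ : R[X] →ₐ[R] L) (hψ : ψ X * algebraMap R[X] L X = 1) : IsMonicLoc R ψ.toRingHom := by
  let t : L := algebraMap R[X] L X
  letI : Invertible t := ⟨ψ X, hψ, by rw [mul_comm]; exact hψ⟩
  have key : ∀ (N : ℕ) (f : R[X]), f.natDegree ≤ N →
      ψ (reflect N f) * t ^ N = algebraMap R[X] L f := by
    intro N f hf
    have h := eval₂_reflect_mul_pow (algebraMap R L) t N f hf
    rw [← aeval_def, ← aeval_def] at h
    rw [show algebraMap R[X] L f = aeval t f by
      rw [← IsScalarTower.coe_toAlgHom' R R[X] L, show t = IsScalarTower.toAlgHom R R[X] L X from rfl,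
        aeval_algHom_apply, aeval_X_left_apply], ← h]
    congr 1
    show _ = aeval (ψ X) _
    rw [aeval_algHom_apply, aeval_X_left_apply]
  have ht : IsUnit t := isUnit_of_invertible t
  have hM : ∀ p ∈ Submonoid.closure ({f : R[X] | f.coeff 0 = 1} ∪ {X}),
      ∃ (a : ℕ) (g : R[X]), g.coeff 0 = 1 ∧ p = X ^ a * g := by
    intro p hp
    induction hp using Submonoid.closure_induction with
    | mem x hx =>
      rcases hx with hx | hx
      · exact ⟨0, x, hx, by simp⟩
      · exact ⟨1, 1, by simp, by simp [Set.mem_singleton_iff.mp hx]⟩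
    | one => exact ⟨0, 1, by simp, by simp⟩
    | mul x y _ _ hx hy =>
      obtain ⟨a, g, hg, rfl⟩ := hx
      obtain ⟨b, g', hg', rfl⟩ := hy
      exact ⟨a + b, g * g', by rw [mul_coeff_zero, hg, hg', one_mul], by ring⟩
  have hmonic : ∀ (N : ℕ) (g : R[X]), g.natDegree ≤ N → g.coeff 0 = 1 → (reflect N g).Monic := by
    intro N g hg hg0
    refine monic_of_natDegree_le_of_coeff_eq_one N ?_ (by rw [coeff_reflect, revAt_le le_rfl, Nat.sub_self, hg0])
    exact (natDegree_le_iff_coeff_eq_zero).mpr fun i hi => by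
      rw [coeff_reflect, revAt_eq_self_of_lt hi]
      exact coeff_eq_zero_of_natDegree_lt (hg.trans_lt hi)
  refine ⟨fun Q hQ => ?_, fun l => ?_, fun y hy => ?_⟩
  · have h0 : (reflect Q.natDegree Q).coeff 0 = 1 := by
      rw [coeff_reflect, revAt_le (Nat.zero_le _), Nat.sub_zero]; exact hQ
    have hdeg : (reflect Q.natDegree Q).natDegree ≤ Q.natDegree :=
      natDegree_le_iff_coeff_eq_zero.mpr fun i hi => by
        rw [coeff_reflect, revAt_eq_self_of_lt hi]
        exact coeff_eq_zero_of_natDegree_lt hi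
    have h1 : IsUnit (algebraMap R[X] L (reflect Q.natDegree Q)) :=
      IsLocalization.map_units (M := Submonoid.closure ({f : R[X] | f.coeff 0 = 1} ∪ {X})) L
        ⟨_, Submonoid.subset_closure (Or.inl h0)⟩
    rw [← key _ _ hdeg] at h1
    have hinv : reflect Q.natDegree (reflect Q.natDegree Q) = Q := by
      ext i; simp only [coeff_reflect, revAt_invol]
    rw [hinv] at h1
    exact isUnit_of_mul_isUnit_left h1
  · obtain ⟨⟨p, ⟨m, hm⟩⟩, hl⟩ := IsLocalization.surj (Submonoid.closure ({f : R[X] | f.coeff 0 = 1} ∪ {X})) l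
    obtain ⟨a, g, hg, rfl⟩ := hM m hm
    let N := max p.natDegree g.natDegree
    refine ⟨reflect N g, reflect (N + a) p, hmonic N g (le_max_right _ _) hg, ?_⟩
    show ψ _ * l = ψ _
    have h1 := key (N + a) p ((le_max_left _ _).trans (Nat.le_add_right _ _))
    have h2 := key N g (le_max_right _ _)
    rw [← (ht.pow (N + a)).mul_left_inj, h1, ← hl]
    simp only [map_mul, map_pow, ← h2]
    ring
  · let N := y.natDegree
    have hdeg : (reflect N y).natDegree ≤ N :=
      natDegree_le_iff_coeff_eq_zero.mpr fun i hi => by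
        rw [coeff_reflect, revAt_eq_self_of_lt hi]
        exact coeff_eq_zero_of_natDegree_lt hi
    have hinv : reflect N (reflect N y) = y := by
      ext i; simp only [coeff_reflect, revAt_invol]
    have h0 : algebraMap R[X] L (reflect N y) = 0 := by
      rw [← key N _ hdeg, hinv, show ψ y = 0 from hy, zero_mul]
    obtain ⟨⟨m, hm⟩, hmy⟩ := (IsLocalization.map_eq_zero_iff
      (Submonoid.closure ({f : R[X] | f.coeff 0 = 1} ∪ {X})) L _).mp h0
    obtain ⟨a, g, hg, rfl⟩ := hM m hm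
    refine ⟨reflect g.natDegree g, hmonic _ g le_rfl hg, ?_⟩
    have h1 : X ^ a * (g * reflect N y) = 0 := by rw [← mul_assoc]; exact hmy
    have h2 : g * reflect N y = 0 := (monic_X_pow a).isRegular.left (by simpa using h1)
    calc reflect g.natDegree g * y = reflect g.natDegree g * reflect N (reflect N y) := by rw [hinv]
      _ = reflect (g.natDegree + N) (g * reflect N y) := (reflect_mul _ _ le_rfl hdeg).symm
      _ = 0 := by rw [h2, reflect_zero]

end Groth.Agent.H21.InvLine
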