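import Groth.Prelude.Def_Hens2
import Groth.Agent.H21.InvLine
import Groth.Agent.Lib.Henselian.PairUP
import Groth.Agent.Lib.Henselian.QuasiFinite
import Mathlib.Algebra.Polynomial.Reverse
import Mathlib.RingTheory.ZariskisMainTheorem

/-! The line at infinity of a henselization along `t = 0`. -/

set_option autoImplicit false

universe u

open Polynomial IsLocalRing
open Groth.Agent.Lib.Henselian.Basic Groth.Agent.Lib.Henselian.Pair
open Groth.Agent.Lib.Henselian.PairHenselization

namespace Groth.Agent.H21.InvLineHens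

variable {R : Type u} [CommRing R]

/-- Reflection identity. -/
theorem aeval_reflect {S : Type u} [CommRing S] [Algebra R S] {x y : S} (h : y * x = 1)
    {N : ℕ} {f : R[X]} (hf : f.natDegree ≤ N) : aeval y (reflect N f) * x ^ N = aeval x f := by
  letI : Invertible x := ⟨y, h, by rw [mul_comm]; exact h⟩
  exact eval₂_reflect_mul_pow (algebraMap R S) x N f hf

theorem natDegree_reflect_le {N : ℕ} {f : R[X]} (hf : f.natDegree ≤ N) :
    (reflect N f).natDegree ≤ N :=
  natDegree_le_iff_coeff_eq_zero.mpr fun i hi => by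
    rw [coeff_reflect, revAt_eq_self_of_lt hi]
    exact coeff_eq_zero_of_natDegree_lt (hf.trans_lt hi)

theorem reflect_reflect (N : ℕ) (f : R[X]) : reflect N (reflect N f) = f := by
  ext i; simp only [coeff_reflect, revAt_invol]

theorem idem_eq_zero {A : Type u} [CommRing A] {a : A} (ha : IsIdempotentElem a)
    (h : a ∈ (⊥ : Ideal A).jacobson) : a = 0 := by
  have h1 : IsUnit (a * -1 + 1) := Ideal.mem_jacobson_bot.mp h (-1)
  refine (IsUnit.mul_left_eq_zero h1).mp ?_
  rw [mul_add, mul_one, ← mul_assoc, ha.eq]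
  ring

/-- Monic polynomials with distinguished reduction. -/
structure Dist [IsLocalRing R] (N : ℕ) (χ : R[X]) : Prop where
  monic : χ.Monic
  deg : χ.natDegree ≤ N
  top : χ.coeff N = 1
  low : ∀ k, k < N → χ.coeff k ∈ maximalIdeal R

theorem Dist.sub_mem [IsLocalRing R] {N : ℕ} {χ : R[X]} (h : Dist N χ) :
    χ - X ^ N ∈ (maximalIdeal R).map (algebraMap R R[X]) := by
  rw [Polynomial.algebraMap_eq, Ideal.mem_map_C_iff]
  intro k
  rw [coeff_sub, coeff_X_pow]
  rcases lt_trichotomy k N with hk | rfl | hk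
  · rw [if_neg hk.ne, sub_zero]; exact h.low k hk
  · rw [if_pos rfl, h.top, sub_self]; exact zero_mem _
  · rw [if_neg hk.ne', sub_zero, coeff_eq_zero_of_natDegree_lt (h.deg.trans_lt hk)]; exact zero_mem _

variable [HenselianLocalRing R] {B : Type u} [CommRing B] [Algebra R B] [Algebra R[X] B]
  [IsScalarTower R R[X] B]

theorem map_le_jacobson (hB : Hens2.IsPairHenselization R[X] (Ideal.span {(X : R[X])}) B) :
    (maximalIdeal R).map (algebraMap R B) ≤ (⊥ : Ideal B).jacobson := by
  rw [Ideal.map_le_iff_le_comap]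
  intro r hr
  show algebraMap R B r ∈ (⊥ : Ideal B).jacobson
  rw [Ideal.jacobson, Ideal.mem_sInf]
  rintro M ⟨-, hM⟩
  have hτ : (Ideal.span {(X : R[X])}).map (algebraMap R[X] B) ≤ M :=
    hB.1.jac.trans (sInf_le ⟨bot_le, hM⟩)
  let φ : R →+* B ⧸ M := (Ideal.Quotient.mk M).comp (algebraMap R B)
  have hφ : Function.Surjective φ := fun z => by
    obtain ⟨b, rfl⟩ := Ideal.Quotient.mk_surjective z
    obtain ⟨p, hp⟩ := (Lib.Henselian.PairUP.quotientMap_bijective hB).2 (Ideal.Quotient.mk _ b)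
    obtain ⟨p, rfl⟩ := Ideal.Quotient.mk_surjective p
    rw [Ideal.quotientMap_mk, Ideal.Quotient.eq] at hp
    refine ⟨p.coeff 0, Ideal.Quotient.eq.mpr ?_⟩
    have h1 : algebraMap R[X] B p - algebraMap R B (p.coeff 0) ∈ M := by
      rw [IsScalarTower.algebraMap_apply R R[X] B, ← map_sub]
      refine hτ (Ideal.mem_map_of_mem _ (Ideal.mem_span_singleton.mpr (X_dvd_iff.mpr ?_)))
      simp
    convert sub_mem (hτ hp) h1 using 1
    ring
  letI := Ideal.Quotient.field M
  have : RingHom.ker φ = maximalIdeal R := eq_maximalIdeal (RingHom.ker_isMaximal_of_surjective φ hφ)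
  rw [← this, RingHom.mem_ker] at hr
  exact Ideal.Quotient.eq_zero_iff_mem.mp hr

/-- `R[X]/χ = B/χB`. -/
theorem quotient_bijective (hB : Hens2.IsPairHenselization R[X] (Ideal.span {(X : R[X])}) B)
    {N : ℕ} {χ : R[X]} (hχ : Dist N χ) :
    Function.Bijective (Ideal.quotientMap ((Ideal.span {χ}).map (algebraMap R[X] B))
      (algebraMap R[X] B) Ideal.le_comap_map) := by
  let L : Ideal R[X] := Ideal.span {χ}
  letI : Algebra (R[X] ⧸ L) (B ⧸ L.map (algebraMap R[X] B)) :=
    (Ideal.quotientMap (L.map (algebraMap R[X] B)) (algebraMap R[X] B) Ideal.le_comap_map).toAlgebra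
  have h1 := Lib.Henselian.PairUP.quotient hB L fun r => rfl
  haveI : Module.Finite R (R[X] ⧸ L) := hχ.monic.finite_quotient
  haveI : Algebra.IsIntegral R (R[X] ⧸ L) := Algebra.IsIntegral.of_finite R _
  haveI := Groth.Agent.Lib.Henselian.LocalRing.henselianLocalRing_iff_henselianRing.mp ‹HenselianLocalRing R›
  have h0 := henselianRing_of_isIntegral (maximalIdeal R) (R[X] ⧸ L)
  have h0' := @henselianRing_radical _ _ _ h0
  have : HenselianRing (R[X] ⧸ L) ((Ideal.span {(X : R[X])}).map (Ideal.Quotient.mk L)) := by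
    refine @henselianRing_of_le _ _ _ _ ?_ h0'
    rw [Ideal.map_span, Set.image_singleton, Ideal.span_le, Set.singleton_subset_iff]
    refine ⟨N, ?_⟩
    have h2 : Ideal.Quotient.mk L (X ^ N) = -Ideal.Quotient.mk L (χ - X ^ N) := by
      rw [map_sub, Ideal.Quotient.eq_zero_iff_mem.mpr (Ideal.mem_span_singleton_self χ : χ ∈ L)]
      ring
    rw [← map_pow, h2]
    refine neg_mem ?_
    have h3 := Ideal.mem_map_of_mem (Ideal.Quotient.mk L) hχ.sub_mem
    rwa [Ideal.map_map] at h3
  have h2 := Lib.Henselian.PairUP.isPairHenselization_self (R[X] ⧸ L)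
    ((Ideal.span {(X : R[X])}).map (Ideal.Quotient.mk L))
  let e := Lib.Henselian.PairUP.algEquivOf h2 h1
  have he : ∀ x, algebraMap (R[X] ⧸ L) (B ⧸ L.map (algebraMap R[X] B)) x = e x := fun x =>
    (e.commutes x).symm
  show Function.Bijective (algebraMap (R[X] ⧸ L) (B ⧸ L.map (algebraMap R[X] B)))
  rw [show ⇑(algebraMap (R[X] ⧸ L) (B ⧸ L.map (algebraMap R[X] B))) = ⇑e from funext he]
  exact e.bijective

/-- An element congruent to `t^N` divides a distinguished polynomial. -/
theorem exists_dist (hB : Hens2.IsPairHenselization R[X] (Ideal.span {(X : R[X])}) B) {N : ℕ} {g : B}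
    (hg : g - algebraMap R[X] B X ^ N ∈ (maximalIdeal R).map (algebraMap R B)) :
    ∃ χ : R[X], Dist N χ ∧ algebraMap R[X] B χ ∈ Ideal.span {g} := by
  classical
  rw [Ideal.map, Ideal.span] at hg
  obtain ⟨k, c, r, hsum⟩ := Submodule.mem_span_set'.mp hg
  choose r₀ hr₀ hr₀' using fun j => (r j).2
  obtain ⟨A', _, _, _, hA', φ, hφ⟩ := exists_isNbhd_range hB (insert g (Finset.univ.image c))
  obtain ⟨g', hg'⟩ := hφ (Finset.mem_insert_self g _)
  choose c' hc' using fun j => hφ (Finset.mem_insert_of_mem (Finset.mem_image_of_mem c (Finset.mem_univ j)))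
  let y : A' := g' - algebraMap R[X] A' X ^ N - ∑ j, c' j * algebraMap R[X] A' (C (r₀ j))
  have hy : φ y = 0 := by
    simp only [y, map_sub, map_pow, map_sum, map_mul, AlgHom.commutes, hg', hc']
    rw [sub_eq_zero, ← hsum]
    refine Finset.sum_congr rfl fun j _ => ?_
    rw [← hr₀' j, IsScalarTower.algebraMap_apply R R[X] B, smul_eq_mul, Polynomial.algebraMap_eq]
  obtain ⟨A, _, _, _, hA, ρ, hρ⟩ := exists_isNbhd_kill hB φ {y} (by simp [hy])
  have hρy : ρ y = 0 := hρ y (Finset.mem_singleton_self y)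
  obtain ⟨Φ⟩ := (nonempty_unique_algHom hB hA).map fun hu => hu.default
  have hΦg : Φ (ρ g') = g := by
    rw [← hg']
    exact AlgHom.congr_fun (subsingleton_algHom hB hA' (Φ.comp ρ) φ) g'
  letI : Algebra R A := ((algebraMap R[X] A).comp (algebraMap R R[X])).toAlgebra
  haveI : IsScalarTower R R[X] A := IsScalarTower.of_algebraMap_eq fun _ => rfl
  haveI : Algebra.FiniteType R A := Algebra.FiniteType.trans (S := R[X]) inferInstance inferInstance
  let T : A := algebraMap R[X] A X
  let m := maximalIdeal R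
  let G : A := ρ g'
  have hTN : T ^ N ∈ Ideal.span {G} ⊔ m.map (algebraMap R A) := by
    have : T ^ N = G - ∑ j, ρ (c' j) * algebraMap R A (r₀ j) := by
      simp only [y, map_sub, map_pow, map_sum, map_mul, AlgHom.commutes] at hρy
      rw [sub_eq_zero] at hρy
      rw [eq_sub_iff_add_eq]
      simp only [RingHom.algebraMap_toAlgebra, RingHom.comp_apply, Polynomial.algebraMap_eq]
      rw [← hρy]
      ring
    rw [this]
    exact sub_mem (Ideal.mem_sup_left (Ideal.mem_span_singleton_self _))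
      (Ideal.mem_sup_right (sum_mem fun j _ => Ideal.mul_mem_left _ _ (Ideal.mem_map_of_mem _ (hr₀ j))))
  have hrep : ∀ (n : ℕ) (x : A), ∃ (p : R[X]) (z : A), x = algebraMap R[X] A p + T ^ n * z := by
    intro n
    induction n with
    | zero => exact fun x => ⟨0, x, by simp⟩
    | succ n ih =>
      intro x
      obtain ⟨p, z, rfl⟩ := ih x
      obtain ⟨a, ha⟩ := exists_sub_mem_of_isNbhd hA z
      rw [Ideal.map_span, Set.image_singleton] at ha
      obtain ⟨w, hw⟩ := Ideal.mem_span_singleton'.mp ha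
      refine ⟨p + X ^ n * a, w, ?_⟩
      rw [map_add, map_mul, map_pow]
      show _ = _ + T ^ n * _ + T ^ (n + 1) * w
      linear_combination T ^ n * hw.symm
  let E := A ⧸ Ideal.span ({G} : Set A)
  have hspan : ∀ x : E, ∃ p : R[X], x - Ideal.Quotient.mk _ (algebraMap R[X] A p) ∈
      m.map (algebraMap R E) := by
    intro x
    obtain ⟨x, rfl⟩ := Ideal.Quotient.mk_surjective x
    obtain ⟨p, z, hpz⟩ := hrep N x
    refine ⟨p, ?_⟩
    rw [← map_sub, hpz, add_sub_cancel_left]
    obtain ⟨a, ha, b, hb, hab⟩ := Submodule.mem_sup.mp (Ideal.mul_mem_right z _ hTN)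
    rw [← hab, map_add, Ideal.Quotient.eq_zero_iff_mem.mpr ha, zero_add]
    have := Ideal.mem_map_of_mem (Ideal.Quotient.mk (Ideal.span ({G} : Set A))) hb
    rwa [Ideal.map_map] at this
  haveI : Algebra.FiniteType R E := inferInstance
  have hTE : Ideal.Quotient.mk (Ideal.span ({G} : Set A)) T ^ N ∈ m.map (algebraMap R E) := by
    obtain ⟨a, ha, b, hb, hab⟩ := Submodule.mem_sup.mp hTN
    rw [← map_pow, ← hab, map_add, Ideal.Quotient.eq_zero_iff_mem.mpr ha, zero_add]
    have := Ideal.mem_map_of_mem (Ideal.Quotient.mk (Ideal.span ({G} : Set A))) hb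
    rwa [Ideal.map_map] at this
  have hF : Module.Finite R (E ⧸ m.map (algebraMap R E)) := by
    haveI := (monic_X_pow (R := R) N).finite_adjoinRoot
    let π : AdjoinRoot (X ^ N : R[X]) →ₐ[R] E ⧸ m.map (algebraMap R E) :=
      Ideal.Quotient.liftₐ _ ((Ideal.Quotient.mkₐ R _).comp
        ((Ideal.Quotient.mkₐ R _).comp (IsScalarTower.toAlgHom R R[X] A))) fun a ha => by
        obtain ⟨d, rfl⟩ := Ideal.mem_span_singleton'.mp ha
        show Ideal.Quotient.mk _ (Ideal.Quotient.mk _ (algebraMap R[X] A (d * X ^ N))) = 0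
        rw [Ideal.Quotient.eq_zero_iff_mem, map_mul, map_mul, map_pow, map_pow]
        exact Ideal.mul_mem_left _ _ hTE
    have hπ : Function.Surjective π := fun z => by
      obtain ⟨z, rfl⟩ := Ideal.Quotient.mk_surjective z
      obtain ⟨p, hp⟩ := hspan z
      exact ⟨AdjoinRoot.mk _ p, (Ideal.Quotient.eq.mpr hp).symm⟩
    exact Module.Finite.of_surjective π.toLinearMap hπ
  obtain ⟨e, he, hfin, hnot⟩ := Lib.Henselian.QuasiFinite.exists_idempotent_not_quasiFiniteAt R E
  have he1 : 1 - e ∈ m.map (algebraMap R E) := by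
    suffices h : Ideal.span ({e} : Set E) ⊔ m.map (algebraMap R E) = ⊤ by
      obtain ⟨a, ha, b, hb, hab⟩ := Submodule.mem_sup.mp ((Ideal.eq_top_iff_one _).mp h)
      obtain ⟨a, rfl⟩ := Ideal.mem_span_singleton'.mp ha
      have : (1 - e) = (1 - e) * b := by
        linear_combination (1 - e) * hab.symm - a * he.eq
      rw [this]
      exact Ideal.mul_mem_left _ _ hb
    by_contra hne
    obtain ⟨M, hM, hle⟩ := Ideal.exists_le_maximal _ hne
    let E' := E ⧸ Ideal.span ({e} : Set E)
    let q : Ideal E' := M.map (Ideal.Quotient.mk _)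
    haveI : q.IsPrime := Ideal.map_isPrime_of_surjective (hf := Ideal.Quotient.mk_surjective)
      (by rw [Ideal.mk_ker]; exact le_sup_left.trans hle)
    have hqR : q.under R = m := by
      refine ((maximalIdeal.isMaximal R).eq_of_le (Ideal.IsPrime.ne_top inferInstance) fun r hr => ?_).symm
      exact Ideal.mem_map_of_mem _ (hle (Ideal.mem_sup_right (Ideal.mem_map_of_mem _ hr)))
    haveI : q.LiesOver m := ⟨hqR.symm⟩
    have hF' : Module.Finite R (E' ⧸ (q.under R).map (algebraMap R E')) := by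
      rw [hqR]
      let π : E ⧸ m.map (algebraMap R E) →ₐ[R] E' ⧸ m.map (algebraMap R E') :=
        Ideal.quotientMapₐ _ (Ideal.Quotient.mkₐ R _) (by
          rw [Ideal.map_le_iff_le_comap]
          intro r hr
          show Ideal.Quotient.mk _ (algebraMap R E r) ∈ m.map (algebraMap R E')
          exact Ideal.mem_map_of_mem (algebraMap R E') hr)
      refine Module.Finite.of_surjective π.toLinearMap fun z => ?_
      obtain ⟨z, rfl⟩ := Ideal.Quotient.mk_surjective z
      obtain ⟨z, rfl⟩ := Ideal.Quotient.mk_surjective z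
      exact ⟨Ideal.Quotient.mk _ z, rfl⟩
    haveI : Algebra.WeaklyQuasiFiniteAt R q := by
      have : Algebra.QuasiFinite R (E' ⧸ (q.under R).map (algebraMap R E')) := inferInstance
      exact inferInstance
    exact hnot q ‹_› (Algebra.QuasiFiniteAt.of_weaklyQuasiFiniteAt q)
  let F := E ⧸ Ideal.span ({1 - e} : Set E)
  let π : E →ₐ[R] F := Ideal.Quotient.mkₐ R _
  let τ : F := π (Ideal.Quotient.mk _ T)
  have hC : ∀ (a : R) (i : ℕ),
      π (Ideal.Quotient.mk _ (algebraMap R[X] A (C a * X ^ i))) = a • τ ^ i := fun a i => by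
    have h := map_smul (π.comp ((Ideal.Quotient.mkₐ R (Ideal.span ({G} : Set A))).comp
      (IsScalarTower.toAlgHom R R[X] A))) a ((X : R[X]) ^ i)
    rw [smul_eq_C_mul, map_pow] at h
    exact h
  let S : Submodule R F := Submodule.span R (Set.range fun i : Fin N => τ ^ (i : ℕ))
  have hπm : ∀ x ∈ m.map (algebraMap R E), π x ∈ m • (⊤ : Submodule R F) := by
    intro x hx
    rw [Ideal.smul_top_eq_map, Submodule.restrictScalars_mem]
    have := Ideal.mem_map_of_mem π.toRingHom hx
    rwa [Ideal.map_map, AlgHom.toRingHom_eq_coe, AlgHom.comp_algebraMap] at this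
  have hpow : ∀ i : ℕ, τ ^ i ∈ S ⊔ m • (⊤ : Submodule R F) := by
    intro i
    rcases lt_or_ge i N with hi | hi
    · exact Submodule.mem_sup_left (Submodule.subset_span ⟨⟨i, hi⟩, rfl⟩)
    · refine Submodule.mem_sup_right ?_
      rw [show τ ^ i = π (Ideal.Quotient.mk _ T ^ N * Ideal.Quotient.mk _ T ^ (i - N)) by
        rw [← pow_add, Nat.add_sub_cancel' hi, map_pow]]
      exact hπm _ (Ideal.mul_mem_right _ _ hTE)
  have hS : (⊤ : Submodule R F) ≤ S ⊔ m • ⊤ := fun x _ => by
    obtain ⟨x, rfl⟩ := Ideal.Quotient.mk_surjective x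
    obtain ⟨p, hp⟩ := hspan x
    have h1 := hπm _ hp
    rw [map_sub] at h1
    have h2 : π (Ideal.Quotient.mk _ (algebraMap R[X] A p)) ∈ S ⊔ m • (⊤ : Submodule R F) := by
      rw [p.as_sum_range_C_mul_X_pow, map_sum, map_sum, map_sum]
      refine sum_mem fun i _ => ?_
      rw [hC]
      exact Submodule.smul_mem _ _ (hpow i)
    have := add_mem (Submodule.mem_sup_right h1 : _ ∈ S ⊔ m • (⊤ : Submodule R F)) h2
    rwa [sub_add_cancel] at this
  have hStop : S = ⊤ := eq_top_iff.mpr (Submodule.le_of_le_smul_of_le_jacobson_bot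
    Module.Finite.fg_top (maximalIdeal_le_jacobson _) hS)
  have hτN : τ ^ N ∈ m • Submodule.span R (Set.range fun i : Fin N => τ ^ (i : ℕ)) := by
    show τ ^ N ∈ m • S
    rw [hStop]
    have := hπm _ hTE
    rwa [map_pow] at this
  obtain ⟨a, ha, hasum⟩ := (Submodule.mem_ideal_smul_span_iff_exists_sum m _ _).mp hτN
  let χ : R[X] := X ^ N - ∑ i : Fin N, C (a i) * X ^ (i : ℕ)
  have hdeg : (∑ i : Fin N, C (a i) * X ^ (i : ℕ) : R[X]).degree < N :=
    degree_sum_fin_lt _
  have hD : Dist N χ := by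
    have hm : χ.Monic := monic_X_pow_sub (n := N) hdeg
    refine ⟨hm, ?_, ?_, fun k hk => ?_⟩
    · refine natDegree_le_iff_degree_le.mpr ((degree_sub_le _ _).trans (max_le (degree_X_pow_le N) hdeg.le))
    · simp only [χ, coeff_sub, coeff_X_pow, if_true, coeff_eq_zero_of_degree_lt hdeg, sub_zero]
    · simp only [χ, coeff_sub, coeff_X_pow, if_neg hk.ne, zero_sub, finsetSum_coeff, coeff_C_mul_X_pow]
      exact neg_mem (sum_mem fun i _ => by split_ifs <;> [exact ha i; exact zero_mem _])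
  have hχ : π (Ideal.Quotient.mk _ (algebraMap R[X] A χ)) = 0 := by
    simp only [χ, map_sub, map_sum, hC, map_pow]
    rw [sub_eq_zero, ← show _ = τ ^ N from hasum]
    exact Finsupp.sum_fintype _ _ (fun i => zero_smul R (τ ^ (i : ℕ)))
  have hχe : e * Ideal.Quotient.mk _ (algebraMap R[X] A χ) = 0 := by
    obtain ⟨d, hd⟩ := Ideal.mem_span_singleton'.mp (Ideal.Quotient.eq_zero_iff_mem.mp hχ)
    rw [← hd, mul_left_comm, mul_sub, mul_one, he.eq, sub_self, mul_zero]
  refine ⟨χ, hD, ?_⟩
  rw [← Ideal.Quotient.eq_zero_iff_mem]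
  let Θ : E →+* B ⧸ Ideal.span ({g} : Set B) :=
    Ideal.quotientMap _ Φ.toRingHom (by
      rw [← Ideal.map_le_iff_le_comap, Ideal.map_span, Set.image_singleton]
      exact le_of_eq (congrArg (fun b => Ideal.span {b}) hΦg))
  have hΘ : ∀ x : A, Θ (Ideal.Quotient.mk _ x) = Ideal.Quotient.mk _ (Φ x) := fun x => rfl
  have hjac : Θ (1 - e) ∈ (⊥ : Ideal (B ⧸ Ideal.span ({g} : Set B))).jacobson := by
    have h1 := Ideal.mem_map_of_mem Θ he1
    rw [Ideal.map_map, show Θ.comp (algebraMap R E) =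
      (Ideal.Quotient.mk (Ideal.span ({g} : Set B))).comp (algebraMap R B) from RingHom.ext fun r => by
        show Θ (Ideal.Quotient.mk _ (algebraMap R A r)) = _
        rw [hΘ, RingHom.algebraMap_toAlgebra, RingHom.comp_apply, AlgHom.commutes,
          ← IsScalarTower.algebraMap_apply]
        rfl, ← Ideal.map_map] at h1
    have h2 := Ideal.map_mono (f := Ideal.Quotient.mk (Ideal.span ({g} : Set B))) (map_le_jacobson hB) h1
    refine Ideal.mem_jacobson_bot.mpr fun w => ?_
    obtain ⟨w, rfl⟩ := Ideal.Quotient.mk_surjective w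
    obtain ⟨b, hb, hb'⟩ := (Ideal.mem_map_iff_of_surjective _ Ideal.Quotient.mk_surjective).mp h2
    rw [← hb', ← map_mul, ← map_one (Ideal.Quotient.mk (Ideal.span ({g} : Set B))), ← map_add]
    exact (Ideal.mem_jacobson_bot.mp hb w).map _
  have hz := idem_eq_zero (he.one_sub.map Θ) hjac
  rw [map_sub, map_one, sub_eq_zero] at hz
  have := congrArg Θ hχe
  rw [map_mul, ← hz, one_mul, map_zero, hΘ, AlgHom.commutes] at this
  exact this

variable {L : Type u} [CommRing L] [Algebra B L] [IsLocalization.Away (algebraMap R[X] B X) L]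
  [Algebra R L] [IsScalarTower R B L]

theorem psi_reflect (ψ : R[X] →ₐ[R] L) (hψ : ψ X * algebraMap B L (algebraMap R[X] B X) = 1)
    {N : ℕ} {f : R[X]} (hf : f.natDegree ≤ N) :
    ψ (reflect N f) * algebraMap B L (algebraMap R[X] B X) ^ N = algebraMap B L (algebraMap R[X] B f) := by
  rw [show ψ (reflect N f) = aeval (ψ X) (reflect N f) by rw [aeval_algHom_apply, aeval_X_left_apply],
    aeval_reflect hψ hf]
  rw [show algebraMap R[X] B X = IsScalarTower.toAlgHom R R[X] B X from rfl,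
    show algebraMap R[X] B f = IsScalarTower.toAlgHom R R[X] B f from rfl,
    show algebraMap B L = (IsScalarTower.toAlgHom R B L).toRingHom from rfl]
  rw [AlgHom.toRingHom_eq_coe, RingHom.coe_coe, aeval_algHom_apply, aeval_algHom_apply, aeval_X_left_apply]

theorem surj_mod (hB : Hens2.IsPairHenselization R[X] (Ideal.span {(X : R[X])}) B)
    (ψ : R[X] →ₐ[R] L) (hψ : ψ X * algebraMap B L (algebraMap R[X] B X) = 1)
    {N : ℕ} {χ : R[X]} (hχ : Dist N χ) (l : L) :
    ∃ p : R[X], l - ψ p ∈ Ideal.span {ψ (reflect N χ)} := by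
  let t := algebraMap B L (algebraMap R[X] B X)
  let K := Ideal.span {ψ (reflect N χ)}
  have ht : ∃ p : R[X], t - ψ p ∈ K := by
    obtain ⟨h, hh⟩ : X ∣ reflect N χ - 1 := by
      rw [X_dvd_iff, coeff_sub, coeff_reflect, revAt_le (Nat.zero_le _), Nat.sub_zero, hχ.top,
        coeff_one_zero, sub_self]
    refine ⟨-h, ?_⟩
    have : t - ψ (-h) = t * ψ (reflect N χ) := by
      rw [show reflect N χ = 1 + X * h by rw [← hh]; ring, map_neg, map_add, map_one, map_mul]
      linear_combination (-(ψ h)) * hψ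
    rw [this]
    exact Ideal.mul_mem_left _ _ (Ideal.mem_span_singleton_self _)
  obtain ⟨pt, hpt⟩ := ht
  obtain ⟨n, b, hb⟩ := IsLocalization.Away.surj (algebraMap R[X] B X) l
  obtain ⟨z, hz⟩ := (quotient_bijective hB hχ).2 (Ideal.Quotient.mk _ b)
  obtain ⟨p, rfl⟩ := Ideal.Quotient.mk_surjective z
  rw [Ideal.quotientMap_mk, Ideal.Quotient.eq, Ideal.map_span, Set.image_singleton] at hz
  obtain ⟨d, hd⟩ := Ideal.mem_span_singleton'.mp hz
  refine ⟨X ^ n * aeval pt p, ?_⟩
  have h1 : l = ψ X ^ n * algebraMap B L b := by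
    rw [← hb, mul_comm l, ← mul_assoc, ← mul_pow, hψ, one_pow, one_mul]
  have h2 : algebraMap B L (algebraMap R[X] B p) - ψ (aeval pt p) ∈ K := by
    rw [← Ideal.Quotient.eq]
    show ((Ideal.Quotient.mkₐ R K).comp ((IsScalarTower.toAlgHom R B L).comp
      (IsScalarTower.toAlgHom R R[X] B))) p = (Ideal.Quotient.mkₐ R K) (ψ (aeval pt p))
    rw [← aeval_algHom_apply, ← aeval_algHom_apply,
      ← show (Ideal.Quotient.mkₐ R K) t = (Ideal.Quotient.mkₐ R K) (ψ pt) from Ideal.Quotient.eq.mpr hpt]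
    conv_lhs => rw [← aeval_X_left_apply p, ← aeval_algHom_apply]
    rfl
  have h3 : algebraMap B L b - algebraMap B L (algebraMap R[X] B p) ∈ K := by
    rw [← map_sub, show b - algebraMap R[X] B p = -(d * algebraMap R[X] B χ) by rw [hd]; ring, map_neg,
      map_mul, ← psi_reflect ψ hψ hχ.deg]
    exact neg_mem (Ideal.mul_mem_left _ _ (Ideal.mul_mem_right _ _ (Ideal.mem_span_singleton_self _)))
  rw [h1, map_mul, map_pow, ← mul_sub]
  refine Ideal.mul_mem_left _ _ ?_
  convert add_mem h3 h2 using 1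
  ring

theorem ker_mod (hB : Hens2.IsPairHenselization R[X] (Ideal.span {(X : R[X])}) B)
    (ψ : R[X] →ₐ[R] L) (hψ : ψ X * algebraMap B L (algebraMap R[X] B X) = 1)
    {N : ℕ} {χ : R[X]} (hχ : Dist N χ) {y : R[X]} (hy : ψ y ∈ Ideal.span {ψ (reflect N χ)}) :
    y ∈ Ideal.span {reflect N χ} := by
  let M := y.natDegree
  let p := reflect M y
  let x := algebraMap R[X] B X
  obtain ⟨l, hl⟩ := Ideal.mem_span_singleton'.mp hy
  obtain ⟨n, b, hb⟩ := IsLocalization.Away.surj x l
  have hp : ψ y * algebraMap B L x ^ M = algebraMap B L (algebraMap R[X] B p) := by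
    rw [← psi_reflect ψ hψ (natDegree_reflect_le le_rfl), reflect_reflect]
  have hc : ψ (reflect N χ) * algebraMap B L x ^ N = algebraMap B L (algebraMap R[X] B χ) :=
    psi_reflect ψ hψ hχ.deg
  have heq : algebraMap B L (algebraMap R[X] B p * x ^ (n + N)) =
      algebraMap B L (algebraMap R[X] B χ * (b * x ^ M)) := by
    simp only [map_mul, map_pow, ← hp, ← hc, ← hb, ← hl]
    ring
  obtain ⟨⟨_, k, rfl⟩, hk⟩ := (IsLocalization.eq_iff_exists (Submonoid.powers x) L).mp heq
  have hmem : p * X ^ (k + (n + N)) ∈ Ideal.span {χ} := by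
    have h1 := (quotient_bijective hB hχ).1
      (a₁ := Ideal.Quotient.mk _ (p * X ^ (k + (n + N)))) (a₂ := 0) (by
        rw [Ideal.quotientMap_mk, map_zero, Ideal.Quotient.eq_zero_iff_mem, Ideal.map_span,
          Set.image_singleton, map_mul, map_pow, pow_add]
        refine Ideal.mem_span_singleton'.mpr ⟨x ^ k * (b * x ^ M), ?_⟩
        linear_combination -hk)
    exact Ideal.Quotient.eq_zero_iff_mem.mp h1
  let Q := R[X] ⧸ Ideal.span {reflect N χ}
  let mk : R[X] →ₐ[R] Q := Ideal.Quotient.mkₐ R _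
  obtain ⟨h, hh⟩ : X ∣ reflect N χ - 1 := by
    rw [X_dvd_iff, coeff_sub, coeff_reflect, revAt_le (Nat.zero_le _), Nat.sub_zero, hχ.top,
      coeff_one_zero, sub_self]
  let s : Q := mk X
  let T : Q := mk (-h)
  have hsT : s * T = 1 := by
    rw [← map_mul, ← map_one mk]
    refine Ideal.Quotient.eq.mpr (Ideal.mem_span_singleton'.mpr ⟨-1, ?_⟩)
    linear_combination -hh
  have hs : ∀ f : R[X], aeval s f = mk f := fun f => by rw [aeval_algHom_apply, aeval_X_left_apply]
  have hTχ : aeval T χ = 0 := by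
    rw [← aeval_reflect hsT hχ.deg, hs,
      show mk (reflect N χ) = 0 from Ideal.Quotient.eq_zero_iff_mem.mpr (Ideal.mem_span_singleton_self _),
      zero_mul]
  obtain ⟨d, hd⟩ := Ideal.mem_span_singleton'.mp hmem
  have hTp : aeval T p = mk y * T ^ M := by
    rw [← aeval_reflect hsT (natDegree_reflect_le (le_refl M)), reflect_reflect, hs]
  have h0 := congrArg (aeval T) hd
  rw [map_mul, map_mul, map_pow, aeval_X, hTχ, mul_zero, hTp, mul_assoc, ← pow_add] at h0
  have hu : IsUnit T := IsUnit.of_mul_eq_one s (by rw [mul_comm]; exact hsT)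
  exact Ideal.Quotient.eq_zero_iff_mem.mp ((IsUnit.mul_left_eq_zero (hu.pow _)).mp h0.symm)

theorem exists_dist_of_sup_eq_top (I : Ideal R[X])
    (hI : I ⊔ (maximalIdeal R).map (algebraMap R R[X]) = ⊤) :
    ∃ (N : ℕ) (χ : R[X]), Dist N χ ∧ reflect N χ ∈ I := by
  obtain ⟨i₀, hi₀, y, hy, hiy⟩ := Submodule.mem_sup.mp ((Ideal.eq_top_iff_one _).mp hI)
  rw [Polynomial.algebraMap_eq, Ideal.mem_map_C_iff] at hy
  have hc : ∀ k, i₀.coeff k = (1 : R[X]).coeff k - y.coeff k := fun k => by
    rw [← hiy, coeff_add, add_sub_cancel_right]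
  have hu : IsUnit (i₀.coeff 0) := by
    rw [hc, coeff_one_zero]
    exact IsLocalRing.isUnit_one_sub_self_of_mem_nonunits _ (by simpa [mem_maximalIdeal] using hy 0)
  obtain ⟨u, hu⟩ := hu
  refine ⟨i₀.natDegree, reflect i₀.natDegree (C (↑u⁻¹ : R) * i₀), ?_, ?_⟩
  · have hd : (C (↑u⁻¹ : R) * i₀).natDegree ≤ i₀.natDegree := natDegree_C_mul_le _ _
    have htop : (reflect i₀.natDegree (C (↑u⁻¹ : R) * i₀)).coeff i₀.natDegree = 1 := by
      rw [coeff_reflect, revAt_le le_rfl, Nat.sub_self, coeff_C_mul, ← hu, Units.inv_mul]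
    refine ⟨monic_of_natDegree_le_of_coeff_eq_one _ (natDegree_reflect_le hd) htop,
      natDegree_reflect_le hd, htop, fun k hk => ?_⟩
    rw [coeff_reflect, revAt_le hk.le, coeff_C_mul, hc, coeff_one, if_neg (Nat.sub_pos_of_lt hk).ne',
      zero_sub]
    exact Ideal.mul_mem_left _ _ (neg_mem (hy _))
  · rw [reflect_reflect]
    exact Ideal.mul_mem_left _ _ hi₀

theorem main (hB : Hens2.IsPairHenselization R[X] (Ideal.span {(X : R[X])}) B)
    (ψ : R[X] →ₐ[R] L) (hψ : ψ X * algebraMap B L (algebraMap R[X] B X) = 1) :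
    (∀ I : Ideal R[X], I ⊔ (maximalIdeal R).map (algebraMap R R[X]) = ⊤ →
        (I.map ψ.toRingHom).comap ψ.toRingHom = I ∧
        I.map ψ.toRingHom ⊔ (maximalIdeal R).map (algebraMap R L) = ⊤ ∧
        Function.Bijective (Ideal.quotientMap (I.map ψ.toRingHom) ψ.toRingHom Ideal.le_comap_map)) ∧
    (∀ J : Ideal L, J ⊔ (maximalIdeal R).map (algebraMap R L) = ⊤ →
        (J.comap ψ.toRingHom).map ψ.toRingHom = J ∧
        J.comap ψ.toRingHom ⊔ (maximalIdeal R).map (algebraMap R R[X]) = ⊤) := by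
  have hm : ((maximalIdeal R).map (algebraMap R R[X])).map ψ.toRingHom =
      (maximalIdeal R).map (algebraMap R L) := by
    rw [Ideal.map_map, AlgHom.toRingHom_eq_coe, AlgHom.comp_algebraMap]
  constructor
  · intro I hI
    obtain ⟨N, χ, hχ, hmem⟩ := exists_dist_of_sup_eq_top I hI
    let K := Ideal.span {ψ (reflect N χ)}
    have hK : K ≤ I.map ψ.toRingHom :=
      (Ideal.span_singleton_le_iff_mem _).mpr (Ideal.mem_map_of_mem ψ.toRingHom hmem)
    have hrep : ∀ l ∈ I.map ψ.toRingHom, ∃ i ∈ I, l - ψ i ∈ K := by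
      intro l hl
      induction hl using Submodule.span_induction with
      | mem x hx =>
        obtain ⟨i, hi, rfl⟩ := hx
        refine ⟨i, hi, ?_⟩
        rw [show ψ.toRingHom i = ψ i from rfl, sub_self]
        exact zero_mem _
      | zero => exact ⟨0, zero_mem _, by simp⟩
      | add x y _ _ hx hy =>
        obtain ⟨i, hi, hi'⟩ := hx
        obtain ⟨j, hj, hj'⟩ := hy
        refine ⟨i + j, add_mem hi hj, ?_⟩
        rw [map_add, add_sub_add_comm]
        exact add_mem hi' hj'
      | smul c x _ hx =>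
        obtain ⟨i, hi, hi'⟩ := hx
        obtain ⟨p, hp⟩ := surj_mod hB ψ hψ hχ c
        refine ⟨p * i, Ideal.mul_mem_left _ _ hi, ?_⟩
        rw [map_mul, smul_eq_mul, show c * x - ψ p * ψ i = c * (x - ψ i) + (c - ψ p) * ψ i by ring]
        exact add_mem (Ideal.mul_mem_left _ _ hi') (Ideal.mul_mem_right _ _ hp)
    have hc : (I.map ψ.toRingHom).comap ψ.toRingHom = I := by
      refine le_antisymm (fun x hx => ?_) Ideal.le_comap_map
      obtain ⟨i, hi, hi'⟩ := hrep _ hx
      have h1 := ker_mod hB ψ hψ hχ (y := x - i) (by rw [map_sub]; exact hi')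
      have h2 := (Ideal.span_singleton_le_iff_mem _).mpr hmem h1
      simpa using add_mem h2 hi
    refine ⟨hc, ?_, Ideal.quotientMap_injective' hc.le, fun z => ?_⟩
    · rw [← hm, ← Ideal.map_sup, hI, Ideal.map_top]
    · obtain ⟨l, rfl⟩ := Ideal.Quotient.mk_surjective z
      obtain ⟨p, hp⟩ := surj_mod hB ψ hψ hχ l
      exact ⟨Ideal.Quotient.mk I p, (Ideal.Quotient.eq.mpr (hK hp)).symm⟩
  · intro J hJ
    let x := algebraMap R[X] B X
    obtain ⟨j, hj, y, hy, hjy⟩ := Submodule.mem_sup.mp ((Ideal.eq_top_iff_one _).mp hJ)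
    rw [IsScalarTower.algebraMap_eq R B L, ← Ideal.map_map,
      IsLocalization.mem_map_algebraMap_iff (Submonoid.powers x)] at hy
    obtain ⟨⟨⟨b', hb'⟩, ⟨_, n, rfl⟩⟩, hyb⟩ := hy
    obtain ⟨χ, hD, hχ⟩ := exists_dist hB (N := n) (g := x ^ n - b') (by
      rw [sub_sub_cancel_left]; exact neg_mem hb')
    have hgJ : algebraMap B L (x ^ n - b') ∈ J := by
      have : algebraMap B L (x ^ n - b') = j * algebraMap B L (x ^ n) := by
        rw [map_sub]
        change y * algebraMap B L (x ^ n) = algebraMap B L b' at hyb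
        linear_combination hyb - algebraMap B L (x ^ n) * hjy
      rw [this]
      exact J.mul_mem_right _ hj
    have hiJ : ψ (reflect n χ) ∈ J := by
      have h1 : algebraMap B L (algebraMap R[X] B χ) ∈ J := by
        obtain ⟨d, hd⟩ := Ideal.mem_span_singleton'.mp hχ
        rw [← hd, map_mul]
        exact J.mul_mem_left _ hgJ
      rw [← psi_reflect ψ hψ hD.deg] at h1
      have hu : IsUnit (algebraMap B L x ^ n) :=
        (IsLocalization.Away.algebraMap_isUnit x).pow n
      exact (Ideal.unit_mul_mem_iff_mem J hu).mp (by rw [mul_comm]; exact h1)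
    refine ⟨le_antisymm Ideal.map_comap_le fun l hl => ?_, ?_⟩
    · obtain ⟨p, hp⟩ := surj_mod hB ψ hψ hD l
      obtain ⟨d, hd⟩ := Ideal.mem_span_singleton'.mp hp
      have hpJ : p ∈ J.comap ψ.toRingHom := by
        show ψ p ∈ J
        have h4 := sub_mem hl (hd ▸ J.mul_mem_left d hiJ : l - ψ p ∈ J)
        rwa [sub_sub_cancel] at h4
      rw [show l = d * ψ.toRingHom (reflect n χ) + ψ.toRingHom p by
        show l = d * ψ (reflect n χ) + ψ p
        rw [hd]; ring]
      exact add_mem (Ideal.mul_mem_left _ _ (Ideal.mem_map_of_mem _ hiJ)) (Ideal.mem_map_of_mem _ hpJ)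
    · rw [Ideal.eq_top_iff_one, show (1 : R[X]) = reflect n χ + (1 - reflect n χ) by ring]
      refine Submodule.add_mem_sup hiJ ?_
      rw [Polynomial.algebraMap_eq, Ideal.mem_map_C_iff]
      intro k
      rw [coeff_sub, coeff_reflect, coeff_one]
      rcases Nat.eq_zero_or_pos k with rfl | hk
      · rw [if_pos rfl, revAt_le (Nat.zero_le _), Nat.sub_zero, hD.top, sub_self]; exact zero_mem _
      · rw [if_neg hk.ne', zero_sub]
        rcases le_or_gt k n with hkn | hkn
        · rw [revAt_le hkn]; exact neg_mem (hD.low _ (Nat.sub_lt_self hk hkn))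
        · rw [revAt_eq_self_of_lt hkn, coeff_eq_zero_of_natDegree_lt (hD.deg.trans_lt hkn), neg_zero]
          exact zero_mem _

end Groth.Agent.H21.InvLineHens
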