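import Mathlib.RingTheory.Smooth.Field
import Mathlib.RingTheory.Etale.Kaehler
import Mathlib.RingTheory.Kaehler.Polynomial
import Mathlib.RingTheory.Localization.Module
import Mathlib.RingTheory.Unramified.Field
import Mathlib.RingTheory.AlgebraicIndependent.TranscendenceBasis
import Mathlib.FieldTheory.IntermediateField.Adjoin.Algebra

/-! Differentials of separably generated field extensions have the basis `d x_i`. -/

namespace Groth.Agent.H21.KBasis

set_option linter.style.haveILetI false

open scoped TensorProduct
open Module

universe u v w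

variable {K : Type u} {L : Type v} [Field K] [Field L] [Algebra K L]

theorem exists_basis_adjoin {ι : Type w} {a : ι → L} (ha : AlgebraicIndependent K a) :
    ∃ b : Basis ι (IntermediateField.adjoin K (Set.range a))
        Ω[IntermediateField.adjoin K (Set.range a)⁄K],
      ∀ i, b i = KaehlerDifferential.D K (IntermediateField.adjoin K (Set.range a))
        ⟨a i, IntermediateField.subset_adjoin K _ ⟨i, rfl⟩⟩ := by
  let F := IntermediateField.adjoin K (Set.range a)
  let a' : ι → F := fun i => ⟨a i, IntermediateField.subset_adjoin K _ ⟨i, rfl⟩⟩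
  let P := MvPolynomial ι K
  letI : Algebra P F := (MvPolynomial.aeval a').toRingHom.toAlgebra
  haveI : IsScalarTower K P F := IsScalarTower.of_algebraMap_eq fun r =>
    ((MvPolynomial.aeval a').commutes r).symm
  have hval : ∀ p : P, ((algebraMap P F p : F) : L) = MvPolynomial.aeval a p := fun p => by
    show F.val (MvPolynomial.aeval a' p) = _
    rw [← AlgHom.comp_apply, MvPolynomial.comp_aeval]
    rfl
  haveI : FaithfulSMul P F := (faithfulSMul_iff_algebraMap_injective P F).2 fun p q h =>
    ha (by rw [← hval, ← hval, h])
  haveI : IsFractionRing P F := by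
    refine IsFractionRing.of_field P F fun z => ?_
    obtain ⟨r, s, hrs⟩ := (IntermediateField.mem_adjoin_range_iff K a (z : L)).1 z.2
    refine ⟨r, s, Subtype.ext ?_⟩
    rw [IntermediateField.coe_div, hval, hval, ← hrs]
  let b := (KaehlerDifferential.mvPolynomialBasis K ι).ofIsLocalizedModule F (nonZeroDivisors P)
    (KaehlerDifferential.map K K P F)
  refine ⟨b, fun i => ?_⟩
  have h1 : KaehlerDifferential.mvPolynomialBasis K ι i =
      KaehlerDifferential.D K P (MvPolynomial.X i) :=
    (KaehlerDifferential.mvPolynomialBasis K ι).repr.injective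
      ((Basis.repr_self _ i).trans (KaehlerDifferential.mvPolynomialBasis_repr_D_X K ι i).symm)
  show b i = _
  rw [Module.Basis.ofIsLocalizedModule_apply, h1, KaehlerDifferential.map_D]
  congr 1
  exact MvPolynomial.aeval_X a' i

/-- If `L` is separable algebraic over `K(a)` for algebraically independent `a`, the `d a_i`
form a basis of `Ω[L⁄K]`. -/
theorem exists_basis_of_isSeparable {ι : Type w} {a : ι → L} (ha : AlgebraicIndependent K a)
    (hsep : Algebra.IsSeparable (IntermediateField.adjoin K (Set.range a)) L) :
    ∃ b : Basis ι L Ω[L⁄K], ∀ i, b i = KaehlerDifferential.D K L (a i) := by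
  obtain ⟨b, hb⟩ := exists_basis_adjoin ha
  let F := IntermediateField.adjoin K (Set.range a)
  haveI : Algebra.FormallyEtale F L := Algebra.FormallyEtale.of_isSeparable F L
  refine ⟨(b.baseChange L).map (KaehlerDifferential.tensorKaehlerEquivOfFormallyEtale K F L),
    fun i => ?_⟩
  rw [Basis.map_apply, Basis.baseChange_apply, hb,
    KaehlerDifferential.tensorKaehlerEquivOfFormallyEtale_apply,
    KaehlerDifferential.mapBaseChange_tmul, one_smul, KaehlerDifferential.map_D]
  rfl

theorem linearIndependent_and_span_of_isSeparable {ι : Type w} {a : ι → L}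
    (ha : AlgebraicIndependent K a)
    (hsep : Algebra.IsSeparable (IntermediateField.adjoin K (Set.range a)) L) :
    LinearIndependent L (fun i => KaehlerDifferential.D K L (a i)) ∧
      Submodule.span L (Set.range fun i => KaehlerDifferential.D K L (a i)) = ⊤ := by
  obtain ⟨b, hb⟩ := exists_basis_of_isSeparable ha hsep
  rw [show (fun i => KaehlerDifferential.D K L (a i)) = b from funext fun i => (hb i).symm]
  exact ⟨b.linearIndependent, b.span_eq⟩

/-- If the differentials of elements `a_i` span `Ω[L⁄K]` and `L/K` is finitely generated,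
then `L` is separable over `K(a)`. -/
theorem isSeparable_of_span_eq_top [Algebra.EssFiniteType K L] {ι : Type w} {a : ι → L}
    (hspan : Submodule.span L (Set.range fun i => KaehlerDifferential.D K L (a i)) = ⊤) :
    Algebra.IsSeparable (IntermediateField.adjoin K (Set.range a)) L := by
  let F := IntermediateField.adjoin K (Set.range a)
  haveI : Algebra.EssFiniteType F L := Algebra.EssFiniteType.of_comp K F L
  haveI : Algebra.FormallyUnramified F L := by
    refine ⟨?_⟩
    have hsurj := KaehlerDifferential.map_surjective K F L
    have htop : (⊤ : Submodule L Ω[L⁄F]) = ⊥ := by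
      rw [← LinearMap.range_eq_top.2 hsurj, LinearMap.range_eq_map, ← hspan, Submodule.map_span,
        eq_bot_iff, Submodule.span_le]
      rintro _ ⟨_, ⟨i, rfl⟩, rfl⟩
      show (KaehlerDifferential.map K F L L) (KaehlerDifferential.D K L (a i)) = 0
      rw [KaehlerDifferential.map_D]
      exact (KaehlerDifferential.D F L).map_algebraMap
        (⟨a i, IntermediateField.subset_adjoin K _ ⟨i, rfl⟩⟩ : F)
    exact ⟨fun x y => by
      have hx : x ∈ (⊥ : Submodule L Ω[L⁄F]) := htop ▸ Submodule.mem_top
      have hy : y ∈ (⊥ : Submodule L Ω[L⁄F]) := htop ▸ Submodule.mem_top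
      rw [Submodule.mem_bot] at hx hy
      rw [hx, hy]⟩
  exact Algebra.FormallyUnramified.isSeparable F L

/-- For a finitely generated extension of a perfect field, `Ω` has rank the transcendence
degree. -/
theorem lift_rank_eq [PerfectField K] [Algebra.EssFiniteType K L] {ι : Type w} {x : ι → L}
    (hx : IsTranscendenceBasis K x) :
    Cardinal.lift.{w} (Module.rank L Ω[L⁄K]) = Cardinal.lift.{v} (Cardinal.mk ι) := by
  obtain ⟨s, hs, hsep⟩ := exists_isTranscendenceBasis_and_isSeparable_of_perfectField K L
  have hsep' : Algebra.IsSeparable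
      (IntermediateField.adjoin K (Set.range ((↑) : s → L))) L := by
    convert! hsep <;> simp
  obtain ⟨b, -⟩ := exists_basis_of_isSeparable hs.1 hsep'
  rw [hx.lift_cardinalMk_eq hs, b.mk_eq_rank''.symm]

end Groth.Agent.H21.KBasis
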