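import Mathlib.RingTheory.Idempotents
import Mathlib.RingTheory.PicardGroup
import Mathlib.RingTheory.Nakayama
import Mathlib.LinearAlgebra.Matrix.ToLin
import Mathlib.RingTheory.TensorProduct.Basic

/-! Finite projective modules and invertible modules along nilpotent surjections. -/

namespace Groth.Agent.H21.LiftProj

set_option linter.style.haveILetI false

open TensorProduct

universe u v

variable {A' A : Type u} [CommRing A'] [CommRing A] [Algebra A' A]

theorem isNilpotent_matrix {n : ℕ} (hker : IsNilpotent (RingHom.ker (algebraMap A' A)))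
    (x : Matrix (Fin n) (Fin n) A') (hx : (algebraMap A' A).mapMatrix x = 0) : IsNilpotent x := by
  obtain ⟨N, hN⟩ := hker
  refine ⟨N, ?_⟩
  have hx' : ∀ i j, x i j ∈ RingHom.ker (algebraMap A' A) := fun i j =>
    congrFun (congrFun hx i) j
  have key : ∀ k : ℕ, ∀ i j, (x ^ k) i j ∈ RingHom.ker (algebraMap A' A) ^ k := by
    intro k
    induction k with
    | zero => intro i j; simp
    | succ k ih =>
      intro i j
      rw [pow_succ x, pow_succ (RingHom.ker _), Matrix.mul_apply]
      exact sum_mem fun l _ => Ideal.mul_mem_mul (ih i l) (hx' l j)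
  ext i j
  have := key N i j
  rw [hN] at this
  simpa using this

theorem exists_lift (hA : Function.Surjective (algebraMap A' A))
    (hker : IsNilpotent (RingHom.ker (algebraMap A' A))) (L : Type v) [AddCommGroup L] [Module A L]
    [Module.Finite A L] [Module.Projective A L] :
    ∃ (n : ℕ) (P : Submodule A' (Fin n → A')), Module.Finite A' P ∧ Module.Projective A' P ∧
      Nonempty (A ⊗[A'] P ≃ₗ[A] L) := by
  classical
  obtain ⟨n, π, hπ⟩ := Module.Finite.exists_fin' A L
  obtain ⟨s, hs⟩ := Module.projective_lifting_property π LinearMap.id hπ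
  have hsπ : ∀ l, π (s l) = l := LinearMap.congr_fun hs
  let e : Matrix (Fin n) (Fin n) A := LinearMap.toMatrix' (s ∘ₗ π)
  have he : IsIdempotentElem e := by
    show e * e = e
    rw [← LinearMap.toMatrix'_comp]
    congr 1
    exact LinearMap.ext fun v => congrArg s (hsπ (π v))
  obtain ⟨e', he', hee⟩ := exists_isIdempotentElem_eq_of_ker_isNilpotent
    ((algebraMap A' A).mapMatrix (m := Fin n)) (fun x hx => isNilpotent_matrix hker x hx) e
    ⟨fun i j => (hA (e i j)).choose, Matrix.ext fun i j => (hA (e i j)).choose_spec⟩ he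
  let E : (Fin n → A') →ₗ[A'] (Fin n → A') := Matrix.mulVecLin e'
  have hEE : ∀ v, E (E v) = E v := fun v => by
    show e'.mulVec (e'.mulVec v) = e'.mulVec v
    rw [Matrix.mulVec_mulVec, he'.eq]
  let P := LinearMap.range E
  have hP : ∀ p : P, E p = p := by rintro ⟨_, v, rfl⟩; exact hEE v
  refine ⟨n, P, Module.Finite.range E,
    Module.Projective.of_split P.subtype E.rangeRestrict (LinearMap.ext fun p => Subtype.ext (hP p)),
    ?_⟩
  letI : Module A' L := Module.compHom L (algebraMap A' A)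
  haveI : IsScalarTower A' A L := ⟨fun a b l => by
    show (a • b) • l = algebraMap A' A a • (b • l)
    rw [Algebra.smul_def, mul_smul]⟩
  let cf : (Fin n → A') →ₗ[A'] (Fin n → A) := (Algebra.linearMap A' A).compLeft (Fin n)
  let Φ₀ : P →ₗ[A'] L := (π.restrictScalars A') ∘ₗ cf ∘ₗ P.subtype
  let Φ : A ⊗[A'] P →ₗ[A] L := Φ₀.liftBaseChange A
  let col : Fin n → P := fun i => E.rangeRestrict (Pi.single i 1)
  let Ψ : L →ₗ[A] A ⊗[A'] P :=
    (Fintype.linearCombination A fun i => (1 : A) ⊗ₜ[A'] col i) ∘ₗ s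
  have hcf : ∀ v, cf (E v) = (s ∘ₗ π) (cf v) := by
    intro v
    funext i
    show algebraMap A' A (e'.mulVec v i) = (s ∘ₗ π) (cf v) i
    rw [RingHom.map_mulVec]
    show ((algebraMap A' A).mapMatrix e').mulVec (cf v) i = _
    rw [hee, LinearMap.toMatrix'_mulVec]
  refine ⟨LinearEquiv.ofLinearMap Φ Ψ ?_ ?_⟩
  · refine LinearMap.ext fun l => ?_
    show Φ (∑ i, s l i • ((1 : A) ⊗ₜ[A'] col i)) = l
    simp only [map_sum, map_smul, Φ, LinearMap.liftBaseChange_tmul, one_smul]
    show ∑ i, s l i • π (cf (E (Pi.single i 1))) = l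
    simp only [hcf, LinearMap.comp_apply, hsπ]
    rw [← Finset.sum_congr rfl fun i _ => map_smul π (s l i) (cf (Pi.single i 1)), ← map_sum]
    conv_rhs => rw [← hsπ l]
    congr 1
    funext j
    simp [cf, Pi.single_apply, Finset.sum_apply]
  · refine TensorProduct.AlgebraTensorModule.curry_injective (LinearMap.ext_ring (LinearMap.ext fun p => ?_))
    show Ψ (Φ ((1 : A) ⊗ₜ[A'] p)) = (1 : A) ⊗ₜ[A'] p
    simp only [Φ, LinearMap.liftBaseChange_tmul, one_smul]
    show ∑ i, (s (π (cf p))) i • ((1 : A) ⊗ₜ[A'] col i) = _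
    rw [show s (π (cf p)) = cf p from by
      have := hcf p
      rw [hP] at this
      exact this.symm]
    have : ∀ i, (cf p) i • ((1 : A) ⊗ₜ[A'] col i) = (1 : A) ⊗ₜ[A'] ((p : Fin n → A') i • col i) :=
      fun i => by
        show algebraMap A' A ((p : Fin n → A') i) • ((1 : A) ⊗ₜ[A'] col i) = _
        rw [algebraMap_smul, TensorProduct.tmul_smul]
    rw [Finset.sum_congr rfl fun i _ => this i, ← TensorProduct.tmul_sum]
    congr 1
    apply Subtype.ext
    conv_rhs => rw [← hP p, pi_eq_sum_univ' (p : Fin n → A'), map_sum]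
    simp [col]

theorem nonempty_equiv (hA : Function.Surjective (algebraMap A' A))
    (hker : IsNilpotent (RingHom.ker (algebraMap A' A))) (P : Type v) [AddCommGroup P] [Module A' P]
    [Module.Finite A' P] [Module.Projective A' P] (e : A ⊗[A'] P ≃ₗ[A] A) :
    Nonempty (P ≃ₗ[A'] A') := by
  obtain ⟨p₀, hp₀⟩ : ∃ p₀, e ((1 : A) ⊗ₜ[A'] p₀) = 1 := by
    obtain ⟨q, hq⟩ := e.surjective 1
    obtain ⟨p₀, rfl⟩ := TensorProduct.mk_surjective A' P A hA q
    exact ⟨p₀, hq⟩
  let φ : A' →ₗ[A'] P := LinearMap.toSpanSingleton A' P p₀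
  let I := RingHom.ker (algebraMap A' A)
  have hmod : ∀ p : P, p ∈ LinearMap.range φ ⊔ (I • ⊤ : Submodule A' P) := by
    intro p
    obtain ⟨a, ha⟩ := hA (e (1 ⊗ₜ p))
    have h0 : (1 : A) ⊗ₜ[A'] (p - a • p₀) = 0 := by
      apply e.injective
      rw [TensorProduct.tmul_sub, map_sub, TensorProduct.tmul_smul, ← algebraMap_smul A a, map_smul,
        hp₀, map_zero, ha, smul_eq_mul, mul_one, sub_self]
    let eA : (A' ⧸ I) ≃ₗ[A'] A := LinearMap.quotKerEquivOfSurjective (Algebra.linearMap A' A) hA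
    have h1 : ((1 : A' ⧸ I)) ⊗ₜ[A'] (p - a • p₀) = 0 := by
      apply (LinearEquiv.rTensor P eA).injective
      rw [map_zero, ← h0]
      show (algebraMap A' A 1) ⊗ₜ[A'] _ = _
      rw [map_one]
      rfl
    have h2 := congrArg (TensorProduct.quotTensorEquivQuotSMul P I) h1
    rw [map_zero, show (1 : A' ⧸ I) = Ideal.Quotient.mk I 1 from rfl,
      TensorProduct.quotTensorEquivQuotSMul_mk_tmul, one_smul, Submodule.Quotient.mk_eq_zero] at h2
    refine Submodule.mem_sup.2 ⟨a • p₀, ⟨a, rfl⟩, p - a • p₀, h2, by abel⟩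
  have hIJ : I ≤ Ideal.jacobson ⊥ := fun x hx => by
    obtain ⟨N, hN⟩ := hker
    refine Ideal.radical_le_jacobson (?_ : x ∈ Ideal.radical ⊥)
    exact ⟨N, by rw [← Ideal.zero_eq_bot, ← hN]; exact Ideal.pow_mem_pow hx N⟩
  have hsurj : Function.Surjective φ := by
    rw [← LinearMap.range_eq_top, eq_top_iff]
    exact Submodule.le_of_le_smul_of_le_jacobson_bot Module.Finite.fg_top hIJ (fun p _ => hmod p)
  obtain ⟨ψ, hψ⟩ := Module.projective_lifting_property φ LinearMap.id hsurj
  let c : A' := ψ p₀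
  have hc : c • p₀ = p₀ := LinearMap.congr_fun hψ p₀
  have hc2 : IsIdempotentElem (1 - c) := by
    refine IsIdempotentElem.one_sub ?_
    show c * c = c
    rw [← smul_eq_mul, ← map_smul, hc]
  have hc0 : algebraMap A' A (1 - c) = 0 := by
    have := congrArg (fun q : P => e ((1 : A) ⊗ₜ[A'] q)) hc
    simp only [TensorProduct.tmul_smul, ← algebraMap_smul A c, map_smul, hp₀, smul_eq_mul, mul_one] at this
    rw [map_sub, map_one, this, sub_self]
  have hc1 : c = 1 := by
    obtain ⟨N, hN⟩ := hker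
    have hnil : IsNilpotent (1 - c) := ⟨N, Ideal.mem_bot.1 (by rw [← Ideal.zero_eq_bot, ← hN]; exact Ideal.pow_mem_pow hc0 N)⟩
    exact (sub_eq_zero.1 (hc2.eq_zero_of_isNilpotent hnil)).symm
  refine ⟨LinearEquiv.ofLinearMap ψ φ ?_ hψ⟩
  exact LinearMap.ext_ring (by show ψ ((1 : A') • p₀) = 1; rw [one_smul]; exact hc1)

end Groth.Agent.H21.LiftProj
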