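import Groth.Agent.Lib.LocalFlat.Criterion
import Mathlib.RingTheory.Localization.BaseChange
import Mathlib.RingTheory.IsTensorProduct

/-! Local criterion of flatness along a base change. -/

set_option autoImplicit false

universe u

open TensorProduct Groth.Agent.Lib.LocalFlat.Basic

namespace Groth.Agent.H21.LocalCrit

/-- Kernel of `M ⊗ IR' → M ⊗ R'` when `M/IM` is flat over `R/I`. -/
theorem eq_zero_of_mem_ker (R R' : Type u) [CommRing R] [CommRing R'] [Algebra R R'] (I : Ideal R)
    (M : Type u) [AddCommGroup M] [Module R M] [Module.Flat (R ⧸ I) ((R ⧸ I) ⊗[R] M)]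
    (x : M ⊗[R] ↥(I.map (algebraMap R R')))
    (hx : ((I.map (algebraMap R R')).subtype.restrictScalars R).lTensor M x = 0)
    {Z : Type u} [AddCommGroup Z] [Module R Z] (Φ : M ⊗[R] ↥(I.map (algebraMap R R')) →ₗ[R] Z)
    (hΦ : ∀ (r' : R') (k : M ⊗[R] ↥I), I.subtype.lTensor M k = 0 →
      Φ (((LinearMap.lsmul R' ↥(I.map (algebraMap R R')) r').restrictScalars R ∘ₗ
        Algebra.idealMap R' I).lTensor M k) = 0) : Φ x = 0 := by
  classical
  let I' := I.map (algebraMap R R')
  obtain ⟨G, _, _, _, π, hπ⟩ : ∃ (G : Type u) (_ : AddCommGroup G) (_ : Module R G)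
      (_ : Module.Flat R G) (π : G →ₗ[R] R'), Function.Surjective π :=
    ⟨R' →₀ R, inferInstance, inferInstance, inferInstance, Finsupp.linearCombination R id,
      Finsupp.linearCombination_id_surjective R R'⟩
  let mI : ↥I ⊗[R] G →ₗ[R] G := TensorProduct.lift ((LinearMap.lsmul R G).comp I.subtype)
  let ν : ↥I ⊗[R] G →ₗ[R] ↥I' := TensorProduct.lift
    (LinearMap.mk₂ R (fun i g => π g • Algebra.idealMap R' I i)
      (fun a b g => by rw [map_add, smul_add]) (fun c a g => by rw [map_smul, smul_comm])
      (fun a g g' => by rw [map_add, add_smul]) (fun c a g => by rw [map_smul, smul_assoc]))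
  have hν : ∀ (i : ↥I) (g : G), ν (i ⊗ₜ g) = π g • Algebra.idealMap R' I i := fun i g => rfl
  have hmI : ∀ (i : ↥I) (g : G), mI (i ⊗ₜ g) = (i : R) • g := fun i g => rfl
  have hcomp : (I'.subtype.restrictScalars R).comp ν = π.comp mI := by
    refine TensorProduct.ext' fun i g => ?_
    simp only [LinearMap.comp_apply, hν, hmI, map_smul, LinearMap.coe_restrictScalars,
      Submodule.subtype_apply]
    show π g * algebraMap R R' i = (i : R) • π g
    rw [Algebra.smul_def, mul_comm]
  have hνs : Function.Surjective ν := by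
    intro y
    obtain ⟨y, hy⟩ := y
    induction hy using Submodule.span_induction with
    | mem z hz =>
      obtain ⟨i, hi, rfl⟩ := hz
      obtain ⟨g, hg⟩ := hπ 1
      refine ⟨⟨i, hi⟩ ⊗ₜ g, Subtype.ext ?_⟩
      rw [hν, hg, one_smul]
      rfl
    | zero => exact ⟨0, map_zero ν⟩
    | add a b _ _ ha hb =>
      obtain ⟨p, hp⟩ := ha
      obtain ⟨q, hq⟩ := hb
      exact ⟨p + q, by rw [map_add, hp, hq]; rfl⟩
    | smul c a _ ha =>
      obtain ⟨p, hp⟩ := ha
      have key : ∀ p, ∃ q, ν q = c • ν p := by
        intro p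
        induction p with
        | zero => exact ⟨0, by simp⟩
        | add p q hp hq =>
          obtain ⟨p', hp⟩ := hp
          obtain ⟨q', hq⟩ := hq
          exact ⟨p' + q', by rw [map_add, map_add, smul_add, hp, hq]⟩
        | tmul i g =>
          obtain ⟨g', hg'⟩ := hπ (c * π g)
          exact ⟨i ⊗ₜ g', by rw [hν, hν, hg', mul_smul]⟩
      obtain ⟨q, hq⟩ := key p
      exact ⟨q, by rw [hq, hp]; rfl⟩
  obtain ⟨y, rfl⟩ := LinearMap.lTensor_surjective M hνs x
  rw [← LinearMap.comp_apply, ← LinearMap.lTensor_comp, hcomp, LinearMap.lTensor_comp,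
    LinearMap.comp_apply] at hx
  let P : Submodule R G := LinearMap.ker π
  have hexP : Function.Exact P.subtype π := LinearMap.exact_subtype_ker_map π
  obtain ⟨v, hv⟩ := ((lTensor_exact M hexP hπ) _).1 hx
  let IG : Submodule R G := I • ⊤
  let P0 : Submodule R P := IG.comap P.subtype
  let f : (P ⧸ P0) →ₗ[R] G ⧸ IG := P0.mapQ IG P.subtype le_rfl
  have hf : Function.Injective f := by
    rw [injective_iff_map_eq_zero]
    intro a ha
    obtain ⟨a, rfl⟩ := Submodule.mkQ_surjective _ a
    simp only [f, Submodule.mkQ_apply, Submodule.mapQ_apply, Submodule.Quotient.mk_eq_zero] at ha ⊢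
    exact ha
  have hfT : Function.Injective (f.lTensor M) :=
    lTensor_injective_of_smul_eq_zero (I := I) f hf fun r hr z => by
      obtain ⟨z, rfl⟩ := Submodule.mkQ_surjective _ z
      rw [← map_smul, Submodule.mkQ_apply, Submodule.Quotient.mk_eq_zero]
      exact Submodule.smul_mem_smul hr trivial
  have hmIG : IG.mkQ.comp mI = 0 := by
    refine TensorProduct.ext' fun i g => ?_
    simp only [LinearMap.comp_apply, hmI, LinearMap.zero_apply, Submodule.mkQ_apply,
      Submodule.Quotient.mk_eq_zero]
    exact Submodule.smul_mem_smul i.2 trivial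
  have hv0 : P0.mkQ.lTensor M v = 0 := by
    apply hfT
    rw [map_zero, ← LinearMap.comp_apply, ← LinearMap.lTensor_comp,
      show f.comp P0.mkQ = IG.mkQ.comp P.subtype from rfl, LinearMap.lTensor_comp, LinearMap.comp_apply,
      hv, ← LinearMap.comp_apply, ← LinearMap.lTensor_comp, hmIG, LinearMap.lTensor_zero,
      LinearMap.zero_apply]
  obtain ⟨v₁, rfl⟩ := ((lTensor_exact M (LinearMap.exact_subtype_mkQ P0) P0.mkQ_surjective) _).1 hv0
  let Q0 : Submodule R (↥I ⊗[R] G) := P.comap mI
  let qm : Q0 →ₗ[R] P0 := LinearMap.codRestrict P0 ((mI.domRestrict Q0).codRestrict P fun q => q.2)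
    fun q => by
      show mI q.1 ∈ IG
      exact (Submodule.Quotient.mk_eq_zero IG).mp (LinearMap.congr_fun hmIG q.1)
  have hqm : Function.Surjective qm := by
    intro p
    have hp : ((p : P) : G) ∈ IG := p.2
    obtain ⟨t, ht⟩ : ((p : P) : G) ∈ LinearMap.range mI := by
      refine Submodule.smul_induction_on hp (fun r hr g _ => ⟨⟨r, hr⟩ ⊗ₜ g, hmI _ _⟩) fun a b => add_mem
    exact ⟨⟨t, show mI t ∈ P from ht ▸ (p : P).2⟩, Subtype.ext (Subtype.ext ht)⟩
  obtain ⟨v₂, rfl⟩ := LinearMap.lTensor_surjective M hqm v₁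
  have hνQ : ν.comp Q0.subtype = 0 := by
    refine LinearMap.ext fun q => Subtype.ext ?_
    show (I'.subtype.restrictScalars R).comp ν q.1 = 0
    rw [hcomp]
    exact q.2
  have hmv : mI.lTensor M (Q0.subtype.lTensor M v₂) = mI.lTensor M y := by
    rw [← hv]
    simp only [← LinearMap.comp_apply, ← LinearMap.lTensor_comp]
    rfl
  let y' := y - Q0.subtype.lTensor M v₂
  have hy' : ν.lTensor M y' = ν.lTensor M y := by
    rw [map_sub, ← LinearMap.comp_apply (f := ν.lTensor M), ← LinearMap.lTensor_comp, hνQ,
      LinearMap.lTensor_zero, LinearMap.zero_apply, sub_zero]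
  rw [← hy']
  have hy0 : mI.lTensor M y' = 0 := by rw [map_sub, hmv, sub_self]
  -- reduce to the kernel of `M ⊗ I → M`
  let a := TensorProduct.assoc R M ↥I G
  let μ : M ⊗[R] ↥I →ₗ[R] M := (TensorProduct.rid R M).toLinearMap.comp (I.subtype.lTensor M)
  have hμ : μ.rTensor G = (mI.lTensor M).comp a.toLinearMap := by
    refine TensorProduct.ext_threefold fun m i g => ?_
    simp [a, μ, hmI, smul_tmul]
  have hex : Function.Exact (LinearMap.ker μ).subtype μ := LinearMap.exact_subtype_ker_map μ
  obtain ⟨z, hz⟩ := (Module.Flat.rTensor_exact G hex (a.symm y')).1 (by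
    rw [hμ, LinearMap.comp_apply, LinearEquiv.coe_coe, a.apply_symm_apply, hy0])
  rw [show y' = a ((LinearMap.ker μ).subtype.rTensor G z) by rw [hz, a.apply_symm_apply]]
  clear hz
  induction z with
  | zero => simp
  | add p q hp hq => simp only [map_add, hp, hq, add_zero]
  | tmul k g =>
    rw [LinearMap.rTensor_tmul, Submodule.subtype_apply]
    have hk : I.subtype.lTensor M (k : M ⊗[R] ↥I) = 0 :=
      (TensorProduct.rid R M).map_eq_zero_iff.mp k.2
    have key : ∀ k : M ⊗[R] ↥I, ν.lTensor M (a (k ⊗ₜ g)) =
        ((LinearMap.lsmul R' ↥I' (π g)).restrictScalars R ∘ₗ Algebra.idealMap R' I).lTensor M k := by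
      intro k
      induction k with
      | zero => simp
      | add p q hp hq => simp only [add_tmul, map_add, hp, hq]
      | tmul m i => simp [a, hν]
    rw [key]
    exact hΦ _ _ hk

variable {A : Type u} [CommRing A] {T : Type u} [CommRing T] [Algebra A T]

/-- Injectivity after tensoring is inherited by localisations. -/
theorem eq_zero_of_localized (W : Submonoid T) {N N' : Type u} [AddCommGroup N] [Module A N] [Module T N]
    [IsScalarTower A T N] [AddCommGroup N'] [Module A N'] [Module T N'] [IsScalarTower A T N']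
    (g : N →ₗ[T] N') [IsLocalizedModule W g] {P P' : Type u} [AddCommGroup P] [Module A P]
    [AddCommGroup P'] [Module A P'] (j : P →ₗ[A] P')
    (h : ∀ η : N ⊗[A] P, j.lTensor N η = 0 → (g.restrictScalars A).rTensor P η = 0)
    (ξ : N' ⊗[A] P) (hξ : j.lTensor N' ξ = 0) : ξ = 0 := by
  let G := AlgebraTensorModule.rTensor A P g
  let G' := AlgebraTensorModule.rTensor A P' g
  obtain ⟨⟨η, c⟩, hη⟩ := IsLocalizedModule.surj W G ξ
  have hc : ∀ z : N ⊗[A] P, G' (j.lTensor N z) = j.lTensor N' (G z) := by
    intro z
    induction z with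
    | zero => simp
    | add p q hp hq => simp only [map_add, hp, hq]
    | tmul n p => simp [G, G']
  have hG' : G' (j.lTensor N η) = 0 := by
    rw [hc, ← hη]
    change (AlgebraTensorModule.lTensor T N' j) ((c : T) • ξ) = 0
    rw [map_smul]
    change (c : T) • j.lTensor N' ξ = 0
    rw [hξ, smul_zero]
  obtain ⟨c', hc'⟩ := (IsLocalizedModule.eq_zero_iff W G').mp hG'
  have h0 : G ((c' : T) • η) = 0 := by
    refine h _ ?_
    change (AlgebraTensorModule.lTensor T N j) ((c' : T) • η) = 0
    rw [map_smul]
    exact hc'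
  rw [map_smul, ← hη] at h0
  have h1 : (c : T) • ξ = 0 :=
    IsLocalizedModule.smul_injective G c' (h0.trans (smul_zero c').symm)
  exact IsLocalizedModule.smul_injective G c (h1.trans (smul_zero c).symm)

/-- Flatness of the reduction from injectivity on modules killed by the ideal. -/
theorem flat_quotient (I : Ideal A) (M : Type u) [AddCommGroup M] [Module A M]
    (h : ∀ (P P' : Type u) [AddCommGroup P] [Module A P] [AddCommGroup P'] [Module A P'] (j : P →ₗ[A] P'),
      Function.Injective j → (∀ r ∈ I, ∀ x : P', r • x = 0) → Function.Injective (j.lTensor M)) :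
    Module.Flat (A ⧸ I) ((A ⧸ I) ⊗[A] M) := by
  rw [Module.Flat.iff_rTensor_injective']
  intro J
  let c := TensorProduct.AlgebraTensorModule.cancelBaseChange A (A ⧸ I) (A ⧸ I) ↥J M
  let c' := TensorProduct.AlgebraTensorModule.cancelBaseChange A (A ⧸ I) (A ⧸ I) (A ⧸ I) M
  let j : ↥J →ₗ[A] A ⧸ I := J.subtype.restrictScalars A
  have key : c' ∘ J.subtype.rTensor ((A ⧸ I) ⊗[A] M) = j.rTensor M ∘ c := by
    funext x
    induction x with
    | zero => simp
    | add x y hx hy => simp only [Function.comp_apply, map_add] at *; rw [hx, hy]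
    | tmul n am =>
      induction am with
      | zero => simp
      | tmul a m => simp [c, c', j]
      | add x y hx hy => simp only [Function.comp_apply, tmul_add, map_add] at *; rw [hx, hy]
  have hj : Function.Injective (j.rTensor M) := by
    have := h ↥J (A ⧸ I) j J.injective_subtype fun r hr x => by
      obtain ⟨x, rfl⟩ := Ideal.Quotient.mk_surjective x
      rw [Algebra.smul_def, Ideal.Quotient.algebraMap_eq, ← map_mul, Ideal.Quotient.eq_zero_iff_mem]
      exact Ideal.mul_mem_right _ _ hr
    rw [← LinearMap.comm_comp_lTensor_comp_comm_eq]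
    simpa using this
  have := hj.comp c.injective
  rw [← key] at this
  exact this.of_comp

attribute [local instance] Algebra.TensorProduct.rightAlgebra

theorem flat_of_tor_zero
    (R S R' S' : Type u) [CommRing R] [CommRing S] [CommRing R'] [CommRing S']
    [IsLocalRing R] [IsLocalRing R'] [IsLocalRing S'] [IsNoetherianRing R'] [IsNoetherianRing S']
    [Algebra R S] [Algebra R R'] [Algebra S S'] [Algebra R' S'] [Algebra R S']
    [IsScalarTower R S S'] [IsScalarTower R R' S'] [IsLocalHom (algebraMap R R')]
    [IsLocalHom (algebraMap R' S')]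
    (I : Ideal R) (hI : I ≠ ⊤) (M : Type u) [AddCommGroup M] [Module S M] [Module R M] [IsScalarTower R S M]
    [Module.Finite S M]
    (M' : Type u) [AddCommGroup M'] [Module S' M'] [Module R' M'] [IsScalarTower R' S' M']
    [Module S M'] [IsScalarTower S S' M'] [Module R M'] [IsScalarTower R R' M'] [IsScalarTower R S M']
    (f : M →ₗ[S] M') (hf : IsBaseChange S' f)
    (h1 : ∃ W : Submonoid (S ⊗[R] R'),
      letI : Algebra (S ⊗[R] R') S' :=
        (Algebra.TensorProduct.lift (IsScalarTower.toAlgHom R S S') (IsScalarTower.toAlgHom R R' S')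
          (fun s r => Commute.all _ _)).toRingHom.toAlgebra;
      IsLocalization W S')
    (h2 : Module.Flat (R ⧸ I) ((R ⧸ I) ⊗[R] M))
    (h3 : ∀ x : ↥I ⊗[R] M, (Submodule.subtype I).rTensor M x = 0 →
      (TensorProduct.mapOfCompatibleSMul R' R R ↥(I.map (algebraMap R R')) M')
        ((TensorProduct.map (Algebra.idealMap R' I) (f.restrictScalars R)) x) = 0) :
    Module.Flat R' M' := by
  haveI := h2
  let T := S ⊗[R] R'
  obtain ⟨W, hW⟩ := h1
  letI algTS' : Algebra T S' :=
    (Algebra.TensorProduct.lift (IsScalarTower.toAlgHom R S S') (IsScalarTower.toAlgHom R R' S')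
      (fun s r => Commute.all _ _)).toRingHom.toAlgebra
  haveI : IsLocalization W S' := hW
  haveI : IsScalarTower S T S' := IsScalarTower.of_algebraMap_eq fun s => by
    show _ = Algebra.TensorProduct.lift _ _ _ (s ⊗ₜ[R] (1 : R'))
    simp
  haveI : IsScalarTower R' T S' := IsScalarTower.of_algebraMap_eq fun r => by
    show _ = Algebra.TensorProduct.lift _ _ _ ((1 : S) ⊗ₜ[R] r)
    simp
  letI : Module T M' := Module.compHom M' (algebraMap T S')
  haveI : IsScalarTower T S' M' := IsScalarTower.of_algebraMap_smul fun t x => rfl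
  haveI : IsScalarTower R' T M' := IsScalarTower.of_algebraMap_smul fun r x => by
    show algebraMap T S' (algebraMap R' T r) • x = r • x
    rw [← IsScalarTower.algebraMap_apply, algebraMap_smul]
  haveI : IsScalarTower S T M' := IsScalarTower.of_algebraMap_smul fun s x => by
    show algebraMap T S' (algebraMap S T s) • x = s • x
    rw [← IsScalarTower.algebraMap_apply, algebraMap_smul]
  let g : T ⊗[S] M →ₗ[T] M' := f.liftBaseChange T
  have hg : IsBaseChange S' g := by
    refine IsBaseChange.of_comp (TensorProduct.isBaseChange S M T) ?_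
    have : (g.restrictScalars S).comp (TensorProduct.mk S T M 1) = f := by
      ext m; simp [g]
    rw [this]
    exact hf
  haveI : IsLocalizedModule W g := (isLocalizedModule_iff_isBaseChange W S' g).mpr hg
  let e : T ⊗[S] M ≃ₗ[R'] R' ⊗[R] M := Algebra.IsPushout.cancelBaseChange R R' S T M
  have he : ∀ (r : R') (m : M), g (e.symm (r ⊗ₜ m)) = r • f m := fun r m => by
    rw [Algebra.IsPushout.cancelBaseChange_symm_tmul]
    show g (algebraMap R' T r ⊗ₜ m) = _
    simp only [g, LinearMap.liftBaseChange_tmul]
    exact algebraMap_smul T r (f m)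
  let I' := I.map (algebraMap R R')
  -- `(T ⊗ M) ⊗[R'] P = M ⊗[R] P`
  let E : ∀ (P : Type u) [AddCommGroup P] [Module R' P] [Module R P] [IsScalarTower R R' P],
      (T ⊗[S] M) ⊗[R'] P ≃ₗ[R] M ⊗[R] P := fun P _ _ _ _ =>
    (((TensorProduct.congr e (LinearEquiv.refl R' P)).trans (TensorProduct.comm R' _ P)).restrictScalars R).trans
      (((AlgebraTensorModule.cancelBaseChange R R' R' P M).restrictScalars R).trans (TensorProduct.comm R P M))
  have hE : ∀ (P : Type u) [AddCommGroup P] [Module R' P] [Module R P] [IsScalarTower R R' P] (r : R') (m : M) (p : P),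
      E P (e.symm (r ⊗ₜ m) ⊗ₜ p) = m ⊗ₜ (r • p) := fun P _ _ _ _ r m p => by simp [E]
  have hEnat : ∀ (P P' : Type u) [AddCommGroup P] [Module R' P] [Module R P] [IsScalarTower R R' P]
      [AddCommGroup P'] [Module R' P'] [Module R P'] [IsScalarTower R R' P'] (j : P →ₗ[R'] P') (η),
      E P' (j.lTensor _ η) = (j.restrictScalars R).lTensor M (E P η) := by
    intro P P' _ _ _ _ _ _ _ _ j η
    induction η with
    | zero => simp
    | add p q hp hq => simp only [map_add, hp, hq]
    | tmul n p =>
      obtain ⟨n, rfl⟩ := e.symm.surjective n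
      induction n with
      | zero => simp
      | add a b ha hb => simp only [map_add, add_tmul, ha, hb]
      | tmul r m => simp [hE, map_smul]
  haveI hflat : Module.Flat (R' ⧸ I') ((R' ⧸ I') ⊗[R'] M') := by
    refine flat_quotient I' M' fun P P' _ _ _ _ j hj hP' => ?_
    rw [injective_iff_map_eq_zero]
    refine fun ξ hξ => eq_zero_of_localized W g j (fun η hη => ?_) ξ hξ
    letI : Module R P := Module.compHom P (algebraMap R R')
    letI : Module R P' := Module.compHom P' (algebraMap R R')
    haveI : IsScalarTower R R' P := IsScalarTower.of_algebraMap_smul fun r x => rfl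
    haveI : IsScalarTower R R' P' := IsScalarTower.of_algebraMap_smul fun r x => rfl
    have hi : Function.Injective ((j.restrictScalars R).lTensor M) :=
      lTensor_injective_of_smul_eq_zero (I := I) (j.restrictScalars R) hj fun r hr x =>
        hP' _ (Ideal.mem_map_of_mem _ hr) x
    have : E P η = 0 := hi (by rw [map_zero, ← hEnat, hη, map_zero])
    rw [(E P).map_eq_zero_iff.mp this, map_zero]
  haveI : Module.Finite S' M' := Module.Finite.of_surjective hf.equiv.toLinearMap hf.equiv.surjective
  refine Lib.LocalFlat.Criterion.flat_of_injective_of_flat_quotient (R := R') S' I'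
    (Lib.LocalFlat.Criterion.map_le_jacobson_bot_of_isLocalHom fun h => hI ?_) ?_
  · by_contra hne
    have : I' ≤ IsLocalRing.maximalIdeal R' :=
      (Ideal.map_mono (IsLocalRing.le_maximalIdeal hne)).trans
        (IsLocalRing.map_maximalIdeal_le (algebraMap R R'))
    rw [show I' = ⊤ from h] at this
    exact (IsLocalRing.maximalIdeal.isMaximal R').ne_top (top_le_iff.mp this)
  · rw [injective_iff_map_eq_zero]
    refine fun ξ hξ => eq_zero_of_localized W g I'.subtype (fun η hη => ?_) ξ hξ
    let Φ : M ⊗[R] ↥I' →ₗ[R] M' ⊗[R'] ↥I' :=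
      ((TensorProduct.mapOfCompatibleSMul R' R R M' ↥I').restrictScalars R).comp
        ((f.restrictScalars R).rTensor ↥I')
    have hΦE : ∀ η, (g.restrictScalars R').rTensor ↥I' η = Φ (E ↥I' η) := by
      intro η
      induction η with
      | zero => simp
      | add p q hp hq => simp only [map_add, hp, hq]
      | tmul n p =>
        obtain ⟨n, rfl⟩ := e.symm.surjective n
        induction n with
        | zero => simp
        | add a b ha hb => simp only [map_add, add_tmul, ha, hb]
        | tmul r m => simp [hE, he, Φ, smul_tmul]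
    rw [hΦE]
    refine eq_zero_of_mem_ker R R' I M (E ↥I' η) ?_ Φ fun r' k hk => ?_
    · rw [← hEnat, hη, map_zero]
    · have h4 := h3 (TensorProduct.comm R M ↥I k) (by
        rw [← LinearMap.comm_comp_lTensor_comp_comm_eq]; simp [hk])
      have key : Φ (((LinearMap.lsmul R' ↥I' r').restrictScalars R ∘ₗ Algebra.idealMap R' I).lTensor M k) =
          r' • TensorProduct.comm R' ↥I' M' ((TensorProduct.mapOfCompatibleSMul R' R R ↥I' M')
            ((TensorProduct.map (Algebra.idealMap R' I) (f.restrictScalars R)) (TensorProduct.comm R M ↥I k))) := by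
        clear hk h4
        induction k with
        | zero => simp
        | add p q hp hq => simp only [map_add, smul_add, hp, hq]
        | tmul m i => simp [Φ, tmul_smul]
      rw [key, h4, map_zero, smul_zero]

end Groth.Agent.H21.LocalCrit
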