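import Mathlib.Data.Complex.Basic
import Mathlib.RingTheory.Localization.Away.Basic
import Mathlib.Algebra.Polynomial.Derivative
import Mathlib.Algebra.Polynomial.RingDivision
import Mathlib.LinearAlgebra.Charpoly.Basic
import Mathlib.LinearAlgebra.Determinant
import Mathlib.RingTheory.Coprime.Lemmas
import Mathlib.Tactic.LinearCombination

/-! Logarithmic connections on the affine line with non-resonant residues. -/

set_option autoImplicit false

open Polynomial

universe u

namespace Groth.Agent.H21.LogDeriv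

variable {R : Type u} [CommRing R] [Algebra ℂ R] {d r : ℕ} {θ : Fin r → R}
  (hθ : ∀ i k, i ≠ k → IsUnit (θ i - θ k))
  {Θ : R[X]} (hΘ : Θ = ∏ i, (X - Polynomial.C (θ i)))
  (D₀ : (Fin d → R[X]) →+ (Fin d → R[X]))
  (hD₀ : ∀ (p : R[X]) (v : Fin d → R[X]),
    D₀ (p • v) = (Θ * derivative p) • v + p • D₀ v)
  (Res : Fin r → ((Fin d → R) →ₗ[R] (Fin d → R)))
  (hRes : ∀ (i : Fin r) (m : Fin d → R) (j : Fin d),
    (D₀ (fun j => Polynomial.C (m j)) j).eval (θ i) =
      (∏ k ∈ Finset.univ.erase i, (θ i - θ k)) * Res i m j)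
  (hχ : ∀ i : Fin r, ∃ χ : ℂ[X], (Res i).charpoly = χ.map (algebraMap ℂ R) ∧
    ∀ n : ℤ, n ≠ 0 → χ.eval (n : ℂ) ≠ 0)

/-- The product of the differences at `θ i`. -/
noncomputable def c (θ : Fin r → R) (i : Fin r) : R := ∏ k ∈ Finset.univ.erase i, (θ i - θ k)

include hθ in
theorem isUnit_c (i : Fin r) : IsUnit (c θ i) :=
  IsUnit.prod_iff.mpr fun k hk => hθ i k (Finset.ne_of_mem_erase hk).symm

include hΘ in
theorem eval_Θ (i : Fin r) : Θ.eval (θ i) = 0 := by
  rw [hΘ, eval_prod]
  exact Finset.prod_eq_zero (Finset.mem_univ i) (by simp)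

include hΘ in
theorem eval_derivative (i : Fin r) : (derivative Θ).eval (θ i) = c θ i := by
  rw [hΘ, ← Finset.mul_prod_erase Finset.univ _ (Finset.mem_univ i), derivative_mul]
  simp [eval_prod, c]

include hD₀ hRes hΘ in
theorem eval_D₀ (v : Fin d → R[X]) (i : Fin r) (j : Fin d) :
    (D₀ v j).eval (θ i) = c θ i * Res i (fun j => (v j).eval (θ i)) j := by
  classical
  have hv : v = ∑ l, v l • (fun j => Polynomial.C ((Pi.single l (1 : R) : Fin d → R) j)) := by
    funext j
    simp only [Finset.sum_apply, Pi.smul_apply, smul_eq_mul]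
    rw [Finset.sum_eq_single j] <;> simp +contextual [Pi.single_apply, eq_comm]
  have hm : (fun j => (v j).eval (θ i)) =
      ∑ l, (v l).eval (θ i) • (Pi.single l (1 : R) : Fin d → R) := by
    funext j
    simp [Finset.sum_apply, Pi.single_apply]
  conv_lhs => rw [hv]
  rw [hm, map_sum, map_sum, Finset.sum_apply, Finset.sum_apply, eval_finsetSum, Finset.mul_sum]
  refine Finset.sum_congr rfl fun l _ => ?_
  rw [hD₀, Pi.add_apply, Pi.smul_apply, Pi.smul_apply, eval_add, smul_eq_mul, smul_eq_mul,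
    eval_mul, eval_mul, eval_mul, eval_Θ hΘ, zero_mul, zero_mul, zero_add, hRes, map_smul,
    Pi.smul_apply, smul_eq_mul, c]
  ring

include hχ in
theorem bijective_sub (i : Fin r) (n : ℕ) (hn : n ≠ 0) :
    Function.Bijective (fun m => Res i m - (n : R) • m) := by
  obtain ⟨χ, hχ1, hχ2⟩ := hχ i
  have h1 := LinearMap.eval_charpoly (Res i) (n : R)
  rw [hχ1, eval_map, ← map_natCast (algebraMap ℂ R) n, eval₂_at_apply] at h1
  have hu : IsUnit (algebraMap ℂ R (χ.eval (n : ℂ))) :=
    (isUnit_iff_ne_zero.mpr (by simpa using hχ2 (n : ℤ) (by exact_mod_cast hn))).map _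
  rw [h1, ← LinearMap.isUnit_iff_isUnit_det] at hu
  have hb := (Module.End.isUnit_iff _).mp hu
  have : (fun m => Res i m - (n : R) • m) = fun m => -((algebraMap R (Module.End R (Fin d → R))
      (algebraMap ℂ R (n : ℂ)) - Res i) m) := by
    funext m j
    simp [sub_eq_add_neg, add_comm]
  rw [this]
  exact (Equiv.neg _).bijective.comp hb

include hθ hΘ in
theorem Θ_dvd (p : R[X]) (hp : ∀ i, p.eval (θ i) = 0) : Θ ∣ p := by
  rw [hΘ]
  refine Finset.prod_dvd_of_coprime (fun i _ k _ hik => ?_) fun i _ => dvd_iff_isRoot.mpr (hp i)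
  obtain ⟨u, hu⟩ := (hθ k i (Ne.symm hik)).exists_left_inv
  refine ⟨Polynomial.C u, -Polynomial.C u, ?_⟩
  rw [← map_one (Polynomial.C : R →+* R[X]), ← hu, map_mul, map_sub]
  ring

/-- The symbol of the operator on `v / Θ ^ n`. -/
noncomputable def L (Θ : R[X]) (D₀ : (Fin d → R[X]) →+ (Fin d → R[X])) (n : ℕ)
    (v : Fin d → R[X]) : Fin d → R[X] :=
  D₀ v - ((n : R[X]) * derivative Θ) • v

include hD₀ hRes hΘ in
theorem eval_L (n : ℕ) (v : Fin d → R[X]) (i : Fin r) :
    (fun j => (L Θ D₀ n v j).eval (θ i)) =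
      c θ i • (Res i (fun j => (v j).eval (θ i)) - (n : R) • fun j => (v j).eval (θ i)) := by
  funext j
  rw [L, Pi.sub_apply, Pi.smul_apply, eval_sub, eval_D₀ hΘ D₀ hD₀ Res hRes, smul_eq_mul, eval_mul,
    eval_mul, eval_derivative hΘ, eval_natCast, Pi.smul_apply, Pi.sub_apply, Pi.smul_apply,
    smul_eq_mul, smul_eq_mul]
  ring

local notation "LΘ" => Localization.Away Θ

/-- `v / Θ ^ n`. -/
noncomputable def frac (n : ℕ) (v : Fin d → R[X]) : Fin d → Localization.Away Θ := fun j =>
  IsLocalization.mk' _ (v j) (⟨Θ ^ n, n, rfl⟩ : Submonoid.powers Θ)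

theorem smul_frac (n : ℕ) (v : Fin d → R[X]) :
    (Θ ^ n) • frac (Θ := Θ) n v = fun j => algebraMap R[X] LΘ (v j) := by
  funext j
  rw [Pi.smul_apply, Algebra.smul_def, frac]
  exact IsLocalization.mk'_spec' LΘ (v j) (⟨Θ ^ n, n, rfl⟩ : Submonoid.powers Θ)

theorem frac_surjective (w : Fin d → LΘ) : ∃ n v, w = frac (Θ := Θ) n v := by
  classical
  have key : ∀ j, ∃ n, ∃ a : R[X], w j * algebraMap R[X] LΘ (Θ ^ n) = algebraMap R[X] LΘ a := by
    intro j
    obtain ⟨⟨a, ⟨_, n, rfl⟩⟩, h⟩ := IsLocalization.surj (Submonoid.powers Θ) (w j)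
    exact ⟨n, a, h⟩
  choose n a ha using key
  refine ⟨Finset.univ.sup n, fun j => a j * Θ ^ (Finset.univ.sup n - n j), funext fun j => ?_⟩
  rw [frac, IsLocalization.eq_mk'_iff_mul_eq, map_mul, ← ha, mul_assoc, ← map_mul, ← pow_add,
    Nat.add_sub_cancel' (Finset.le_sup (Finset.mem_univ j))]

theorem frac_succ (n : ℕ) (v : Fin d → R[X]) : frac (Θ := Θ) (n + 1) (Θ • v) = frac n v := by
  funext j
  rw [frac, frac, IsLocalization.mk'_eq_iff_eq, Pi.smul_apply, smul_eq_mul]
  congr 1
  ring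

theorem frac_add (n : ℕ) (v w : Fin d → R[X]) :
    frac (Θ := Θ) n (v + w) = frac n v + frac n w := by
  funext j
  rw [Pi.add_apply, frac, frac, frac, ← IsLocalization.mk'_add, IsLocalization.mk'_eq_iff_eq]
  congr 1
  simp only [Pi.add_apply, Submonoid.coe_mul]
  ring

variable (D : (Fin d → Localization.Away Θ) →+ (Fin d → Localization.Away Θ))
  (hD : ∀ (p : R[X]) (w : Fin d → Localization.Away Θ),
    D (p • w) = (Θ * derivative p) • w + p • D w)
  (hDD₀ : ∀ v : Fin d → R[X],
    D (fun j => algebraMap R[X] (Localization.Away Θ) (v j)) =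
      fun j => algebraMap R[X] (Localization.Away Θ) (D₀ v j))

include hD hDD₀ in
theorem D_frac (n : ℕ) (v : Fin d → R[X]) : D (frac (Θ := Θ) n v) = frac n (L Θ D₀ n v) := by
  have h := hD (Θ ^ n) (frac (Θ := Θ) n v)
  rw [smul_frac, hDD₀] at h
  funext j
  have hj := congrFun h j
  rw [Pi.add_apply, Pi.smul_apply, Pi.smul_apply, Algebra.smul_def, Algebra.smul_def] at hj
  rw [frac, IsLocalization.eq_mk'_iff_mul_eq, L, Pi.sub_apply, Pi.smul_apply, smul_eq_mul, map_sub]
  have hpow : Θ * derivative (Θ ^ n) = (n : R[X]) * derivative Θ * Θ ^ n := by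
    cases n with
    | zero => simp
    | succ m =>
      rw [derivative_pow, Nat.add_sub_cancel]
      simp only [Nat.cast_add, Nat.cast_one, map_add, map_one, map_natCast]
      ring
  rw [hpow, map_mul] at hj
  have hv := congrFun (smul_frac (Θ := Θ) n v) j
  rw [Pi.smul_apply, Algebra.smul_def] at hv
  rw [map_mul, ← hv]
  linear_combination -hj

include hθ hΘ hD₀ hRes hχ hD hDD₀ in
theorem mem_of_D_mem (f : Fin d → Localization.Away Θ)
    (hf : ∃ v : Fin d → R[X], D f = fun j => algebraMap R[X] (Localization.Away Θ) (v j)) :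
    ∃ v : Fin d → R[X], f = fun j => algebraMap R[X] (Localization.Away Θ) (v j) := by
  obtain ⟨n, v, rfl⟩ := frac_surjective f
  induction n generalizing v with
  | zero => exact ⟨v, by simpa using smul_frac (Θ := Θ) 0 v⟩
  | succ n ih =>
    obtain ⟨u, hu⟩ := hf
    rw [D_frac D₀ D hD hDD₀] at hu
    have hroot : ∀ i, (fun j => (v j).eval (θ i)) = 0 := by
      intro i
      have he : (fun j => (L Θ D₀ (n + 1) v j).eval (θ i)) = 0 := by
        funext j
        have hj := congrFun hu j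
        rw [frac, IsLocalization.mk'_eq_iff_eq_mul, ← map_mul] at hj
        have h0 : L Θ D₀ (n + 1) v j = u j * Θ ^ (n + 1) := by
          refine (IsLocalization.injective (M := Submonoid.powers Θ) LΘ ?_) hj
          rintro _ ⟨k, rfl⟩
          exact pow_mem (hΘ ▸ (monic_prod_of_monic _ _ fun i _ => monic_X_sub_C _).mem_nonZeroDivisors) k
        rw [h0, eval_mul, eval_pow, eval_Θ hΘ, zero_pow (Nat.succ_ne_zero n), mul_zero, Pi.zero_apply]
      rw [eval_L hΘ D₀ hD₀ Res hRes] at he
      have he' : Res i (fun j => (v j).eval (θ i)) - ((n + 1 : ℕ) : R) • (fun j => (v j).eval (θ i)) = 0 :=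
        (isUnit_c hθ i).smul_eq_zero.mp he
      exact (bijective_sub Res hχ i (n + 1) (Nat.succ_ne_zero n)).1 (he'.trans (by simp))
    choose v' hv' using fun j => Θ_dvd hθ hΘ (v j) fun i => congrFun (hroot i) j
    obtain rfl : v = Θ • v' := funext fun j => hv' j
    rw [frac_succ]
    refine ih v' ⟨u, ?_⟩
    rw [← frac_succ, D_frac D₀ D hD hDD₀]
    exact hu

include hθ hΘ hD₀ hRes hχ hD hDD₀ in
theorem exists_eq_D_add (w : Fin d → Localization.Away Θ) :
    ∃ (w' : Fin d → Localization.Away Θ) (v : Fin d → R[X]),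
      w = D w' + fun j => algebraMap R[X] (Localization.Away Θ) (v j) := by
  classical
  obtain ⟨n, u, rfl⟩ := frac_surjective w
  induction n generalizing u with
  | zero => exact ⟨0, u, by rw [map_zero, zero_add]; simpa using smul_frac (Θ := Θ) 0 u⟩
  | succ n ih =>
    have hm : ∀ i, ∃ m : Fin d → R,
        c θ i • (Res i m - ((n + 1 : ℕ) : R) • m) = fun j => (u j).eval (θ i) := by
      intro i
      obtain ⟨e, he⟩ := (isUnit_c hθ i).exists_left_inv
      obtain ⟨m, hm⟩ := (bijective_sub Res hχ i (n + 1) (Nat.succ_ne_zero n)).2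
        (e • fun j => (u j).eval (θ i))
      refine ⟨m, ?_⟩
      simp only at hm
      rw [hm, smul_smul, mul_comm, he, one_smul]
    choose m hm using hm
    choose e he using fun i => (isUnit_c hθ i).exists_left_inv
    let v : Fin d → R[X] := fun j =>
      ∑ k, Polynomial.C (e k * m k j) * ∏ l ∈ Finset.univ.erase k, (X - Polynomial.C (θ l))
    have hv : ∀ i, (fun j => (v j).eval (θ i)) = m i := fun i => funext fun j => by
      simp only [v, eval_finsetSum, eval_mul, eval_C, eval_prod, eval_sub, eval_X]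
      rw [Finset.sum_eq_single i]
      · rw [mul_right_comm]
        show e i * c θ i * m i j = m i j
        rw [he, one_mul]
      · intro k _ hk
        rw [Finset.prod_eq_zero (Finset.mem_erase.mpr ⟨hk.symm, Finset.mem_univ i⟩) (sub_self _), mul_zero]
      · exact fun h => absurd (Finset.mem_univ i) h
    choose q hq using fun j => Θ_dvd hθ hΘ ((u - L Θ D₀ (n + 1) v) j) fun i => by
      have h := congrFun (eval_L hΘ D₀ hD₀ Res hRes (n + 1) v i) j
      rw [hv, hm] at h
      rw [Pi.sub_apply, eval_sub, h, sub_self]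
    obtain ⟨w', v', hw⟩ := ih q
    refine ⟨frac (n + 1) v + w', v', ?_⟩
    have hu : u = L Θ D₀ (n + 1) v + Θ • q := by
      funext j
      rw [Pi.add_apply, Pi.smul_apply, smul_eq_mul, ← hq, Pi.sub_apply, add_sub_cancel]
    conv_lhs => rw [hu, frac_add, frac_succ, hw]
    rw [map_add, D_frac D₀ D hD hDD₀, add_assoc]

end Groth.Agent.H21.LogDeriv
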