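import Mathlib.LinearAlgebra.Dimension.Constructions
import Mathlib.LinearAlgebra.FiniteDimensional.Basic
import Mathlib.LinearAlgebra.LinearIndependent.Lemmas
import Mathlib.Algebra.BigOperators.Group.Finset.Sigma
import Mathlib.Logic.Relation
import Mathlib.Algebra.Order.BigOperators.Group.Finset

/-!
# Edmonds' partition theorem for families of vectors
-/

set_option autoImplicit false

universe u

open Module

namespace Groth.Agent.H21.MatroidPartition

variable {K : Type u} [Field K] {V : Type u} [AddCommGroup V] [Module K V]
variable {E : Type} [Fintype E] [DecidableEq E] {P : ℕ}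

/-- All colour classes are independent. -/
def Good (K : Type u) [Field K] [Module K V] (v : E → V) (c : E → Option (Fin P)) : Prop :=
  ∀ j, LinearIndepOn K v {e | c e = some j}

/-- number of coloured elements. -/
noncomputable def covered (c : E → Option (Fin P)) : ℕ := (Finset.univ.filter fun e => c e ≠ none).card

/-- one exchange. -/
def Step (K : Type u) [Field K] [Module K V] (v : E → V) (c c' : E → Option (Fin P)) : Prop :=
  ∃ y z j, c y = none ∧ c z = some j ∧
    v y ∈ Submodule.span K (v '' {e | c e = some j}) ∧
    c' = Function.update (Function.update c z none) y (some j) ∧ Good K v c'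

theorem covered_step {v : E → V} {c c' : E → Option (Fin P)} (h : Step K v c c') : covered c' = covered c := by
  obtain ⟨y, z, j, hy, hz, -, rfl, -⟩ := h
  have hyz : y ≠ z := fun he => by rw [he, hz] at hy; exact Option.some_ne_none _ hy
  unfold covered
  have hset : (Finset.univ.filter fun e => Function.update (Function.update c z none) y (some j) e ≠ none)
      = insert y ((Finset.univ.filter fun e => c e ≠ none).erase z) := by
    ext e
    by_cases h1 : e = y
    · simp [h1]
    · by_cases h2 : e = z
      · simp [h2, hyz, Ne.symm hyz]
      · simp [h1, h2]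
  rw [hset, Finset.card_insert_of_notMem (by simp [hy]), Finset.card_erase_add_one (by simp [hz])]

/-- Edmonds: a family can be split into `P` independent parts iff no subspace contains too many
of its members. -/
theorem exists_partition [FiniteDimensional K V] (v : E → V)
    (h : ∀ L : Submodule K V, Nat.card {e // v e ∈ L} ≤ P * finrank K L) :
    ∃ c : E → Fin P, ∀ j, LinearIndepOn K v {e | c e = j} := by
  classical
  obtain ⟨c₀, hc₀, hmax⟩ := Finset.exists_max_image
    (Finset.univ.filter fun c : E → Option (Fin P) => Good K v c) covered
    ⟨fun _ => none, Finset.mem_filter.mpr ⟨Finset.mem_univ _, fun j => by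
      simp [linearIndepOn_empty]⟩⟩
  rw [Finset.mem_filter] at hc₀
  by_cases hall : ∀ e, c₀ e ≠ none
  · choose c hc using fun e => Option.ne_none_iff_exists'.mp (hall e)
    refine ⟨c, fun j => ?_⟩
    have : {e | c e = j} = {e | c₀ e = some j} := by ext e; simp [hc e]
    rw [this]
    exact hc₀.2 j
  exfalso
  push Not at hall
  obtain ⟨e₀, he₀⟩ := hall
  let Reach := fun c => Relation.ReflTransGen (Step K v) c₀ c
  have hgood : ∀ c, Reach c → Good K v c ∧ covered c = covered c₀ := by
    intro c hc
    induction hc with
    | refl => exact ⟨hc₀.2, rfl⟩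
    | tail _ hs ih =>
      refine ⟨?_, (covered_step hs).trans ih.2⟩
      obtain ⟨_, _, _, _, _, _, _, hg⟩ := hs
      exact hg
  let T : Set E := {y | ∃ c, Reach c ∧ c y = none}
  let W := fun (c : E → Option (Fin P)) j => Submodule.span K (v '' {e | e ∈ T ∧ c e = some j})
  -- an uncoloured element lies in the span of each class
  have hspan : ∀ c, Reach c → ∀ y, c y = none → ∀ j,
      v y ∈ Submodule.span K (v '' {e | c e = some j}) := by
    intro c hc y hy j
    by_contra hn
    have hins := ((hgood c hc).1 j).insert hn
    have hg : Good K v (Function.update c y (some j)) := by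
      intro i
      by_cases hij : i = j
      · subst hij
        refine hins.mono fun e he => ?_
        by_cases h1 : e = y
        · exact Or.inl h1
        · exact Or.inr (by simpa [h1] using he)
      · refine ((hgood c hc).1 i).mono fun e he => ?_
        by_cases h1 : e = y
        · simp [h1, Ne.symm hij] at he
        · simpa [h1] using he
    have hlt : covered c < covered (Function.update c y (some j)) := by
      refine Finset.card_lt_card ((Finset.ssubset_iff_of_subset ?_).mpr ⟨y, by simp, by simp [hy]⟩)
      intro e he
      by_cases h1 : e = y <;> simp_all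
    have := hmax _ (Finset.mem_filter.mpr ⟨Finset.mem_univ _, hg⟩)
    rw [← (hgood c hc).2] at this
    omega
  -- in fact in the span of the part inside `T`
  have hW : ∀ c, Reach c → ∀ y, c y = none → ∀ j, v y ∈ W c j := by
    intro c hc y hy j
    obtain ⟨l, hl, hlv⟩ := (Finsupp.mem_span_image_iff_linearCombination K).mp (hspan c hc y hy j)
    rw [← hlv]
    refine Submodule.sum_mem _ fun z hz => Submodule.smul_mem _ _ (Submodule.subset_span ⟨z, ⟨?_, hl hz⟩, rfl⟩)
    have hzj : c z = some j := hl hz
    have hzy : z ≠ y := fun he => by rw [he, hy] at hzj; exact Option.some_ne_none _ hzj.symm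
    have hS : LinearIndepOn K v {e | c e = some j} := (hgood c hc).1 j
    have hnot : v y ∉ Submodule.span K (v '' ({e | c e = some j} \ {z})) := by
      intro hmem
      have h1 : l z • v z ∈ Submodule.span K (v '' ({e | c e = some j} \ {z})) := by
        have h2 : Finsupp.linearCombination K v l = l z • v z + ∑ i ∈ l.support.erase z, l i • v i := by
          rw [Finsupp.linearCombination_apply, Finsupp.sum, Finset.add_sum_erase _ (fun i => l i • v i) hz]
        have h3 : ∑ i ∈ l.support.erase z, l i • v i ∈
            Submodule.span K (v '' ({e | c e = some j} \ {z})) :=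
          Submodule.sum_mem _ fun i hi => Submodule.smul_mem _ _ (Submodule.subset_span
            ⟨i, ⟨hl (Finset.mem_of_mem_erase hi), Finset.ne_of_mem_erase hi⟩, rfl⟩)
        rw [← hlv, h2] at hmem
        exact (Submodule.add_mem_iff_left _ h3).mp hmem
      have h4 := (Submodule.smul_mem_iff _ (Finsupp.mem_support_iff.mp hz)).mp h1
      exact (((hS.mono (Set.diff_subset (t := {z}))).notMem_span_iff (a := z)).mpr
        ⟨hS.mono (Set.insert_subset hzj Set.diff_subset), fun hzz => hzz.2 rfl⟩) h4
    refine ⟨Function.update (Function.update c z none) y (some j), hc.tail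
      ⟨y, z, j, hy, hzj, hspan c hc y hy j, rfl, fun i => ?_⟩, by simp [hzy]⟩
    by_cases hij : i = j
    · subst hij
      refine ((hS.mono Set.diff_subset).insert hnot).mono fun e he => ?_
      by_cases h1 : e = y
      · exact Or.inl h1
      · by_cases h2 : e = z
        · simp [h2, hzy] at he
        · exact Or.inr ⟨by simpa [h1, h2] using he, h2⟩
    · refine ((hgood c hc).1 i).mono fun e he => ?_
      by_cases h1 : e = y
      · simp [h1, Ne.symm hij] at he
      · by_cases h2 : e = z
        · simp [h2, hzy] at he
        · simpa [h1, h2] using he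
  -- those spans do not grow along exchanges
  have hle : ∀ c, Reach c → ∀ j, W c j ≤ W c₀ j := by
    intro c hc
    induction hc with
    | refl => exact fun j => le_refl _
    | @tail b c' hb hs ih =>
      intro i
      refine le_trans ?_ (ih i)
      obtain ⟨y, z, j, hy, hz, -, rfl, -⟩ := hs
      rw [Submodule.span_le]
      rintro _ ⟨e, ⟨heT, he⟩, rfl⟩
      by_cases h1 : e = y
      · subst h1
        exact hW b hb e hy i
      · refine Submodule.subset_span ⟨e, ⟨heT, ?_⟩, rfl⟩
        by_cases h2 : e = z
        · simp [h2, show z ≠ y from h2 ▸ h1] at he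
        · simpa [h1, h2] using he
  let L := Submodule.span K (v '' T)
  have hLW : ∀ j, L ≤ W c₀ j := fun j => Submodule.span_le.mpr (by
    rintro _ ⟨y, ⟨c, hc, hy⟩, rfl⟩
    exact hle c hc j (hW c hc y hy j))
  have hr : ∀ j, finrank K L ≤ (Finset.univ.filter fun e => e ∈ T ∧ c₀ e = some j).card := by
    intro j
    refine le_trans (Submodule.finrank_mono (hLW j)) ?_
    have h1 : W c₀ j = Submodule.span K
        (((Finset.univ.filter fun e => e ∈ T ∧ c₀ e = some j).image v : Finset V) : Set V) := by
      rw [Finset.coe_image, Finset.coe_filter]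
      simp [W]
    rw [h1]
    exact le_trans (finrank_span_finset_le_card _) Finset.card_image_le
  have hT : e₀ ∈ T := ⟨c₀, Relation.ReflTransGen.refl, he₀⟩
  have hcount : 1 + P * finrank K L ≤ (Finset.univ.filter fun e => e ∈ T).card := by
    rw [Finset.card_eq_sum_card_fiberwise (f := c₀) (t := Finset.univ) (fun _ _ => Finset.mem_univ _),
      Fintype.sum_option]
    refine Nat.add_le_add (Finset.one_le_card.mpr ⟨e₀, by simp [hT, he₀]⟩) ?_
    calc P * finrank K L = ∑ _j : Fin P, finrank K L := by simp
      _ ≤ ∑ j : Fin P, (Finset.univ.filter fun e => e ∈ T ∧ c₀ e = some j).card :=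
          Finset.sum_le_sum fun j _ => hr j
      _ = _ := Finset.sum_congr rfl fun j _ => by rw [Finset.filter_filter]
  have hsub : (Finset.univ.filter fun e => e ∈ T).card ≤ Nat.card {e // v e ∈ L} := by
    rw [Nat.card_eq_fintype_card, Fintype.card_subtype]
    refine Finset.card_le_card fun e he => ?_
    simp only [Finset.mem_filter, Finset.mem_univ, true_and] at he ⊢
    exact Submodule.subset_span ⟨e, he, rfl⟩
  have := h L
  omega

end Groth.Agent.H21.MatroidPartition
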