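import Mathlib.RingTheory.Norm.Basic
import Mathlib.RingTheory.TensorProduct.Free
import Mathlib.RingTheory.Valuation.LocalSubring
import Mathlib.RingTheory.Valuation.ValuationRing
import Mathlib.RingTheory.Flat.TorsionFree
import Mathlib.RingTheory.LocalRing.Module
import Mathlib.RingTheory.Localization.Module
import Mathlib.RingTheory.DedekindDomain.IntegralClosure
import Mathlib.RingTheory.IntegralClosure.IsIntegral.Basic
import Mathlib.RingTheory.Ideal.AssociatedPrime.Basic
import Mathlib.RingTheory.FiniteType
import Mathlib.LinearAlgebra.Matrix.ToLinearEquiv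

/-! Norms in `L ⊗[k] R` over `K ⊗[k] R`. -/

set_option autoImplicit false

open scoped TensorProduct

universe u

namespace Groth.Agent.H21.NormBaseChange

/-- An injective square matrix over a commutative ring has regular determinant (McCoy). -/
theorem det_mem_nonZeroDivisors_of_injective {R : Type u} [CommRing R] {n : Type*} [Fintype n]
    [DecidableEq n] (M : Matrix n n R) (hM : Function.Injective M.mulVec) :
    M.det ∈ nonZeroDivisors R := by
  classical
  rw [mem_nonZeroDivisors_iff_right]
  intro c hc
  by_contra hc0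
  let s : Finset R := insert c (Finset.univ.image fun p : n × n => M p.1 p.2)
  let S := Algebra.adjoin ℤ (s : Set R)
  have : Algebra.FiniteType ℤ S := (Subalgebra.fg_iff_finiteType _).mp ⟨s, rfl⟩
  have : IsNoetherianRing S := Algebra.FiniteType.isNoetherianRing ℤ S
  let N : Matrix n n S := fun i j => ⟨M i j, Algebra.subset_adjoin
    (Finset.mem_insert_of_mem (Finset.mem_image_of_mem _ (Finset.mem_univ (i, j))))⟩
  let c' : S := ⟨c, Algebra.subset_adjoin (Finset.mem_insert_self _ _)⟩
  have hNM : N.map S.val = M := rfl
  have hdet : N.det * c' = 0 := by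
    apply Subtype.ext
    show S.val (N.det * c') = 0
    rw [map_mul, show S.val N.det = (N.map S.val).det from (AlgHom.map_det S.val N), hNM, mul_comm]
    exact hc
  obtain ⟨P, hP, hle⟩ := exists_le_isAssociatedPrime_of_isNoetherianRing S c'
    (fun h => hc0 (congrArg Subtype.val h))
  have hPp : P.IsPrime := hP.isPrime
  obtain ⟨-, d, hd⟩ := (isAssociatedPrime_iff (R := S) (M := S)).mp hP
  have hmem : N.det ∈ P := hle (by
    rw [Submodule.mem_colon_singleton, Submodule.mem_bot, smul_eq_mul]; exact hdet)
  have hsing : (N.map (Ideal.Quotient.mk P)).det = 0 := by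
    show ((Ideal.Quotient.mk P).mapMatrix N).det = 0
    rw [← RingHom.map_det]
    exact Ideal.Quotient.eq_zero_iff_mem.mpr hmem
  obtain ⟨v, hv, hv'⟩ := Matrix.exists_mulVec_eq_zero_iff.mpr hsing
  choose w hw using fun i => Ideal.Quotient.mk_surjective (v i)
  have hker : ∀ i, N.mulVec w i ∈ P := fun i => by
    rw [← Ideal.Quotient.eq_zero_iff_mem, RingHom.map_mulVec]
    have hw' : Ideal.Quotient.mk P ∘ w = v := funext hw
    rw [hw']
    exact congrFun hv' i
  have hzero : M.mulVec (fun i => (d : R) * (w i : R)) = 0 := by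
    funext i
    have h := hker i
    rw [hd, Submodule.mem_colon_singleton, Submodule.mem_bot, smul_eq_mul] at h
    have h' : S.val (N.mulVec w i * d) = 0 := by rw [h, map_zero]
    rw [Pi.zero_apply, ← h', map_mul, show S.val (N.mulVec w i) = (N.map S.val).mulVec (S.val ∘ w) i from
      RingHom.map_mulVec (S.val : S →+* R) N w i, hNM, Matrix.mulVec, Matrix.mulVec, dotProduct,
      dotProduct, Finset.sum_mul]
    refine Finset.sum_congr rfl fun j _ => ?_
    simp only [Function.comp_apply, Subalgebra.coe_val]
    ring
  obtain ⟨i₀, hi₀⟩ := Function.ne_iff.mp hv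
  have hz := congrFun (hM (hzero.trans (Matrix.mulVec_zero M).symm)) i₀
  apply hi₀
  rw [Pi.zero_apply, ← hw i₀, Ideal.Quotient.eq_zero_iff_mem, hd, Submodule.mem_colon_singleton,
    Submodule.mem_bot, smul_eq_mul]
  apply Subtype.ext
  rw [Subalgebra.coe_mul, ZeroMemClass.coe_zero, mul_comm]
  exact hz

theorem isRegular_iff_norm {R S : Type u} [CommRing R] [CommRing S] [Algebra R S] {ι : Type*}
    [Fintype ι] (b : Module.Basis ι R S) (x : S) :
    IsRegular x ↔ IsRegular (Algebra.norm R x) := by
  classical
  rw [isRegular_iff_mem_nonZeroDivisors, isRegular_iff_mem_nonZeroDivisors,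
    Algebra.norm_eq_matrix_det b]
  have hmul : ∀ y, (Algebra.leftMulMatrix b x).mulVec (b.repr y) = b.repr (x * y) := fun y =>
    (Algebra.leftMulMatrix_mulVec_repr b x y)
  constructor
  · intro hx
    refine det_mem_nonZeroDivisors_of_injective _ fun v w hvw => ?_
    obtain ⟨y, rfl⟩ : ∃ y, ⇑(b.repr y) = v := ⟨b.equivFun.symm v, b.equivFun.apply_symm_apply v⟩
    obtain ⟨z, rfl⟩ : ∃ z, ⇑(b.repr z) = w := ⟨b.equivFun.symm w, b.equivFun.apply_symm_apply w⟩
    rw [hmul, hmul] at hvw
    rw [mul_cancel_left_mem_nonZeroDivisors hx |>.mp (b.repr.injective (DFunLike.coe_injective hvw))]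
  · intro hd
    rw [mem_nonZeroDivisors_iff_right]
    intro y hy
    have h := hmul y
    rw [mul_comm, hy, map_zero, Finsupp.coe_zero] at h
    have h' := congrArg (Matrix.mulVec (Algebra.leftMulMatrix b x).adjugate) h
    rw [Matrix.mulVec_mulVec, Matrix.adjugate_mul, Matrix.smul_mulVec, Matrix.one_mulVec,
      Matrix.mulVec_zero] at h'
    refine b.repr.injective (Finsupp.ext fun i => ?_)
    rw [map_zero, Finsupp.zero_apply]
    exact mem_nonZeroDivisors_iff_left.mp hd _ (congrFun h' i)

theorem mem_range_of_forall_valuationSubring {A K : Type u} [CommRing A] [IsDomain A]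
    [IsIntegrallyClosed A] [Field K] [Algebra A K] [IsFractionRing A K] (x : K)
    (h : ∀ V : ValuationSubring K, (∀ a, algebraMap A K a ∈ V) → x ∈ V) :
    x ∈ Set.range (algebraMap A K) := by
  have hx : x ∈ (⨅ V : {V : ValuationSubring K // Set.range (algebraMap A K) ⊆ V.toSubring},
      V.1.toSubring : Subring K) :=
    Subring.mem_iInf.mpr fun V => h V.1 fun a => V.2 ⟨a, rfl⟩
  rw [iInf_valuationSubring_superset] at hx
  have hcl : Subring.closure (Set.range (algebraMap A K)) = (algebraMap A K).range := by
    rw [← RingHom.coe_range, Subring.closure_eq]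
  have hint : IsIntegral (Subring.closure (Set.range (algebraMap A K))) x := hx
  obtain ⟨P, hP, hP0⟩ := hint
  have hcoeff : P.map (Subring.subtype _) ∈ Polynomial.lifts (algebraMap A K) := by
    rw [Polynomial.lifts_iff_coeff_lifts]
    intro i
    rw [Polynomial.coeff_map]
    have := (P.coeff i).2
    exact hcl.le this
  obtain ⟨Q, hQ, -, hQm⟩ := Polynomial.lifts_and_degree_eq_and_monic hcoeff (hP.map _)
  obtain ⟨y, hy⟩ := IsIntegrallyClosed.isIntegral_iff.mp (show IsIntegral A x from ⟨Q, hQm, by
    rw [← Polynomial.eval_map, hQ, Polynomial.eval_map]; exact hP0⟩)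
  exact ⟨y, hy⟩

section

variable {k A K L R : Type u} [Field k]
    [CommRing A] [IsDomain A] [Algebra k A]
    [Field K] [Algebra A K] [IsFractionRing A K] [Algebra k K] [IsScalarTower k A K]
    [Field L] [Algebra K L] [FiniteDimensional K L] [Algebra A L] [IsScalarTower A K L]
    [Algebra k L] [IsScalarTower k K L] [IsScalarTower k A L]
    [CommRing R] [Algebra k R]

/-- The algebra `K ⊗ R → L ⊗ R`. -/
@[reducible] noncomputable def alg : Algebra (K ⊗[k] R) (L ⊗[k] R) :=
  (Algebra.TensorProduct.map (IsScalarTower.toAlgHom k K L) (AlgHom.id k R)).toRingHom.toAlgebra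

attribute [local instance] alg

omit [FiniteDimensional K L] in
theorem smul_tmul_tmul (a : K) (r : R) (l : L) (r' : R) :
    (a ⊗ₜ[k] r : K ⊗[k] R) • (l ⊗ₜ[k] r' : L ⊗[k] R) = (a • l) ⊗ₜ (r * r') := by
  rw [Algebra.smul_def, Algebra.smul_def]
  show Algebra.TensorProduct.map (IsScalarTower.toAlgHom k K L) (AlgHom.id k R) (a ⊗ₜ r) * _ = _
  rw [Algebra.TensorProduct.map_tmul, Algebra.TensorProduct.tmul_mul_tmul]
  rfl

variable {ι : Type u} [Fintype ι]

/-- Base change of a basis. -/
noncomputable def bc (e : Module.Basis ι K L) : Module.Basis ι (K ⊗[k] R) (L ⊗[k] R) :=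
  let φ : (L ⊗[k] R) →ₗ[k] (ι → K ⊗[k] R) :=
    LinearMap.pi fun i => LinearMap.rTensor R ((e.coord i).restrictScalars k)
  Module.Basis.ofEquivFun
    { toFun := φ
      invFun := fun c => ∑ i, c i • (e i ⊗ₜ[k] (1 : R))
      map_add' := φ.map_add
      map_smul' := fun c x => by
        funext i
        rw [RingHom.id_apply, Pi.smul_apply, smul_eq_mul]
        induction x using TensorProduct.induction_on with
        | zero => simp
        | add x y hx hy => rw [smul_add, map_add, map_add, Pi.add_apply, Pi.add_apply, hx, hy, mul_add]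
        | tmul l r' =>
          induction c using TensorProduct.induction_on with
          | zero => simp
          | add x y hx hy => rw [add_smul, map_add, Pi.add_apply, hx, hy, add_mul]
          | tmul a r =>
            rw [smul_tmul_tmul]
            simp [φ, Algebra.TensorProduct.tmul_mul_tmul]
      left_inv := fun x => by
        induction x using TensorProduct.induction_on with
        | zero => simp
        | add x y hx hy => simp only [map_add, Pi.add_apply, add_smul, Finset.sum_add_distrib, hx, hy]
        | tmul l r =>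
          simp only [φ, LinearMap.pi_apply, LinearMap.rTensor_tmul, LinearMap.coe_restrictScalars,
            Module.Basis.coord_apply, smul_tmul_tmul, mul_one, ← TensorProduct.sum_tmul, e.sum_repr]
      right_inv := fun c => by
        classical
        funext i
        rw [map_sum, Finset.sum_apply, Finset.sum_eq_single i]
        · induction c i using TensorProduct.induction_on with
          | zero => simp
          | add x y hx hy => rw [add_smul, map_add, Pi.add_apply, hx, hy]
          | tmul a r => simp [φ, smul_tmul_tmul]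
        · intro j _ hji
          induction c j using TensorProduct.induction_on with
          | zero => simp
          | add x y hx hy => rw [add_smul, map_add, Pi.add_apply, hx, hy, add_zero]
          | tmul a r => simp [φ, smul_tmul_tmul, hji]
        · exact fun h => absurd (Finset.mem_univ i) h }

theorem bc_apply (e : Module.Basis ι K L) (i : ι) : bc (k := k) (R := R) e i = e i ⊗ₜ[k] (1 : R) := by
  classical
  simp [bc, Pi.single_apply, ite_smul]

theorem bc_repr_tmul (e : Module.Basis ι K L) (l : L) (r : R) (i : ι) :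
    (bc (k := k) (R := R) e).repr (l ⊗ₜ[k] r) i = e.repr l i ⊗ₜ[k] r := by
  simp [bc]

variable (B : Set L)

theorem exists_basis_stable (V : ValuationSubring K) (hV : ∀ a, algebraMap A K a ∈ V)
    (T : Finset L) (hT : ∀ t ∈ T, IsIntegral A t) :
    ∃ (ι : Type u) (_ : Fintype ι) (e : Module.Basis ι K L),
      ∀ t ∈ T, ∀ i j, e.repr (t * e j) i ∈ V := by
  classical
  obtain ⟨y, hy0, hy⟩ := exists_integral_multiples A K (Finset.univ.image (Module.finBasis K L))
  let φ : A →+* V := (algebraMap A K).codRestrict V hV
  let _ : Algebra A V := φ.toAlgebra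
  let _ : Algebra V L := ((algebraMap K L).comp (V.subtype)).toAlgebra
  have : IsScalarTower A V L := IsScalarTower.of_algebraMap_eq fun a =>
    IsScalarTower.algebraMap_apply A K L a
  have : IsScalarTower V K L := IsScalarTower.of_algebraMap_eq fun a => rfl
  let U : Set L := ↑(T ∪ Finset.univ.image fun i => y • Module.finBasis K L i)
  let S := Algebra.adjoin V U
  have hfg : (Subalgebra.toSubmodule S).FG :=
    fg_adjoin_of_finite (Finset.finite_toSet _) fun t ht => by
      rcases Finset.mem_union.mp ht with h | h
      · exact (hT t h).tower_top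
      · obtain ⟨i, -, rfl⟩ := Finset.mem_image.mp h
        exact (hy _ (Finset.mem_image_of_mem _ (Finset.mem_univ i))).tower_top
  have : Module.Finite V S := Module.Finite.of_fg hfg
  have hinj : Function.Injective (algebraMap V L) := (algebraMap K L).injective.comp Subtype.val_injective
  have : Module.Flat V S := by
    rw [Module.Flat.flat_iff_torsion_eq_bot_of_isBezout, eq_bot_iff]
    rintro z ⟨⟨a, ha⟩, haz⟩
    rw [Submodule.mem_bot]
    have h : (algebraMap V L a) * (z : L) = 0 := by
      rw [← Algebra.smul_def]
      exact congrArg Subtype.val haz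
    exact Subtype.ext ((mul_eq_zero.mp h).resolve_left
      ((map_ne_zero_iff _ hinj).mpr (nonZeroDivisors.ne_zero ha)))
  have : Module.Free V S := Module.free_of_flat_of_isLocalRing
  let b := Module.Free.chooseBasis V S
  let ι := Module.Free.ChooseBasisIndex V S
  have hli : LinearIndependent K (fun i : ι => (b i : L)) :=
    (LinearIndependent.iff_fractionRing V K).mp
      (b.linearIndependent.map' S.val.toLinearMap (LinearMap.ker_eq_bot.mpr Subtype.val_injective))
  have hmem : ∀ s : S, (s : L) ∈ Submodule.span K (Set.range fun i : ι => (b i : L)) := fun s => by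
    rw [← b.sum_repr s]
    rw [AddSubmonoidClass.coe_finsetSum]
    refine Submodule.sum_mem _ fun i _ => ?_
    rw [Subalgebra.coe_smul, ← algebraMap_smul K (b.repr s i) (b i : L)]
    exact Submodule.smul_mem _ _ (Submodule.subset_span ⟨i, rfl⟩)
  have hyK : algebraMap A K y ≠ 0 := (map_ne_zero_iff _ (IsFractionRing.injective A K)).mpr hy0
  have hspan : ⊤ ≤ Submodule.span K (Set.range fun i : ι => (b i : L)) := by
    rw [← (Module.finBasis K L).span_eq, Submodule.span_le]
    rintro _ ⟨i, rfl⟩
    have h := hmem ⟨y • Module.finBasis K L i, Algebra.subset_adjoin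
      (Finset.mem_union_right _ (Finset.mem_image_of_mem _ (Finset.mem_univ i)))⟩
    have h' : y • Module.finBasis K L i ∈ Submodule.span K (Set.range fun i : ι => (b i : L)) := h
    rw [← algebraMap_smul K y] at h'
    exact (Submodule.smul_mem_iff _ hyK).mp h'
  refine ⟨ι, inferInstance, Module.Basis.mk hli hspan, fun t ht i j => ?_⟩
  let t' : S := ⟨t, Algebra.subset_adjoin (Finset.mem_union_left _ ht)⟩
  have hrepr : t * Module.Basis.mk hli hspan j =
      ∑ l, (b.repr (t' * b j) l : K) • Module.Basis.mk hli hspan l := by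
    simp only [Module.Basis.mk_apply]
    calc t * (b j : L) = ((t' * b j : S) : L) := rfl
      _ = _ := by
        conv_lhs => rw [← b.sum_repr (t' * b j), AddSubmonoidClass.coe_finsetSum]
        refine Finset.sum_congr rfl fun l _ => ?_
        rw [Subalgebra.coe_smul]
        exact (algebraMap_smul K _ _).symm
  rw [hrepr, Module.Basis.repr_sum_self]
  exact (b.repr (t' * b j) i).2

theorem norm_mem [IsIntegrallyClosed A] (b : (integralClosure A L) ⊗[k] R) :
    Algebra.norm (K ⊗[k] R)
        (Algebra.TensorProduct.map ((integralClosure A L).val.restrictScalars k) (AlgHom.id k R) b) ∈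
      Set.range (Algebra.TensorProduct.map (IsScalarTower.toAlgHom k A K) (AlgHom.id k R)) := by
  classical
  set β := Algebra.TensorProduct.map ((integralClosure A L).val.restrictScalars k) (AlgHom.id k R) b
  obtain ⟨S, hS⟩ := TensorProduct.exists_finset b
  let E := Module.Free.chooseBasis k R
  let C := Algebra.TensorProduct.basis K E
  have hcoord : ∀ l, C.repr (Algebra.norm (K ⊗[k] R) β) l ∈ Set.range (algebraMap A K) := by
    intro l
    refine mem_range_of_forall_valuationSubring _ fun V hV => ?_
    have hk : ∀ c : k, algebraMap k K c ∈ V := fun c => by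
      rw [IsScalarTower.algebraMap_apply k A K]; exact hV _
    obtain ⟨ι, _, e, he⟩ := exists_basis_stable (A := A) (L := L) V hV
      (S.image fun p => (p.1 : L)) (fun t ht => by
        obtain ⟨p, -, rfl⟩ := Finset.mem_image.mp ht
        exact p.1.2)
    let Vk : Subalgebra k K := { V.toSubring with algebraMap_mem' := hk }
    let P : Subalgebra k (K ⊗[k] R) := (Algebra.TensorProduct.map Vk.val (AlgHom.id k R)).range
    have hP : ∀ (v : K) (r : R), v ∈ V → (v ⊗ₜ[k] r : K ⊗[k] R) ∈ P := fun v r hv =>
      ⟨(⟨v, hv⟩ : Vk) ⊗ₜ r, rfl⟩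
    have hdet : Algebra.norm (K ⊗[k] R) β ∈ P := by
      rw [Algebra.norm_eq_matrix_det (bc e), Matrix.det_apply]
      refine P.toSubring.sum_mem fun σ _ => ?_
      refine P.toSubring.zsmul_mem (P.toSubring.prod_mem fun i _ => ?_) _
      show Algebra.leftMulMatrix (bc e) β (σ i) i ∈ P
      rw [Algebra.leftMulMatrix_eq_repr_mul, bc_apply]
      have hβ : β = ∑ p ∈ S, (p.1 : L) ⊗ₜ[k] p.2 := by
        simp only [β]
        rw [hS, map_sum]
        rfl
      rw [hβ, Finset.sum_mul, map_sum, Finsupp.finsetSum_apply]
      refine sum_mem fun p hp => ?_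
      rw [Algebra.TensorProduct.tmul_mul_tmul, mul_one, bc_repr_tmul]
      exact hP _ _ (he _ (Finset.mem_image_of_mem _ hp) _ _)
    obtain ⟨z, hz⟩ := hdet
    rw [← hz]
    clear hz
    induction z using TensorProduct.induction_on with
    | zero => simp only [map_zero, Finsupp.zero_apply]; exact V.zero_mem
    | add x y hx hy => simp only [map_add, Finsupp.add_apply]; exact V.add_mem _ _ hx hy
    | tmul v r =>
      change C.repr ((v : K) ⊗ₜ[k] r) l ∈ V
      rw [Algebra.TensorProduct.basis_repr_tmul]
      simp only [Finsupp.smul_apply, Finsupp.mapRange_apply, smul_eq_mul]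
      exact V.mul_mem _ _ v.2 (hk _)
  choose a ha using hcoord
  refine ⟨∑ l ∈ (C.repr (Algebra.norm (K ⊗[k] R) β)).support, a l ⊗ₜ E l, ?_⟩
  rw [map_sum]
  conv_rhs => rw [← C.linearCombination_repr (Algebra.norm (K ⊗[k] R) β)]
  rw [Finsupp.linearCombination_apply, Finsupp.sum]
  refine Finset.sum_congr rfl fun l _ => ?_
  rw [Algebra.TensorProduct.map_tmul, Algebra.TensorProduct.basis_apply, TensorProduct.smul_tmul', smul_eq_mul,
    mul_one, IsScalarTower.coe_toAlgHom', ha]
  rfl

omit [FiniteDimensional K L] [IsScalarTower A K L] in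
theorem injective_map (B : Subalgebra A L) :
    Function.Injective (Algebra.TensorProduct.map (B.val.restrictScalars k) (AlgHom.id k R)) :=
  Module.Flat.rTensor_preserves_injective_linearMap (M := R) (B.val.restrictScalars k).toLinearMap
    Subtype.val_injective

theorem regular_iff (b : (integralClosure A L) ⊗[k] R) :
    IsRegular b ↔ IsRegular (Algebra.norm (K ⊗[k] R)
      (Algebra.TensorProduct.map ((integralClosure A L).val.restrictScalars k) (AlgHom.id k R) b)) := by
  classical
  rw [← isRegular_iff_norm (bc (Module.Basis.reindex (Module.finBasis K L) Equiv.ulift.{u}.symm))]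
  set f := Algebra.TensorProduct.map ((integralClosure A L).val.restrictScalars k) (AlgHom.id k R)
  have hinj : Function.Injective f := injective_map _
  rw [isRegular_iff_mem_nonZeroDivisors, isRegular_iff_mem_nonZeroDivisors,
    mem_nonZeroDivisors_iff_right, mem_nonZeroDivisors_iff_right]
  have hclear : ∀ y : L ⊗[k] R, ∃ a : A, a ≠ 0 ∧ (algebraMap A L a ⊗ₜ[k] (1 : R)) * y ∈ f.range := by
    intro y
    obtain ⟨T, rfl⟩ := TensorProduct.exists_finset y
    obtain ⟨a, ha, hint⟩ := exists_integral_multiples A K (T.image Prod.fst)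
    refine ⟨a, ha, ?_⟩
    rw [Finset.mul_sum]
    refine sum_mem fun p hp => ?_
    rw [Algebra.TensorProduct.tmul_mul_tmul, one_mul, ← Algebra.smul_def]
    exact ⟨(⟨a • p.1, hint _ (Finset.mem_image_of_mem _ hp)⟩ : integralClosure A L) ⊗ₜ p.2, rfl⟩
  constructor
  · intro hb y hy
    obtain ⟨a, ha, z, hz⟩ := hclear y
    have hz' : f z = algebraMap A L a ⊗ₜ[k] (1 : R) * y := hz
    have h0 : z * b = 0 := hinj (by rw [map_mul, hz', mul_assoc, hy, mul_zero, map_zero])
    have h1 : algebraMap A L a ⊗ₜ[k] (1 : R) * y = 0 := by rw [← hz', hb z h0, map_zero]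
    have hu : IsUnit (algebraMap A L a ⊗ₜ[k] (1 : R)) := by
      refine (isUnit_iff_ne_zero.mpr ?_).map Algebra.TensorProduct.includeLeftRingHom
      rw [IsScalarTower.algebraMap_apply A K L]
      exact (map_ne_zero _).mpr ((map_ne_zero_iff _ (IsFractionRing.injective A K)).mpr ha)
    exact hu.mul_right_eq_zero.mp h1
  · intro hb z hz
    exact hinj (by rw [map_zero]; exact hb _ (by rw [← map_mul, hz, map_zero]))

end

end Groth.Agent.H21.NormBaseChange
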