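import Groth.Agent.H21.ApproxBasis
import Mathlib.LinearAlgebra.ExteriorPower.Basic
import Mathlib.RingTheory.TensorProduct.Basic
import Mathlib.LinearAlgebra.TensorProduct.Prod

/-!
# Multiplicativity of `M ↦ ∧ⁿ_A M` on invertible modules over a finite locally free algebra
-/

set_option autoImplicit false

universe u

open scoped TensorProduct

namespace Groth.Agent.H21.NormModule

section scalar

variable {A : Type u} [CommRing A] {n : ℕ} {M N : Type u} [AddCommGroup M] [Module A M]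
  [AddCommGroup N] [Module A N]

theorem map_smul_eq (c : A) (g : M →ₗ[A] N) :
    exteriorPower.map n (c • g) = c ^ n • exteriorPower.map n g := by
  refine exteriorPower.linearMap_ext (AlternatingMap.ext fun m => ?_)
  simp only [LinearMap.compAlternatingMap_apply, LinearMap.smul_apply,
    exteriorPower.map_apply_ιMulti]
  have h : (⇑(c • g) ∘ m) = fun i => c • (⇑g ∘ m) i := rfl
  rw [h, AlternatingMap.map_smul_univ]
  simp

theorem map_smul_id (c : A) :
    exteriorPower.map n (c • (LinearMap.id : M →ₗ[A] M)) = c ^ n • LinearMap.id := by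
  rw [map_smul_eq, exteriorPower.map_id]

/-- A top exterior power of a module with an approximate basis is approximately cyclic. -/
theorem exists_approx_generator (f : A) (h : (Fin n → A) →ₗ[A] M) (ψ : M →ₗ[A] (Fin n → A))
    (hψ : ∀ x, h (ψ x) = f • x) :
    ∃ ω : ⋀[A]^n M, ∀ x : ⋀[A]^n M, ∃ r : A, f ^ n • x = r • ω := by
  classical
  let v : Fin n → (Fin n → A) := fun i => Pi.single i 1
  let ω₀ : ⋀[A]^n (Fin n → A) := exteriorPower.ιMulti A n v
  have hspan : Submodule.span A {ω₀} = ⊤ := by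
    have hv : Submodule.span A (Set.range v) = ⊤ := by
      have := (Pi.basisFun A (Fin n)).span_eq
      convert this using 3
      funext i
      simp [v]
    rw [← exteriorPower.ιMulti_family_span_of_span A hv]
    congr 1
    have hs : ∀ s : Set.powersetCard (Fin n) n,
        exteriorPower.ιMulti_family A n v s = ω₀ := by
      intro s
      have he : ⇑(Set.powersetCard.ofFinEmbEquiv.symm s) = id := by
        have hm : StrictMono ⇑(Set.powersetCard.ofFinEmbEquiv.symm s) :=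
          (Set.powersetCard.ofFinEmbEquiv.symm s).strictMono
        exact (Finite.injective_iff_surjective.mp hm.injective |> fun hsu =>
          funext fun i => congrFun (congrArg DFunLike.coe (Subsingleton.elim
            (StrictMono.orderIsoOfSurjective _ hm hsu) (OrderIso.refl (Fin n)))) i)
      rw [exteriorPower.ιMulti_family, he, Function.comp_id]
    have : Nonempty (Set.powersetCard (Fin n) n) :=
      ⟨⟨Finset.univ, by simp⟩⟩
    exact ((Set.range_eq_singleton_iff).mpr hs).symm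
  refine ⟨exteriorPower.map n h ω₀, fun x => ?_⟩
  obtain ⟨r, hr⟩ := Submodule.mem_span_singleton.mp
    (hspan ▸ Submodule.mem_top : exteriorPower.map n ψ x ∈ Submodule.span A {ω₀})
  refine ⟨r, ?_⟩
  have hc : h ∘ₗ ψ = f • LinearMap.id := LinearMap.ext hψ
  rw [← LinearMap.map_smul, hr, ← LinearMap.comp_apply, ← exteriorPower.map_comp, hc, map_smul_id]
  rfl

/-- On an approximately cyclic module, an endomorphism may be moved across `⊗`. -/
theorem swap (F : A) (ω : N) (hω : ∀ x : N, ∃ r : A, F • x = r • ω) (g : N →ₗ[A] N) (x y : N) :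
    F ^ 3 • (g x ⊗ₜ[A] y) = F ^ 3 • (x ⊗ₜ[A] g y) := by
  obtain ⟨r, hr⟩ := hω x
  obtain ⟨s, hs⟩ := hω y
  obtain ⟨t, ht⟩ := hω (g ω)
  have hx : F • F • g x = (r * t) • ω := by
    rw [← map_smul g, hr, map_smul, smul_comm, ht, smul_smul]
  have hy : F • F • g y = (s * t) • ω := by
    rw [← map_smul g, hs, map_smul, smul_comm, ht, smul_smul]
  have h1 : F ^ 3 • (g x ⊗ₜ[A] y) = (F • F • g x) ⊗ₜ[A] (F • y) := by
    simp only [TensorProduct.tmul_smul, ← TensorProduct.smul_tmul', smul_smul]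
    ring_nf
  have h2 : F ^ 3 • (x ⊗ₜ[A] g y) = (F • x) ⊗ₜ[A] (F • F • g y) := by
    simp only [TensorProduct.tmul_smul, ← TensorProduct.smul_tmul', smul_smul]
    ring_nf
  rw [h1, h2, hx, hy, hs, hr]
  simp only [TensorProduct.tmul_smul, ← TensorProduct.smul_tmul', smul_smul]
  ring_nf

theorem eq_top_of_local (S : Submodule A M)
    (h : ∀ q : PrimeSpectrum A, ∃ g : A, g ∉ q.asIdeal ∧ ∀ x, g • x ∈ S) : S = ⊤ := by
  have h1 : S.colon (Set.univ : Set M) = ⊤ := by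
    by_contra hne
    obtain ⟨m, hm, hle⟩ := Ideal.exists_le_maximal _ hne
    obtain ⟨g, hg, hgx⟩ := h ⟨m, hm.isPrime⟩
    exact hg (hle (Submodule.mem_colon.mpr fun x _ => hgx x))
  refine eq_top_iff.mpr fun x _ => ?_
  simpa using Submodule.mem_colon.mp (h1 ▸ Submodule.mem_top : (1 : A) ∈ _) x (Set.mem_univ x)

theorem eq_zero_of_local (x : M)
    (h : ∀ q : PrimeSpectrum A, ∃ g : A, g ∉ q.asIdeal ∧ g • x = 0) : x = 0 := by
  by_contra hx
  have hne : LinearMap.ker (LinearMap.toSpanSingleton A M x) ≠ ⊤ := fun htop => hx (by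
    simpa using (htop ▸ Submodule.mem_top : (1 : A) ∈ LinearMap.ker (LinearMap.toSpanSingleton A M x)))
  obtain ⟨m, hm, hle⟩ := Ideal.exists_le_maximal _ hne
  obtain ⟨g, hg, hgx⟩ := h ⟨m, hm.isPrime⟩
  exact hg (hle (by simpa using hgx))

theorem bijective_proj {P Q : Type u} [AddCommGroup P] [Module A P] [AddCommGroup Q] [Module A Q]
    (G : Submodule A (P × Q))
    (h : ∀ q : PrimeSpectrum A, ∃ g : A, g ∉ q.asIdeal ∧
      (∀ x, g • x ∈ G.map (LinearMap.fst A P Q)) ∧ (∀ y, g • y ∈ G.map (LinearMap.snd A P Q)) ∧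
      ∀ x ∈ G, (x.1 = 0 → g • x.2 = 0) ∧ (x.2 = 0 → g • x.1 = 0)) :
    Nonempty (Q ≃ₗ[A] P) := by
  let p₁ := LinearMap.fst A P Q ∘ₗ G.subtype
  let p₂ := LinearMap.snd A P Q ∘ₗ G.subtype
  have hb₁ : Function.Bijective p₁ := by
    constructor
    · refine (injective_iff_map_eq_zero (p₁ : G →ₗ[A] P)).mpr fun x hx => ?_
      refine Subtype.ext (Prod.ext hx (eq_zero_of_local (A := A) _ fun q => ?_))
      obtain ⟨g, hg, -, -, hk⟩ := h q
      exact ⟨g, hg, (hk x.1 x.2).1 hx⟩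
    · rw [← LinearMap.range_eq_top, LinearMap.range_comp, Submodule.range_subtype]
      refine eq_top_of_local _ fun q => ?_
      obtain ⟨g, hg, hk, -, -⟩ := h q
      exact ⟨g, hg, hk⟩
  have hb₂ : Function.Bijective p₂ := by
    constructor
    · refine (injective_iff_map_eq_zero p₂).mpr fun x hx => ?_
      refine Subtype.ext (Prod.ext (eq_zero_of_local (A := A) _ fun q => ?_) hx)
      obtain ⟨g, hg, -, -, hk⟩ := h q
      exact ⟨g, hg, (hk x.1 x.2).2 hx⟩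
    · rw [← LinearMap.range_eq_top, LinearMap.range_comp, Submodule.range_subtype]
      refine eq_top_of_local _ fun q => ?_
      obtain ⟨g, hg, -, hk, -⟩ := h q
      exact ⟨g, hg, hk⟩
  exact ⟨(LinearEquiv.ofBijective p₂ hb₂).symm.trans (LinearEquiv.ofBijective p₁ hb₁)⟩

end scalar

variable {A B : Type u} [CommRing A] [CommRing B] [Algebra A B] {n : ℕ}
variable {M : Type u} [AddCommGroup M] [Module B M] [Module A M] [IsScalarTower A B M]

/-- `b ↦ b • e` on `n`-th exterior powers over `A`. -/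
noncomputable def E (n : ℕ) (e : M) : ⋀[A]^n B →ₗ[A] ⋀[A]^n M :=
  exteriorPower.map n ((LinearMap.toSpanSingleton B M e).restrictScalars A)

/-- multiplication by `u` on `∧ⁿ_A B`. -/
noncomputable def U (A : Type u) {B : Type u} [CommRing A] [CommRing B] [Algebra A B]
    (n : ℕ) (u : B) : ⋀[A]^n B →ₗ[A] ⋀[A]^n B :=
  exteriorPower.map n (LinearMap.mulLeft A u)

theorem U_mul (u v : B) : U A n u ∘ₗ U A n v = U A n (u * v) := by
  rw [U, U, U, ← exteriorPower.map_comp]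
  congr 1
  ext b
  simp [mul_assoc]

theorem E_U (e : M) (u : B) : E (A := A) n e ∘ₗ U A n u = E n (u • e) := by
  rw [E, E, U, ← exteriorPower.map_comp]
  congr 1
  ext b
  simp [smul_smul, mul_comm]

theorem E_smul (e : M) (c : A) : E (A := A) (B := B) n (c • e) = c ^ n • E n e := by
  rw [E, E, ← map_smul_eq]
  congr 1
  ext b
  simp [smul_comm b c e]

theorem psi_E (ψ : M →ₗ[B] B) (e : M) :
    exteriorPower.map n (ψ.restrictScalars A) ∘ₗ E n e = U A n (ψ e) := by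
  rw [E, U, ← exteriorPower.map_comp]
  congr 1
  ext b
  simp [mul_comm]

theorem E_psi (ψ : M →ₗ[B] B) (e : M) (f : A) (h : ∀ x, ψ x • e = f • x) :
    E n e ∘ₗ exteriorPower.map n (ψ.restrictScalars A) = f ^ n • LinearMap.id := by
  rw [E, ← exteriorPower.map_comp, ← map_smul_id]
  congr 1
  ext x
  simpa using h x

variable {M₁ M₂ : Type u} [AddCommGroup M₁] [Module B M₁] [Module A M₁] [IsScalarTower A B M₁]
  [AddCommGroup M₂] [Module B M₂] [Module A M₂] [IsScalarTower A B M₂]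

/-- the first component of the graph. -/
noncomputable def fst' (n : ℕ) (e₁ : M₁) (e₂ : M₂) :
    (⋀[A]^n B) ⊗[A] (⋀[A]^n B) →ₗ[A] (⋀[A]^n M₁) ⊗[A] (⋀[A]^n M₂) :=
  TensorProduct.map (E n e₁) (E n e₂)

/-- the second component of the graph. -/
noncomputable def snd' (n : ℕ) (e₁ : M₁) (e₂ : M₂) :
    (⋀[A]^n B) ⊗[A] (⋀[A]^n B) →ₗ[A] (⋀[A]^n B) ⊗[A] (⋀[A]^n (M₁ ⊗[B] M₂)) :=
  (E (A := A) (B := B) n (e₁ ⊗ₜ[B] e₂)).lTensor _ ∘ₗ (TensorProduct.comm A _ _).toLinearMap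

/-- The graph of the canonical isomorphism. -/
noncomputable def graph (A B : Type u) [CommRing A] [CommRing B] [Algebra A B] (n : ℕ)
    (M₁ M₂ : Type u) [AddCommGroup M₁] [Module B M₁] [Module A M₁] [IsScalarTower A B M₁]
    [AddCommGroup M₂] [Module B M₂] [Module A M₂] [IsScalarTower A B M₂] :
    Submodule A (((⋀[A]^n M₁) ⊗[A] (⋀[A]^n M₂)) × ((⋀[A]^n B) ⊗[A] (⋀[A]^n (M₁ ⊗[B] M₂)))) :=
  ⨆ e : M₁ × M₂, LinearMap.range ((fst' (B := B) n e.1 e.2).prod (snd' n e.1 e.2))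

variable (A B n M₁ M₂)

/-- Local data near a prime. -/
def LocalData (f : A) : Prop :=
  (∃ (e₁ : M₁) (ψ₁ : M₁ →ₗ[B] B), ∀ x, ψ₁ x • e₁ = f • x) ∧
  (∃ (e₂ : M₂) (ψ₂ : M₂ →ₗ[B] B), ∀ x, ψ₂ x • e₂ = f • x) ∧
  ∃ ω : ⋀[A]^n B, ∀ x : ⋀[A]^n B, ∃ r : A, f ^ n • x = r • ω

variable {A B n M₁ M₂}

set_option maxHeartbeats 1600000 in
theorem graph_local (f : A) (hf : LocalData A B n M₁ M₂ f) :
    ∃ k : ℕ,
      (∀ p, f ^ k • p ∈ (graph A B n M₁ M₂).map (LinearMap.fst A _ _)) ∧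
      (∀ q, f ^ k • q ∈ (graph A B n M₁ M₂).map (LinearMap.snd A _ _)) ∧
      ∀ x ∈ graph A B n M₁ M₂, (x.1 = 0 → f ^ k • x.2 = 0) ∧ (x.2 = 0 → f ^ k • x.1 = 0) := by
  obtain ⟨⟨e₁, ψ₁, h₁⟩, ⟨e₂, ψ₂, h₂⟩, ω, hω⟩ := hf
  let θ : M₁ ⊗[B] M₂ →ₗ[B] B := LinearMap.mul' B B ∘ₗ TensorProduct.map ψ₁ ψ₂
  have hθt : ∀ x y, θ (x ⊗ₜ[B] y) = ψ₁ x * ψ₂ y := fun x y => by simp [θ]
  have hu : ∀ x y, (ψ₂ y * ψ₁ x) • (e₁ ⊗ₜ[B] e₂) = f ^ 2 • (x ⊗ₜ[B] y) := by
    intro x y
    rw [mul_smul, TensorProduct.smul_tmul', h₁, ← TensorProduct.tmul_smul, h₂,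
      ← algebraMap_smul B f y, TensorProduct.tmul_smul, algebraMap_smul,
      ← TensorProduct.smul_tmul', smul_smul, pow_two]
  have hθ : ∀ z, θ z • (e₁ ⊗ₜ[B] e₂) = f ^ 2 • z := by
    intro z
    induction z with
    | zero => simp
    | tmul x y => rw [hθt, mul_comm, hu]
    | add x y hx hy => rw [map_add, add_smul, hx, hy, smul_add]
  let Ψ₁ := exteriorPower.map n (ψ₁.restrictScalars A)
  let Ψ₂ := exteriorPower.map n (ψ₂.restrictScalars A)
  let Θ := exteriorPower.map n (θ.restrictScalars A)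
  -- forward comparison
  let Φ := snd' (A := A) (B := B) n e₁ e₂ ∘ₗ TensorProduct.map Ψ₁ Ψ₂
  let Φ' := fst' (A := A) (B := B) n e₁ e₂ ∘ₗ (TensorProduct.comm A _ _).toLinearMap ∘ₗ Θ.lTensor _
  have hΨ₁ : ∀ (e : M₁) a, Ψ₁ (E n e a) = U A n (ψ₁ e) a :=
    fun e a => LinearMap.congr_fun (psi_E (A := A) (n := n) ψ₁ e) a
  have hΨ₂ : ∀ (e : M₂) a, Ψ₂ (E n e a) = U A n (ψ₂ e) a :=
    fun e a => LinearMap.congr_fun (psi_E (A := A) (n := n) ψ₂ e) a
  have hΘ : ∀ (e : M₁ ⊗[B] M₂) a, Θ (E n e a) = U A n (θ e) a :=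
    fun e a => LinearMap.congr_fun (psi_E (A := A) (n := n) θ e) a
  have hG : graph A B n M₁ M₂ ≤ LinearMap.eqLocus
      ((f ^ n) ^ 3 • (Φ ∘ₗ LinearMap.fst A ((⋀[A]^n M₁) ⊗[A] (⋀[A]^n M₂)) ((⋀[A]^n B) ⊗[A] (⋀[A]^n (M₁ ⊗[B] M₂))))) (((f ^ n) ^ 3 * (f ^ 2) ^ n) • LinearMap.snd A ((⋀[A]^n M₁) ⊗[A] (⋀[A]^n M₂)) ((⋀[A]^n B) ⊗[A] (⋀[A]^n (M₁ ⊗[B] M₂)))) ⊓
      LinearMap.eqLocus
      ((f ^ n) ^ 3 • (Φ' ∘ₗ LinearMap.snd A ((⋀[A]^n M₁) ⊗[A] (⋀[A]^n M₂)) ((⋀[A]^n B) ⊗[A] (⋀[A]^n (M₁ ⊗[B] M₂))))) (((f ^ n) ^ 3 * (f ^ n * f ^ n)) • LinearMap.fst A ((⋀[A]^n M₁) ⊗[A] (⋀[A]^n M₂)) ((⋀[A]^n B) ⊗[A] (⋀[A]^n (M₁ ⊗[B] M₂)))) := by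
    refine iSup_le fun e => le_inf ?_ ?_
    · rintro _ ⟨z, rfl⟩
      rw [LinearMap.mem_eqLocus, ← LinearMap.comp_apply, ← LinearMap.comp_apply]
      refine LinearMap.congr_fun (TensorProduct.ext' fun a b => ?_) z
      have h := congrArg ((E (A := A) (B := B) n (e₁ ⊗ₜ[B] e₂)).lTensor (⋀[A]^n B))
        (swap (f ^ n) ω hω (U A n (ψ₂ e.2)) b (U A n (ψ₁ e.1) a))
      simp only [map_smul, LinearMap.lTensor_tmul] at h
      simp only [LinearMap.comp_apply, LinearMap.smul_apply, LinearMap.prod_apply,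
        Pi.prod, Function.prod_apply, LinearMap.fst_apply, LinearMap.snd_apply, fst', snd', Φ, LinearEquiv.coe_coe,
        TensorProduct.comm_tmul, TensorProduct.map_tmul, LinearMap.lTensor_tmul, hΨ₁, hΨ₂, h,
        LinearMap.zero_apply]
      rw [← LinearMap.comp_apply (f := U A n (ψ₂ e.2)), U_mul, ← LinearMap.comp_apply, E_U, hu,
        E_smul, LinearMap.smul_apply, TensorProduct.tmul_smul, smul_smul]
    · rintro _ ⟨z, rfl⟩
      rw [LinearMap.mem_eqLocus, ← LinearMap.comp_apply, ← LinearMap.comp_apply]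
      refine LinearMap.congr_fun (TensorProduct.ext' fun a b => ?_) z
      have h := congrArg (fst' (A := A) (B := B) n e₁ e₂)
        (swap (f ^ n) ω hω (U A n (ψ₂ e.2)) (U A n (ψ₁ e.1) a) b)
      simp only [map_smul, fst', TensorProduct.map_tmul] at h
      simp only [LinearMap.comp_apply, LinearMap.smul_apply, LinearMap.prod_apply,
        Pi.prod, Function.prod_apply, LinearMap.fst_apply, LinearMap.snd_apply, fst', snd', Φ', LinearEquiv.coe_coe,
        TensorProduct.comm_tmul, TensorProduct.map_tmul, LinearMap.lTensor_tmul, hΘ, hθt,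
        LinearMap.zero_apply]
      rw [mul_comm (ψ₁ e.1), ← U_mul, LinearMap.comp_apply, h, ← LinearMap.comp_apply, E_U, h₁,
        ← LinearMap.comp_apply (f := E n e₂), E_U, h₂, E_smul, E_smul, LinearMap.smul_apply,
        LinearMap.smul_apply]
      simp only [TensorProduct.tmul_smul, ← TensorProduct.smul_tmul', smul_smul]
  refine ⟨5 * n, fun p => ?_, fun q => ?_, fun x hx => ?_⟩
  · refine ⟨((fst' (B := B) n e₁ e₂).prod (snd' n e₁ e₂)) (f ^ (3 * n) • TensorProduct.map Ψ₁ Ψ₂ p),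
      Submodule.mem_iSup_of_mem (e₁, e₂) (LinearMap.mem_range_self _ _), ?_⟩
    have : fst' (A := A) (B := B) n e₁ e₂ ∘ₗ TensorProduct.map Ψ₁ Ψ₂ = f ^ (2 * n) • LinearMap.id := by
      rw [fst', ← TensorProduct.map_comp, E_psi ψ₁ e₁ f h₁, E_psi ψ₂ e₂ f h₂]
      refine TensorProduct.ext' fun x y => ?_
      simp only [TensorProduct.map_tmul, LinearMap.smul_apply, LinearMap.id_apply,
        TensorProduct.tmul_smul, TensorProduct.smul_tmul', smul_smul]
      ring_nf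
    simp only [LinearMap.fst_apply, LinearMap.prod_apply, Pi.prod, Function.prod_apply, map_smul]
    rw [← LinearMap.comp_apply, this, LinearMap.smul_apply, LinearMap.id_apply, smul_smul, ← pow_add]
    ring_nf
  · refine ⟨((fst' (B := B) n e₁ e₂).prod (snd' n e₁ e₂))
      (f ^ (3 * n) • (TensorProduct.comm A _ _) (Θ.lTensor (⋀[A]^n B) q)),
      Submodule.mem_iSup_of_mem (e₁, e₂) (LinearMap.mem_range_self _ _), ?_⟩
    simp only [LinearMap.snd_apply, LinearMap.prod_apply, Pi.prod, Function.prod_apply, map_smul]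
    have : snd' (A := A) (B := B) n e₁ e₂ ∘ₗ (TensorProduct.comm A _ _).toLinearMap ∘ₗ
        Θ.lTensor (⋀[A]^n B) = f ^ (2 * n) • LinearMap.id := by
      refine TensorProduct.ext' fun x y => ?_
      simp only [snd', LinearMap.comp_apply, LinearEquiv.coe_coe, LinearMap.lTensor_tmul,
        TensorProduct.comm_tmul, LinearMap.smul_apply, LinearMap.id_apply]
      rw [← LinearMap.comp_apply, E_psi θ _ _ hθ, LinearMap.smul_apply, LinearMap.id_apply,
        TensorProduct.tmul_smul, ← pow_mul]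
    rw [show snd' (A := A) (B := B) n e₁ e₂ ((TensorProduct.comm A _ _) (Θ.lTensor (⋀[A]^n B) q)) =
      f ^ (2 * n) • q from LinearMap.congr_fun this q, smul_smul, ← pow_add]
    ring_nf
  · obtain ⟨hx1, hx2⟩ := Submodule.mem_inf.mp (hG hx)
    simp only [LinearMap.mem_eqLocus, LinearMap.smul_apply, LinearMap.comp_apply,
      LinearMap.fst_apply, LinearMap.snd_apply] at hx1 hx2
    constructor
    · intro h0
      rw [h0, map_zero, smul_zero] at hx1
      rw [hx1]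
      ring_nf
    · intro h0
      rw [h0, map_zero, smul_zero] at hx2
      rw [hx2]
      ring_nf

theorem nonempty_equiv (h : ∀ q : PrimeSpectrum A, ∃ f : A, f ∉ q.asIdeal ∧ LocalData A B n M₁ M₂ f) :
    Nonempty ((⋀[A]^n B) ⊗[A] (⋀[A]^n (M₁ ⊗[B] M₂)) ≃ₗ[A] (⋀[A]^n M₁) ⊗[A] (⋀[A]^n M₂)) := by
  refine bijective_proj (P := (⋀[A]^n M₁) ⊗[A] (⋀[A]^n M₂))
    (Q := (⋀[A]^n B) ⊗[A] (⋀[A]^n (M₁ ⊗[B] M₂))) (graph A B n M₁ M₂) fun q => ?_
  obtain ⟨f, hfq, hf⟩ := h q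
  obtain ⟨k, hk₁, hk₂, hk⟩ := graph_local f hf
  exact ⟨f ^ k, q.asIdeal.primeCompl.pow_mem hfq k, hk₁, hk₂, hk⟩

end Groth.Agent.H21.NormModule
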