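import Groth.Agent.Lib.Normalization.InField
import Mathlib.RingTheory.Localization.Integral
import Mathlib.AlgebraicGeometry.Gluing
import Mathlib.AlgebraicGeometry.Cover.Open

/-!
# Universal property of the normalization of an integral scheme
-/

set_option autoImplicit false
set_option linter.style.haveILetI false

universe u

open CategoryTheory AlgebraicGeometry TopologicalSpace

namespace Groth.Agent.H21.NormalizationUP

/-- A homomorphism from a domain into a ring which is locally a normal domain, injective at every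
prime, extends uniquely to the integral closure. -/
theorem existsUnique_ringHom {A K B : Type u} [CommRing A] [Field K] [Algebra A K] [IsFractionRing A K]
    [CommRing B] (α : A →+* B)
    (hnorm : ∀ q : PrimeSpectrum B, IsDomain (Localization.AtPrime q.asIdeal) ∧
      IsIntegrallyClosed (Localization.AtPrime q.asIdeal))
    (hinj : ∀ q : PrimeSpectrum B,
      Function.Injective ((algebraMap B (Localization.AtPrime q.asIdeal)).comp α)) :
    ∃! r : integralClosure A K →+* B, r.comp (algebraMap A (integralClosure A K)) = α := by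
  classical
  have hAK : Function.Injective (algebraMap A K) := IsFractionRing.injective A K
  have hreg : ∀ s : A, s ≠ 0 → ∀ b : B, b * α s = 0 → b = 0 := by
    intro s hs b hb
    refine eq_zero_of_localization b fun J hJ => ?_
    have := (hnorm ⟨J, hJ.isPrime⟩).1
    have h1 : algebraMap B (Localization.AtPrime J) b *
        algebraMap B (Localization.AtPrime J) (α s) = 0 := by rw [← map_mul, hb, map_zero]
    refine (mul_eq_zero.mp h1).resolve_right fun h2 => hs (hinj ⟨J, hJ.isPrime⟩ ?_)
    simpa using h2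
  have hfrac : ∀ x : integralClosure A K, ∃ (a s : A) (b : B), s ≠ 0 ∧
      (x : K) * algebraMap A K s = algebraMap A K a ∧ b * α s = α a := by
    rintro ⟨x, hx⟩
    obtain ⟨⟨a, s⟩, hxs⟩ := IsLocalization.surj (nonZeroDivisors A) x
    have hs : (s : A) ≠ 0 := by
      have : Nontrivial A := RingHom.domain_nontrivial (algebraMap A K)
      exact nonZeroDivisors.coe_ne_zero s
    refine ⟨a, s, ?_⟩
    suffices α a ∈ Ideal.span {α (s : A)} by
      obtain ⟨b, hb⟩ := Ideal.mem_span_singleton'.mp this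
      exact ⟨b, hs, hxs, hb⟩
    refine Ideal.mem_of_localization_maximal (fun J hJ => ?_)
    have hJp : J.IsPrime := hJ.isPrime
    obtain ⟨hd, hic⟩ := hnorm ⟨J, hJp⟩
    let L := FractionRing (Localization.AtPrime J)
    let α' : A →+* L := ((algebraMap (Localization.AtPrime J) L).comp (algebraMap B _)).comp α
    have hα' : Function.Injective α' := by
      intro u v huv
      exact hinj ⟨J, hJp⟩ (IsFractionRing.injective (Localization.AtPrime J) L huv)
    let Φ : K →+* L := IsFractionRing.lift hα'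
    have hΦ : ∀ u, Φ (algebraMap A K u) = α' u := fun u => IsFractionRing.lift_algebraMap hα' u
    have hint : IsIntegral (Localization.AtPrime J) (Φ x) := by
      obtain ⟨p, hp, hpx⟩ := hx
      refine ⟨p.map ((algebraMap B _).comp α), hp.map _, ?_⟩
      rw [Polynomial.eval₂_map]
      have := congrArg Φ hpx
      rw [map_zero, Polynomial.hom_eval₂] at this
      have hcomp : (algebraMap (Localization.AtPrime J) L).comp ((algebraMap B _).comp α) =
          Φ.comp (algebraMap A K) := RingHom.ext fun u => (hΦ u).symm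
      rw [hcomp]
      exact this
    obtain ⟨y, hy⟩ := IsIntegrallyClosed.isIntegral_iff.mp hint
    rw [Ideal.map_span, Set.image_singleton, Ideal.mem_span_singleton']
    refine ⟨y, IsFractionRing.injective (Localization.AtPrime J) L ?_⟩
    have := congrArg Φ hxs
    rw [map_mul, hΦ, hΦ] at this
    rw [map_mul, hy]
    exact this
  choose a s b hs hxs hb using hfrac
  -- characterisation of the value
  have key : ∀ (x : integralClosure A K) (a' s' : A), (x : K) * algebraMap A K s' = algebraMap A K a' →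
      b x * α s' = α a' := by
    intro x a' s' h
    have h1 : a x * s' = a' * s x := hAK (by rw [map_mul, map_mul, ← hxs, ← h]; ring)
    refine sub_eq_zero.mp (hreg (s x) (hs x) _ ?_)
    rw [sub_mul, mul_right_comm, hb, ← map_mul, h1, map_mul, sub_self]
  have cancel : ∀ {u v : B} (t : A), t ≠ 0 → u * α t = v * α t → u = v := fun {u v} t ht h =>
    sub_eq_zero.mp (hreg t ht _ (by rw [sub_mul, h, sub_self]))
  have : Nontrivial A := RingHom.domain_nontrivial (algebraMap A K)
  have : IsDomain A := Function.Injective.isDomain (algebraMap A K) hAK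
  let r : integralClosure A K →+* B :=
    { toFun := b
      map_one' := by
        refine cancel 1 one_ne_zero ?_
        rw [key 1 1 1 (by simp), map_one, one_mul]
      map_zero' := by
        refine cancel 1 one_ne_zero ?_
        rw [key 0 0 1 (by simp), map_zero, zero_mul]
      map_mul' := fun x y => by
        refine cancel (s x * s y) (mul_ne_zero (hs x) (hs y)) ?_
        rw [key (x * y) (a x * a y) (s x * s y) (by
          rw [map_mul, map_mul, ← hxs, ← hxs]; push_cast; ring), map_mul, map_mul, ← hb, ← hb]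
        ring
      map_add' := fun x y => by
        refine cancel (s x * s y) (mul_ne_zero (hs x) (hs y)) ?_
        rw [key (x + y) (a x * s y + a y * s x) (s x * s y) (by
          rw [map_add, map_mul, map_mul, map_mul, ← hxs, ← hxs]; push_cast; ring),
          map_add, map_mul, map_mul, map_mul, ← hb, ← hb]
        ring }
  refine ⟨r, RingHom.ext fun c => ?_, fun r' hr' => RingHom.ext fun x => ?_⟩
  · refine cancel 1 one_ne_zero ?_
    show b _ * α 1 = α c * α 1
    rw [key _ c 1 (by simp), map_one, mul_one]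
  · refine cancel (s x) (hs x) ?_
    show r' x * α (s x) = b x * α (s x)
    rw [hb, ← hr']
    simp only [RingHom.comp_apply, ← map_mul]
    exact congrArg r' (Subtype.ext (by simpa using hxs x))

variable {X : Scheme.{u}} [IsIntegral X]

/-- Normal, with every local homomorphism to `X` injective. -/
def Cond {Y : Scheme.{u}} (y : Y ⟶ X) : Prop :=
  ∀ p : Y, IsDomain (Y.presheaf.stalk p) ∧ IsIntegrallyClosed (Y.presheaf.stalk p) ∧
    Function.Injective (y.stalkMap p)

theorem Cond.comp {Y W : Scheme.{u}} {y : Y ⟶ X} (h : Cond y) (j : W ⟶ Y) [IsOpenImmersion j] :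
    Cond (j ≫ y) := by
  intro p
  obtain ⟨h1, h2, h3⟩ := h (j p)
  let e := (asIso (j.stalkMap p)).commRingCatIsoToRingEquiv
  refine ⟨MulEquiv.isDomain _ e.symm.toMulEquiv, IsIntegrallyClosed.of_equiv e, ?_⟩
  rw [Scheme.Hom.stalkMap_comp]
  exact e.injective.comp h3

variable [QuasiCompact (X.fromSpecStalk (genericPoint X))]
  [QuasiSeparated (X.fromSpecStalk (genericPoint X))]

set_option maxHeartbeats 800000 in
theorem existsUnique_affine {W : Scheme.{u}} [IsAffine W] {U : X.Opens} (hU : IsAffineOpen U)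
    (w : W ⟶ X) (hw : ⊤ ≤ w ⁻¹ᵁ U) (hc : Cond w) :
    ∃! h : W ⟶ (X.fromSpecStalk (genericPoint X)).normalization,
      h ≫ (X.fromSpecStalk (genericPoint X)).fromNormalization = w := by
  let g₀ := X.fromSpecStalk (genericPoint X)
  rcases isEmpty_or_nonempty W with hWe | hWne
  · refine ⟨(Limits.IsInitial.to (isInitialOfIsEmpty) _ : W ⟶ _), isInitialOfIsEmpty.hom_ext _ _,
      fun h _ => isInitialOfIsEmpty.hom_ext _ _⟩
  have : Nonempty U := ⟨⟨w (Classical.arbitrary W), hw (Opens.mem_top _)⟩⟩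
  have hg₀ : g₀ = Spec.map (CommRingCat.ofHom (RingHom.id X.functionField)) ≫
      X.fromSpecStalk (genericPoint X) := by simp [g₀]
  let π := g₀.fromNormalization
  have hP : IsAffineOpen (π ⁻¹ᵁ U) := hU.preimage π
  letI : Algebra Γ(X, U) X.functionField := Lib.Normalization.InField.algebraK (RingHom.id _) U
  have : IsFractionRing Γ(X, U) X.functionField := functionField_isFractionRing_of_isAffineOpen X U hU
  let e := Lib.Normalization.InField.sectionsEquiv (RingHom.id X.functionField) g₀ hg₀ hU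
  have he : ∀ a, e (π.app U a) = algebraMap _ _ a :=
    Lib.Normalization.InField.sectionsEquiv_app (RingHom.id X.functionField) g₀ hg₀ hU
  let α : Γ(X, U) →+* Γ(W, ⊤) := (w.appLE U ⊤ hw).hom
  have hW := isAffineOpen_top W
  have key : ∀ q : PrimeSpectrum Γ(W, ⊤), (IsDomain (Localization.AtPrime q.asIdeal) ∧
      IsIntegrallyClosed (Localization.AtPrime q.asIdeal)) ∧
      Function.Injective ((algebraMap Γ(W, ⊤) (Localization.AtPrime q.asIdeal)).comp α) := by
    intro q
    let p : W := hW.fromSpec q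
    obtain ⟨h1, h2, h3⟩ := hc p
    letI : Algebra Γ(W, ⊤) (W.presheaf.stalk p) := W.presheaf.algebra_section_stalk ⟨p, Opens.mem_top p⟩
    have hloc : IsLocalization.AtPrime (W.presheaf.stalk p) q.asIdeal :=
      hW.isLocalization_stalk' q (Opens.mem_top p)
    let f := IsLocalization.algEquiv q.asIdeal.primeCompl (W.presheaf.stalk p) (Localization.AtPrime q.asIdeal)
    refine ⟨⟨MulEquiv.isDomain _ f.symm.toMulEquiv, IsIntegrallyClosed.of_equiv f.toRingEquiv⟩, ?_⟩
    have hcomm : ∀ a, algebraMap Γ(W, ⊤) (Localization.AtPrime q.asIdeal) (α a) =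
        f (w.stalkMap p (X.presheaf.germ U (w p) (hw (Opens.mem_top p)) a)) := by
      intro a
      rw [← f.commutes]
      congr 1
      rw [Scheme.Hom.germ_stalkMap_apply]
      show W.presheaf.germ ⊤ p _ (w.appLE U ⊤ hw a) = _
      exact W.presheaf.germ_res_apply (homOfLE hw) p (Opens.mem_top p) _
    intro a b hab
    rw [RingHom.comp_apply, RingHom.comp_apply, hcomm, hcomm] at hab
    exact AlgebraicGeometry.germ_injective_of_isIntegral X _ (hw (Opens.mem_top p)) (h3 (f.injective hab))
  obtain ⟨r, hr, hrU⟩ := existsUnique_ringHom (K := X.functionField) α (fun q => (key q).1) (fun q => (key q).2)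
  let r' : Γ(g₀.normalization, π ⁻¹ᵁ U) ⟶ Γ(W, ⊤) := CommRingCat.ofHom (r.comp e.toRingHom)
  have hr' : π.app U ≫ r' = w.appLE U ⊤ hw := by
    ext a
    show r (e (π.app U a)) = _
    rw [he]
    exact DFunLike.congr_fun hr a
  refine ⟨W.isoSpec.hom ≫ Spec.map r' ≫ hP.fromSpec, ?_, fun h hh => ?_⟩
  · show (W.isoSpec.hom ≫ Spec.map r' ≫ hP.fromSpec) ≫ π = w
    rw [Category.assoc, Category.assoc,
      ← hU.SpecMap_appLE_fromSpec π hP (le_refl _), ← Scheme.Hom.app_eq_appLE, ← Spec.map_comp_assoc, hr',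
      hU.SpecMap_appLE_fromSpec w hW hw, IsAffineOpen.fromSpec_top, Iso.hom_inv_id_assoc]
  · have hle : ⊤ ≤ h ⁻¹ᵁ (π ⁻¹ᵁ U) := by
      rw [← Scheme.Hom.comp_preimage, hh]; exact hw
    have h1 := hP.SpecMap_appLE_fromSpec h hW hle
    rw [IsAffineOpen.fromSpec_top] at h1
    rw [← Iso.hom_inv_id_assoc W.isoSpec h, ← h1]
    congr 2
    refine congrArg Spec.map ?_
    have h2 : π.app U ≫ h.appLE (π ⁻¹ᵁ U) ⊤ hle = w.appLE U ⊤ hw := by
      rw [Scheme.Hom.app_eq_appLE, Scheme.Hom.appLE_comp_appLE]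
      subst hh
      rfl
    have h3 : (h.appLE (π ⁻¹ᵁ U) ⊤ hle).hom.comp e.symm.toRingHom = r := hrU _ (by
      ext a
      show h.appLE (π ⁻¹ᵁ U) ⊤ hle (e.symm (algebraMap _ _ a)) = α a
      rw [← he, e.symm_apply_apply]
      exact congr($h2 a))
    ext c
    show h.appLE (π ⁻¹ᵁ U) ⊤ hle c = r (e c)
    rw [← h3]
    show _ = h.appLE (π ⁻¹ᵁ U) ⊤ hle (e.symm (e c))
    rw [e.symm_apply_apply]

theorem hom_unique {Y : Scheme.{u}} (y : Y ⟶ X) (hc : Cond y)
    (h₁ h₂ : Y ⟶ (X.fromSpecStalk (genericPoint X)).normalization)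
    (e₁ : h₁ ≫ (X.fromSpecStalk (genericPoint X)).fromNormalization = y)
    (e₂ : h₂ ≫ (X.fromSpecStalk (genericPoint X)).fromNormalization = y) : h₁ = h₂ := by
  have hex : ∀ p : Y, ∃ (U : X.Opens) (V : Y.Opens), IsAffineOpen U ∧ IsAffineOpen V ∧ p ∈ V ∧ V ≤ y ⁻¹ᵁ U := by
    intro p
    obtain ⟨_, ⟨U, hU, rfl⟩, hpU, -⟩ := X.isBasis_affineOpens.exists_subset_of_mem_open (Set.mem_univ (y p)) isOpen_univ
    obtain ⟨_, ⟨V, hV, rfl⟩, hpV, hVU⟩ := Y.isBasis_affineOpens.exists_subset_of_mem_open
      (show p ∈ (y ⁻¹ᵁ U : Set Y) from hpU) (y ⁻¹ᵁ U).isOpen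
    exact ⟨U, V, hU, hV, hpV, hVU⟩
  choose U V hU hV hpV hVU using hex
  refine (Scheme.openCoverOfIsOpenCover _ V (Opens.ext (Set.eq_univ_of_forall fun p => by
    rw [Opens.coe_iSup]; exact Set.mem_iUnion.mpr ⟨p, hpV p⟩))).hom_ext _ _ fun p => ?_
  have : IsAffine (V p).toScheme := hV p
  refine (existsUnique_affine (hU p) ((V p).ι ≫ y) (fun q _ => hVU p q.2) (hc.comp _)).unique ?_ ?_
  · show ((V p).ι ≫ h₁) ≫ _ = _
    rw [Category.assoc, e₁]
  · show ((V p).ι ≫ h₂) ≫ _ = _
    rw [Category.assoc, e₂]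

theorem existsUnique_lift {Z : Scheme.{u}} (g : Z ⟶ X) (hc : Cond g) :
    ∃! h : Z ⟶ (X.fromSpecStalk (genericPoint X)).normalization,
      h ≫ (X.fromSpecStalk (genericPoint X)).fromNormalization = g := by
  have hex : ∀ p : Z, ∃ (U : X.Opens) (V : Z.Opens), IsAffineOpen U ∧ IsAffineOpen V ∧ p ∈ V ∧ V ≤ g ⁻¹ᵁ U := by
    intro p
    obtain ⟨_, ⟨U, hU, rfl⟩, hpU, -⟩ := X.isBasis_affineOpens.exists_subset_of_mem_open (Set.mem_univ (g p)) isOpen_univ
    obtain ⟨_, ⟨V, hV, rfl⟩, hpV, hVU⟩ := Z.isBasis_affineOpens.exists_subset_of_mem_open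
      (show p ∈ (g ⁻¹ᵁ U : Set Z) from hpU) (g ⁻¹ᵁ U).isOpen
    exact ⟨U, V, hU, hV, hpV, hVU⟩
  choose U V hU hV hpV hVU using hex
  let 𝒰 := Scheme.openCoverOfIsOpenCover _ V (Opens.ext (Set.eq_univ_of_forall fun p => by
    rw [Opens.coe_iSup]; exact Set.mem_iUnion.mpr ⟨p, hpV p⟩))
  have hex' : ∀ p : Z, ∃ h : (V p).toScheme ⟶ (X.fromSpecStalk (genericPoint X)).normalization,
      h ≫ (X.fromSpecStalk (genericPoint X)).fromNormalization = (V p).ι ≫ g := fun p => by
    have : IsAffine (V p).toScheme := hV p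
    exact (existsUnique_affine (hU p) ((V p).ι ≫ g) (fun q _ => hVU p q.2) (hc.comp _)).exists
  choose h hh using hex'
  have hcomp : ∀ p q, Limits.pullback.fst (𝒰.f p) (𝒰.f q) ≫ h p = Limits.pullback.snd _ _ ≫ h q := by
    intro p q
    refine hom_unique ((Limits.pullback.fst (𝒰.f p) (𝒰.f q) ≫ 𝒰.f p) ≫ g) (hc.comp _) _ _ ?_ ?_
    · erw [Category.assoc, hh, Category.assoc]; rfl
    · rw [Limits.pullback.condition]; erw [Category.assoc, hh, Category.assoc]; rfl
  refine ⟨𝒰.glueMorphisms h hcomp, ?_, fun h' hh' => hom_unique g hc _ _ hh' ?_⟩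
  all_goals
    refine 𝒰.hom_ext _ _ fun p => ?_
    rw [Scheme.Cover.ι_glueMorphisms_assoc]
    exact hh p

end Groth.Agent.H21.NormalizationUP
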