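import Mathlib.LinearAlgebra.TensorProduct.Pi
import Mathlib.RingTheory.Flat.FaithfullyFlat.Algebra
import Mathlib.RingTheory.TensorProduct.Pi
import Mathlib.RingTheory.Finiteness.Descent
import Mathlib.RingTheory.Etale.Descent
import Mathlib.RingTheory.Etale.Pi
import Mathlib.RingTheory.Flat.Basic

set_option autoImplicit false
set_option linter.unusedSectionVars false

open TensorProduct

universe u v

namespace Groth.Agent.H21.PiDescent

variable {R : Type u} [CommRing R] {ι : Type u} [Finite ι] (B : ι → Type u) [∀ i, CommRing (B i)]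
  [∀ i, Algebra R (B i)] [Module.FaithfullyFlat R (∀ i, B i)]

theorem flat_component (i : ι) : Module.Flat R (B i) := by
  classical
  refine Module.Flat.of_retract (LinearMap.single R B i) (LinearMap.proj i) ?_
  ext x
  simp

theorem piLeft_lTensor {M N : Type v} [AddCommGroup M] [AddCommGroup N] [Module R M] [Module R N]
    [Fintype ι] [DecidableEq ι] (f : M →ₗ[R] N) (t : (∀ i, B i) ⊗[R] M) (i : ι) :
    TensorProduct.piLeft R N B (LinearMap.lTensor _ f t) i =
      LinearMap.lTensor (B i) f (TensorProduct.piLeft R M B t i) := by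
  induction t using TensorProduct.induction_on with
  | zero => simp
  | tmul b m => simp
  | add s t hs ht => simp only [map_add, Pi.add_apply, hs, ht]

theorem injective_of_forall {M N : Type v} [AddCommGroup M] [AddCommGroup N] [Module R M] [Module R N]
    (f : M →ₗ[R] N) (h : ∀ i, Function.Injective (f.lTensor (B i))) : Function.Injective f := by
  classical
  have := Fintype.ofFinite ι
  refine (Module.FaithfullyFlat.lTensor_injective_iff_injective R (∀ i, B i) f).mp fun s t hst => ?_
  refine (TensorProduct.piLeft R M B).injective (funext fun i => h i ?_)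
  rw [← piLeft_lTensor, ← piLeft_lTensor, hst]

theorem surjective_of_forall {M N : Type v} [AddCommGroup M] [AddCommGroup N] [Module R M] [Module R N]
    (f : M →ₗ[R] N) (h : ∀ i, Function.Surjective (f.lTensor (B i))) : Function.Surjective f := by
  classical
  have := Fintype.ofFinite ι
  refine (Module.FaithfullyFlat.lTensor_surjective_iff_surjective R (∀ i, B i) f).mp fun t => ?_
  choose x hx using fun i => h i (TensorProduct.piLeft R N B t i)
  refine ⟨(TensorProduct.piLeft R M B).symm x, (TensorProduct.piLeft R N B).injective (funext fun i => ?_)⟩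
  rw [piLeft_lTensor, LinearEquiv.apply_symm_apply, hx]

theorem bijective_of_forall {M N : Type v} [AddCommGroup M] [AddCommGroup N] [Module R M] [Module R N]
    (f : M →ₗ[R] N) (h : ∀ i, Function.Bijective (f.lTensor (B i))) : Function.Bijective f :=
  ⟨injective_of_forall B f fun i => (h i).1, surjective_of_forall B f fun i => (h i).2⟩

theorem finite_of_forall (S : Type u) [AddCommGroup S] [Module R S]
    (h : ∀ i, Module.Finite (B i) (B i ⊗[R] S)) : Module.Finite R S := by
  classical
  choose n g hg using fun i => Module.Finite.exists_fin (R := B i) (M := B i ⊗[R] S)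
  choose k t m hm using fun (i : ι) (j : Fin (n i)) => TensorProduct.exists_sum_tmul_eq (g i j)
  let κ := Σ (i : ι) (j : Fin (n i)), Fin (k i j)
  let f : (κ →₀ R) →ₗ[R] S := Finsupp.linearCombination R fun x : κ => m x.1 x.2.1 x.2.2
  have : Finite κ := inferInstance
  refine Module.Finite.of_surjective f (surjective_of_forall B f fun i => ?_)
  have hsurj : Function.Surjective (AlgebraTensorModule.lTensor (B i) (B i) f) := by
    rw [← LinearMap.range_eq_top, eq_top_iff, ← hg i, Submodule.span_le, Set.range_subset_iff]
    intro j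
    refine ⟨∑ l : Fin (k i j), t i j l ⊗ₜ Finsupp.single (⟨i, j, l⟩ : κ) 1, ?_⟩
    simp [f, hm i j]
  exact hsurj

theorem flat_of_forall (S : Type u) [AddCommGroup S] [Module R S]
    (h : ∀ i, Module.Flat (B i) (B i ⊗[R] S)) : Module.Flat R S := by
  refine Module.Flat.iff_lTensor_preserves_injective_linearMap.mpr fun N N' _ _ _ _ f hf => ?_
  refine injective_of_forall B (f.lTensor S) fun i => ?_
  have := flat_component (R := R) B i
  have := h i
  have : Module.Flat R (B i ⊗[R] S) := Module.Flat.trans R (B i) _
  have := Module.Flat.lTensor_preserves_injective_linearMap (M := B i ⊗[R] S) f hf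
  intro a b hab
  apply (TensorProduct.assoc R (B i) S N).symm.injective
  apply this
  have comm : ∀ x, LinearMap.lTensor (B i ⊗[R] S) f ((TensorProduct.assoc R (B i) S N).symm x) =
      (TensorProduct.assoc R (B i) S N').symm (LinearMap.lTensor (B i) (f.lTensor S) x) := by
    intro x
    induction x using TensorProduct.induction_on with
    | zero => simp
    | tmul a y =>
      induction y using TensorProduct.induction_on with
      | zero => simp
      | tmul c d => simp
      | add c d hc hd => simp only [tmul_add, map_add, hc, hd]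
    | add c d hc hd => simp only [map_add, hc, hd]
  rw [comm, comm, hab]

theorem exists_prime_of_faithfullyFlat (p : PrimeSpectrum R) :
    ∃ (i : ι) (q : PrimeSpectrum (B i)), PrimeSpectrum.comap (algebraMap R (B i)) q = p := by
  obtain ⟨U, hU⟩ := PrimeSpectrum.comap_surjective_of_faithfullyFlat (A := R) (B := ∀ i, B i) p
  obtain ⟨⟨i, q⟩, rfl⟩ := (PrimeSpectrum.sigmaToPiHomeo B).surjective U
  exact ⟨i, q, hU⟩

theorem etale_of_forall (S : Type u) [CommRing S] [Algebra R S]
    (h : ∀ i, Algebra.Etale (B i) (B i ⊗[R] S)) : Algebra.Etale R S := by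
  classical
  have := Fintype.ofFinite ι
  let Bp := ∀ i, B i
  let (i : ι) : Algebra Bp (B i) := (Pi.evalRingHom B i).toAlgebra
  have (i : ι) : IsScalarTower R Bp (B i) := IsScalarTower.of_algebraMap_eq fun r => rfl
  have (i : ι) : IsLocalization.Away (Pi.single i 1 : Bp) (B i) := by
    refine IsLocalization.away_of_isIdempotentElem ?_ (RingHom.ker_evalRingHom _ _)
      ((Pi.evalRingHom B i).surjective)
    simp [IsIdempotentElem, ← Pi.single_mul_left]
  have (i : ι) : Algebra.Etale Bp (B i) := Algebra.Etale.of_isLocalizationAway (Pi.single i 1 : Bp)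
  have (i : ι) : Algebra.Etale Bp (B i ⊗[R] S) := Algebra.Etale.comp Bp (B i) _
  let : Algebra Bp (∀ i, B i ⊗[R] S) := Pi.algebra ι fun i => B i ⊗[R] S
  let Φ : Bp ⊗[R] S →ₐ[Bp] ∀ i, B i ⊗[R] S :=
    Algebra.TensorProduct.lift (Algebra.ofId Bp _)
      (AlgHom.pi fun i => Algebra.TensorProduct.includeRight) fun a b => Commute.all _ _
  have hΦ : ∀ t, (Φ t : ∀ i, B i ⊗[R] S) = TensorProduct.piLeft R S B t := by
    intro t
    induction t using TensorProduct.induction_on with
    | zero => rw [map_zero, map_zero]
    | tmul b s =>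
      funext i
      simp only [Φ, Algebra.TensorProduct.lift_tmul, Algebra.ofId_apply, Pi.mul_apply]
      change ((b i) ⊗ₜ[R] (1 : S)) * ((1 : B i) ⊗ₜ[R] s) = _
      simp
    | add s t hs ht => rw [map_add, map_add, hs, ht]
  have hbij : Function.Bijective Φ := by
    rw [show (⇑Φ) = ⇑(TensorProduct.piLeft R S B) from funext hΦ]
    exact (TensorProduct.piLeft R S B).bijective
  have : Algebra.Etale Bp (∀ i, B i ⊗[R] S) :=
    { formallyEtale := inferInstance, finitePresentation := Algebra.FinitePresentation.pi _ }
  have : Algebra.Etale Bp (Bp ⊗[R] S) := Algebra.Etale.of_equiv (AlgEquiv.ofBijective Φ hbij).symm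
  exact Algebra.Etale.of_etale_tensorProduct_of_faithfullyFlat Bp

end Groth.Agent.H21.PiDescent
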