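import Groth.Agent.Lib.Smoothing.Popescu.Main
import Groth.Agent.Lib.Henselian.Smooth
import Groth.Agent.Lib.Excellent.CompletionNoetherian
import Mathlib.RingTheory.AdicCompletion.Completeness

/-!
# Approximation over henselian pairs with regular completion map
-/

universe u

open MvPolynomial

namespace Groth.Agent.H21.PopescuApprox

variable {A : Type u} [CommRing A] [IsNoetherianRing A] (I : Ideal A) [HenselianRing A I]

/-- The kernel of `evalₐ` is the extended power ideal. -/
theorem ker_evalₐ_le (n : ℕ) (x : AdicCompletion I A) (hx : AdicCompletion.evalₐ I n x = 0) :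
    x ∈ (I ^ n).map (algebraMap A (AdicCompletion I A)) := by
  have h1 : AdicCompletion.eval I A n x = 0 := by
    rw [← AdicCompletion.factor_evalₐ_eq_eval I x (by simp), hx, map_zero]
  have h2 : x ∈ (I ^ n • ⊤ : Submodule A (AdicCompletion I A)) := by
    rw [AdicCompletion.pow_smul_top_eq_ker_eval (IsNoetherian.noetherian I)]
    exact h1
  rw [Ideal.smul_top_eq_map] at h2
  exact h2

/-- An algebra map to the completion is congruent to one to `A`. -/
theorem exists_algHom (hreg : _root_.CAlg.IsRegularHom A (AdicCompletion I A))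
    (P : Type u) [CommRing P] [Algebra A P] [Algebra.FinitePresentation A P]
    (φ : P →ₐ[A] AdicCompletion I A) (n : ℕ) :
    ∃ τ : P →ₐ[A] A, ∀ p, Ideal.Quotient.mk (I ^ n) (τ p) = AdicCompletion.evalₐ I n (φ p) := by
  rcases Nat.eq_zero_or_pos n with rfl | hn
  · obtain ⟨τ, -⟩ := exists_algHom_aux hreg P φ
    exact ⟨τ, fun p => by
      haveI : Subsingleton (A ⧸ I ^ 0) := Ideal.Quotient.subsingleton_iff.mpr (by rw [pow_zero, Ideal.one_eq_top])
      exact Subsingleton.elim _ _⟩
  · exact main hreg P φ n hn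
where
  main (hreg : _root_.CAlg.IsRegularHom A (AdicCompletion I A))
      (P : Type u) [CommRing P] [Algebra A P] [Algebra.FinitePresentation A P]
      (φ : P →ₐ[A] AdicCompletion I A) (n : ℕ) (hn : 0 < n) :
      ∃ τ : P →ₐ[A] A, ∀ p, Ideal.Quotient.mk (I ^ n) (τ p) = AdicCompletion.evalₐ I n (φ p) := by
    haveI : IsNoetherianRing (AdicCompletion I A) :=
      Groth.Agent.Lib.Excellent.CompletionNoetherian.isNoetherianRing_adicCompletion I
    haveI : HenselianRing A (I ^ n) :=
      Groth.Agent.Lib.Henselian.Basic.henselianRing_of_le (Ideal.pow_le_self hn.ne')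
    obtain ⟨B, _, _, hB, g, h, hgh⟩ :=
      Groth.Agent.Lib.Smoothing.Popescu.Main.indSmooth hreg P inferInstance φ
    obtain ⟨τ, hτ⟩ := Groth.Agent.Lib.Henselian.Smooth.exists_algHom_lift_smooth_self (I ^ n)
      ((AdicCompletion.evalₐ I n).comp h)
    exact ⟨τ.comp g, fun p => (AlgHom.congr_fun hτ (g p)).trans (by rw [← hgh]; rfl)⟩
  exists_algHom_aux (hreg : _root_.CAlg.IsRegularHom A (AdicCompletion I A))
      (P : Type u) [CommRing P] [Algebra A P] [Algebra.FinitePresentation A P]
      (φ : P →ₐ[A] AdicCompletion I A) : ∃ _ : P →ₐ[A] A, True := by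
    obtain ⟨τ, -⟩ := main hreg P φ 1 one_pos
    exact ⟨τ, trivial⟩

end Groth.Agent.H21.PopescuApprox
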