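import Mathlib.FieldTheory.PurelyInseparable.Basic
import Mathlib.RingTheory.LocalRing.ResidueField.Ideal
import Mathlib.RingTheory.TensorProduct.Maps
import Mathlib.RingTheory.Spectrum.Prime.RingHom
import Mathlib.RingTheory.Flat.Basic

/-! Radicial ring maps, through morphisms into fields. -/

set_option autoImplicit false

open scoped TensorProduct

universe u

namespace Groth.Agent.H21.Radicial

variable {R S : Type u} [CommRing R] [CommRing S] [Algebra R S]

/-- Two maps to a field which agree on the base agree. -/
def Rad (R S : Type u) [CommRing R] [CommRing S] [Algebra R S] : Prop :=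
  ∀ (K : Type u) [Field K] (g₁ g₂ : S →+* K),
    g₁.comp (algebraMap R S) = g₂.comp (algebraMap R S) → g₁ = g₂

theorem rad_of (hinj : Function.Injective (PrimeSpectrum.comap (algebraMap R S)))
    (hpi : ∀ (q : Ideal S) [q.IsPrime] (x : q.ResidueField), ∃ n : ℕ,
      x ^ (ringExpChar (q.comap (algebraMap R S)).ResidueField) ^ n ∈
        Set.range (Ideal.ResidueField.map (q.comap (algebraMap R S)) q (algebraMap R S) rfl)) :
    Rad R S := by
  intro K _ g₁ g₂ h
  let q := RingHom.ker g₁
  have hq : q.IsPrime := RingHom.ker_isPrime g₁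
  have hq2 : RingHom.ker g₂ = q := by
    have : (⟨RingHom.ker g₂, RingHom.ker_isPrime g₂⟩ : PrimeSpectrum S) = ⟨q, hq⟩ := hinj (by
      apply PrimeSpectrum.ext
      show (RingHom.ker g₂).comap (algebraMap R S) = (RingHom.ker g₁).comap (algebraMap R S)
      rw [RingHom.comap_ker, RingHom.comap_ker, h])
    exact congrArg PrimeSpectrum.asIdeal this
  have hu : ∀ g : S →+* K, RingHom.ker g = q → q.primeCompl ≤ (IsUnit.submonoid K).comap g :=
    fun g hg s hs => isUnit_iff_ne_zero.mpr fun h0 => hs (hg ▸ h0)
  let G₁ := Ideal.ResidueField.lift q g₁ le_rfl (hu g₁ rfl)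
  let G₂ := Ideal.ResidueField.lift q g₂ hq2.ge (hu g₂ hq2)
  have hagree : G₁.comp (Ideal.ResidueField.map (q.comap (algebraMap R S)) q (algebraMap R S) rfl) =
      G₂.comp (Ideal.ResidueField.map (q.comap (algebraMap R S)) q (algebraMap R S) rfl) := by
    refine Ideal.ResidueField.ringHom_ext (RingHom.ext fun r => ?_)
    simp only [RingHom.comp_apply, Ideal.ResidueField.map_algebraMap, G₁, G₂,
      Ideal.ResidueField.lift_algebraMap]
    exact RingHom.congr_fun h r
  let e := ringExpChar (q.comap (algebraMap R S)).ResidueField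
  have : ExpChar K e := expChar_of_injective_ringHom
    (G₁.comp (Ideal.ResidueField.map (q.comap (algebraMap R S)) q (algebraMap R S) rfl)).injective e
  have hG : G₁ = G₂ := RingHom.ext fun x => by
    obtain ⟨n, y, hy⟩ := hpi q x
    apply iterateFrobenius_inj K e n
    simp only [iterateFrobenius_def, ← map_pow]
    rw [← hy]
    exact RingHom.congr_fun hagree y
  ext s
  have := RingHom.congr_fun hG (algebraMap S q.ResidueField s)
  simpa [G₁, G₂] using this

theorem baseChange (R' : Type u) [CommRing R'] [Algebra R R'] (h : Rad R S) :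
    Rad R' (R' ⊗[R] S) := by
  intro K _ g₁ g₂ hg
  have h1 : g₁.comp (Algebra.TensorProduct.includeRight : S →ₐ[R] R' ⊗[R] S).toRingHom =
      g₂.comp (Algebra.TensorProduct.includeRight : S →ₐ[R] R' ⊗[R] S).toRingHom := by
    refine h K _ _ (RingHom.ext fun r => ?_)
    simp only [RingHom.comp_apply, AlgHom.toRingHom_eq_coe, RingHom.coe_coe, AlgHom.commutes]
    rw [IsScalarTower.algebraMap_apply R R' (R' ⊗[R] S)]
    exact RingHom.congr_fun hg _
  refine RingHom.ext fun x => ?_
  induction x using TensorProduct.induction_on with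
  | zero => rw [map_zero, map_zero]
  | add x y hx hy => rw [map_add, map_add, hx, hy]
  | tmul a s =>
    rw [show a ⊗ₜ[R] s = algebraMap R' (R' ⊗[R] S) a *
      (Algebra.TensorProduct.includeRight : S →ₐ[R] R' ⊗[R] S) s by simp, map_mul, map_mul]
    exact congrArg₂ (· * ·) (RingHom.congr_fun hg a) (RingHom.congr_fun h1 s)

theorem injective_comap (h : Rad R S) : Function.Injective (PrimeSpectrum.comap (algebraMap R S)) := by
  intro q₁ q₂ hq
  have hc : q₁.asIdeal.comap (algebraMap R S) = q₂.asIdeal.comap (algebraMap R S) :=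
    congrArg PrimeSpectrum.asIdeal hq
  let p := q₁.asIdeal.comap (algebraMap R S)
  let _ : Algebra p.ResidueField q₁.asIdeal.ResidueField :=
    (Ideal.ResidueField.map p q₁.asIdeal (algebraMap R S) rfl).toAlgebra
  let _ : Algebra p.ResidueField q₂.asIdeal.ResidueField :=
    (Ideal.ResidueField.map p q₂.asIdeal (algebraMap R S) hc).toAlgebra
  have : Nontrivial (q₁.asIdeal.ResidueField ⊗[p.ResidueField] q₂.asIdeal.ResidueField) :=
    (Algebra.TensorProduct.includeLeft_injective (R := p.ResidueField) (S := p.ResidueField)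
      (A := q₁.asIdeal.ResidueField) (B := q₂.asIdeal.ResidueField)
      (algebraMap p.ResidueField q₂.asIdeal.ResidueField).injective).nontrivial
  obtain ⟨m, hm⟩ := Ideal.exists_maximal (q₁.asIdeal.ResidueField ⊗[p.ResidueField] q₂.asIdeal.ResidueField)
  let _ : Field ((q₁.asIdeal.ResidueField ⊗[p.ResidueField] q₂.asIdeal.ResidueField) ⧸ m) :=
    Ideal.Quotient.field m
  let π := Ideal.Quotient.mk m
  let φ₁ := π.comp (Algebra.TensorProduct.includeLeft (R := p.ResidueField) (S := p.ResidueField)
    (A := q₁.asIdeal.ResidueField) (B := q₂.asIdeal.ResidueField)).toRingHom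
  let φ₂ := π.comp (Algebra.TensorProduct.includeRight (R := p.ResidueField)
    (A := q₁.asIdeal.ResidueField) (B := q₂.asIdeal.ResidueField)).toRingHom
  have heq := h _ (φ₁.comp (algebraMap S q₁.asIdeal.ResidueField))
    (φ₂.comp (algebraMap S q₂.asIdeal.ResidueField)) (RingHom.ext fun r => by
      simp only [φ₁, φ₂, RingHom.comp_apply]
      rw [← Ideal.ResidueField.map_algebraMap p q₁.asIdeal (algebraMap R S) rfl,
        ← Ideal.ResidueField.map_algebraMap p q₂.asIdeal (algebraMap R S) hc]
      exact congrArg π ((Algebra.TensorProduct.includeLeft (R := p.ResidueField) (S := p.ResidueField)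
        (A := q₁.asIdeal.ResidueField) (B := q₂.asIdeal.ResidueField)).commutes _
        |>.trans ((Algebra.TensorProduct.includeRight (R := p.ResidueField)
        (A := q₁.asIdeal.ResidueField) (B := q₂.asIdeal.ResidueField)).commutes _).symm))
  apply PrimeSpectrum.ext
  have hk := congrArg RingHom.ker heq
  rw [RingHom.ker_comp_of_injective _ φ₁.injective, RingHom.ker_comp_of_injective _ φ₂.injective,
    Ideal.ker_algebraMap_residueField, Ideal.ker_algebraMap_residueField] at hk
  exact hk

theorem pow_mem (h : Rad R S) (q : Ideal S) [q.IsPrime] (x : q.ResidueField) :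
    ∃ n : ℕ, x ^ (ringExpChar (q.comap (algebraMap R S)).ResidueField) ^ n ∈
      Set.range (Ideal.ResidueField.map (q.comap (algebraMap R S)) q (algebraMap R S) rfl) := by
  let p := q.comap (algebraMap R S)
  let _ : Algebra p.ResidueField q.ResidueField :=
    (Ideal.ResidueField.map p q (algebraMap R S) rfl).toAlgebra
  have : IsPurelyInseparable p.ResidueField q.ResidueField := by
    rw [isPurelyInseparable_iff_subsingleton_emb]
    refine ⟨fun σ τ => AlgHom.coe_ringHom_injective (Ideal.ResidueField.ringHom_ext
      (h _ _ _ (RingHom.ext fun r => ?_)))⟩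
    simp only [RingHom.comp_apply, RingHom.coe_coe]
    rw [← Ideal.ResidueField.map_algebraMap p q (algebraMap R S) rfl]
    exact (σ.commutes _).trans (τ.commutes _).symm
  exact IsPurelyInseparable.pow_mem p.ResidueField (ringExpChar p.ResidueField) x

end Groth.Agent.H21.Radicial
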