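import Groth.Agent.S6991
import Mathlib.Algebra.Module.FinitePresentation
import Mathlib.RingTheory.FinitePresentation
import Mathlib.RingTheory.IsTensorProduct
import Mathlib.RingTheory.LocalProperties.FinitePresentation
import Mathlib.RingTheory.Localization.Away.AdjoinRoot
import Mathlib.RingTheory.Localization.BaseChange
import Mathlib.RingTheory.Polynomial.Basic

/-! Finite presentation of modules relative to a base ring, through presentations. -/

set_option autoImplicit false

open scoped TensorProduct

universe u

namespace Groth.Agent.H21.RelFP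

/-- `M` is finitely presented through `π`. -/
abbrev FPvia {Q A : Type u} [CommRing Q] [CommRing A] (π : Q →+* A) (M : Type u) [AddCommGroup M]
    [Module A M] : Prop :=
  @Module.FinitePresentation Q M _ _ (Module.compHom M π)

theorem of_surjective {P Q M : Type u} [CommRing P] [CommRing Q] [Algebra P Q] [AddCommGroup M]
    [Module Q M] [Module P M] [IsScalarTower P Q M] (hs : Function.Surjective (algebraMap P Q))
    [Module.FinitePresentation P M] : Module.FinitePresentation Q M := by
  have : Module.Finite Q M := Module.Finite.of_restrictScalars_finite P Q M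
  obtain ⟨k, f, hf⟩ := Module.Finite.exists_fin' Q M
  refine Module.finitePresentation_of_surjective f hf ?_
  let π : (Fin k → P) →ₗ[P] (Fin k → Q) := LinearMap.compLeft (Algebra.linearMap _ Q) (Fin k)
  have hπ : Function.Surjective π := fun v =>
    ⟨fun i => (hs (v i)).choose, funext fun i => (hs (v i)).choose_spec⟩
  have h1 := Module.FinitePresentation.fg_ker ((f.restrictScalars P) ∘ₗ π) (hf.comp hπ)
  have h2 := h1.map π
  rw [LinearMap.ker_comp, Submodule.map_comap_eq_of_surjective hπ] at h2
  exact Submodule.FG.of_restrictScalars P h2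

theorem fp_iff_of_surjective {P Q M : Type u} [CommRing P] [CommRing Q] [Algebra P Q]
    [AddCommGroup M] [Module Q M] [Module P M] [IsScalarTower P Q M]
    (hs : Function.Surjective (algebraMap P Q)) (hker : (RingHom.ker (algebraMap P Q)).FG) :
    Module.FinitePresentation P M ↔ Module.FinitePresentation Q M := by
  refine ⟨fun _ => of_surjective (P := P) hs, fun _ => ?_⟩
  have : Module.FinitePresentation P Q :=
    Module.finitePresentation_of_surjective (Algebra.linearMap P Q) hs hker
  exact Module.FinitePresentation.trans P M Q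

/-- Independence of a finitely presented presentation. -/
theorem iff_pres {R A Q : Type u} [CommRing R] [CommRing A] [Algebra R A] [CommRing Q] [Algebra R Q]
    [Algebra.FinitePresentation R Q] (π : Q →ₐ[R] A) (hπ : Function.Surjective π) {k : ℕ}
    (γ : MvPolynomial (Fin k) R →ₐ[R] A) (hγ : Function.Surjective γ)
    (M : Type u) [AddCommGroup M] [Module A M] :
    FPvia π.toRingHom M ↔ FPvia γ.toRingHom M := by
  have hft : Algebra.FiniteType R A := Algebra.FiniteType.of_surjective γ hγ
  obtain ⟨m, ρ, hρ, hker⟩ := Algebra.FinitePresentation.out (R := R) (A := Q)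
  refine Iff.trans ?_
    (Groth.Agent.S6991.result M (π.comp ρ) (hπ.comp hρ) γ hγ).1
  let _ : Algebra (MvPolynomial (Fin m) R) Q := ρ.toRingHom.toAlgebra
  let _ : Module Q M := Module.compHom M π.toRingHom
  let _ : Module (MvPolynomial (Fin m) R) M := Module.compHom M (π.comp ρ).toRingHom
  have : IsScalarTower (MvPolynomial (Fin m) R) Q M :=
    IsScalarTower.of_algebraMap_smul fun _ _ => rfl
  exact (fp_iff_of_surjective (P := MvPolynomial (Fin m) R) (Q := Q) (M := M) hρ hker).symm

section BaseChange

variable {P Q A A' : Type u} [CommRing P] [CommRing Q] [CommRing A] [CommRing A'] [Algebra P Q]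
  [Algebra P A] [Algebra A A'] [Algebra Q A'] [Algebra P A'] [IsScalarTower P A A']
  [IsScalarTower P Q A']

theorem baseChange (hα : Function.Surjective (algebraMap P A))
    (hπ : Function.Surjective (algebraMap Q A'))
    (hker : RingHom.ker (algebraMap Q A') ≤
      (RingHom.ker (algebraMap P A)).map (algebraMap P Q))
    (M : Type u) [AddCommGroup M] [Module A M] [Module P M] [IsScalarTower P A M]
    [Module.FinitePresentation P M] :
    FPvia (algebraMap Q A') (A' ⊗[A] M) := by
  have hQ : ∀ (q : Q) (x : A' ⊗[A] M), q • x = algebraMap Q A' q • x := fun q x =>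
    (algebraMap_smul A' q x).symm
  have : IsScalarTower P Q (A' ⊗[A] M) := IsScalarTower.of_algebraMap_smul fun p x => by
    rw [hQ, ← IsScalarTower.algebraMap_apply, algebraMap_smul]
  let f : M →ₗ[P] A' ⊗[A] M := (TensorProduct.mk A A' M 1).restrictScalars P
  let Φ : Q ⊗[P] M →ₗ[Q] A' ⊗[A] M := f.liftBaseChange Q
  have hΦ : ∀ q m, Φ (q ⊗ₜ m) = algebraMap Q A' q ⊗ₜ[A] m := fun q m => by
    rw [LinearMap.liftBaseChange_tmul, hQ]
    show algebraMap Q A' q • ((1 : A') ⊗ₜ[A] m) = _
    rw [TensorProduct.smul_tmul', smul_eq_mul, mul_one]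
  have hzero : ∀ q ∈ RingHom.ker (algebraMap Q A'), ∀ m : M, (q ⊗ₜ[P] m : Q ⊗[P] M) = 0 := by
    intro q hq m
    have hle : (RingHom.ker (algebraMap P A)).map (algebraMap P Q) ≤
        (Submodule.span Q {(1 : Q) ⊗ₜ[P] m}).annihilator := by
      rw [Ideal.map_le_iff_le_comap]
      intro p hp
      rw [Ideal.mem_comap, Submodule.mem_annihilator_span_singleton, TensorProduct.smul_tmul',
        smul_eq_mul, mul_one, Algebra.algebraMap_eq_smul_one, TensorProduct.smul_tmul,
        ← algebraMap_smul A p m, RingHom.mem_ker.mp hp, zero_smul, TensorProduct.tmul_zero]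
    have h := (Submodule.mem_annihilator_span_singleton _ _).mp (hle (hker hq))
    rwa [TensorProduct.smul_tmul', smul_eq_mul, mul_one] at h
  let σ := Function.surjInv hπ
  have hσ : ∀ a, algebraMap Q A' (σ a) = a := Function.surjInv_eq hπ
  have hcongr : ∀ q q' : Q, algebraMap Q A' q = algebraMap Q A' q' → ∀ m : M,
      (q ⊗ₜ[P] m : Q ⊗[P] M) = q' ⊗ₜ m := fun q q' h m => by
    rw [← sub_eq_zero, ← TensorProduct.sub_tmul]
    exact hzero _ (by rw [RingHom.mem_ker, map_sub, h, sub_self]) m
  let ψ : A' →+ M →+ Q ⊗[P] M :=
    AddMonoidHom.mk' (fun a => AddMonoidHom.mk' (fun m => σ a ⊗ₜ[P] m)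
        (fun m m' => TensorProduct.tmul_add _ _ _))
      (fun a b => AddMonoidHom.ext fun m => by
        show σ (a + b) ⊗ₜ[P] m = σ a ⊗ₜ[P] m + σ b ⊗ₜ[P] m
        rw [← TensorProduct.add_tmul]
        exact hcongr _ _ (by rw [map_add, hσ, hσ, hσ]) m)
  have hψ : ∀ (a : A) (x : A') (m : M), ψ (a • x) m = ψ x (a • m) := by
    intro a x m
    obtain ⟨p, rfl⟩ := hα a
    show σ (algebraMap P A p • x) ⊗ₜ[P] m = σ x ⊗ₜ[P] (algebraMap P A p • m)
    rw [algebraMap_smul A p m, ← TensorProduct.smul_tmul]
    refine hcongr _ _ ?_ m
    rw [hσ, Algebra.smul_def p (σ x), map_mul, ← IsScalarTower.algebraMap_apply, hσ,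
      algebraMap_smul, Algebra.smul_def]
  let Ψ : A' ⊗[A] M →+ Q ⊗[P] M := TensorProduct.liftAddHom ψ hψ
  have hΨ : ∀ x, Ψ (Φ x) = x := by
    intro x
    induction x using TensorProduct.induction_on with
    | zero => simp
    | tmul q m =>
      rw [hΦ]
      exact hcongr _ _ (hσ _) m
    | add x y hx hy => rw [map_add, map_add, hx, hy]
  have hsurj : Function.Surjective Φ := fun y => by
    induction y using TensorProduct.induction_on with
    | zero => exact ⟨0, map_zero _⟩
    | tmul a m => exact ⟨σ a ⊗ₜ m, by rw [hΦ, hσ]⟩
    | add x y hx hy =>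
      obtain ⟨u, rfl⟩ := hx; obtain ⟨v, rfl⟩ := hy
      exact ⟨u + v, map_add _ _ _⟩
  have hfin := Module.FinitePresentation.of_equiv
    (LinearEquiv.ofBijective Φ ⟨Function.LeftInverse.injective hΨ, hsurj⟩)
  show @Module.FinitePresentation Q (A' ⊗[A] M) _ _ (Module.compHom _ (algebraMap Q A'))
  have heq : (TensorProduct.leftModule : Module Q (A' ⊗[A] M)) =
      Module.compHom _ (algebraMap Q A') := Module.ext' _ _ fun q x => hQ q x
  exact heq ▸ hfin

end BaseChange

theorem baseChangeHom {P Q A A' : Type u} [CommRing P] [CommRing Q] [CommRing A] [CommRing A']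
    [Algebra A A'] (φ : P →+* Q) (α : P →+* A) (π : Q →+* A')
    (hcomm : ∀ p, π (φ p) = algebraMap A A' (α p))
    (hα : Function.Surjective α) (hπ : Function.Surjective π)
    (hker : RingHom.ker π ≤ (RingHom.ker α).map φ)
    (M : Type u) [AddCommGroup M] [Module A M] (hM : FPvia α M) :
    FPvia π (A' ⊗[A] M) := by
  let _ : Algebra P Q := φ.toAlgebra
  let _ : Algebra P A := α.toAlgebra
  let _ : Algebra Q A' := π.toAlgebra
  let _ : Algebra P A' := ((algebraMap A A').comp α).toAlgebra
  have : IsScalarTower P A A' := IsScalarTower.of_algebraMap_eq fun _ => rfl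
  have : IsScalarTower P Q A' := IsScalarTower.of_algebraMap_eq fun p => (hcomm p).symm
  let _ : Module P M := Module.compHom M α
  have : IsScalarTower P A M := IsScalarTower.of_algebraMap_smul fun _ _ => rfl
  have : Module.FinitePresentation P M := hM
  exact baseChange (P := P) hα hπ hker M

section Localization

variable {P A : Type u} [CommRing P] [CommRing A] [Algebra P A] (p : P)

/-- The map of localizations. -/
noncomputable def locMap : Localization.Away p →+* Localization.Away (algebraMap P A p) :=
  IsLocalization.Away.map _ _ (algebraMap P A) p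

theorem locMap_algebraMap (x : P) : locMap (A := A) p (algebraMap P _ x) =
    algebraMap A _ (algebraMap P A x) := by
  simp [locMap, IsLocalization.Away.map]

theorem locMap_surjective (hs : Function.Surjective (algebraMap P A)) :
    Function.Surjective (locMap (A := A) p) := by
  intro y
  obtain ⟨n, a, ha⟩ := IsLocalization.Away.surj (algebraMap P A p) y
  obtain ⟨q, rfl⟩ := hs a
  refine ⟨IsLocalization.mk' _ q (⟨p ^ n, n, rfl⟩ : Submonoid.powers p), ?_⟩
  have hu : IsUnit (algebraMap A (Localization.Away (algebraMap P A p)) (algebraMap P A p) ^ n) :=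
    (IsLocalization.Away.algebraMap_isUnit _).pow n
  apply hu.mul_left_injective
  show _ * algebraMap A (Localization.Away (algebraMap P A p)) (algebraMap P A p) ^ n = y * algebraMap A (Localization.Away (algebraMap P A p)) (algebraMap P A p) ^ n
  rw [ha, ← locMap_algebraMap p q, ← locMap_algebraMap p p, ← map_pow, ← map_mul, ← map_pow]
  exact congrArg _ (IsLocalization.mk'_spec (Localization.Away p) q (⟨p ^ n, n, rfl⟩ : Submonoid.powers p))

theorem fpVia_away (M : Type u) [AddCommGroup M] [Module A M] [Module P M] [IsScalarTower P A M]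
    [Module.FinitePresentation P M] :
    FPvia (locMap (A := A) p) (LocalizedModule (Submonoid.powers (algebraMap P A p)) M) := by
  let _ : Module (Localization.Away p) (LocalizedModule (Submonoid.powers (algebraMap P A p)) M) :=
    Module.compHom _ (locMap (A := A) p)
  have : IsScalarTower P (Localization.Away p)
      (LocalizedModule (Submonoid.powers (algebraMap P A p)) M) :=
    IsScalarTower.of_algebraMap_smul fun r x => by
      show locMap (A := A) p (algebraMap P _ r) • x = r • x
      rw [locMap_algebraMap, algebraMap_smul, algebraMap_smul]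
  have := IsLocalizedModule.restrictScalars_powers (R := P) p
    (LocalizedModule.mkLinearMap (Submonoid.powers (algebraMap P A p)) M)
  exact FinitePresentation.of_isBaseChange
    ((LocalizedModule.mkLinearMap (Submonoid.powers (algebraMap P A p)) M).restrictScalars P)
    (IsLocalizedModule.isBaseChange (Submonoid.powers p) _ _)

theorem of_span (hs : Function.Surjective (algebraMap P A)) (M : Type u) [AddCommGroup M]
    [Module A M] [Module P M] [IsScalarTower P A M] {ι : Type} (g : ι → P)
    (hg : Ideal.span (Set.range fun i => algebraMap P A (g i)) = ⊤)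
    (h : ∀ i, FPvia (locMap (A := A) (g i))
      (LocalizedModule (Submonoid.powers (algebraMap P A (g i))) M)) :
    Module.FinitePresentation P M := by
  obtain ⟨q, hq, hq1⟩ : ∃ q ∈ RingHom.ker (algebraMap P A),
      Ideal.span (Set.range g ∪ {q}) = ⊤ := by
    have h1 : (1 : A) ∈ (Ideal.span (Set.range g)).map (algebraMap P A) := by
      rw [Ideal.map_span, ← Set.range_comp]
      exact hg.symm ▸ Submodule.mem_top
    obtain ⟨c, hc, hc1⟩ := (Ideal.mem_map_iff_of_surjective _ hs).mp h1
    refine ⟨1 - c, by rw [RingHom.mem_ker, map_sub, map_one, hc1, sub_self], ?_⟩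
    rw [Ideal.eq_top_iff_one, Ideal.span_union]
    have := Submodule.add_mem_sup hc (Ideal.mem_span_singleton_self (1 - c))
    rwa [add_sub_cancel] at this
  refine Module.FinitePresentation.of_localizationSpan (Set.range g ∪ {q}) hq1 fun ⟨x, hx⟩ => ?_
  rcases hx with ⟨i, rfl⟩ | hx
  · let L := LocalizedModule (Submonoid.powers (algebraMap P A (g i))) M
    let _ : Module (Localization.Away (g i)) L := Module.compHom _ (locMap (A := A) (g i))
    have : Module.FinitePresentation (Localization.Away (g i)) L := h i
    have : IsScalarTower P (Localization.Away (g i)) L :=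
      IsScalarTower.of_algebraMap_smul fun r x => by
        show locMap (A := A) (g i) (algebraMap P _ r) • x = r • x
        rw [locMap_algebraMap, algebraMap_smul, algebraMap_smul]
    have := IsLocalizedModule.restrictScalars_powers (R := P) (g i)
      (LocalizedModule.mkLinearMap (Submonoid.powers (algebraMap P A (g i))) M)
    exact Module.FinitePresentation.of_equiv
      ((IsLocalizedModule.linearEquiv (Submonoid.powers (g i))
        ((LocalizedModule.mkLinearMap (Submonoid.powers (algebraMap P A (g i))) M).restrictScalars P)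
        (LocalizedModule.mkLinearMap (Submonoid.powers (g i)) M)).extendScalarsOfIsLocalization
          (Submonoid.powers (g i)) (Localization.Away (g i)))
  · rw [Set.mem_singleton_iff] at hx
    subst hx
    have : Subsingleton (LocalizedModule.Away x M) :=
      LocalizedModule.subsingleton_iff.mpr fun m => ⟨x, Submonoid.mem_powers x, by
        rw [← algebraMap_smul A x m, RingHom.mem_ker.mp hq, zero_smul]⟩
    exact Module.FinitePresentation.of_subsingleton _

end Localization

end Groth.Agent.H21.RelFP
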