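import Groth.Prelude.Def_SchFin
import Mathlib.RingTheory.IsTensorProduct
import Mathlib.Algebra.Algebra.Epi

set_option autoImplicit false

open TensorProduct SchFin

universe u

namespace Groth.Agent.H21.SchBase

/-- Elementwise criterion: transport a base change along semilinear identifications. -/
theorem isBCAlong_congr {R S : Type u} [CommRing R] [CommRing S] (g : R →+* S) {M N M' N' : Type u}
    [AddCommGroup M] [AddCommGroup N] [Module R M] [Module S N]
    [AddCommGroup M'] [AddCommGroup N'] [Module R M'] [Module S N']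
    {f : M →ₛₗ[g] N} {f' : M' →ₛₗ[g] N'} (eM : M ≃ₗ[R] M') (eN : N ≃ₗ[S] N')
    (comm : ∀ m, f' (eM m) = eN (f m)) (h : IsBCAlong g f) : IsBCAlong g f' := by
  let : Algebra R S := g.toAlgebra
  let : Module R N := Module.compHom N g
  let : Module R N' := Module.compHom N' g
  have : IsScalarTower R S N := IsScalarTower.of_algebraMap_smul fun _ _ => rfl
  have : IsScalarTower R S N' := IsScalarTower.of_algebraMap_smul fun _ _ => rfl
  change IsBaseChange S _ at h
  change IsBaseChange S _
  refine IsBaseChange.of_equiv (((eM.symm.baseChange R S)).trans (h.equiv.trans eN)) fun m => ?_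
  simp only [LinearEquiv.trans_apply]
  change eN (h.equiv ((eM.symm.toLinearMap.baseChange S) ((1 : S) ⊗ₜ[R] m))) = f' m
  rw [LinearMap.baseChange_tmul, IsBaseChange.equiv_tmul, one_smul]
  change eN (f (eM.symm m)) = f' m
  rw [← comm, LinearEquiv.apply_symm_apply]

theorem isBCAlong_of_equiv {R S : Type u} [CommRing R] [CommRing S] (g : R →+* S) {M N : Type u}
    [AddCommGroup M] [AddCommGroup N] [Module R M] [Module S N] (f : M →ₛₗ[g] N)
    (e : letI : Algebra R S := g.toAlgebra; (S ⊗[R] M) ≃ₗ[S] N)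
    (he : letI : Algebra R S := g.toAlgebra; ∀ m, e ((1 : S) ⊗ₜ[R] m) = f m) : IsBCAlong g f := by
  let : Algebra R S := g.toAlgebra
  let : Module R N := Module.compHom N g
  have : IsScalarTower R S N := IsScalarTower.of_algebraMap_smul fun _ _ => rfl
  exact IsBaseChange.of_equiv e he

/-- The comparison equivalence of a base change. -/
noncomputable def bcEquiv {R S : Type u} [CommRing R] [CommRing S] {g : R →+* S} {M N : Type u}
    [AddCommGroup M] [AddCommGroup N] [Module R M] [Module S N] {f : M →ₛₗ[g] N}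
    (h : IsBCAlong g f) :
    letI : Algebra R S := g.toAlgebra; (S ⊗[R] M) ≃ₗ[S] N :=
  letI : Algebra R S := g.toAlgebra
  letI : Module R N := Module.compHom N g
  haveI : IsScalarTower R S N := IsScalarTower.of_algebraMap_smul fun _ _ => rfl
  IsBaseChange.equiv h

theorem bcEquiv_tmul {R S : Type u} [CommRing R] [CommRing S] {g : R →+* S} {M N : Type u}
    [AddCommGroup M] [AddCommGroup N] [Module R M] [Module S N] {f : M →ₛₗ[g] N}
    (h : IsBCAlong g f) (s : S) (m : M) :
    letI : Algebra R S := g.toAlgebra; bcEquiv h (s ⊗ₜ[R] m) = s • f m := by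
  let : Algebra R S := g.toAlgebra
  let : Module R N := Module.compHom N g
  have : IsScalarTower R S N := IsScalarTower.of_algebraMap_smul fun _ _ => rfl
  exact IsBaseChange.equiv_tmul h s m

theorem isBCAlong_of_subsingleton {R S : Type u} [CommRing R] [CommRing S] (g : R →+* S) {M N : Type u}
    [AddCommGroup M] [AddCommGroup N] [Module R M] [Module S N] (f : M →ₛₗ[g] N)
    [Subsingleton M] [Subsingleton N] : IsBCAlong g f := by
  let : Algebra R S := g.toAlgebra
  exact isBCAlong_of_equiv g f 0 fun m => Subsingleton.elim _ _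

theorem isBCAlong_id {R : Type u} [CommRing R] {M N : Type u}
    [AddCommGroup M] [AddCommGroup N] [Module R M] [Module R N] (f : M →ₛₗ[RingHom.id R] N)
    (hf : Function.Bijective f) : IsBCAlong (RingHom.id R) f :=
  isBCAlong_of_equiv _ _ ((TensorProduct.lid R M).trans (LinearEquiv.ofBijective f hf))
    fun m => by
      change f (TensorProduct.lid R M ((1 : R) ⊗ₜ[R] m)) = f m
      rw [lid_tmul, one_smul]

variable {X : RSpace.{u}} {U : Set X.pt} {R : Type u} [CommRing R]

/-- The one-point chain. -/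
def ch0 (q : U) : Chain U 0 :=
  OrderEmbedding.ofStrictMono (fun _ => q) fun i j h => absurd h (by omega)

theorem eq_ch0 (σ : Chain U 0) : σ = ch0 (σ (Fin.last 0)) := by
  ext i
  obtain rfl : i = Fin.last 0 := Subsingleton.elim (α := Fin 1) _ _
  rfl

variable {φ : Coef X U R} {M : OMod X}

theorem res_apply_congr (c : Cochain φ M 0) {σ σ' : Chain U 0} (e : σ = σ') {z : X.pt}
    (h : (σ (Fin.last 0)).1 ≤ z) : M.res h (c σ) = M.res (e ▸ h) (c σ') := by
  subst e
  rfl


theorem diff_zero_apply (c : Cochain φ M 0) (τ : Chain U 1) :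
    diff φ M 0 c τ = c.faceVal τ 0 - c.faceVal τ 1 := by
  change ∑ j : Fin 2, ((-1 : ℤ) ^ (j : ℕ)) • c.faceVal τ j = _
  simp [Fin.sum_univ_two, sub_eq_add_neg]

theorem cochain_eval_congr (c : Cochain φ M 0) {σ : Chain U 0} {q : U} (hq : σ (Fin.last 0) = q)
    {z : X.pt} (h : (σ (Fin.last 0)).1 ≤ z) :
    M.res h (c σ) = M.res (show q.1 ≤ z by rw [← hq]; exact h) (c (ch0 q)) := by
  subst hq
  exact res_apply_congr c (eq_ch0 σ) h

theorem cocycle0_res {c : Cochain φ M 0} (hc : c ∈ cocycles φ M 0) {q q' : U} (h : q.1 ≤ q'.1) :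
    M.res h (c (ch0 q)) = c (ch0 q') := by
  rcases eq_or_lt_of_le h with heq | hlt
  · obtain rfl := Subtype.ext heq
    exact M.res_self _ _
  let τ : Chain U 1 := OrderEmbedding.ofStrictMono (fun i : Fin 2 => if i = 0 then q else q')
    (by
      intro i j hij
      fin_cases i <;> fin_cases j <;> simp_all)
  have h1 : τ.face 1 (Fin.last 0) = q := by
    rw [Chain.face_apply]; rfl
  have h0 : τ.face 0 (Fin.last 0) = q' := by
    rw [Chain.face_apply]; rfl
  have hd0 : diff φ M 0 c = 0 := hc
  have hd : diff φ M 0 c τ = 0 := congrFun hd0 τ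
  rw [diff_zero_apply] at hd
  simp only [Cochain.faceVal] at hd
  rw [cochain_eval_congr c h0, cochain_eval_congr c h1, sub_eq_zero] at hd
  have key : M.res h (c (ch0 q)) = M.res (le_refl q'.1) (c (ch0 q')) := hd.symm
  exact key.trans (M.res_self _ _)

/-- Value of a degree zero class at a point. -/
def ev (q : U) : H φ M 0 →ₛₗ[φ.map q] M.carrier q.1 :=
  Submodule.liftQ _
    { toFun := fun c => c.1 (ch0 q)
      map_add' := fun _ _ => rfl
      map_smul' := fun _ _ => rfl }
    (by
      intro c hc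
      change c.1 ∈ (⊥ : Submodule R _) at hc
      rw [Submodule.mem_bot] at hc
      change c.1 (ch0 q) = 0
      rw [hc]
      rfl)

theorem ev_mk (q : U) (c : cocycles φ M 0) : ev q (H.mk φ M 0 c) = c.1 (ch0 q) := rfl

theorem H0_induction {P : H φ M 0 → Prop} (h : ∀ c, P (H.mk φ M 0 c)) (a : H φ M 0) : P a :=
  Submodule.Quotient.induction_on _ a h

theorem ev_compat (a : H φ M 0) {q q' : U} (h : q.1 ≤ q'.1) : M.res h (ev q a) = ev q' a := by
  induction a using H0_induction with
  | h c => exact cocycle0_res c.2 h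

theorem ev_ext {a b : H φ M 0} (h : ∀ q : U, ev q a = ev q b) : a = b := by
  induction a using H0_induction with
  | h c =>
    induction b using H0_induction with
    | h d =>
      congr 1
      refine Subtype.ext (funext fun σ => ?_)
      rw [eq_ch0 σ]
      exact h _

theorem exists_of_family (s : ∀ q : U, M.carrier q.1)
    (hs : ∀ (q q' : U) (h : q.1 ≤ q'.1), M.res h (s q) = s q') :
    ∃ a : H φ M 0, ∀ q : U, ev q a = s q := by
  refine ⟨H.mk φ M 0 ⟨fun σ => s (σ (Fin.last 0)), ?_⟩, fun q => rfl⟩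
  refine LinearMap.mem_ker.mpr (funext fun τ => ?_)
  refine (diff_zero_apply _ τ).trans (sub_eq_zero.mpr ?_)
  exact (hs _ _ _).trans (hs _ _ _).symm

theorem ev_resH {U' : Set X.pt} {R' : Type u} [CommRing R'] {φ' : Coef X U' R'} (s : Coef.Sub φ φ')
    (a : H φ M 0) (q : U') : ev q (resH M s 0 a) = ev ⟨q.1, s.le q.2⟩ a := by
  induction a using H0_induction with
  | h c => rfl

/-- If `U` is the set of points above `z ∈ U`, a class is its value at `z`. -/
theorem ev_bijective_of_least (z : U) (hz : ∀ q : U, z.1 ≤ q.1) :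
    Function.Bijective (ev z : H φ M 0 → M.carrier z.1) := by
  refine ⟨fun a b h => ev_ext fun q => ?_, fun m => ?_⟩
  · rw [← ev_compat a (hz q), ← ev_compat b (hz q), h]
  · obtain ⟨a, ha⟩ := exists_of_family (φ := φ) (fun q => M.res (hz q) m)
      (fun q q' h => M.res_comp _ _ _)
    exact ⟨a, (ha z).trans (M.res_self _ _)⟩

theorem subsingleton_H_succ {n : ℕ} (hU : (U : Set X.pt).Subsingleton) :
    Subsingleton (H φ M (n + 1)) := by
  have : IsEmpty (Chain U (n + 1)) := ⟨fun σ => by
    have h := σ.injective (Subtype.ext (hU (σ 0).2 (σ 1).2))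
    exact absurd h (by simp)⟩
  have : Subsingleton (Cochain φ M (n + 1)) := ⟨fun _ _ => funext fun σ => isEmptyElim σ⟩
  exact Function.Surjective.subsingleton (f := H.mk φ M (n + 1)) (Submodule.mkQ_surjective _)

theorem subsingleton_H_zero [IsEmpty U] : Subsingleton (H φ M 0) :=
  ⟨fun _ _ => ev_ext fun q => isEmptyElim q⟩

theorem ev_bcEquiv_tmul {U' : Set X.pt} {R' : Type u} [CommRing R'] {φ' : Coef X U' R'}
    (s : Coef.Sub φ φ') (h : IsBCAlong s.hom (resH M s 0)) (a : R') (m : H φ M 0) (q : U') :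
    letI : Algebra R R' := s.hom.toAlgebra
    ev q (bcEquiv h (a ⊗ₜ[R] m)) = φ'.map q a • ev (⟨q.1, s.le q.2⟩ : U) m := by
  let : Algebra R R' := s.hom.toAlgebra
  rw [bcEquiv_tmul, LinearMap.map_smulₛₗ, ev_resH]

theorem bc_zero {x x' : X.pt} (hX : X.IsSchematic) (hx : x ≤ x') (y : X.pt) :
    IsBCAlong (X.res hx) (resH X.str ((Hom.id X).subSrc hx y) 0) :=
  (hX.2.2 0 x x' hx y y le_rfl).1

/-- For a schematic space, a class on a wedge base changes: `𝒪_x ⊗_{𝒪_s} 𝒪_y ≅ Γ(↑x ∩ ↑y)`. -/
theorem exists_wedge_equiv (hX : X.IsSchematic) {s x y : X.pt} (hx : s ≤ x) (hy : s ≤ y) :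
    letI : Algebra (X.ring s) (X.ring x) := (X.res hx).toAlgebra
    letI : Algebra (X.ring s) (X.ring y) := (X.res hy).toAlgebra
    ∃ e : X.ring x ⊗[X.ring s] X.ring y ≃+* X.sectRing (X.up x ∩ X.up y),
      ∀ a b (q : ↥(X.up x ∩ X.up y)),
        (e (a ⊗ₜ[X.ring s] b)).1 q = X.res q.2.1 a * X.res q.2.2 b := by
  let : Algebra (X.ring s) (X.ring x) := (X.res hx).toAlgebra
  let : Algebra (X.ring s) (X.ring y) := (X.res hy).toAlgebra
  let : Algebra (X.ring s) ((q : ↥(X.up x ∩ X.up y)) → X.ring q.1) :=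
    (RingHom.pi fun q : ↥(X.up x ∩ X.up y) => X.res (hx.trans q.2.1)).toAlgebra
  let iL : X.ring x →ₐ[X.ring s] ((q : ↥(X.up x ∩ X.up y)) → X.ring q.1) :=
    AlgHom.mk (RingHom.pi fun q : ↥(X.up x ∩ X.up y) => X.res q.2.1)
      (fun a => funext fun q => X.res_comp hx q.2.1 a)
  let iR : X.ring y →ₐ[X.ring s] ((q : ↥(X.up x ∩ X.up y)) → X.ring q.1) :=
    AlgHom.mk (RingHom.pi fun q : ↥(X.up x ∩ X.up y) => X.res q.2.2)
      (fun a => funext fun q => X.res_comp hy q.2.2 a)
  let Φ : X.ring x ⊗[X.ring s] X.ring y →ₐ[X.ring s] ((q : ↥(X.up x ∩ X.up y)) → X.ring q.1) :=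
    Algebra.TensorProduct.lift iL iR (fun a b => Commute.all _ _)
  have hΦ : ∀ a b, Φ (a ⊗ₜ[X.ring s] b) = fun q => X.res q.2.1 a * X.res q.2.2 b := fun a b => rfl
  have hmem : ∀ t, Φ t ∈ X.sectRing (X.up x ∩ X.up y) := by
    intro t
    induction t using TensorProduct.induction_on with
    | zero => rw [map_zero]; exact zero_mem _
    | tmul a b =>
      rw [hΦ]
      intro q q' h
      simp only [map_mul]
      exact congrArg₂ (· * ·) (X.res_comp _ _ a) (X.res_comp _ _ b)
    | add s t hs ht => rw [map_add]; exact add_mem hs ht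
  let Ψ : X.ring x ⊗[X.ring s] X.ring y →+* X.sectRing (X.up x ∩ X.up y) :=
    Φ.toRingHom.codRestrict _ hmem
  have hbc := bc_zero hX hx y
  -- classes on the two wedges
  let z : ↥((Hom.id X).wedge s y) := ⟨y, hy, le_rfl⟩
  let lM : H (Coef.ofLE s _ ((Hom.id X).wedge_subset_up s y)) X.str 0 →ₗ[X.ring s] X.ring y :=
    { toFun := fun a => ev z a
      map_add' := fun a a' => (ev z).map_add a a'
      map_smul' := fun r a => (ev z).map_smulₛₗ r a }
  let eM := LinearEquiv.ofBijective lM (ev_bijective_of_least z fun q => q.2.2)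
  have key : ∀ t (q : ↥(X.up x ∩ X.up y)),
      ev (φ := Coef.ofLE x _ ((Hom.id X).wedge_subset_up x y)) (M := X.str) q
        (bcEquiv hbc (LinearMap.lTensor (X.ring x) eM.symm.toLinearMap t)) = Φ t q := by
    intro t q
    induction t using TensorProduct.induction_on with
    | zero => simp only [map_zero]; rfl
    | tmul a b =>
      rw [LinearMap.lTensor_tmul]
      refine (ev_bcEquiv_tmul ((Hom.id X).subSrc hx y) hbc a (eM.symm b) q).trans ?_
      change X.res q.2.1 a * _ = X.res q.2.1 a * X.res q.2.2 b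
      refine congrArg (X.res q.2.1 a * ·) ?_
      refine (ev_compat (eM.symm b) (q := z) (q' := ⟨q.1, hx.trans q.2.1, q.2.2⟩) q.2.2).symm.trans ?_
      exact congrArg (X.res q.2.2) (eM.apply_symm_apply b)
    | add s t hs ht => simp only [map_add, hs, ht]; rfl
  have hinj : Function.Injective Ψ := by
    intro t t' h
    have h' : Φ t = Φ t' := congrArg Subtype.val h
    have := ev_ext fun q => (key t q).trans ((congrFun h' q).trans (key t' q).symm)
    have := (bcEquiv hbc).injective this
    exact (eM.symm.lTensor (X.ring x)).injective this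
  have hsurj : Function.Surjective Ψ := by
    intro w
    obtain ⟨a, ha⟩ := exists_of_family (φ := Coef.ofLE x _ ((Hom.id X).wedge_subset_up x y))
      (M := X.str) w.1 w.2
    obtain ⟨t₀, rfl⟩ := (bcEquiv hbc).surjective a
    obtain ⟨t, rfl⟩ := (eM.symm.lTensor (X.ring x)).surjective t₀
    exact ⟨t, Subtype.ext (funext fun q => (key t q).symm.trans (ha q))⟩
  exact ⟨RingEquiv.ofBijective Ψ ⟨hinj, hsurj⟩, fun a b q => rfl⟩

/-- Restrictions of a schematic space are ring epimorphisms. -/
theorem isEpi_res (hX : X.IsSchematic) {x y : X.pt} (h : x ≤ y) :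
    @Algebra.IsEpi (X.ring x) (X.ring y) _ _ (X.res h).toAlgebra := by
  let : Algebra (X.ring x) (X.ring y) := (X.res h).toAlgebra
  obtain ⟨e, he⟩ := exists_wedge_equiv hX h h
  refine (Algebra.isEpi_iff_forall_one_tmul_eq _ _).mpr fun a => e.injective ?_
  refine Subtype.ext (funext fun q => ?_)
  rw [he, he, map_one, one_mul, mul_one]

theorem flat_res (hX : X.IsSchematic) {x y : X.pt} (h : x ≤ y) : (X.res h).Flat :=
  hX.1.2 x y h

end Groth.Agent.H21.SchBase
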