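import Groth.Agent.H21.SchPts

set_option autoImplicit false

open TensorProduct SchFin

universe u

namespace Groth.Agent.H21.SchGeom

open Groth.Agent.H21 Groth.Agent.H21.SchBase

/-- A prime of `A` and a map from `R` to a field with the same contraction meet in a field. -/
theorem exists_field {R A L : Type u} [CommRing R] [CommRing A] [Field L] (f : R →+* A) (g : R →+* L)
    (P : Ideal A) [P.IsPrime] (h : P.comap f = RingHom.ker g) :
    ∃ (K : Type u) (_ : Field K) (a : A →+* K) (b : L →+* K), a.comp f = b.comp g := by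
  let p := P.comap f
  let jL : p.ResidueField →+* L := Ideal.ResidueField.lift p g h.le fun r hr =>
    isUnit_iff_ne_zero.mpr fun h0 => hr (show r ∈ P.comap f from h ▸ h0)
  let : Algebra p.ResidueField L := jL.toAlgebra
  let : Algebra p.ResidueField P.ResidueField := (Ideal.ResidueField.map p P f rfl).toAlgebra
  obtain ⟨M, hM⟩ := Ideal.exists_maximal (P.ResidueField ⊗[p.ResidueField] L)
  refine ⟨_, Ideal.Quotient.field M,
    ((Ideal.Quotient.mk M).comp Algebra.TensorProduct.includeLeftRingHom).comp (algebraMap A _),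
    (Ideal.Quotient.mk M).comp (Algebra.TensorProduct.includeRight (R := p.ResidueField)).toRingHom, ?_⟩
  ext r
  simp only [RingHom.comp_apply]
  rw [← Ideal.ResidueField.map_algebraMap p P f rfl r, ← Ideal.ResidueField.lift_algebraMap p g h.le
    (fun r hr => isUnit_iff_ne_zero.mpr fun h0 => hr (show r ∈ P.comap f from h ▸ h0)) r]
  exact congrArg _ ((Algebra.TensorProduct.includeRight (R := p.ResidueField)
    (A := P.ResidueField)).commutes (algebraMap R p.ResidueField r)).symm

theorem isBCAlong_of_isEpi {R S : Type u} [CommRing R] [CommRing S] (g : R →+* S)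
    (he : @Algebra.IsEpi R S _ _ g.toAlgebra) {M N : Type u}
    [AddCommGroup M] [AddCommGroup N] [Module R M] [Module S N] (f : M →ₛₗ[g] N)
    (hf : Function.Bijective f) : IsBCAlong g f := by
  let : Algebra R S := g.toAlgebra
  let : Module R N := Module.compHom N g
  have : IsScalarTower R S N := IsScalarTower.of_algebraMap_smul fun _ _ => rfl
  have : Algebra.IsEpi R S := he
  let fl : M ≃ₗ[R] N := LinearEquiv.ofBijective
    ({ toFun := f, map_add' := f.map_add, map_smul' := fun r m => f.map_smulₛₗ r m } : M →ₗ[R] N) hf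
  refine isBCAlong_of_equiv g f ((fl.baseChange R S).trans (TensorProduct.lid' R S N)) fun m => ?_
  rw [LinearEquiv.trans_apply]
  change TensorProduct.lid' R S N ((1 : S) ⊗ₜ[R] f m) = f m
  rw [TensorProduct.lid'_apply_tmul, one_smul]

theorem resH_zero_bijective {Y : RSpace.{u}} {M : OMod Y} {U U' : Set Y.pt} {R R' : Type u}
    [CommRing R] [CommRing R'] {φ : Coef Y U R} {φ' : Coef Y U' R'} (s : Coef.Sub φ φ') (h : U ⊆ U') :
    Function.Bijective (resH M s 0) := by
  refine ⟨fun a b hab => ev_ext fun q => ?_, fun b => ?_⟩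
  · have := congrArg (ev (⟨q.1, h q.2⟩ : U')) hab
    exact (ev_resH s a _).symm.trans (this.trans (ev_resH s b _))
  · obtain ⟨a, ha⟩ := exists_of_family (φ := φ) (M := M)
      (fun q => ev (⟨q.1, h q.2⟩ : U') b)
      (fun q q' hq => ev_compat (q := (⟨q.1, h q.2⟩ : U')) (q' := ⟨q'.1, h q'.2⟩) b hq)
    exact ⟨a, ev_ext fun q => (ev_resH s a q).trans (ha ⟨q.1, s.le q.2⟩)⟩

variable {X : RSpace.{u}} {Ω : Type u} [Field Ω]

/-- The morphism from a point given by a point and a ring map to a field. -/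
def pointHom (x : X.pt) (ψ : X.ring x →+* Ω) : Hom (RSpace.point Ω) X where
  fn _ := x
  mono _ _ _ := le_rfl
  app _ := ψ
  compat _ b := by
    change ψ b = ψ (X.res (le_refl x) b)
    rw [X.res_self]

theorem isSchematic_pointHom (hX : X.IsSchematic) (x : X.pt) (ψ : X.ring x →+* Ω)
    (hψ : ∀ (y y' : X.pt) (hy : y ≤ x) (hy' : y ≤ y'), ¬ y' ≤ x → ∀ r : PrimeSpectrum (X.ring y'),
      r.asIdeal.comap (X.res hy') ≠ RingHom.ker (ψ.comp (X.res hy))) :
    (pointHom x ψ).IsSchematic := by
  refine ⟨⟨fun _ => (inferInstance : IsNoetherianRing Ω), fun _ _ _ => RingHom.Flat.id Ω⟩, hX.1, ?_⟩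
  intro n p p' hp y y' hy
  have hU : ∀ (a : (RSpace.point Ω).pt) (b : X.pt), ((pointHom x ψ).wedge a b).Subsingleton :=
    fun a b q _ q' _ => rfl
  cases n with
  | succ n =>
    have := fun (R : Type u) (_ : CommRing R) (a : (RSpace.point Ω).pt) (b : X.pt)
      (φ : Coef (RSpace.point Ω) ((pointHom x ψ).wedge a b) R) =>
        subsingleton_H_succ (φ := φ) (M := (RSpace.point Ω).str) (n := n) (hU a b)
    exact ⟨isBCAlong_of_subsingleton _ _, isBCAlong_of_subsingleton _ _⟩
  | zero =>
    constructor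
    · exact isBCAlong_of_isEpi _
        (@Algebra.isEpi_of_surjective_algebraMap _ _ _ _ ((RSpace.point Ω).res hp).toAlgebra
          fun a => ⟨a, rfl⟩) _
        (resH_zero_bijective _ fun q hq => ⟨le_of_eq rfl, hq.2⟩)
    · by_cases hy'x : y' ≤ x
      · exact isBCAlong_of_isEpi _ (isEpi_res hX hy) _
          (resH_zero_bijective _ fun q hq => ⟨hq.1, hy'x⟩)
      · have : IsEmpty ↥((pointHom x ψ).wedge p y') := ⟨fun q => hy'x q.2.2⟩
        have := subsingleton_H_zero (φ := Coef.ofHom (pointHom x ψ) y' _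
          ((pointHom x ψ).wedge_subset_pre p y')) (M := (RSpace.point Ω).str)
        let : Algebra (X.ring y) (X.ring y') := (X.res hy).toAlgebra
        refine isBCAlong_of_equiv _ _
          (@LinearEquiv.ofSubsingleton _ _ _ _ _ _ _ _ ?_ _) fun m => Subsingleton.elim _ _
        by_cases hyx : y ≤ x
        · let : Algebra (X.ring y) Ω := (ψ.comp (X.res hyx)).toAlgebra
          let z : ↥((pointHom x ψ).wedge p y) := ⟨PUnit.unit, le_rfl, hyx⟩
          let lM : H (Coef.ofHom (pointHom x ψ) y _ ((pointHom x ψ).wedge_subset_pre p y))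
              (RSpace.point Ω).str 0 →ₗ[X.ring y] Ω :=
            { toFun := fun a => ev z a
              map_add' := fun a a' => (ev z).map_add a a'
              map_smul' := fun r a => (ev z).map_smulₛₗ r a }
          let eM := LinearEquiv.ofBijective lM (ev_bijective_of_least z fun q => le_of_eq rfl)
          have : Subsingleton (X.ring y' ⊗[X.ring y] Ω) := by
            by_contra hns
            have : Nontrivial (X.ring y' ⊗[X.ring y] Ω) := not_subsingleton_iff_nontrivial.mp hns
            obtain ⟨T⟩ := (inferInstance : Nonempty (PrimeSpectrum (X.ring y' ⊗[X.ring y] Ω)))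
            refine hψ y y' hyx hy hy'x
              (PrimeSpectrum.comap Algebra.TensorProduct.includeLeftRingHom T) ?_
            have hbot : T.asIdeal.comap
                (Algebra.TensorProduct.includeRight (R := X.ring y) (A := X.ring y') (B := Ω)).toRingHom = ⊥ :=
              (Ideal.eq_bot_or_top _).resolve_right (Ideal.IsPrime.comap _).ne_top
            ext r
            rw [RingHom.mem_ker, ← Ideal.mem_bot, ← hbot]
            change algebraMap (X.ring y) (X.ring y') r ⊗ₜ[X.ring y] (1 : Ω) ∈ T.asIdeal ↔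
              (1 : X.ring y') ⊗ₜ[X.ring y] algebraMap (X.ring y) Ω r ∈ T.asIdeal
            rw [Algebra.algebraMap_eq_smul_one, Algebra.algebraMap_eq_smul_one, TensorProduct.smul_tmul]
          exact (eM.lTensor (X.ring y')).injective.subsingleton
        · have : IsEmpty ↥((pointHom x ψ).wedge p y) := ⟨fun q => hyx q.2.2⟩
          have := subsingleton_H_zero (φ := Coef.ofHom (pointHom x ψ) y _
            ((pointHom x ψ).wedge_subset_pre p y)) (M := (RSpace.point Ω).str)
          infer_instance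

theorem comap_ne_ker_toField [IsAlgClosed Ω] (hX : X.IsSchematic) (ξ : GeomPt X Ω) {x' : X.pt}
    (hx : ξ.base < x') (P : Ideal (X.ring x')) [P.IsPrime] :
    P.comap (X.res hx.le) ≠ RingHom.ker ξ.toField := by
  intro h
  obtain ⟨K, iK, a, b, hab⟩ := exists_field (X.res hx.le) ξ.toField P h
  let : Algebra (X.ring ξ.base) (X.ring x') := (X.res hx.le).toAlgebra
  let : Algebra (X.ring ξ.base) Ω := ξ.toField.toAlgebra
  let : Algebra (X.ring ξ.base) K := (a.comp (X.res hx.le)).toAlgebra
  let pu : (RSpace.point Ω).pt := PUnit.unit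
  have hbc := (ξ.isSchematic.2.2 0 pu pu le_rfl ξ.base x' hx.le).2
  have : IsEmpty ↥(ξ.hom.wedge pu x') := ⟨fun q => not_le_of_gt hx q.2.2⟩
  have hsub := subsingleton_H_zero (φ := Coef.ofHom ξ.hom x' _ (ξ.hom.wedge_subset_pre pu x'))
    (M := (RSpace.point Ω).str)
  have hzero : Subsingleton (X.ring x' ⊗[X.ring ξ.base]
      H (Coef.ofHom ξ.hom ξ.base _ (ξ.hom.wedge_subset_pre pu ξ.base)) (RSpace.point Ω).str 0) :=
    (bcEquiv hbc).injective.subsingleton
  let z : ↥(ξ.hom.wedge pu ξ.base) := ⟨pu, le_rfl, le_rfl⟩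
  let lM : H (Coef.ofHom ξ.hom ξ.base _ (ξ.hom.wedge_subset_pre pu ξ.base))
      (RSpace.point Ω).str 0 →ₗ[X.ring ξ.base] Ω :=
    { toFun := fun t => ev z t
      map_add' := fun t t' => (ev z).map_add t t'
      map_smul' := fun r t => ((ev z).map_smulₛₗ r t).trans
        (congrArg (fun c : Ω => c * (show Ω from ev z t)) (congrArg ξ.toField (X.res_self _ r))) }
  let eM := LinearEquiv.ofBijective lM (ev_bijective_of_least z fun q => le_of_eq rfl)
  have hz : Subsingleton (X.ring x' ⊗[X.ring ξ.base] Ω) :=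
    (eM.symm.lTensor (X.ring x')).injective.subsingleton
  let aA : X.ring x' →ₐ[X.ring ξ.base] K := AlgHom.mk a fun _ => rfl
  let bA : Ω →ₐ[X.ring ξ.base] K := AlgHom.mk b fun r => (RingHom.congr_fun hab r).symm
  have := congrArg (Algebra.TensorProduct.lift aA bA fun _ _ => Commute.all _ _)
    (Subsingleton.elim (1 : X.ring x' ⊗[X.ring ξ.base] Ω) 0)
  rw [map_one, map_zero] at this
  exact one_ne_zero this

theorem existsUnique_of_maximal_pair [IsAlgClosed Ω] (hX : X.IsSchematic) (hff : SchPts.FFWedge X)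
    (a : X.Pair) (ha : ∀ b : X.Pair, X.PairRel a b → b.1 ≤ a.1) (φ : a.κ →+* Ω) :
    ∃! ξ : GeomPt X Ω, (⟨ξ.base, ξ.toField⟩ : Σ x : X.pt, (X.ring x →+* Ω)) =
      ⟨a.1, φ.comp (algebraMap (X.ring a.1) a.κ)⟩ := by
  let ψ := φ.comp (algebraMap (X.ring a.1) a.κ)
  have hker : RingHom.ker ψ = a.2.asIdeal := by
    rw [RingHom.ker_comp_of_injective _ φ.injective, Ideal.ker_algebraMap_residueField]
  have hsch : (pointHom a.1 ψ).IsSchematic := isSchematic_pointHom hX a.1 ψ fun y y' hy hy' hne r hr => by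
    refine hne (ha ⟨y', r⟩ (SchPts.pairRel_of_comap_eq_comap hX hff hy hy' a.2 r ?_))
    refine PrimeSpectrum.ext ?_
    change a.2.asIdeal.comap (X.res hy) = r.asIdeal.comap (X.res hy')
    rw [hr, ← hker, RingHom.comap_ker]
  refine ⟨⟨pointHom a.1 ψ, hsch⟩, rfl, ?_⟩
  rintro ⟨⟨fn, mono, app, compat⟩, hs⟩ h
  obtain rfl : fn = fun _ => a.1 := funext fun _ => (congrArg Sigma.fst h)
  obtain rfl : app = fun _ => ψ := funext fun _ => eq_of_heq (Sigma.mk.inj h).2
  rfl

end Groth.Agent.H21.SchGeom
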