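import Groth.Prelude.Def_SchFin2
import Groth.Agent.H21.SchBase
import Groth.Agent.H21.SchGeom
import Groth.Agent.H21.PiDescent
import Mathlib.RingTheory.RingHom.FaithfullyFlat
import Mathlib.RingTheory.RingHom.Finite
import Mathlib.RingTheory.RingHom.Etale
import Mathlib.LinearAlgebra.TensorProduct.Tower

set_option autoImplicit false

open TensorProduct SchFin

universe u

namespace Groth.Agent.H21.SchAff

open Groth.Agent.H21 Groth.Agent.H21.SchBase

theorem isBCAlong_comp {R S T : Type u} [CommRing R] [CommRing S] [CommRing T] {g : R →+* S} {g' : S →+* T}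
    {g'' : R →+* T} (hg : g'.comp g = g'') {M N P : Type u} [AddCommGroup M] [AddCommGroup N] [AddCommGroup P]
    [Module R M] [Module S N] [Module T P] {f : M →ₛₗ[g] N} {f' : N →ₛₗ[g'] P} (f'' : M →ₛₗ[g''] P)
    (hf : ∀ m, f'' m = f' (f m)) (h : IsBCAlong g f) (h' : IsBCAlong g' f') : IsBCAlong g'' f'' := by
  subst hg
  let : Algebra R S := g.toAlgebra
  let : Algebra S T := g'.toAlgebra
  let : Algebra R T := (g'.comp g).toAlgebra
  let : Module R N := Module.compHom N g
  let : Module S P := Module.compHom P g'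
  let : Module R P := Module.compHom P (g'.comp g)
  have : IsScalarTower R S N := IsScalarTower.of_algebraMap_smul fun _ _ => rfl
  have : IsScalarTower S T P := IsScalarTower.of_algebraMap_smul fun _ _ => rfl
  have : IsScalarTower R T P := IsScalarTower.of_algebraMap_smul fun _ _ => rfl
  have : IsScalarTower R S T := IsScalarTower.of_algebraMap_eq fun _ => rfl
  have : IsScalarTower R S P := IsScalarTower.of_algebraMap_smul fun _ _ => rfl
  have h2 := IsBaseChange.comp (h : IsBaseChange S _) (h' : IsBaseChange T _)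
  refine isBCAlong_of_equiv _ _ h2.equiv fun m => ?_
  rw [IsBaseChange.equiv_tmul, one_smul, hf]
  rfl

variable {X : RSpace.{u}} {U : Set X.pt}

/-- Counit of an affine open: evaluation exhibits the value at a point as a base change. -/
theorem bc_eval (hUa : (X.restrict U).IsAffine) (M : OMod X) (hM : M.IsQcoh) (q : U) :
    IsBCAlong (X.evalRing U q) (M.evalMod U q) := by
  have h' := hUa.2.2.1 (M.restrict U) (fun p q h => hM p.1 q.1 h) q
  let ρ : X.sectRing U →+* (X.restrict U).sectRing Set.univ :=
    { toFun := fun s => ⟨fun z => s.1 z.1, fun z z' hz => s.2 z.1 z'.1 hz⟩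
      map_one' := rfl
      map_mul' := fun _ _ => rfl
      map_zero' := rfl
      map_add' := fun _ _ => rfl }
  let eM : M.sect U →ₛₗ[ρ] (M.restrict U).sect Set.univ :=
    { toFun := fun s => ⟨fun z => s.1 z.1, fun z z' hz => s.2 z.1 z'.1 hz⟩
      map_add' := fun _ _ => rfl
      map_smul' := fun _ _ => rfl }
  have hρ : Function.Bijective ρ := ⟨fun a b h => Subtype.ext (funext fun z =>
    congrFun (congrArg Subtype.val h) ⟨z, trivial⟩),
    fun t => ⟨⟨fun z => t.1 ⟨z, trivial⟩, fun z z' hz => t.2 ⟨z, trivial⟩ ⟨z', trivial⟩ hz⟩, rfl⟩⟩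
  have he : Function.Bijective eM := ⟨fun a b h => Subtype.ext (funext fun z =>
    congrFun (congrArg Subtype.val h) ⟨z, trivial⟩),
    fun t => ⟨⟨fun z => t.1 ⟨z, trivial⟩, fun z z' hz => t.2 ⟨z, trivial⟩ ⟨z', trivial⟩ hz⟩, rfl⟩⟩
  have h1 : IsBCAlong ρ eM := SchGeom.isBCAlong_of_isEpi ρ
    (@Algebra.isEpi_of_surjective_algebraMap _ _ _ _ ρ.toAlgebra hρ.2) eM he
  have hcomp : ((X.restrict U).evalRing Set.univ ⟨q, trivial⟩).comp ρ = X.evalRing U q :=
    RingHom.ext fun _ => rfl
  exact isBCAlong_comp (f := eM) (f' := (M.restrict U).evalMod Set.univ ⟨q, trivial⟩) hcomp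
    (M.evalMod U q) (fun _ => rfl) h1 h'

variable (X U) in
/-- The section ring acts on the ring of each point of `U`. -/
abbrev algEval (q : U) : Algebra (X.sectRing U) (X.ring q.1) := (X.evalRing U q).toAlgebra

/-- Base change of the sections of a quasi-coherent algebra. -/
theorem exists_algEquiv (hUa : (X.restrict U).IsAffine) (A : Alg X) (hA : A.IsQcoh) (q : U) :
    letI := algEval X U q
    letI : Algebra (X.sectRing U) (A.total.sectRing U) := (A.sectMap U).toAlgebra
    ∃ e : X.ring q.1 ⊗[X.sectRing U] A.total.sectRing U ≃ₐ[X.ring q.1] A.carrier q.1,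
      ∀ a s, e (a ⊗ₜ[X.sectRing U] s) = algebraMap _ _ a * (show A.carrier q.1 from s.1 q) := by
  let := algEval X U q
  let : Algebra (X.sectRing U) (A.total.sectRing U) := (A.sectMap U).toAlgebra
  let : Algebra (X.sectRing U) (A.carrier q.1) :=
    ((algebraMap (X.ring q.1) (A.carrier q.1)).comp (X.evalRing U q)).toAlgebra
  have : IsScalarTower (X.sectRing U) (X.ring q.1) (A.carrier q.1) :=
    IsScalarTower.of_algebraMap_eq fun _ => rfl
  let ev : A.total.sectRing U →ₐ[X.sectRing U] A.carrier q.1 :=
    AlgHom.mk (A.total.evalRing U q) fun _ => rfl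
  let Φ : X.ring q.1 ⊗[X.sectRing U] A.total.sectRing U →ₐ[X.ring q.1] A.carrier q.1 :=
    Algebra.TensorProduct.lift (Algebra.ofId _ _) ev fun _ _ => Commute.all _ _
  let em : A.total.sectRing U ≃ₗ[X.sectRing U] A.toMod.sect U :=
    { toFun := fun s => ⟨s.1, s.2⟩
      invFun := fun s => ⟨s.1, s.2⟩
      map_add' := fun _ _ => rfl
      map_smul' := fun r s => Subtype.ext (funext fun z => by
        change (A.sectMap U r * s).1 z = r.1 z • (show A.carrier z.1 from s.1 z)
        rw [Algebra.smul_def]
        rfl)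
      left_inv := fun _ => rfl
      right_inv := fun _ => rfl }
  let c := (em.lTensor (X.ring q.1)).toAddEquiv.trans (bcEquiv (bc_eval hUa A.toMod hA q)).toAddEquiv
  have hc : ∀ t, Φ t = c t := by
    intro t
    induction t using TensorProduct.induction_on with
    | zero => simp only [map_zero]; rfl
    | tmul a s =>
      refine Eq.trans ?_ (bcEquiv_tmul (bc_eval hUa A.toMod hA q) a (em s)).symm
      change Φ (a ⊗ₜ[X.sectRing U] s) = a • (show A.carrier q.1 from s.1 q)
      rw [Algebra.smul_def]
      rfl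
    | add s t hs ht => simp only [map_add, hs, ht]; rfl
  have hbij : Function.Bijective Φ := by
    rw [show (⇑Φ) = ⇑c from funext hc]
    exact c.bijective
  exact ⟨AlgEquiv.ofBijective Φ hbij, fun a s => rfl⟩

theorem flat_iff (hUa : (X.restrict U).IsAffine) (A : Alg X) (hA : A.IsQcoh)
    (hφ : Module.FaithfullyFlat (X.sectRing U) ((q : ↥U) → X.ring q.1)) :
    (∀ q : X.pt, q ∈ U → Module.Flat (X.ring q) (A.carrier q)) ↔ (A.sectMap U).Flat := by
  let : ∀ q : U, Algebra (X.sectRing U) (X.ring q.1) := algEval X U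
  let : Algebra (X.sectRing U) (A.total.sectRing U) := (A.sectMap U).toAlgebra
  have : Module.FaithfullyFlat (X.sectRing U) ((q : ↥U) → X.ring q.1) := hφ
  constructor
  · intro h
    change Module.Flat (X.sectRing U) (A.total.sectRing U)
    refine PiDescent.flat_of_forall (fun q : U => X.ring q.1) _ fun q => ?_
    obtain ⟨e, -⟩ := exists_algEquiv hUa A hA q
    have := h q.1 q.2
    exact Module.Flat.of_linearEquiv e.toLinearEquiv
  · intro h q hq
    have : Module.Flat (X.sectRing U) (A.total.sectRing U) := h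
    obtain ⟨e, -⟩ := exists_algEquiv hUa A hA ⟨q, hq⟩
    exact Module.Flat.of_linearEquiv e.symm.toLinearEquiv

theorem finite_iff (hUa : (X.restrict U).IsAffine) (A : Alg X) (hA : A.IsQcoh)
    (hφ : Module.FaithfullyFlat (X.sectRing U) ((q : ↥U) → X.ring q.1)) :
    (∀ q : X.pt, q ∈ U → Module.Finite (X.ring q) (A.carrier q)) ↔ (A.sectMap U).Finite := by
  let : ∀ q : U, Algebra (X.sectRing U) (X.ring q.1) := algEval X U
  let : Algebra (X.sectRing U) (A.total.sectRing U) := (A.sectMap U).toAlgebra
  have : Module.FaithfullyFlat (X.sectRing U) ((q : ↥U) → X.ring q.1) := hφ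
  constructor
  · intro h
    change Module.Finite (X.sectRing U) (A.total.sectRing U)
    refine PiDescent.finite_of_forall (fun q : U => X.ring q.1) _ fun q => ?_
    obtain ⟨e, -⟩ := exists_algEquiv hUa A hA q
    have := h q.1 q.2
    exact Module.Finite.equiv e.symm.toLinearEquiv
  · intro h q hq
    have : Module.Finite (X.sectRing U) (A.total.sectRing U) := h
    obtain ⟨e, -⟩ := exists_algEquiv hUa A hA ⟨q, hq⟩
    exact Module.Finite.equiv e.toLinearEquiv

theorem faithfullyFlat_iff (hUa : (X.restrict U).IsAffine) (A : Alg X) (hA : A.IsQcoh)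
    (hφ : Module.FaithfullyFlat (X.sectRing U) ((q : ↥U) → X.ring q.1)) :
    (∀ q : X.pt, q ∈ U → Module.FaithfullyFlat (X.ring q) (A.carrier q)) ↔
      (A.sectMap U).FaithfullyFlat := by
  let : ∀ q : U, Algebra (X.sectRing U) (X.ring q.1) := algEval X U
  let : Algebra (X.sectRing U) (A.total.sectRing U) := (A.sectMap U).toAlgebra
  have : Module.FaithfullyFlat (X.sectRing U) ((q : ↥U) → X.ring q.1) := hφ
  constructor
  · intro h
    refine RingHom.FaithfullyFlat.iff_flat_and_comap_surjective.mpr
      ⟨(flat_iff hUa A hA hφ).mp fun q hq => have := h q hq; inferInstance, fun p => ?_⟩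
    obtain ⟨q, P, hP⟩ := PiDescent.exists_prime_of_faithfullyFlat (fun q : U => X.ring q.1) p
    have := h q.1 q.2
    obtain ⟨T, hT⟩ := PrimeSpectrum.comap_surjective_of_faithfullyFlat (B := A.carrier q.1) P
    refine ⟨PrimeSpectrum.comap (A.total.evalRing U q) T, ?_⟩
    rw [← hP, ← hT]
    exact PrimeSpectrum.ext (Ideal.ext fun a => Iff.rfl)
  · intro h q hq
    have : Module.FaithfullyFlat (X.sectRing U) (A.total.sectRing U) := h
    obtain ⟨e, -⟩ := exists_algEquiv hUa A hA ⟨q, hq⟩
    exact Module.FaithfullyFlat.of_linearEquiv _ _ e.symm.toLinearEquiv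

theorem etale_iff (hUa : (X.restrict U).IsAffine) (A : Alg X) (hA : A.IsQcoh)
    (hφ : Module.FaithfullyFlat (X.sectRing U) ((q : ↥U) → X.ring q.1)) :
    (∀ q : X.pt, q ∈ U → Algebra.Etale (X.ring q) (A.carrier q)) ↔ (A.sectMap U).Etale := by
  let : ∀ q : U, Algebra (X.sectRing U) (X.ring q.1) := algEval X U
  let : Algebra (X.sectRing U) (A.total.sectRing U) := (A.sectMap U).toAlgebra
  have : Module.FaithfullyFlat (X.sectRing U) ((q : ↥U) → X.ring q.1) := hφ
  constructor
  · intro h
    change Algebra.Etale (X.sectRing U) (A.total.sectRing U)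
    refine PiDescent.etale_of_forall (fun q : U => X.ring q.1) _ fun q => ?_
    obtain ⟨e, -⟩ := exists_algEquiv hUa A hA q
    have := h q.1 q.2
    exact Algebra.Etale.of_equiv e.symm
  · intro h q hq
    have : Algebra.Etale (X.sectRing U) (A.total.sectRing U) := h
    obtain ⟨e, -⟩ := exists_algEquiv hUa A hA ⟨q, hq⟩
    exact Algebra.Etale.of_equiv e

theorem isBCAlong_resSect (hUa : (X.restrict U).IsAffine) (x : X.pt) (hU : U ⊆ X.up x)
    (hff : Module.FaithfullyFlat (X.sectRing U) ((q : ↥U) → X.ring q.1)) (M : OMod X) (hM : M.IsQcoh) :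
    IsBCAlong (X.resSect x U hU) (M.resSect x U hU) := by
  let : ∀ q : U, Algebra (X.sectRing U) (X.ring q.1) := algEval X U
  have : Module.FaithfullyFlat (X.sectRing U) ((q : ↥U) → X.ring q.1) := hff
  let : Algebra (X.ring x) (X.sectRing U) := (X.resSect x U hU).toAlgebra
  let : Module (X.ring x) (M.sect U) := Module.compHom _ (X.resSect x U hU)
  have : IsScalarTower (X.ring x) (X.sectRing U) (M.sect U) :=
    IsScalarTower.of_algebraMap_smul fun _ _ => rfl
  let fl : M.carrier x →ₗ[X.ring x] M.sect U :=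
    { toFun := M.resSect x U hU
      map_add' := (M.resSect x U hU).map_add
      map_smul' := fun r m => (M.resSect x U hU).map_smulₛₗ r m }
  let θ : X.sectRing U ⊗[X.ring x] M.carrier x →ₗ[X.sectRing U] M.sect U :=
    fl.liftBaseChange (X.sectRing U)
  have hθ : ∀ r m, θ (r ⊗ₜ[X.ring x] m) = r • M.resSect x U hU m := fun r m => by
    simp [θ, fl]
  suffices Function.Bijective θ from
    isBCAlong_of_equiv _ _ (LinearEquiv.ofBijective θ this) fun m => (hθ 1 m).trans (one_smul _ _)
  refine PiDescent.bijective_of_forall (fun q : U => X.ring q.1) θ fun q => ?_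
  let : Algebra (X.ring x) (X.ring q.1) := (X.res (hU q.2)).toAlgebra
  have : IsScalarTower (X.ring x) (X.sectRing U) (X.ring q.1) :=
    IsScalarTower.of_algebraMap_eq fun _ => rfl
  let c := (AlgebraTensorModule.cancelBaseChange (X.ring x) (X.sectRing U) (X.ring q.1) (X.ring q.1)
      (M.carrier x)).toAddEquiv.trans (bcEquiv (hM x q.1 (hU q.2))).toAddEquiv
  let d := (bcEquiv (bc_eval hUa M hM q)).toAddEquiv
  have key : ∀ t, θ.lTensor (X.ring q.1) t = d.symm (c t) := by
    intro t
    apply d.injective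
    rw [AddEquiv.apply_symm_apply]
    induction t using TensorProduct.induction_on with
    | zero => simp only [map_zero]
    | tmul a y =>
      induction y using TensorProduct.induction_on with
      | zero => simp only [map_zero, tmul_zero]
      | tmul r m =>
        rw [LinearMap.lTensor_tmul, hθ]
        refine (bcEquiv_tmul (bc_eval hUa M hM q) a (r • M.resSect x U hU m)).trans ?_
        change a • (r.1 q • M.res (hU q.2) m) = _
        change _ = bcEquiv (hM x q.1 (hU q.2))
          (AlgebraTensorModule.cancelBaseChange (X.ring x) (X.sectRing U) (X.ring q.1) (X.ring q.1)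
            (M.carrier x) (a ⊗ₜ[X.sectRing U] (r ⊗ₜ[X.ring x] m)))
        rw [AlgebraTensorModule.cancelBaseChange_tmul, bcEquiv_tmul, ← mul_smul]
        congr 1
        change a * r.1 q = r.1 q * a
        exact mul_comm _ _
      | add s t hs ht => simp only [tmul_add, map_add, hs, ht]
    | add s t hs ht => simp only [map_add, hs, ht]
  rw [show (⇑(θ.lTensor (X.ring q.1))) = ⇑d.symm ∘ ⇑c from funext key]
  exact d.symm.bijective.comp c.bijective

end Groth.Agent.H21.SchAff
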