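import Groth.Prelude.Def_SchFin2
import Groth.Agent.H21.SchBase
import Groth.Agent.H21.FinEtale
import Groth.Agent.H21.FixedAlg
import Mathlib.RingTheory.Etale.Pi
import Mathlib.RingTheory.TensorProduct.Pi
import Mathlib.RingTheory.Finiteness.FinitePresentationLocal

set_option autoImplicit false
set_option linter.unusedSectionVars false

open TensorProduct CategoryTheory CategoryTheory.Limits SchFin

universe u

namespace Groth.Agent.H21.SchCat

open Groth.Agent.H21

variable {X : RSpace.{u}}

/-- Pointwise finite étale. -/
def PtEt (A : Alg X) : Prop :=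
  ∀ p, Module.Finite (X.ring p) (A.carrier p) ∧ Algebra.Etale (X.ring p) (A.carrier p)

/-- The comparison map of an algebra along a restriction. -/
noncomputable def bcHom (A : Alg X) {p q : X.pt} (h : p ≤ q) :
    letI : Algebra (X.ring p) (X.ring q) := (X.res h).toAlgebra
    X.ring q ⊗[X.ring p] A.carrier p →ₐ[X.ring q] A.carrier q :=
  letI : Algebra (X.ring p) (X.ring q) := (X.res h).toAlgebra
  letI : Algebra (X.ring p) (A.carrier q) :=
    ((algebraMap (X.ring q) (A.carrier q)).comp (X.res h)).toAlgebra
  haveI : IsScalarTower (X.ring p) (X.ring q) (A.carrier q) := IsScalarTower.of_algebraMap_eq fun _ => rfl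
  Algebra.TensorProduct.lift (Algebra.ofId _ _) (AlgHom.mk (A.res h) fun a => A.res_algebraMap h a)
    fun _ _ => Commute.all _ _

theorem bcHom_tmul (A : Alg X) {p q : X.pt} (h : p ≤ q) (a : X.ring q) (x : A.carrier p) :
    letI : Algebra (X.ring p) (X.ring q) := (X.res h).toAlgebra
    bcHom A h (a ⊗ₜ[X.ring p] x) = algebraMap (X.ring q) (A.carrier q) a * A.res h x := rfl

theorem qcoh_iff (A : Alg X) :
    A.IsQcoh ↔ ∀ p q (h : p ≤ q), Function.Bijective (bcHom A h) := by
  constructor
  · intro hA p q h
    let : Algebra (X.ring p) (X.ring q) := (X.res h).toAlgebra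
    have key : ∀ t, bcHom A h t = SchBase.bcEquiv (hA p q h) t := by
      intro t
      induction t using TensorProduct.induction_on with
      | zero => simp only [map_zero]; rfl
      | tmul a x =>
        refine Eq.trans ?_ (SchBase.bcEquiv_tmul (hA p q h) a x).symm
        rw [bcHom_tmul]
        exact (Algebra.smul_def a (A.res h x)).symm
      | add s t hs ht => rw [map_add]; exact (congrArg₂ (· + ·) hs ht).trans (map_add _ s t).symm
    rw [show (⇑(bcHom A h)) = ⇑(SchBase.bcEquiv (hA p q h)) from funext key]
    exact (SchBase.bcEquiv (hA p q h)).bijective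
  · intro hb p q h
    let : Algebra (X.ring p) (X.ring q) := (X.res h).toAlgebra
    refine SchBase.isBCAlong_of_equiv (X.res h) (A.toMod.res h)
      (AlgEquiv.ofBijective (bcHom A h) (hb p q h)).toLinearEquiv fun x => ?_
    change bcHom A h ((1 : X.ring q) ⊗ₜ[X.ring p] x) = A.res h x
    exact (bcHom_tmul A h 1 x).trans (by rw [map_one, one_mul])

theorem bij (A : FEt X) {p q : X.pt} (h : p ≤ q) : Function.Bijective (bcHom A.obj h) :=
  (qcoh_iff A.obj).mp A.property.1 p q h

theorem flat_res' (hX : X.IsSchematic) {p q : X.pt} (h : p ≤ q) :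
    letI : Algebra (X.ring p) (X.ring q) := (X.res h).toAlgebra
    Module.Flat (X.ring p) (X.ring q) := SchBase.flat_res hX h

theorem fet_ext {A B : FEt X} {f g : A ⟶ B} (h : ∀ p x, f.hom.app p x = g.hom.app p x) : f = g :=
  ObjectProperty.hom_ext _ (Alg.hom_ext _ _ fun p => AlgHom.ext (h p))

theorem comp_app {A B C : FEt X} (f : A ⟶ B) (g : B ⟶ C) (p : X.pt) (x : A.obj.carrier p) :
    (f ≫ g).hom.app p x = g.hom.app p (f.hom.app p x) := rfl

theorem id_app (A : FEt X) (p : X.pt) (x : A.obj.carrier p) : (𝟙 A : A ⟶ A).hom.app p x = x := rfl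

/-- Build a morphism of étale covers. -/
def mkHom {A B : FEt X} (app : ∀ p, A.obj.carrier p →ₐ[X.ring p] B.obj.carrier p)
    (compat : ∀ {p q : X.pt} (h : p ≤ q) (b : A.obj.carrier p), B.obj.res h (app p b) = app q (A.obj.res h b)) :
    A ⟶ B :=
  ObjectProperty.homMk ⟨app, compat⟩

theorem isIso_of_bijective {A B : FEt X} (f : A ⟶ B) (hf : ∀ p, Function.Bijective (f.hom.app p)) :
    IsIso f := by
  let inv : B ⟶ A := mkHom (fun p => ((AlgEquiv.ofBijective (f.hom.app p) (hf p)).symm : _ →ₐ[_] _))
    (fun {p q} h b => by
      apply (hf q).1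
      obtain ⟨a, rfl⟩ := (hf p).2 b
      rw [f.hom.compat]
      simp)
  exact ⟨inv, fet_ext fun p x => (AlgEquiv.ofBijective (f.hom.app p) (hf p)).symm_apply_apply x,
    fet_ext fun p x => (AlgEquiv.ofBijective (f.hom.app p) (hf p)).apply_symm_apply x⟩

theorem bcHom_natural {A B : Alg X} (f : A ⟶ B) {p q : X.pt} (h : p ≤ q) :
    letI : Algebra (X.ring p) (X.ring q) := (X.res h).toAlgebra
    ∀ t, bcHom B h (Algebra.TensorProduct.map (AlgHom.id (X.ring q) (X.ring q)) (f.app p) t) =
      f.app q (bcHom A h t) := by
  let : Algebra (X.ring p) (X.ring q) := (X.res h).toAlgebra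
  intro t
  induction t using TensorProduct.induction_on with
  | zero => simp only [map_zero]
  | tmul a x =>
    rw [Algebra.TensorProduct.map_tmul, bcHom_tmul, bcHom_tmul, map_mul, AlgHom.commutes, f.compat]
    rfl
  | add s t hs ht => simp only [map_add, hs, ht]

/-! ### The rings themselves -/

variable (X) in
/-- the initial cover -/
noncomputable abbrev str : FEt X :=
  ⟨Alg.str X, by
    refine ⟨(qcoh_iff _).mpr fun p q h => ?_, fun p => ⟨Module.Finite.self _, inferInstanceAs (Algebra.Etale (X.ring p) (X.ring p))⟩⟩
    let : Algebra (X.ring p) (X.ring q) := (X.res h).toAlgebra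
    have key : ∀ t, bcHom (Alg.str X) h t = Algebra.TensorProduct.rid (X.ring p) (X.ring q) (X.ring q) t := by
      intro t
      induction t using TensorProduct.induction_on with
      | zero => simp only [map_zero]; rfl
      | tmul a x =>
        rw [bcHom_tmul]
        change algebraMap (X.ring q) (X.ring q) a * X.res h x = (show X.ring p from x) • a
        rw [Algebra.smul_def, mul_comm]
        rfl
      | add s t hs ht => rw [map_add]; exact (congrArg₂ (· + ·) hs ht).trans (map_add _ s t).symm
    rw [show (⇑(bcHom (Alg.str X) h)) = ⇑(Algebra.TensorProduct.rid (X.ring p) (X.ring q) (X.ring q))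
      from funext key]
    exact (Algebra.TensorProduct.rid (X.ring p) (X.ring q) (X.ring q)).bijective⟩

/-- the map from the initial cover -/
noncomputable def fromStr (A : FEt X) : str X ⟶ A :=
  mkHom (fun p => Algebra.ofId (X.ring p) (A.obj.carrier p)) fun h b => A.obj.res_algebraMap h b

variable (X) in
/-- it is initial -/
noncomputable def strIsInitial : IsInitial (str X) :=
  IsInitial.ofUniqueHom fromStr fun A m => fet_ext fun p x => (m.hom.app p).commutes x

/-! ### Finite products -/

/-- pointwise product -/
def piAlg {ι : Type} (A : ι → Alg X) : Alg X where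
  carrier p := ∀ i, (A i).carrier p
  instRing _ := inferInstance
  instAlg _ := inferInstance
  res h := RingHom.pi fun i => ((A i).res h).comp (Pi.evalRingHom _ i)
  res_algebraMap h a := funext fun i => (A i).res_algebraMap h a
  res_self p b := funext fun i => (A i).res_self p (b i)
  res_comp h h' b := funext fun i => (A i).res_comp h h' (b i)

/-- product of covers -/
noncomputable def piObj {ι : Type} [Finite ι] (A : ι → FEt X) : FEt X :=
  ⟨piAlg fun i => (A i).obj, by
    classical
    have := Fintype.ofFinite ι
    refine ⟨(qcoh_iff _).mpr fun p q h => ?_, fun p => ?_⟩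
    · let : Algebra (X.ring p) (X.ring q) := (X.res h).toAlgebra
      let e := (Algebra.TensorProduct.piRight (X.ring p) (X.ring q) (X.ring q)
        (fun i => (A i).obj.carrier p)).trans
          (AlgEquiv.piCongrRight fun i => AlgEquiv.ofBijective (bcHom (A i).obj h) (bij (A i) h))
      have key : ∀ t, bcHom (piAlg fun i => (A i).obj) h t = e t := by
        intro t
        induction t using TensorProduct.induction_on with
        | zero => simp only [map_zero]; rfl
        | tmul a x =>
          funext i
          rw [bcHom_tmul]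
          rfl
        | add s t hs ht => rw [map_add]; exact (congrArg₂ (· + ·) hs ht).trans (map_add _ s t).symm
      rw [show (⇑(bcHom (piAlg fun i => (A i).obj) h)) = ⇑e from funext key]
      exact e.bijective
    · have := fun i => ((A i).property.2 p).1
      have := fun i => ((A i).property.2 p).2
      exact ⟨inferInstanceAs (Module.Finite (X.ring p) (∀ i, (A i).obj.carrier p)),
        inferInstanceAs (Algebra.Etale (X.ring p) (∀ i, (A i).obj.carrier p))⟩⟩

/-- projection -/
noncomputable def piProj {ι : Type} [Finite ι] (A : ι → FEt X) (i : ι) : piObj A ⟶ A i :=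
  mkHom (fun p => Pi.evalAlgHom (X.ring p) (fun j => (A j).obj.carrier p) i) fun _ _ => rfl

/-- lift into the product -/
noncomputable def piLift {ι : Type} [Finite ι] {A : ι → FEt X} {T : FEt X} (f : ∀ i, T ⟶ A i) :
    T ⟶ piObj A :=
  mkHom (fun p => AlgHom.pi fun i => (f i).hom.app p) fun h b => funext fun i => (f i).hom.compat h b

/-- the product fan is a limit -/
noncomputable def piIsLimit {ι : Type} [Finite ι] (A : ι → FEt X) :
    IsLimit (Fan.mk (piObj A) (piProj A)) :=
  Fan.IsLimit.mk _ (fun s => piLift fun i => s.proj i) (fun _ _ => fet_ext fun _ _ => rfl)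
    fun s m hm => fet_ext fun p x => funext fun i =>
      congrArg (fun k : s.pt ⟶ A i => k.hom.app p x) (hm i)

instance hasFiniteProducts_fet : HasFiniteProducts (FEt X) :=
  ⟨fun n => ⟨fun K =>
    haveI : HasLimit (Discrete.functor (K.obj ∘ Discrete.mk)) := ⟨⟨⟨_, piIsLimit _⟩⟩⟩
    hasLimit_of_iso (Discrete.natIsoFunctor (F := K)).symm⟩⟩

/-! ### Pushouts -/

section Tensor

variable {A B C : FEt X} (f : A ⟶ B) (g : A ⟶ C)

/-- algebra over the middle -/
abbrev algOf {A B : FEt X} (f : A ⟶ B) (p : X.pt) : Algebra (A.obj.carrier p) (B.obj.carrier p) :=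
  (f.hom.app p).toRingHom.toAlgebra

/-- carrier of the pushout -/
def tcar (p : X.pt) : Type u :=
  letI := algOf f p
  letI := algOf g p
  B.obj.carrier p ⊗[A.obj.carrier p] C.obj.carrier p

noncomputable instance tcar_instCommRing (p : X.pt) : CommRing (tcar f g p) :=
  letI := algOf f p
  letI := algOf g p
  (inferInstance : CommRing (B.obj.carrier p ⊗[A.obj.carrier p] C.obj.carrier p))

/-- first inclusion -/
noncomputable def tinl (p : X.pt) : B.obj.carrier p →+* tcar f g p :=
  letI := algOf f p
  letI := algOf g p
  (Algebra.TensorProduct.includeLeftRingHom : B.obj.carrier p →+* B.obj.carrier p ⊗[A.obj.carrier p] C.obj.carrier p)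

/-- second inclusion -/
noncomputable def tinr (p : X.pt) : C.obj.carrier p →+* tcar f g p :=
  letI := algOf f p
  letI := algOf g p
  (Algebra.TensorProduct.includeRight (R := A.obj.carrier p) (A := B.obj.carrier p)).toRingHom

theorem tinl_comm (p : X.pt) (a : A.obj.carrier p) :
    tinl f g p (f.hom.app p a) = tinr f g p (g.hom.app p a) := by
  let := algOf f p
  let := algOf g p
  exact ((Algebra.TensorProduct.includeRight (R := A.obj.carrier p) (A := B.obj.carrier p)
    (B := C.obj.carrier p)).commutes a).symm

theorem tcar_hom_ext {p : X.pt} {T : Type*} [CommRing T] {φ ψ : tcar f g p →+* T}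
    (h₁ : ∀ b, φ (tinl f g p b) = ψ (tinl f g p b)) (h₂ : ∀ c, φ (tinr f g p c) = ψ (tinr f g p c)) :
    φ = ψ := by
  let := algOf f p
  let := algOf g p
  refine RingHom.ext fun t => ?_
  let t' : B.obj.carrier p ⊗[A.obj.carrier p] C.obj.carrier p := t
  change φ t' = ψ t'
  induction t' using TensorProduct.induction_on with
  | zero => exact (map_zero φ).trans (map_zero ψ).symm
  | tmul b c =>
    have : (b ⊗ₜ[A.obj.carrier p] c : tcar f g p) = tinl f g p b * tinr f g p c := by
      change b ⊗ₜ[A.obj.carrier p] c = (b ⊗ₜ[A.obj.carrier p] (1 : C.obj.carrier p)) * ((1 : B.obj.carrier p) ⊗ₜ[A.obj.carrier p] c)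
      simp
    rw [show φ (b ⊗ₜ[A.obj.carrier p] c) = φ (tinl f g p b * tinr f g p c) from congrArg φ this,
      show ψ (b ⊗ₜ[A.obj.carrier p] c) = ψ (tinl f g p b * tinr f g p c) from congrArg ψ this,
      map_mul, map_mul, h₁, h₂]
  | add s t hs ht => exact (map_add φ s t).trans ((congrArg₂ (· + ·) hs ht).trans (map_add ψ s t).symm)

/-- universal map -/
noncomputable def tdesc {p : X.pt} {T : Type*} [CommRing T] (u : B.obj.carrier p →+* T) (v : C.obj.carrier p →+* T)
    (h : ∀ a, u (f.hom.app p a) = v (g.hom.app p a)) : tcar f g p →+* T :=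
  letI := algOf f p
  letI := algOf g p
  letI : Algebra (A.obj.carrier p) T := (u.comp (f.hom.app p).toRingHom).toAlgebra
  (Algebra.TensorProduct.lift (AlgHom.mk u fun _ => rfl : B.obj.carrier p →ₐ[A.obj.carrier p] T)
    (AlgHom.mk v fun a => (h a).symm) fun _ _ => Commute.all _ _).toRingHom

theorem tdesc_inl {p : X.pt} {T : Type*} [CommRing T] (u : B.obj.carrier p →+* T) (v : C.obj.carrier p →+* T)
    (h : ∀ a, u (f.hom.app p a) = v (g.hom.app p a)) (b : B.obj.carrier p) :
    tdesc f g u v h (tinl f g p b) = u b := by
  change u b * v 1 = u b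
  rw [map_one, mul_one]

theorem tdesc_inr {p : X.pt} {T : Type*} [CommRing T] (u : B.obj.carrier p →+* T) (v : C.obj.carrier p →+* T)
    (h : ∀ a, u (f.hom.app p a) = v (g.hom.app p a)) (c : C.obj.carrier p) :
    tdesc f g u v h (tinr f g p c) = v c := by
  change u 1 * v c = v c
  rw [map_one, one_mul]

noncomputable instance tcar_instAlgebra (p : X.pt) : Algebra (X.ring p) (tcar f g p) :=
  ((tinl f g p).comp (algebraMap (X.ring p) (B.obj.carrier p))).toAlgebra

/-- restriction on the pushout -/
noncomputable def tres {p q : X.pt} (h : p ≤ q) : tcar f g p →+* tcar f g q :=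
  tdesc f g ((tinl f g q).comp (B.obj.res h)) ((tinr f g q).comp (C.obj.res h)) fun a => by
    simp only [RingHom.comp_apply]
    rw [f.hom.compat, g.hom.compat, tinl_comm]

theorem tres_inl {p q : X.pt} (h : p ≤ q) (b : B.obj.carrier p) :
    tres f g h (tinl f g p b) = tinl f g q (B.obj.res h b) := tdesc_inl _ _ _ _ _ b

theorem tres_inr {p q : X.pt} (h : p ≤ q) (c : C.obj.carrier p) :
    tres f g h (tinr f g p c) = tinr f g q (C.obj.res h c) := tdesc_inr _ _ _ _ _ c

theorem tdesc_compat {p q : X.pt} (h : p ≤ q) {T T' : Type*} [CommRing T] [CommRing T'] (r : T →+* T')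
    (u : B.obj.carrier p →+* T) (v : C.obj.carrier p →+* T) (w : ∀ a, u (f.hom.app p a) = v (g.hom.app p a))
    (u' : B.obj.carrier q →+* T') (v' : C.obj.carrier q →+* T')
    (w' : ∀ a, u' (f.hom.app q a) = v' (g.hom.app q a))
    (hu : ∀ b, r (u b) = u' (B.obj.res h b)) (hv : ∀ c, r (v c) = v' (C.obj.res h c)) (x : tcar f g p) :
    r (tdesc f g u v w x) = tdesc f g u' v' w' (tres f g h x) :=
  RingHom.congr_fun (f := r.comp (tdesc f g u v w)) (g := (tdesc f g u' v' w').comp (tres f g h))
    (tcar_hom_ext f g
      (fun b => by simp only [RingHom.comp_apply, tdesc_inl, tres_inl, hu])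
      (fun c => by simp only [RingHom.comp_apply, tdesc_inr, tres_inr, hv])) x

/-- the pushout algebra -/
noncomputable def tensorAlg : Alg X where
  carrier := tcar f g
  instRing := tcar_instCommRing f g
  instAlg := tcar_instAlgebra f g
  res h := tres f g h
  res_algebraMap {p q} h a := by
    simp only [RingHom.algebraMap_toAlgebra, RingHom.comp_apply]
    rw [tres_inl, B.obj.res_algebraMap]
  res_self p b := RingHom.congr_fun (g := RingHom.id _) (tcar_hom_ext f g
    (fun x => by rw [tres_inl, B.obj.res_self]; rfl) (fun x => by rw [tres_inr, C.obj.res_self]; rfl)) b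
  res_comp {p q s} h h' b := RingHom.congr_fun (f := (tres f g h').comp (tres f g h)) (tcar_hom_ext f g
    (fun x => by simp only [RingHom.comp_apply, tres_inl, B.obj.res_comp])
    (fun x => by simp only [RingHom.comp_apply, tres_inr, C.obj.res_comp])) b

/-- the pushout -/
noncomputable def tensorObj : FEt X :=
  ⟨tensorAlg f g, by
    refine ⟨(qcoh_iff _).mpr fun p q h => ?_, fun p => ?_⟩
    · let : Algebra (X.ring p) (X.ring q) := (X.res h).toAlgebra
      let T := tensorAlg f g
      let eB := AlgEquiv.ofBijective (bcHom B.obj h) (bij B h)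
      let eC := AlgEquiv.ofBijective (bcHom C.obj h) (bij C h)
      let iL : B.obj.carrier p →ₐ[X.ring p] T.carrier p :=
        AlgHom.mk (tinl f g p) fun _ => rfl
      let iR : C.obj.carrier p →ₐ[X.ring p] T.carrier p :=
        AlgHom.mk (tinr f g p) fun a => by
          change tinr f g p _ = tinl f g p _
          rw [← (g.hom.app p).commutes a, ← tinl_comm, (f.hom.app p).commutes]
      let mL := (Algebra.TensorProduct.map (AlgHom.id (X.ring q) (X.ring q)) iL).comp eB.symm.toAlgHom
      let mR := (Algebra.TensorProduct.map (AlgHom.id (X.ring q) (X.ring q)) iR).comp eC.symm.toAlgHom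
      have hagree : ∀ a, mL (f.hom.app q a) = mR (g.hom.app q a) := by
        intro a
        obtain ⟨t, rfl⟩ := (bij A h).2 a
        have e₁ : eB.symm (f.hom.app q (bcHom A.obj h t)) =
            Algebra.TensorProduct.map (AlgHom.id (X.ring q) (X.ring q)) (f.hom.app p) t := by
          rw [AlgEquiv.symm_apply_eq]
          exact (bcHom_natural f.hom h t).symm
        have e₂ : eC.symm (g.hom.app q (bcHom A.obj h t)) =
            Algebra.TensorProduct.map (AlgHom.id (X.ring q) (X.ring q)) (g.hom.app p) t := by
          rw [AlgEquiv.symm_apply_eq]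
          exact (bcHom_natural g.hom h t).symm
        simp only [mL, mR, AlgHom.comp_apply, AlgEquiv.coe_toAlgHom, e₁, e₂]
        clear e₁ e₂
        induction t using TensorProduct.induction_on with
        | zero => simp only [map_zero]
        | tmul r x =>
          simp only [Algebra.TensorProduct.map_tmul]
          exact congrArg (fun z : T.carrier p => r ⊗ₜ[X.ring p] z) (tinl_comm f g p x)
        | add s t hs ht => simp only [map_add, hs, ht]
      let inv : T.carrier q →+* X.ring q ⊗[X.ring p] T.carrier p :=
        tdesc f g mL.toRingHom mR.toRingHom hagree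
      let F := bcHom T h
      have h1 : F.toRingHom.comp inv = RingHom.id (T.carrier q) := by
        refine tcar_hom_ext f g (fun b => ?_) (fun c => ?_)
        · obtain ⟨t, rfl⟩ := eB.surjective b
          refine (congrArg F (tdesc_inl f g _ _ hagree (eB t))).trans ?_
          simp only [mL, AlgHom.toRingHom_eq_coe, RingHom.coe_coe, AlgHom.comp_apply,
            AlgEquiv.coe_toAlgHom, AlgEquiv.symm_apply_apply, RingHom.id_apply]
          induction t using TensorProduct.induction_on with
          | zero => simp only [map_zero]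
          | tmul r x =>
            rw [Algebra.TensorProduct.map_tmul]
            refine (bcHom_tmul T h r _).trans ?_
            refine Eq.trans ?_ (congrArg (tinl f g q) (bcHom_tmul B.obj h r x)).symm
            rw [map_mul]
            exact congrArg₂ (· * ·) rfl (tres_inl f g h x)
          | add s t hs ht =>
            simp only [map_add, hs, ht]
        · obtain ⟨t, rfl⟩ := eC.surjective c
          refine (congrArg F (tdesc_inr f g _ _ hagree (eC t))).trans ?_
          simp only [mR, AlgHom.toRingHom_eq_coe, RingHom.coe_coe, AlgHom.comp_apply,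
            AlgEquiv.coe_toAlgHom, AlgEquiv.symm_apply_apply, RingHom.id_apply]
          induction t using TensorProduct.induction_on with
          | zero => simp only [map_zero]
          | tmul r x =>
            rw [Algebra.TensorProduct.map_tmul]
            refine (bcHom_tmul T h r _).trans ?_
            refine Eq.trans ?_ (congrArg (tinr f g q) (bcHom_tmul C.obj h r x)).symm
            rw [map_mul]
            refine congrArg₂ (· * ·) ?_ (tres_inr f g h x)
            change tinl f g q _ = _
            rw [← (f.hom.app q).commutes, tinl_comm, (g.hom.app q).commutes]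
          | add s t hs ht =>
            simp only [map_add, hs, ht]
      have h2 : inv.comp F.toRingHom = RingHom.id _ := by
        refine Algebra.TensorProduct.ringHom_ext ?_ ?_
        · refine RingHom.ext fun r => ?_
          change inv (bcHom T h (r ⊗ₜ[X.ring p] (1 : T.carrier p))) = r ⊗ₜ[X.ring p] (1 : T.carrier p)
          rw [bcHom_tmul, map_one, mul_one]
          refine (tdesc_inl f g _ _ hagree _).trans ?_
          exact mL.commutes r
        · refine tcar_hom_ext f g (fun b => ?_) (fun c => ?_)
          · change inv (bcHom T h ((1 : X.ring q) ⊗ₜ[X.ring p] tinl f g p b)) = (1 : X.ring q) ⊗ₜ[X.ring p] tinl f g p b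
            refine (congrArg inv (bcHom_tmul T h 1 _)).trans ?_
            rw [map_one, one_mul]
            refine (congrArg inv (tres_inl f g h b)).trans ?_
            refine (tdesc_inl f g _ _ hagree _).trans ?_
            change Algebra.TensorProduct.map _ iL (eB.symm (B.obj.res h b)) = _
            rw [show eB.symm (B.obj.res h b) = (1 : X.ring q) ⊗ₜ[X.ring p] b from by
              rw [AlgEquiv.symm_apply_eq]; exact ((bcHom_tmul B.obj h 1 b).trans (by rw [map_one, one_mul])).symm]
            rw [Algebra.TensorProduct.map_tmul]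
            rfl
          · change inv (bcHom T h ((1 : X.ring q) ⊗ₜ[X.ring p] tinr f g p c)) = (1 : X.ring q) ⊗ₜ[X.ring p] tinr f g p c
            refine (congrArg inv (bcHom_tmul T h 1 _)).trans ?_
            rw [map_one, one_mul]
            refine (congrArg inv (tres_inr f g h c)).trans ?_
            refine (tdesc_inr f g _ _ hagree _).trans ?_
            change Algebra.TensorProduct.map _ iR (eC.symm (C.obj.res h c)) = _
            rw [show eC.symm (C.obj.res h c) = (1 : X.ring q) ⊗ₜ[X.ring p] c from by
              rw [AlgEquiv.symm_apply_eq]; exact ((bcHom_tmul C.obj h 1 c).trans (by rw [map_one, one_mul])).symm]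
            rw [Algebra.TensorProduct.map_tmul]
            rfl
      exact Function.bijective_iff_has_inverse.mpr
        ⟨inv, fun t => RingHom.congr_fun h2 t, fun t => RingHom.congr_fun h1 t⟩
    · let := algOf f p
      let := algOf g p
      have := (A.property.2 p).1
      have := (A.property.2 p).2
      have := (B.property.2 p).1
      have := (B.property.2 p).2
      have := (C.property.2 p).1
      have := (C.property.2 p).2
      obtain ⟨hfin, het⟩ := FinEtale.finite_flat_of_algHom (g.hom.app p)
      have : Module.Finite (A.obj.carrier p) (C.obj.carrier p) := hfin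
      have : Algebra.Etale (A.obj.carrier p) (C.obj.carrier p) := het
      have h1 : Module.Finite (X.ring p) (B.obj.carrier p ⊗[A.obj.carrier p] C.obj.carrier p) :=
        Module.Finite.trans (B.obj.carrier p) _
      have h2 : Algebra.Etale (X.ring p) (B.obj.carrier p ⊗[A.obj.carrier p] C.obj.carrier p) :=
        Algebra.Etale.comp (X.ring p) (B.obj.carrier p) _
      let e : (B.obj.carrier p ⊗[A.obj.carrier p] C.obj.carrier p) ≃ₐ[X.ring p] tcar f g p :=
        AlgEquiv.ofRingEquiv (f := RingEquiv.refl (tcar f g p)) (fun _ => rfl)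
      exact ⟨Module.Finite.equiv e.toLinearEquiv, Algebra.Etale.of_equiv e⟩⟩

/-- first coprojection -/
noncomputable def tensorInl : B ⟶ tensorObj f g :=
  mkHom (fun p => AlgHom.mk (tinl f g p) fun _ => rfl) fun {p q} h b => tres_inl f g h b

/-- second coprojection -/
noncomputable def tensorInr : C ⟶ tensorObj f g :=
  mkHom (fun p => AlgHom.mk (tinr f g p) fun a => by
    change tinr f g p _ = tinl f g p _
    rw [← (g.hom.app p).commutes a, ← tinl_comm, (f.hom.app p).commutes])
    fun {p q} h b => tres_inr f g h b

theorem tensor_w : f ≫ tensorInl f g = g ≫ tensorInr f g :=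
  fet_ext fun p a => tinl_comm f g p a

theorem isPushout_tensor : IsPushout f g (tensorInl f g) (tensorInr f g) := by
  refine ⟨⟨tensor_w f g⟩, ⟨PushoutCocone.IsColimit.mk _ (fun s => mkHom
    (fun p => AlgHom.mk (tdesc f g (s.inl.hom.app p).toRingHom (s.inr.hom.app p).toRingHom fun a =>
        congrArg (fun k : A ⟶ s.pt => k.hom.app p a) s.condition)
      fun r => (tdesc_inl f g _ _ _ _).trans ((s.inl.hom.app p).commutes r))
    fun {p q} h x => ?_) (fun s => ?_) (fun s => ?_) (fun s m h₁ h₂ => ?_)⟩⟩
  · exact tdesc_compat f g h (s.pt.obj.res h) _ _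
      (fun a => congrArg (fun k : A ⟶ s.pt => k.hom.app p a) s.condition) _ _
      (fun a => congrArg (fun k : A ⟶ s.pt => k.hom.app q a) s.condition)
      (fun b => s.inl.hom.compat h b) (fun c => s.inr.hom.compat h c) x
  · exact fet_ext fun p b => tdesc_inl f g _ _ (fun a => congrArg (fun k : A ⟶ s.pt => k.hom.app p a) s.condition) b
  · exact fet_ext fun p c => tdesc_inr f g _ _ (fun a => congrArg (fun k : A ⟶ s.pt => k.hom.app p a) s.condition) c
  · refine fet_ext fun p x => ?_
    refine RingHom.congr_fun (f := (m.hom.app p).toRingHom)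
      (tcar_hom_ext f g (fun b => ?_) (fun c => ?_)) x
    · exact (congrArg (fun k : B ⟶ s.pt => k.hom.app p b) h₁).trans (tdesc_inl f g _ _ (fun a => congrArg (fun k : A ⟶ s.pt => k.hom.app p a) s.condition) b).symm
    · exact (congrArg (fun k : C ⟶ s.pt => k.hom.app p c) h₂).trans (tdesc_inr f g _ _ (fun a => congrArg (fun k : A ⟶ s.pt => k.hom.app p a) s.condition) c).symm

end Tensor

instance hasPushouts_fet : HasPushouts (FEt X) :=
  haveI : ∀ {_A _B _C : FEt X} {f : _A ⟶ _B} {g : _A ⟶ _C}, HasColimit (span f g) := fun {_ _ _ f g} =>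
    ⟨⟨⟨_, (isPushout_tensor f g).isColimit⟩⟩⟩
  hasPushouts_of_hasColimit_span _

end Groth.Agent.H21.SchCat
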