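import Groth.Prelude.Def_SchFin
import Mathlib.RingTheory.Spectrum.Prime.Topology
import Mathlib.RingTheory.Idempotents

set_option autoImplicit false

open SchFin

universe u

namespace Groth.Agent.H21.SchConn

theorem connected_iff_idem (A : Type u) [CommRing A] :
    ConnectedSpace (PrimeSpectrum A) ↔
      Nontrivial A ∧ ∀ e : A, IsIdempotentElem e → e = 0 ∨ e = 1 := by
  constructor
  · intro h
    have hn : Nontrivial A := by
      obtain ⟨p⟩ := h.toNonempty
      exact ⟨⟨0, 1, fun h => p.2.ne_top ((Ideal.eq_top_iff_one _).mpr (h ▸ zero_mem _))⟩⟩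
    refine ⟨hn, fun e he => ?_⟩
    rcases isClopen_iff.mp (PrimeSpectrum.isClopen_basicOpen_of_mul_add e (1 - e) (by rw [mul_sub, mul_one, he.eq, sub_self]) (by ring)) with h' | h'
    · left
      have := PrimeSpectrum.basicOpen_injOn_isIdempotentElem he IsIdempotentElem.zero
        (SetLike.coe_injective (h'.trans (by simp)))
      exact this
    · right
      exact PrimeSpectrum.basicOpen_injOn_isIdempotentElem he IsIdempotentElem.one
        (SetLike.coe_injective (h'.trans (by simp)))
  · rintro ⟨hn, h⟩
    have : Nonempty (PrimeSpectrum A) := inferInstance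
    have : PreconnectedSpace (PrimeSpectrum A) := by
      refine preconnectedSpace_iff_clopen.mpr fun s hs => ?_
      obtain ⟨e, he, rfl⟩ := PrimeSpectrum.exists_idempotent_basicOpen_eq_of_isClopen hs
      rcases h e he with rfl | rfl <;> simp
    exact { toPreconnectedSpace := this, toNonempty := inferInstance }

variable {X : RSpace.{u}}

theorem idem_propagate (hpw : X.IsPwConnected) {U : Set X.pt} (s : X.sectRing U)
    (hs : IsIdempotentElem s) {q q' : U} (h : q.1 ≤ q'.1) : (s.1 q = 0 ↔ s.1 q' = 0) := by
  have hq : s.1 q = 0 ∨ s.1 q = 1 :=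
    ((connected_iff_idem _).mp (hpw q.1)).2 _ (congrFun (congrArg Subtype.val hs) q)
  have hn := ((connected_iff_idem _).mp (hpw q'.1)).1
  rw [← s.2 q q' h]
  rcases hq with h0 | h1
  · simp [h0]
  · have := ((connected_iff_idem _).mp (hpw q.1)).1
    simp [h1]

theorem isWellConnected_iff : X.IsWellConnected ↔ (X.IsTopConnected ∧ X.IsPwConnected) := by
  constructor
  · rintro ⟨hc, hpw⟩
    refine ⟨⟨?_, fun p q => ?_⟩, hpw⟩
    · by_contra hne
      obtain ⟨hn, -⟩ := (connected_iff_idem _).mp hc
      exact zero_ne_one (α := X.sectRing Set.univ)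
        (Subtype.ext (funext fun z => absurd ⟨z.1⟩ hne))
    · classical
      let f : (z : (Set.univ : Set X.pt)) → X.ring z.1 :=
        fun z => if Relation.EqvGen (fun a b : X.pt => a ≤ b) p z.1 then 1 else 0
      have hf : f ∈ X.sectRing Set.univ := by
        intro z z' h
        have hiff : Relation.EqvGen (fun a b : X.pt => a ≤ b) p z.1 ↔
            Relation.EqvGen (fun a b : X.pt => a ≤ b) p z'.1 :=
          ⟨fun hh => .trans _ _ _ hh (.rel _ _ h),
            fun hh => .trans _ _ _ hh (.symm _ _ (.rel _ _ h))⟩
        simp only [f]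
        by_cases hz : Relation.EqvGen (fun a b : X.pt => a ≤ b) p z.1
        · rw [if_pos hz, if_pos (hiff.mp hz), map_one]
        · rw [if_neg hz, if_neg (mt hiff.mpr hz), map_zero]
      have hidem : IsIdempotentElem (⟨f, hf⟩ : X.sectRing Set.univ) :=
        Subtype.ext (funext fun z => by
          change f z * f z = f z
          simp only [f]
          split_ifs <;> simp)
      rcases ((connected_iff_idem _).mp hc).2 _ hidem with h | h
      · have hp := congrFun (congrArg Subtype.val h) ⟨p, trivial⟩
        have hn := ((connected_iff_idem _).mp (hpw p)).1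
        simp only [f, if_pos (Relation.EqvGen.refl p)] at hp
        exact absurd hp one_ne_zero
      · have hq := congrFun (congrArg Subtype.val h) ⟨q, trivial⟩
        have hn := ((connected_iff_idem _).mp (hpw q)).1
        by_contra hne
        simp only [f, if_neg hne] at hq
        exact zero_ne_one hq
  · rintro ⟨⟨⟨p₀⟩, htop⟩, hpw⟩
    refine ⟨(connected_iff_idem _).mpr ⟨?_, fun e he => ?_⟩, hpw⟩
    · refine ⟨⟨0, 1, fun h => ?_⟩⟩
      have hn := ((connected_iff_idem _).mp (hpw p₀)).1
      exact zero_ne_one (congrFun (congrArg Subtype.val h) ⟨p₀, trivial⟩)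
    · have key : ∀ a b : X.pt, Relation.EqvGen (fun a b : X.pt => a ≤ b) a b →
          (e.1 ⟨a, trivial⟩ = 0 ↔ e.1 ⟨b, trivial⟩ = 0) := by
        intro a b hab
        induction hab with
        | rel a b h => exact idem_propagate hpw e he (q := ⟨a, trivial⟩) (q' := ⟨b, trivial⟩) h
        | refl a => exact Iff.rfl
        | symm a b _ ih => exact ih.symm
        | trans a b c _ _ i₁ i₂ => exact i₁.trans i₂
      by_cases h0 : e.1 ⟨p₀, trivial⟩ = 0
      · left
        exact Subtype.ext (funext fun z => (key p₀ z.1 (htop _ _)).mp h0)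
      · right
        refine Subtype.ext (funext fun z => ?_)
        rcases ((connected_iff_idem _).mp (hpw z.1)).2 _ (congrFun (congrArg Subtype.val he) z) with h | h
        · exact absurd ((key p₀ z.1 (htop _ _)).mpr h) h0
        · exact h

/-- Compatible algebra maps of split algebras are induced by one map of index sets. -/
theorem exists_map (hX : X.IsWellConnected) (F E : Type) [Finite F] [Finite E]
    (f : ∀ p : X.pt, (F → X.ring p) →ₐ[X.ring p] (E → X.ring p))
    (hf : ∀ (p q : X.pt) (h : p ≤ q) (g : F → X.ring p) (e : E),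
      X.res h (f p g e) = f q (fun i => X.res h (g i)) e) :
    ∃ φ : E → F, ∀ (p : X.pt) (g : F → X.ring p) (e : E), f p g e = g (φ e) := by
  classical
  have := Fintype.ofFinite F
  obtain ⟨⟨⟨p₀⟩, htop⟩, hpw⟩ := isWellConnected_iff.mp hX
  let δ : ∀ (p : X.pt), E → F → X.ring p := fun p e i => f p (Pi.single i 1) e
  have hidem : ∀ p e i, IsIdempotentElem (δ p e i) := by
    intro p e i
    change f p _ e * f p _ e = _
    rw [← Pi.mul_apply, ← map_mul]
    simp [← Pi.single_mul, δ]
  have hsum : ∀ p e, ∑ i, δ p e i = 1 := by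
    intro p e
    change ∑ i, f p (Pi.single i 1) e = 1
    rw [← Finset.sum_apply, ← map_sum, Finset.univ_sum_single (fun _ : F => (1 : X.ring p))]
    exact congrFun (map_one (f p)) e
  have horth : ∀ p e i j, i ≠ j → δ p e i * δ p e j = 0 := by
    intro p e i j hij
    change f p _ e * f p _ e = _
    rw [← Pi.mul_apply, ← map_mul]
    have : (Pi.single i (1 : X.ring p) : F → X.ring p) * Pi.single j 1 = 0 := by
      ext k
      rcases eq_or_ne k i with rfl | hk
      · simp [hij]
      · simp [hk]
    simp [this]
  have hone : ∀ p e, ∃ i, δ p e i = 1 := by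
    intro p e
    by_contra h
    push Not at h
    have hn := ((connected_iff_idem _).mp (hpw p)).1
    refine one_ne_zero (α := X.ring p) ?_
    rw [← hsum p e]
    exact Finset.sum_eq_zero fun i _ =>
      (((connected_iff_idem _).mp (hpw p)).2 _ (hidem p e i)).resolve_right (h i)
  choose φ hφ using hone
  have heval : ∀ p g e, f p g e = g (φ p e) := by
    intro p g e
    have hg : g = ∑ i, g i • (Pi.single i (1 : X.ring p) : F → X.ring p) := by
      conv_lhs => rw [← Finset.univ_sum_single g]
      refine Finset.sum_congr rfl fun i _ => ?_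
      ext k
      rcases eq_or_ne k i with rfl | hk <;> simp [*]
    conv_lhs => rw [hg]
    simp only [map_sum, map_smul, Finset.sum_apply, Pi.smul_apply, smul_eq_mul]
    rw [Finset.sum_eq_single (φ p e) _ (by simp)]
    · change g (φ p e) * δ p e (φ p e) = _
      rw [hφ, mul_one]
    · intro i _ hi
      change g i * δ p e i = 0
      have := horth p e i (φ p e) hi
      rw [hφ, mul_one] at this
      rw [this, mul_zero]
  have hcompat : ∀ p q (h : p ≤ q) e, φ p e = φ q e := by
    intro p q h e
    have hn := ((connected_iff_idem _).mp (hpw q)).1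
    have := hf p q h (Pi.single (φ p e) 1) e
    rw [heval, heval] at this
    simp only [Pi.single_eq_same, map_one] at this
    by_contra hne
    rw [Pi.single_eq_of_ne (Ne.symm hne), map_zero] at this
    exact one_ne_zero this
  refine ⟨φ p₀, fun p g e => ?_⟩
  rw [heval]
  congr 1
  have : ∀ a b : X.pt, Relation.EqvGen (fun a b : X.pt => a ≤ b) a b → φ a e = φ b e := by
    intro a b hab
    induction hab with
    | rel a b h => exact hcompat a b h e
    | refl a => rfl
    | symm a b _ ih => exact ih.symm
    | trans a b c _ _ i₁ i₂ => exact i₁.trans i₂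
  exact this p p₀ (htop _ _)

end Groth.Agent.H21.SchConn
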