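import Groth.Agent.H21.SchCat
import Groth.Agent.H21.SchConn

set_option autoImplicit false
set_option linter.unusedSectionVars false

open TensorProduct CategoryTheory CategoryTheory.Limits SchFin

universe u

namespace Groth.Agent.H21.SchCut

open Groth.Agent.H21 Groth.Agent.H21.SchCat

variable {X : RSpace.{u}}

theorem eq_of_span_eq {R : Type*} [CommRing R] {a b : R} (ha : IsIdempotentElem a) (hb : IsIdempotentElem b)
    (h : Ideal.span {a} = Ideal.span {b}) : a = b := by
  obtain ⟨r, hr⟩ := Ideal.mem_span_singleton'.mp (h.le (Ideal.subset_span rfl) : a ∈ Ideal.span {b})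
  obtain ⟨s, hs⟩ := Ideal.mem_span_singleton'.mp (h.ge (Ideal.subset_span rfl) : b ∈ Ideal.span {a})
  have h1 : a * b = a := by rw [← hr, mul_assoc, hb.eq]
  have h2 : b * a = b := by rw [← hs, mul_assoc, ha.eq]
  rw [← h1, mul_comm, h2]

/-- An idempotent of a cover: a compatible family. -/
structure Idem (A : FEt X) : Type u where
  /-- value at a point -/
  val : ∀ p, A.obj.carrier p
  idem : ∀ p, IsIdempotentElem (val p)
  compat : ∀ {p q : X.pt} (h : p ≤ q), A.obj.res h (val p) = val q

/-- complementary idempotent -/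
def Idem.compl {A : FEt X} (e : Idem A) : Idem A where
  val p := 1 - e.val p
  idem p := (e.idem p).one_sub
  compat h := by rw [map_sub, map_one, e.compat]

variable {A : FEt X} (e : Idem A)

theorem span_le_comap {p q : X.pt} (h : p ≤ q) :
    Ideal.span {e.val p} ≤ (Ideal.span {e.val q}).comap (A.obj.res h) := by
  rw [Ideal.span_le, Set.singleton_subset_iff]
  change A.obj.res h (e.val p) ∈ Ideal.span {e.val q}
  rw [e.compat]; exact Ideal.subset_span rfl

/-- restriction of the quotient -/
noncomputable def cutRes {p q : X.pt} (h : p ≤ q) :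
    (A.obj.carrier p ⧸ Ideal.span {e.val p}) →+* (A.obj.carrier q ⧸ Ideal.span {e.val q}) :=
  Ideal.quotientMap (Ideal.span {e.val q}) (A.obj.res h) (span_le_comap e h)

theorem cutRes_mk {p q : X.pt} (h : p ≤ q) (b : A.obj.carrier p) :
    cutRes e h (Ideal.Quotient.mk _ b) = Ideal.Quotient.mk _ (A.obj.res h b) := Ideal.quotientMap_mk

/-- quotient algebra -/
noncomputable def cutAlg : Alg X where
  carrier p := A.obj.carrier p ⧸ Ideal.span {e.val p}
  instRing _ := inferInstance
  instAlg _ := inferInstance
  res h := cutRes e h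
  res_algebraMap {p q} h a := by
    change cutRes e h (Ideal.Quotient.mk _ (algebraMap (X.ring p) (A.obj.carrier p) a)) =
      Ideal.Quotient.mk _ (algebraMap (X.ring q) (A.obj.carrier q) (X.res h a))
    rw [cutRes_mk, A.obj.res_algebraMap]
  res_self p b := by
    obtain ⟨b, rfl⟩ := Ideal.Quotient.mk_surjective b
    rw [cutRes_mk, A.obj.res_self]
  res_comp h h' b := by
    obtain ⟨b, rfl⟩ := Ideal.Quotient.mk_surjective b
    simp only [cutRes_mk, A.obj.res_comp]

theorem cutAlg_qcoh : (cutAlg e).IsQcoh := by
  refine (qcoh_iff _).mpr fun p q h => ?_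
  let : Algebra (X.ring p) (X.ring q) := (X.res h).toAlgebra
  let π : A.obj ⟶ cutAlg e :=
    ⟨fun p => Ideal.Quotient.mkₐ (X.ring p) (Ideal.span {e.val p}), fun h b => cutRes_mk e h b⟩
  let s₀ : A.obj.carrier p →ₗ[X.ring p] A.obj.carrier p := LinearMap.mulLeft (X.ring p) (1 - e.val p)
  let I : Submodule (X.ring p) (A.obj.carrier p) := (Ideal.span {e.val p}).restrictScalars (X.ring p)
  have hI : I ≤ LinearMap.ker s₀ := by
    intro x hx
    obtain ⟨r, rfl⟩ := Ideal.mem_span_singleton'.mp (show x ∈ Ideal.span {e.val p} from hx)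
    change (1 - e.val p) * (r * e.val p) = 0
    rw [mul_comm r, ← mul_assoc, sub_mul, one_mul, (e.idem p).eq, sub_self, zero_mul]
  let s : (A.obj.carrier p ⧸ Ideal.span {e.val p}) →ₗ[X.ring p] A.obj.carrier p :=
    (Submodule.liftQ I s₀ hI).comp (Submodule.Quotient.restrictScalarsEquiv (X.ring p) (Ideal.span {e.val p})).symm.toLinearMap
  have hs : ∀ a, s (Ideal.Quotient.mk _ a) = (1 - e.val p) * a := fun a => rfl
  have hsec : ∀ x, Algebra.TensorProduct.map (AlgHom.id (X.ring q) (X.ring q)) (π.app p)
      (LinearMap.lTensor (X.ring q) s x) = x := by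
    intro x
    induction x using TensorProduct.induction_on with
    | zero => simp only [map_zero]; rfl
    | tmul r z =>
      obtain ⟨a, rfl⟩ := Ideal.Quotient.mk_surjective z
      rw [LinearMap.lTensor_tmul, Algebra.TensorProduct.map_tmul, hs]
      refine congrArg (fun w => r ⊗ₜ[X.ring p] w) ?_
      change Ideal.Quotient.mk _ ((1 - e.val p) * a) = Ideal.Quotient.mk _ a
      rw [Ideal.Quotient.eq, Ideal.mem_span_singleton']
      exact ⟨-a, by ring⟩
    | add a b ha hb =>
      rw [map_add]
      exact (map_add _ _ _).trans (congrArg₂ (· + ·) ha hb)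
  have hann : ∀ x, e.val q * bcHom A.obj h (LinearMap.lTensor (X.ring q) s x) = 0 := by
    intro x
    induction x using TensorProduct.induction_on with
    | zero => rw [map_zero, map_zero, mul_zero]
    | tmul r z =>
      obtain ⟨a, rfl⟩ := Ideal.Quotient.mk_surjective z
      rw [LinearMap.lTensor_tmul, hs, bcHom_tmul, map_mul, map_sub, map_one, e.compat,
        mul_left_comm, ← mul_assoc (e.val q), mul_sub, mul_one, (e.idem q).eq, sub_self, zero_mul,
        mul_zero]
    | add s t hs ht => rw [map_add, map_add, mul_add, hs, ht, add_zero]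
  refine ⟨(injective_iff_map_eq_zero _).mpr fun x hx => ?_, fun z => ?_⟩
  · have h1 := bcHom_natural π h (LinearMap.lTensor (X.ring q) s x)
    rw [hsec, hx] at h1
    obtain ⟨c, hc⟩ := Ideal.mem_span_singleton'.mp
      (Ideal.Quotient.eq_zero_iff_mem.mp h1.symm)
    have h2 : bcHom A.obj h (LinearMap.lTensor (X.ring q) s x) = 0 := by
      have h3 := hann x
      rw [← hc, mul_left_comm, (e.idem q).eq, hc] at h3
      exact h3
    rw [← hsec x, (injective_iff_map_eq_zero _).mp (bij A h).1 _ h2, map_zero]
  · obtain ⟨a, rfl⟩ := Ideal.Quotient.mk_surjective z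
    obtain ⟨t, rfl⟩ := (bij A h).2 a
    exact ⟨_, bcHom_natural π h t⟩

/-- quotient cover -/
noncomputable def cut : FEt X :=
  ⟨cutAlg e, cutAlg_qcoh e, fun p => by
    have := (A.property.2 p).1
    have := (A.property.2 p).2
    exact (FinEtale.quotient_etale_finite (R := X.ring p) (e.idem p)).symm⟩

/-- quotient map -/
noncomputable def proj : A ⟶ cut e :=
  mkHom (fun p => Ideal.Quotient.mkₐ (X.ring p) (Ideal.span {e.val p})) fun h b => cutRes_mk e h b

theorem proj_surjective (p : X.pt) : Function.Surjective ((proj e).hom.app p) :=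
  Ideal.Quotient.mk_surjective

theorem exists_kerIdem (hX : X.IsSchematic) {B : FEt X} (f : A ⟶ B) :
    ∃ e : Idem A, ∀ p, RingHom.ker (f.hom.app p) = Ideal.span {e.val p} := by
  have hk : ∀ p, ∃ e : A.obj.carrier p, IsIdempotentElem e ∧
      RingHom.ker (f.hom.app p) = Ideal.span {e} := fun p => by
    have := (A.property.2 p).1
    have := (A.property.2 p).2
    have := (B.property.2 p).1
    have := (B.property.2 p).2
    exact FinEtale.exists_idem_ker (f.hom.app p)
  choose v hv hker using hk
  have hmem : ∀ {p q : X.pt} (h : p ≤ q), f.hom.app q (A.obj.res h (v p)) = 0 := fun {p q} h => by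
    rw [← f.hom.compat, show f.hom.app p (v p) = 0 from (hker p).ge (Ideal.subset_span rfl), map_zero]
  refine ⟨⟨v, hv, fun {p q} h => eq_of_span_eq ((hv p).map _) (hv q) (le_antisymm ?_ ?_)⟩, hker⟩
  · rw [Ideal.span_singleton_le_iff_mem, ← hker]
    exact hmem h
  · rw [← hker]
    intro x hx
    let : Algebra (X.ring p) (X.ring q) := (X.res h).toAlgebra
    have : Module.Flat (X.ring p) (X.ring q) := SchBase.flat_res hX h
    obtain ⟨t, rfl⟩ := (bij A h).2 x
    let fl := (f.hom.app p).toLinearMap
    have hz : LinearMap.lTensor (X.ring q) fl t = 0 := by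
      have h1 : f.hom.app q (bcHom A.obj h t) = 0 := hx
      rw [← bcHom_natural f.hom h t, ← map_zero (bcHom B.obj h)] at h1
      have h2 := (bij B h).1 h1
      have h3 : ∀ t, LinearMap.lTensor (X.ring q) fl t =
          Algebra.TensorProduct.map (AlgHom.id (X.ring q) (X.ring q)) (f.hom.app p) t := by
        intro t
        induction t using TensorProduct.induction_on with
        | zero => rw [map_zero, map_zero]
        | tmul r a => rfl
        | add s t hs ht => rw [map_add, map_add, hs, ht]
      rw [h3, h2]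
    have hex : Function.Exact (LinearMap.ker fl).subtype fl := LinearMap.exact_subtype_ker_map fl
    obtain ⟨w, rfl⟩ := ((Module.Flat.lTensor_exact (X.ring q) hex) t).mp hz
    clear hx hz
    induction w using TensorProduct.induction_on with
    | zero => rw [map_zero, map_zero]; exact zero_mem _
    | tmul r a =>
      rw [LinearMap.lTensor_tmul, bcHom_tmul]
      obtain ⟨c, hc⟩ := Ideal.mem_span_singleton'.mp ((hker p).le a.2)
      rw [show (LinearMap.ker fl).subtype a = c * v p from hc.symm, map_mul, ← mul_assoc]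
      exact Ideal.mul_mem_left _ _ (Ideal.subset_span rfl)
    | add s t hs ht => rw [map_add, map_add]; exact add_mem hs ht

/-- factor through the cut -/
noncomputable def descend {B : FEt X} (f : A ⟶ B) (he : ∀ p, f.hom.app p (e.val p) = 0) : cut e ⟶ B :=
  mkHom (fun p => Ideal.Quotient.liftₐ _ (f.hom.app p) fun x hx => by
    obtain ⟨c, rfl⟩ := Ideal.mem_span_singleton'.mp hx
    rw [map_mul, he, mul_zero])
    fun {p q} h b => by
      obtain ⟨b, rfl⟩ := Ideal.Quotient.mk_surjective b
      exact f.hom.compat h b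

theorem exists_factor (hX : X.IsSchematic) {B : FEt X} (f : A ⟶ B) :
    ∃ (Q : FEt X) (g : A ⟶ Q) (h : Q ⟶ B), g ≫ h = f ∧
      (∀ p : X.pt, Function.Surjective (g.hom.app p)) ∧ ∀ p : X.pt, Function.Injective (h.hom.app p) := by
  obtain ⟨e, he⟩ := exists_kerIdem hX f
  refine ⟨cut e, proj e, descend e f fun p => (he p).ge (Ideal.subset_span rfl),
    fet_ext fun p x => rfl, proj_surjective e, fun p => (injective_iff_map_eq_zero _).mpr fun x hx => ?_⟩
  obtain ⟨a, rfl⟩ := Ideal.Quotient.mk_surjective x
  exact Ideal.Quotient.eq_zero_iff_mem.mpr ((he p).le hx)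

theorem mono_injective (hX : X.IsSchematic) {B : FEt X} (f : A ⟶ B) [Mono f] (p : X.pt) :
    Function.Injective (f.hom.app p) := by
  obtain ⟨e, he⟩ := exists_kerIdem hX f
  let fam : Bool → FEt X := fun b => cond b A (cut e.compl)
  let u : SchCat.piObj fam ⟶ A := piProj fam true
  let s : ∀ p, (cut e.compl).obj.carrier p → A.obj.carrier p := fun p =>
    Quotient.lift (fun a => e.val p * a) fun a b hab => by
      obtain ⟨c, hc⟩ := Ideal.mem_span_singleton'.mp ((Submodule.quotientRel_def _).mp hab)
      change c * (1 - e.val p) = a - b at hc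
      have : e.val p * (a - b) = 0 := by
        rw [← hc, mul_left_comm, mul_sub, mul_one, (e.idem p).eq, sub_self, mul_zero]
      exact sub_eq_zero.mp (by rw [← mul_sub, this])
  have hs : ∀ p a, s p (Ideal.Quotient.mk _ a) = e.val p * a := fun p a => rfl
  have hid := fun p => (e.idem p).eq
  let v : SchCat.piObj fam ⟶ A := mkHom (fun p => AlgHom.mk
    { toFun := fun x => (1 - e.val p) * (u.hom.app p x) + s p (x false)
      map_one' := by
        change (1 - e.val p) * 1 + s p (Ideal.Quotient.mk _ 1) = 1
        rw [hs]; ring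
      map_zero' := by
        change (1 - e.val p) * 0 + s p (Ideal.Quotient.mk _ 0) = 0
        rw [hs]; ring
      map_add' := fun x y => by
        obtain ⟨a, ha⟩ := Ideal.Quotient.mk_surjective (x false)
        obtain ⟨b, hb⟩ := Ideal.Quotient.mk_surjective (y false)
        change (1 - e.val p) * ((u.hom.app p x) + (u.hom.app p y)) + s p (x false + y false) = _
        rw [← ha, ← hb]
        exact (congrArg (fun z => (1 - e.val p) * ((u.hom.app p x) + (u.hom.app p y)) + z) (hs p (a + b))).trans (by
          rw [hs, hs]; ring)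
      map_mul' := fun x y => by
        obtain ⟨a, ha⟩ := Ideal.Quotient.mk_surjective (x false)
        obtain ⟨b, hb⟩ := Ideal.Quotient.mk_surjective (y false)
        change (1 - e.val p) * ((u.hom.app p x) * (u.hom.app p y)) + s p (x false * y false) = _
        rw [← ha, ← hb]
        refine (congrArg (fun z => (1 - e.val p) * ((u.hom.app p x) * (u.hom.app p y)) + z) (hs p (a * b))).trans ?_
        rw [hs, hs]
        linear_combination ((u.hom.app p x) * b + a * (u.hom.app p y)
          - a * b - (u.hom.app p x) * (u.hom.app p y)) * hid p }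
    fun r => by
      change (1 - e.val p) * algebraMap _ _ r + s p (Ideal.Quotient.mk _ (algebraMap _ _ r)) = algebraMap _ _ r
      rw [hs]; ring)
    fun {p q} h x => by
      obtain ⟨a, ha⟩ := Ideal.Quotient.mk_surjective (x false)
      change A.obj.res h ((1 - e.val p) * (u.hom.app p x) + s p (x false)) =
        (1 - e.val q) * A.obj.res h ((u.hom.app p x)) + s q ((cutAlg e.compl).res h (x false))
      rw [← ha]
      refine Eq.trans ?_ (congrArg _ ((congrArg (s q) (cutRes_mk e.compl h a)).trans (hs q (A.obj.res h a)))).symm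
      rw [hs, map_add, map_mul, map_mul, map_sub, map_one, e.compat]
  have huv : u ≫ f = v ≫ f := fet_ext fun p x => by
    have h0 : f.hom.app p (e.val p) = 0 := (he p).ge (Ideal.subset_span rfl)
    obtain ⟨a, ha⟩ := Ideal.Quotient.mk_surjective (x false)
    change f.hom.app p ((u.hom.app p x)) = f.hom.app p ((1 - e.val p) * (u.hom.app p x) + s p (x false))
    rw [← ha, hs, map_add, map_mul, map_mul, map_sub, map_one, h0]
    ring
  have h := congrArg (fun k : SchCat.piObj fam ⟶ A =>
    k.hom.app p (fun b => match b with | true => 1 | false => (0 : (cut e.compl).obj.carrier p)))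
    ((cancel_mono f).mp huv)
  have h' : (1 : A.obj.carrier p) = (1 - e.val p) * 1 + s p (Ideal.Quotient.mk _ 0) := h
  have hez : e.val p = 0 := by
    rw [hs] at h'
    linear_combination h'
  rw [injective_iff_map_eq_zero]
  intro x hx
  have := (he p).le hx
  rw [hez, Ideal.span_singleton_zero, Ideal.mem_bot] at this
  exact this

theorem exists_isLimit_binaryFan (hX : X.IsSchematic) {B : FEt X} (f : A ⟶ B)
    (hf : ∀ p : X.pt, Function.Surjective (f.hom.app p)) :
    ∃ (D : FEt X) (π : A ⟶ D), Nonempty (IsLimit (BinaryFan.mk f π)) := by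
  obtain ⟨e, he⟩ := exists_kerIdem hX f
  refine ⟨cut e.compl, proj e.compl, ⟨?_⟩⟩
  have h0 : ∀ p, f.hom.app p (e.val p) = 0 := fun p => (he p).ge (Ideal.subset_span rfl)
  have hbij : ∀ p, Function.Bijective ((f.hom.app p).prod ((proj e.compl).hom.app p)) := by
    intro p
    constructor
    · refine (injective_iff_map_eq_zero _).mpr fun x hx => ?_
      have h1 : f.hom.app p x = 0 := congrArg Prod.fst hx
      have h2 : x ∈ Ideal.span {1 - e.val p} := Ideal.Quotient.eq_zero_iff_mem.mp (congrArg Prod.snd hx)
      obtain ⟨c, rfl⟩ := Ideal.mem_span_singleton'.mp h2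
      obtain ⟨d, hd⟩ := Ideal.mem_span_singleton'.mp ((he p).le h1)
      calc c * (1 - e.val p) = c * (1 - e.val p) * (1 - e.val p) := by
            rw [mul_assoc, (e.idem p).one_sub.eq]
        _ = 0 := by rw [← hd, mul_assoc, mul_sub, mul_one, (e.idem p).eq, sub_self, mul_zero]
    · rintro ⟨b, z⟩
      obtain ⟨a, rfl⟩ := hf p b
      obtain ⟨a', rfl⟩ := Ideal.Quotient.mk_surjective z
      refine ⟨(1 - e.val p) * a + e.val p * a', Prod.ext ?_ ?_⟩
      · change f.hom.app p _ = f.hom.app p a
        rw [map_add, map_mul, map_mul, map_sub, map_one, h0]; ring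
      · change Ideal.Quotient.mk _ _ = Ideal.Quotient.mk _ a'
        rw [Ideal.Quotient.eq, Ideal.mem_span_singleton']
        exact ⟨a - a', by change (a - a') * (1 - e.val p) = _; ring⟩
  refine BinaryFan.IsLimit.mk _ (fun {T} u v => mkHom (fun p =>
    (AlgEquiv.ofBijective _ (hbij p)).symm.toAlgHom.comp ((u.hom.app p).prod (v.hom.app p)))
    (fun {p q} h t => (hbij q).1 ?_)) (fun {T} u v => fet_ext fun p t => ?_)
    (fun {T} u v => fet_ext fun p t => ?_) (fun {T} u v m hu hv => fet_ext fun p t => (hbij p).1 ?_)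
  · refine Eq.trans ?_ ((AlgEquiv.ofBijective _ (hbij q)).apply_symm_apply _).symm
    refine Prod.ext ?_ ?_
    · change f.hom.app q (A.obj.res h _) = u.hom.app q (T.obj.res h t)
      rw [← f.hom.compat, ← u.hom.compat]
      exact congrArg (B.obj.res h) (congrArg Prod.fst
        ((AlgEquiv.ofBijective _ (hbij p)).apply_symm_apply (u.hom.app p t, v.hom.app p t)))
    · change (proj e.compl).hom.app q (A.obj.res h _) = v.hom.app q (T.obj.res h t)
      rw [← (proj e.compl).hom.compat, ← v.hom.compat]
      exact congrArg ((cut e.compl).obj.res h) (congrArg Prod.snd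
        ((AlgEquiv.ofBijective _ (hbij p)).apply_symm_apply (u.hom.app p t, v.hom.app p t)))
  · exact congrArg Prod.fst ((AlgEquiv.ofBijective _ (hbij p)).apply_symm_apply (u.hom.app p t, v.hom.app p t))
  · exact congrArg Prod.snd ((AlgEquiv.ofBijective _ (hbij p)).apply_symm_apply (u.hom.app p t, v.hom.app p t))
  · refine Eq.trans ?_ ((AlgEquiv.ofBijective _ (hbij p)).apply_symm_apply _).symm
    exact Prod.ext (congrArg (fun k : T ⟶ B => k.hom.app p t) hu)
      (congrArg (fun k : T ⟶ cut e.compl => k.hom.app p t) hv)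

/-! ### Injective maps and ranks -/

theorem isIso_of_injective_of_rank {B : FEt X} (f : A ⟶ B) (hf : ∀ p : X.pt, Function.Injective (f.hom.app p))
    (hdeg : ∀ (p : X.pt) (P : PrimeSpectrum (X.ring p)),
      Module.rankAtStalk (A.obj.carrier p) P = Module.rankAtStalk (B.obj.carrier p) P) :
    IsIso f :=
  SchCat.isIso_of_bijective f fun p => by
    have := (A.property.2 p).1
    have := (A.property.2 p).2
    have := (B.property.2 p).1
    have := (B.property.2 p).2
    exact FinEtale.bijective_of_injective_of_rankAtStalk_eq (f.hom.app p) (hf p) (hdeg p)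

end Groth.Agent.H21.SchCut
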