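import Groth.Agent.H21.SchFixed
import Mathlib.CategoryTheory.Limits.Preserves.Shapes.Terminal
import Mathlib.CategoryTheory.Limits.Preserves.Shapes.Pullbacks
import Mathlib.CategoryTheory.Limits.Preserves.Shapes.Products
import Mathlib.CategoryTheory.Limits.Preserves.Finite
import Mathlib.CategoryTheory.Galois.Basic

set_option autoImplicit false
set_option linter.unusedSectionVars false

open TensorProduct CategoryTheory CategoryTheory.Limits SchFin

universe u

namespace Groth.Agent.H21.SchFib

open Groth.Agent.H21 Groth.Agent.H21.SchCat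

variable {X : RSpace.{u}} {Ω : Type u} [Field Ω] [IsAlgClosed Ω] (ξ : GeomPt X Ω)

/-- Points of a cover over a geometric point. -/
def Pts (A : FEt X) : Type u :=
  {φ : A.obj.carrier ξ.base →+* Ω // ∀ r, φ (algebraMap (X.ring ξ.base) _ r) = ξ.toField r}

/-- pullback of points -/
noncomputable def ptsMap {A B : FEt X} (f : A ⟶ B) (φ : Pts ξ B) : Pts ξ A :=
  ⟨φ.1.comp (f.hom.app ξ.base).toRingHom, fun r => (congrArg φ.1 ((f.hom.app ξ.base).commutes r)).trans (φ.2 r)⟩

/-- the algebra map of a point -/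
def ptsAlgHom {A : FEt X} (φ : Pts ξ A) :
    letI : Algebra (X.ring ξ.base) Ω := ξ.toField.toAlgebra
    A.obj.carrier ξ.base →ₐ[X.ring ξ.base] Ω :=
  letI : Algebra (X.ring ξ.base) Ω := ξ.toField.toAlgebra
  AlgHom.mk φ.1 φ.2

/-- the prime of a point -/
noncomputable def toFib {A : FEt X} (φ : Pts ξ A) : ξ.Fib A.obj :=
  letI : Algebra (X.ring ξ.base) Ω := ξ.toField.toAlgebra
  (⟨RingHom.ker (Algebra.TensorProduct.lift (Algebra.ofId Ω Ω) (ptsAlgHom ξ φ) fun _ _ => Commute.all _ _).toRingHom,
    RingHom.ker_isPrime _⟩ : PrimeSpectrum (Ω ⊗[X.ring ξ.base] A.obj.carrier ξ.base))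

theorem toFib_bijective (A : FEt X) : Function.Bijective (toFib ξ : Pts ξ A → ξ.Fib A.obj) := by
  let : Algebra (X.ring ξ.base) Ω := ξ.toField.toAlgebra
  have := (A.property.2 ξ.base).1
  have := (A.property.2 ξ.base).2
  let e₁ : Pts ξ A ≃ (A.obj.carrier ξ.base →ₐ[X.ring ξ.base] Ω) :=
    { toFun := ptsAlgHom ξ
      invFun := fun ψ => ⟨ψ.toRingHom, ψ.commutes⟩
      left_inv := fun _ => rfl
      right_inv := fun _ => rfl }
  have : (toFib ξ : Pts ξ A → ξ.Fib A.obj) =
      ⇑(e₁.trans (FinEtale.fibEquiv (X.ring ξ.base) (A.obj.carrier ξ.base) Ω)) := by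
    funext φ
    exact PrimeSpectrum.ext (Ideal.ext fun t => Iff.rfl)
  rw [this]
  exact Equiv.bijective _

theorem fibMap_toFib {A B : FEt X} (f : A ⟶ B) (φ : Pts ξ B) :
    ξ.fibMap f.hom (toFib ξ φ) = toFib ξ (ptsMap ξ f φ) := by
  let : Algebra (X.ring ξ.base) Ω := ξ.toField.toAlgebra
  refine PrimeSpectrum.ext (Ideal.ext fun t => ?_)
  let L := (Algebra.TensorProduct.lift (Algebra.ofId Ω Ω) (ptsAlgHom ξ φ) fun _ _ => Commute.all _ _).comp
      (Algebra.TensorProduct.map (AlgHom.id Ω Ω) (f.hom.app ξ.base))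
  let M := Algebra.TensorProduct.lift (Algebra.ofId Ω Ω) (ptsAlgHom ξ (ptsMap ξ f φ)) fun _ _ => Commute.all _ _
  have hLM : ∀ t, L t = M t := by
    intro t
    induction t using TensorProduct.induction_on with
    | zero => simp only [map_zero]
    | tmul a b => rfl
    | add a b ha hb => simp only [map_add, ha, hb]
  change L t = 0 ↔ M t = 0
  rw [hLM]

theorem exists_toFib (A : FEt X) (x : ξ.Fib A.obj) : ∃ φ : Pts ξ A, toFib ξ φ = x :=
  (toFib_bijective ξ A).2 x

theorem ptsMap_surjective_of_injective {A B : FEt X} (f : A ⟶ B)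
    (hf : Function.Injective (f.hom.app ξ.base)) : Function.Surjective (ptsMap ξ f) := by
  intro φ
  have := (A.property.2 ξ.base).1
  have := (B.property.2 ξ.base).1
  let : Algebra (A.obj.carrier ξ.base) (B.obj.carrier ξ.base) := (f.hom.app ξ.base).toRingHom.toAlgebra
  have : IsScalarTower (X.ring ξ.base) (A.obj.carrier ξ.base) (B.obj.carrier ξ.base) :=
    IsScalarTower.of_algebraMap_eq fun r => ((f.hom.app ξ.base).commutes r).symm
  have : Module.Finite (A.obj.carrier ξ.base) (B.obj.carrier ξ.base) :=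
    Module.Finite.of_restrictScalars_finite (X.ring ξ.base) _ _
  have : FaithfulSMul (A.obj.carrier ξ.base) (B.obj.carrier ξ.base) :=
    (faithfulSMul_iff_algebraMap_injective _ _).mpr hf
  let P : PrimeSpectrum (A.obj.carrier ξ.base) := ⟨RingHom.ker φ.1, RingHom.ker_isPrime _⟩
  obtain ⟨Q, hQ⟩ := Algebra.IsIntegral.comap_surjective (R := A.obj.carrier ξ.base)
    (S := B.obj.carrier ξ.base) P
  let kA := A.obj.carrier ξ.base ⧸ P.asIdeal
  let kB := B.obj.carrier ξ.base ⧸ Q.asIdeal
  let : Algebra kA Ω := (Ideal.Quotient.lift P.asIdeal φ.1 fun a ha => ha).toAlgebra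
  let : Algebra kA kB := (Ideal.quotientMap Q.asIdeal (f.hom.app ξ.base).toRingHom
    (congrArg PrimeSpectrum.asIdeal hQ).ge).toAlgebra
  have : IsScalarTower (A.obj.carrier ξ.base) kA kB := IsScalarTower.of_algebraMap_eq fun _ => rfl
  have : Algebra.IsIntegral kA kB := Algebra.IsIntegral.tower_top (R := A.obj.carrier ξ.base)
  have := P.2
  have := Q.2
  have : IsDomain kA := Ideal.Quotient.isDomain _
  have : IsDomain kB := Ideal.Quotient.isDomain _
  have hAΩ : Function.Injective (algebraMap kA Ω) := (injective_iff_map_eq_zero _).mpr fun x hx => by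
    obtain ⟨a, rfl⟩ := Ideal.Quotient.mk_surjective x
    exact Ideal.Quotient.eq_zero_iff_mem.mpr hx
  have hAB : Function.Injective (algebraMap kA kB) :=
    Ideal.quotientMap_injective' (congrArg PrimeSpectrum.asIdeal hQ).le
  have : Module.IsTorsionFree kA Ω :=
    haveI : FaithfulSMul kA Ω := (faithfulSMul_iff_algebraMap_injective _ _).mpr hAΩ
    inferInstance
  have : Module.IsTorsionFree kA kB :=
    haveI : FaithfulSMul kA kB := (faithfulSMul_iff_algebraMap_injective _ _).mpr hAB
    inferInstance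
  have : Algebra.IsAlgebraic kA kB := Algebra.IsIntegral.isAlgebraic
  let ψ : kB →ₐ[kA] Ω := IsAlgClosed.lift
  refine ⟨⟨ψ.toRingHom.comp (Ideal.Quotient.mk _), fun r => ?_⟩, Subtype.ext (RingHom.ext fun a => ?_)⟩
  · rw [← φ.2 r, ← (f.hom.app ξ.base).commutes r]
    exact ψ.commutes (Ideal.Quotient.mk _ (algebraMap (X.ring ξ.base) _ r))
  · exact ψ.commutes (Ideal.Quotient.mk _ a)

theorem fibMap_surjective_of_injective {A B : FEt X} (f : A ⟶ B)
    (hf : Function.Injective (f.hom.app ξ.base)) : Function.Surjective (ξ.fibMap f.hom) := by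
  intro x
  obtain ⟨φ, rfl⟩ := exists_toFib ξ A x
  obtain ⟨ψ, rfl⟩ := ptsMap_surjective_of_injective ξ f hf φ
  exact ⟨toFib ξ ψ, fibMap_toFib ξ f ψ⟩

/-! ### Preservation -/

theorem preserves_terminal : PreservesLimitsOfShape (Discrete PEmpty.{1}) ξ.fibFunctor := by
  have hu : ∀ φ ψ : Pts ξ (str X), φ = ψ := fun φ ψ =>
    Subtype.ext (RingHom.ext fun r => (φ.2 r).trans (ψ.2 r).symm)
  let φ₀ : Pts ξ (str X) := ⟨ξ.toField, fun r => rfl⟩
  have hss : ∀ x : ξ.Fib (str X).obj, x = toFib ξ φ₀ := fun x => by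
    obtain ⟨φ, rfl⟩ := exists_toFib ξ (str X) x
    rw [hu φ φ₀]
  have ht : IsTerminal (ξ.fibFunctor.obj (Opposite.op (str X))) :=
    IsTerminal.ofUniqueHom (fun T => FintypeCat.homMk fun _ => toFib ξ φ₀)
      fun T m => FintypeCat.hom_ext _ _ fun t => hss _
  have : PreservesLimit (Functor.empty.{0} (FEt X)ᵒᵖ) ξ.fibFunctor :=
    preservesLimit_of_preserves_limit_cone (terminalOpOfInitial (strIsInitial X))
      ((isLimitMapConeEmptyConeEquiv ξ.fibFunctor _).symm ht)
  exact preservesLimitsOfShape_pempty_of_preservesTerminal _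

theorem pullback_bijective {A B C : FEt X} (f : A ⟶ B) (g : A ⟶ C) (u : ξ.Fib B.obj) (v : ξ.Fib C.obj)
    (h : ξ.fibMap f.hom u = ξ.fibMap g.hom v) :
    ∃! w : ξ.Fib (tensorObj f g).obj,
      ξ.fibMap (tensorInl f g).hom w = u ∧ ξ.fibMap (tensorInr f g).hom w = v := by
  obtain ⟨φ, rfl⟩ := exists_toFib ξ B u
  obtain ⟨ψ, rfl⟩ := exists_toFib ξ C v
  rw [fibMap_toFib, fibMap_toFib] at h
  have hφψ := (toFib_bijective ξ A).1 h
  let χ : Pts ξ (tensorObj f g) := ⟨tdesc f g φ.1 ψ.1 fun a =>
      congrArg (fun θ : Pts ξ A => θ.1 a) hφψ,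
    fun r => (tdesc_inl f g _ _ _ _).trans (φ.2 r)⟩
  refine ⟨toFib ξ χ, ⟨?_, ?_⟩, ?_⟩
  · rw [fibMap_toFib]
    exact congrArg _ (Subtype.ext (RingHom.ext fun b => tdesc_inl f g _ _ (fun a =>
      congrArg (fun θ : Pts ξ A => θ.1 a) hφψ) b))
  · rw [fibMap_toFib]
    exact congrArg _ (Subtype.ext (RingHom.ext fun c => tdesc_inr f g _ _ (fun a =>
      congrArg (fun θ : Pts ξ A => θ.1 a) hφψ) c))
  · rintro w ⟨h1, h2⟩
    obtain ⟨θ, rfl⟩ := exists_toFib ξ _ w
    rw [fibMap_toFib] at h1 h2
    have e1 := (toFib_bijective ξ B).1 h1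
    have e2 := (toFib_bijective ξ C).1 h2
    refine congrArg _ (Subtype.ext (tcar_hom_ext f g (fun b => ?_) fun c => ?_))
    · exact (congrArg (fun θ : Pts ξ B => θ.1 b) e1).trans (tdesc_inl f g _ _ (fun a =>
        congrArg (fun θ : Pts ξ A => θ.1 a) hφψ) b).symm
    · exact (congrArg (fun θ : Pts ξ C => θ.1 c) e2).trans (tdesc_inr f g _ _ (fun a =>
        congrArg (fun θ : Pts ξ A => θ.1 a) hφψ) c).symm

theorem preserves_pullbacks : PreservesLimitsOfShape WalkingCospan ξ.fibFunctor := by
  constructor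
  intro K
  let f := (K.map WalkingCospan.Hom.inl).unop
  let g := (K.map WalkingCospan.Hom.inr).unop
  have hex : ∀ u v, ξ.fibFunctor.map f.op u = ξ.fibFunctor.map g.op v →
      ∃! w : ξ.fibFunctor.obj (Opposite.op (tensorObj f g)),
        ξ.fibFunctor.map (tensorInl f g).op w = u ∧ ξ.fibFunctor.map (tensorInr f g).op w = v :=
    fun u v h => pullback_bijective ξ f g u v h
  have hF : ξ.fibFunctor.map (tensorInl f g).op ≫ ξ.fibFunctor.map f.op =
      ξ.fibFunctor.map (tensorInr f g).op ≫ ξ.fibFunctor.map g.op := by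
    rw [← Functor.map_comp, ← Functor.map_comp, ← op_comp, ← op_comp, tensor_w]
  have hlim : IsLimit (PullbackCone.mk _ _ hF) :=
    PullbackCone.IsLimit.mk hF
      (fun s => FintypeCat.homMk fun x => (hex (s.fst x) (s.snd x)
        (congrArg (fun k => (ConcreteCategory.hom k) x) s.condition)).choose)
      (fun s => FintypeCat.hom_ext _ _ fun x => (hex (s.fst x) (s.snd x)
        (congrArg (fun k => (ConcreteCategory.hom k) x) s.condition)).choose_spec.1.1)
      (fun s => FintypeCat.hom_ext _ _ fun x => (hex (s.fst x) (s.snd x)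
        (congrArg (fun k => (ConcreteCategory.hom k) x) s.condition)).choose_spec.1.2)
      (fun s m h1 h2 => FintypeCat.hom_ext _ _ fun x => (hex (s.fst x) (s.snd x)
        (congrArg (fun k => (ConcreteCategory.hom k) x) s.condition)).choose_spec.2 (m x)
          ⟨congrArg (fun k => (ConcreteCategory.hom k) x) h1, congrArg (fun k => (ConcreteCategory.hom k) x) h2⟩)
  have : PreservesLimit (cospan f.op g.op) ξ.fibFunctor :=
    preservesLimit_of_preserves_limit_cone (isPushout_tensor f g).op.flip.isLimit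
      ((isLimitMapConePullbackConeEquiv ξ.fibFunctor (isPushout_tensor f g).op.flip.w).symm hlim)
  have : PreservesLimit (cospan (K.map WalkingCospan.Hom.inl) (K.map WalkingCospan.Hom.inr)) ξ.fibFunctor := this
  exact preservesLimit_of_iso_diagram _ (diagramIsoCospan K).symm

theorem coproduct_bijective {ι : Type} [Finite ι] (A : ι → FEt X) (x : ξ.Fib (SchCat.piObj A).obj) :
    ∃! s : Σ i, ξ.Fib (A i).obj, ξ.fibMap (piProj A s.1).hom s.2 = x := by
  classical
  have := Fintype.ofFinite ι
  obtain ⟨φ, rfl⟩ := exists_toFib ξ _ x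
  let δ : ι → (SchCat.piObj A).obj.carrier ξ.base := fun i =>
    Pi.single (M := fun j => (A j).obj.carrier ξ.base) i 1
  have hmul : ∀ (i : ι) (x : (SchCat.piObj A).obj.carrier ξ.base),
      δ i * x = Pi.single (M := fun j => (A j).obj.carrier ξ.base) i (x i) := by
    intro i x
    funext j
    change δ i j * x j = _
    rcases eq_or_ne j i with rfl | hj
    · simp [δ]
    · simp [δ, hj]
  have hsum : φ.1 (∑ i, δ i) = 1 := by
    rw [show ∑ i, δ i = 1 from Finset.univ_sum_single _, map_one]
  obtain ⟨i, hi⟩ : ∃ i, φ.1 (δ i) ≠ 0 := by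
    by_contra h
    push Not at h
    rw [map_sum, Finset.sum_eq_zero fun i _ => h i] at hsum
    exact zero_ne_one hsum
  have hi1 : φ.1 (δ i) = 1 := by
    have : φ.1 (δ i) * φ.1 (δ i) = φ.1 (δ i) * 1 := by
      rw [← map_mul, mul_one, hmul]
      simp [δ]
    exact mul_left_cancel₀ hi this
  have hfac : ∀ x, φ.1 x = φ.1 (Pi.single (M := fun j => (A j).obj.carrier ξ.base) i (x i)) := fun x => by
    rw [← hmul, map_mul, hi1, one_mul]
  let ψ : Pts ξ (A i) := ⟨
    { toFun := fun a => φ.1 (Pi.single (M := fun j => (A j).obj.carrier ξ.base) i a)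
      map_one' := hi1
      map_mul' := fun a b => by rw [Pi.single_mul, ← map_mul]; rfl
      map_zero' := by rw [Pi.single_zero]; exact map_zero φ.1
      map_add' := fun a b => by rw [Pi.single_add, ← map_add]; rfl },
    fun r => (hfac (algebraMap _ _ r)).symm.trans (φ.2 r)⟩
  refine ⟨⟨i, toFib ξ ψ⟩, ?_, ?_⟩
  · change ξ.fibMap _ (toFib ξ ψ) = _
    rw [fibMap_toFib]
    exact congrArg _ (Subtype.ext (RingHom.ext fun x => (hfac x).symm))
  · rintro ⟨j, y⟩ hy
    obtain ⟨θ, rfl⟩ := exists_toFib ξ _ y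
    change ξ.fibMap _ (toFib ξ θ) = _ at hy
    rw [fibMap_toFib] at hy
    have e := (toFib_bijective ξ _).1 hy
    obtain rfl : j = i := by
      by_contra hne
      have h0 := congrArg (fun η : Pts ξ (SchCat.piObj A) => η.1 (δ i)) e
      change θ.1 (δ i j) = φ.1 (δ i) at h0
      rw [hi1, show δ i j = 0 from Pi.single_eq_of_ne hne 1, map_zero] at h0
      exact zero_ne_one h0
    refine Sigma.ext rfl (heq_of_eq (congrArg (toFib ξ) (Subtype.ext (RingHom.ext fun a => ?_))))
    have h0 := congrArg (fun η : Pts ξ (SchCat.piObj A) =>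
      η.1 (Pi.single (M := fun k => (A k).obj.carrier ξ.base) j a)) e
    change θ.1 (Pi.single (M := fun k => (A k).obj.carrier ξ.base) j a j) = _ at h0
    rw [Pi.single_eq_same] at h0
    exact h0

/-- the cofan in the opposite category -/
noncomputable def opCofanIsColimit {ι : Type} [Finite ι] (A : ι → FEt X) :
    IsColimit (Cofan.mk (Opposite.op (SchCat.piObj A)) fun i => (piProj A i).op :
      Cofan fun i => Opposite.op (A i)) :=
  mkCofanColimit _ (fun s => (piLift fun i => (s.inj i).unop).op)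
    (fun s i => Quiver.Hom.unop_inj (fet_ext fun p x => rfl))
    (fun s m hm => Quiver.Hom.unop_inj (fet_ext fun p x => funext fun i =>
      congrArg (fun k : s.pt.unop ⟶ A i => k.hom.app p x) (congrArg Quiver.Hom.unop (hm i))))

theorem hasFiniteCoproducts_op : HasFiniteCoproducts (FEt X)ᵒᵖ :=
  ⟨fun n => ⟨fun K =>
    haveI : HasColimit (Discrete.functor (K.obj ∘ Discrete.mk)) :=
      ⟨⟨⟨_, opCofanIsColimit fun i => (K.obj ⟨i⟩).unop⟩⟩⟩
    hasColimit_of_iso (Discrete.natIsoFunctor (F := K))⟩⟩

theorem preserves_coproducts : PreservesFiniteCoproducts ξ.fibFunctor := by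
  refine ⟨fun n => ⟨fun {K} => ?_⟩⟩
  let A : Fin n → FEt X := fun i => (K.obj ⟨i⟩).unop
  have hex : ∀ x : ξ.fibFunctor.obj (Opposite.op (SchCat.piObj A)),
      ∃! s : Σ i, ξ.fibFunctor.obj (Opposite.op (A i)), ξ.fibFunctor.map (piProj A s.1).op s.2 = x :=
    coproduct_bijective ξ A
  have hcol : IsColimit (Cofan.mk (ξ.fibFunctor.obj (Opposite.op (SchCat.piObj A))) fun i =>
      ξ.fibFunctor.map (piProj A i).op : Cofan fun i => ξ.fibFunctor.obj (Opposite.op (A i))) :=
    mkCofanColimit _ (fun s => FintypeCat.homMk fun x => s.inj (hex x).choose.1 (hex x).choose.2)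
      (fun s i => FintypeCat.hom_ext _ _ fun y => by
        have h := (hex (ξ.fibFunctor.map (piProj A i).op y)).choose_spec.2 ⟨i, y⟩ rfl
        exact (congrArg (fun t : Σ i, ξ.fibFunctor.obj (Opposite.op (A i)) => s.inj t.1 t.2) h).symm)
      (fun s m hm => FintypeCat.hom_ext _ _ fun x => by
        change m x = s.inj (hex x).choose.1 (hex x).choose.2
        rw [← hm (hex x).choose.1]
        exact congrArg m (hex x).choose_spec.1.symm)
  have : PreservesColimit (Discrete.functor fun i => Opposite.op (A i)) ξ.fibFunctor :=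
    preservesColimit_of_preserves_colimit_cocone (opCofanIsColimit A)
      ((isColimitMapCoconeCofanMkEquiv ξ.fibFunctor _ _).symm hcol)
  have : PreservesColimit (Discrete.functor (K.obj ∘ Discrete.mk)) ξ.fibFunctor := this
  exact preservesColimit_of_iso_diagram _ (Discrete.natIsoFunctor (F := K)).symm

theorem preserves_epi (hX : X.IsSchematic) : ξ.fibFunctor.PreservesEpimorphisms := by
  refine ⟨fun {A B} f _ => ?_⟩
  have : Mono f.unop := inferInstance
  have hinj := SchCut.mono_injective hX f.unop ξ.base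
  exact ConcreteCategory.epi_of_surjective _ (fibMap_surjective_of_injective ξ f.unop hinj)

/-! ### Ranks and reflection of isomorphisms -/

/-- rank of a cover at a pair -/
noncomputable def rankAt (A : FEt X) (p : X.pt) (P : PrimeSpectrum (X.ring p)) : ℕ :=
  Module.rankAtStalk (A.obj.carrier p) P

theorem rank_const (hX : X.IsSchematic) (hwc : X.IsWellConnected) (A : FEt X) :
    ∀ p q (P : PrimeSpectrum (X.ring p)) (Q : PrimeSpectrum (X.ring q)), rankAt A p P = rankAt A q Q := by
  obtain ⟨⟨-, htop⟩, hpw⟩ := SchConn.isWellConnected_iff.mp hwc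
  have hpt : ∀ p (P P' : PrimeSpectrum (X.ring p)), rankAt A p P = rankAt A p P' := fun p P P' => by
    have := (A.property.2 p).1
    have := (A.property.2 p).2
    have := Module.FinitePresentation.of_finite_of_finitePresentation (X.ring p) (A.obj.carrier p)
    have := hpw p
    exact (Module.isLocallyConstant_rankAtStalk (R := X.ring p)
      (M := A.obj.carrier p)).apply_eq_of_preconnectedSpace P P'
  have hle : ∀ p q, p ≤ q → ∀ P Q, rankAt A p P = rankAt A q Q := fun p q h P Q => by
    let : Algebra (X.ring p) (X.ring q) := (X.res h).toAlgebra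
    have := (A.property.2 p).1
    have := (A.property.2 p).2
    have e : rankAt A q Q = Module.rankAtStalk (R := X.ring q) (X.ring q ⊗[X.ring p] A.obj.carrier p) Q :=
      (congrFun (Module.rankAtStalk_eq_of_equiv
        (AlgEquiv.ofBijective (bcHom A.obj h) (bij A h)).toLinearEquiv) Q).symm
    rw [e, Module.rankAtStalk_baseChange]
    exact hpt _ _ _
  intro p q P Q
  have : ∀ a b : X.pt, Relation.EqvGen (fun a b : X.pt => a ≤ b) a b →
      ∀ P Q, rankAt A a P = rankAt A b Q := by
    intro a b hab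
    induction hab with
    | rel a b h => exact hle a b h
    | refl a => exact hpt a
    | symm a b _ ih => exact fun P Q => (ih Q P).symm
    | trans a b c _ _ i₁ i₂ =>
      intro P Q
      obtain ⟨R⟩ := (hpw b).toNonempty
      exact (i₁ P R).trans (i₂ R Q)
  exact this p q (htop p q) P Q

theorem card_pts (hX : X.IsSchematic) (hwc : X.IsWellConnected) (A : FEt X) (p : X.pt)
    (P : PrimeSpectrum (X.ring p)) : Nat.card (Pts ξ A) = rankAt A p P := by
  let : Algebra (X.ring ξ.base) Ω := ξ.toField.toAlgebra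
  have := (A.property.2 ξ.base).1
  have := (A.property.2 ξ.base).2
  rw [Nat.card_congr ({ toFun := ptsAlgHom ξ, invFun := fun ψ => ⟨ψ.toRingHom, ψ.commutes⟩,
                        left_inv := fun _ => rfl, right_inv := fun _ => rfl } :
      Pts ξ A ≃ (A.obj.carrier ξ.base →ₐ[X.ring ξ.base] Ω)), FinEtale.card_algHom]
  exact rank_const hX hwc A _ _ _ _

theorem isIso_of_fibMap_bijective (hX : X.IsSchematic) (hwc : X.IsWellConnected) {A B : FEt X}
    (f : A ⟶ B) (hf : Function.Bijective (ξ.fibMap f.hom)) : IsIso f := by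
  have hbij : Function.Bijective (ptsMap ξ f) := by
    constructor
    · intro a b hab
      refine (toFib_bijective ξ B).1 (hf.1 ?_)
      rw [fibMap_toFib, fibMap_toFib, hab]
    · intro a
      obtain ⟨y, hy⟩ := hf.2 (toFib ξ a)
      obtain ⟨b, rfl⟩ := exists_toFib ξ B y
      rw [fibMap_toFib] at hy
      exact ⟨b, (toFib_bijective ξ A).1 hy⟩
  obtain ⟨e, he⟩ := SchCut.exists_kerIdem hX f
  refine SchCut.isIso_of_injective_of_rank f (fun p => ?_) fun p P => ?_
  · let D := SchCut.cut e.compl
    have hempty : IsEmpty (Pts ξ D) := ⟨fun θ => by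
      obtain ⟨b, hb⟩ := hbij.2 (ptsMap ξ (SchCut.proj e.compl) θ)
      have h1 : (ptsMap ξ f b).1 (e.val ξ.base) = 0 :=
        (congrArg b.1 (show f.hom.app ξ.base (e.val ξ.base) = 0 from (he _).ge (Ideal.subset_span rfl))).trans
          (map_zero b.1)
      rw [hb] at h1
      have h2 : θ.1 (Ideal.Quotient.mk _ (1 - e.val ξ.base)) = 0 := by
        have h0 : Ideal.Quotient.mk (Ideal.span {e.compl.val ξ.base}) (1 - e.val ξ.base) = 0 :=
          Ideal.Quotient.eq_zero_iff_mem.mpr (Ideal.subset_span rfl)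
        exact (congrArg θ.1 h0).trans (map_zero θ.1)
      have h3 : θ.1 (Ideal.Quotient.mk _ (e.val ξ.base)) = 0 := h1
      have h4 : θ.1 1 = θ.1 (Ideal.Quotient.mk _ (1 - e.val ξ.base)) + θ.1 (Ideal.Quotient.mk _ (e.val ξ.base)) := by
        refine (congrArg θ.1 ?_).trans (map_add θ.1 _ _)
        change Ideal.Quotient.mk _ (1 : A.obj.carrier ξ.base) = _
        exact (congrArg _ (sub_add_cancel (1 : A.obj.carrier ξ.base) (e.val ξ.base)).symm).trans (map_add _ _ _)
      rw [h2, h3, add_zero, map_one] at h4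
      exact one_ne_zero h4⟩
    have := (D.property.2 p).1
    have := (D.property.2 p).2
    have := Module.FinitePresentation.of_finite_of_finitePresentation (X.ring p) (D.obj.carrier p)
    have hD : Subsingleton (D.obj.carrier p) :=
      Module.rankAtStalk_eq_zero_iff_subsingleton.mp (funext fun P =>
        ((card_pts ξ hX hwc D p P).symm.trans (Nat.card_eq_zero.mpr (Or.inl hempty)) :))
    have h1 : (1 : A.obj.carrier p) ∈ Ideal.span {1 - e.val p} :=
      Ideal.Quotient.eq_zero_iff_mem.mp (hD.elim _ _)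
    obtain ⟨c, hc⟩ := Ideal.mem_span_singleton'.mp h1
    have hez : e.val p = 0 := by
      calc e.val p = (c * (1 - e.val p)) * e.val p := by rw [hc, one_mul]
        _ = 0 := by rw [mul_assoc, sub_mul, one_mul, (e.idem p).eq, sub_self, mul_zero]
    rw [injective_iff_map_eq_zero]
    intro x hx
    have := (he p).le hx
    rw [hez, Ideal.span_singleton_zero, Ideal.mem_bot] at this
    exact this
  · change rankAt A p P = rankAt B p P
    rw [← card_pts ξ hX hwc, ← card_pts ξ hX hwc]
    exact (Nat.card_congr (Equiv.ofBijective _ hbij)).symm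

theorem reflects_iso (hX : X.IsSchematic) (hwc : X.IsWellConnected) : ξ.fibFunctor.ReflectsIsomorphisms := by
  refine ⟨fun {A B} f _ => ?_⟩
  have hb : Function.Bijective (ξ.fibMap f.unop.hom) :=
    ConcreteCategory.bijective_of_isIso (ξ.fibFunctor.map f)
  have : IsIso f.unop := isIso_of_fibMap_bijective ξ hX hwc f.unop hb
  exact (inferInstance : IsIso f.unop.op)

/-! ### Quotients by finite groups -/

variable (hX : X.IsSchematic) (hlt : SchFixed.LocTriv X) {H : Type u} [Group H] [Finite H]

/-- action on the unopposed object -/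
noncomputable def opAct (K : SingleObj H ⥤ (FEt X)ᵒᵖ) (p : X.pt) :
    H →* ((K.obj (SingleObj.star H)).unop.obj.carrier p →ₐ[X.ring p] (K.obj (SingleObj.star H)).unop.obj.carrier p) where
  toFun g := (K.map (X := SingleObj.star H) (Y := SingleObj.star H) g⁻¹).unop.hom.app p
  map_one' := by
    apply AlgHom.ext; intro x
    rw [inv_one, ← SingleObj.id_as_one, K.map_id]
    rfl
  map_mul' g g' := by
    apply AlgHom.ext; intro x
    have h := K.map_comp (X := SingleObj.star H) (Y := SingleObj.star H) (Z := SingleObj.star H) g⁻¹ g'⁻¹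
    rw [SingleObj.comp_as_mul, ← mul_inv_rev] at h
    rw [h]
    rfl

theorem opAct_compat (K : SingleObj H ⥤ (FEt X)ᵒᵖ) {p q : X.pt} (h : p ≤ q) (g : H)
    (a : (K.obj (SingleObj.star H)).unop.obj.carrier p) :
    (K.obj (SingleObj.star H)).unop.obj.res h (opAct K p g a) =
      opAct K q g ((K.obj (SingleObj.star H)).unop.obj.res h a) :=
  (K.map (X := SingleObj.star H) (Y := SingleObj.star H) g⁻¹).unop.hom.compat h a

/-- the quotient cocone -/
noncomputable def opCocone (K : SingleObj H ⥤ (FEt X)ᵒᵖ) : Cocone K where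
  pt := Opposite.op (SchFixed.fixedObj (opAct K) (opAct_compat K) hX hlt)
  ι :=
    { app := fun _ => (SchFixed.incl (opAct K) (opAct_compat K) hX hlt).op
      naturality := fun Y Z g => by
        refine Quiver.Hom.unop_inj (fet_ext fun p x => ?_)
        have := SchFixed.incl_fixed (opAct K) (opAct_compat K) hX hlt p g⁻¹ x
        change (K.map (X := SingleObj.star H) (Y := SingleObj.star H) (g⁻¹)⁻¹).unop.hom.app p _ = _ at this
        rw [inv_inv] at this
        exact this }

/-- it is a colimit -/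
noncomputable def opCoconeIsColimit (K : SingleObj H ⥤ (FEt X)ᵒᵖ) : IsColimit (opCocone hX hlt K) where
  desc s := (SchFixed.lift (opAct K) (opAct_compat K) hX hlt (s.ι.app (SingleObj.star H)).unop fun p g x =>
    congrArg (fun k : K.obj (SingleObj.star H) ⟶ s.pt => k.unop.hom.app p x)
      (s.w (j := SingleObj.star H) (j' := SingleObj.star H) g⁻¹)).op
  fac s j := Quiver.Hom.unop_inj (fet_ext fun p x => rfl)
  uniq s m hm := Quiver.Hom.unop_inj (fet_ext fun p x => Subtype.ext
    (congrArg (fun k : K.obj (SingleObj.star H) ⟶ s.pt => k.unop.hom.app p x) (hm (SingleObj.star H))))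

include hX hlt in
theorem preserves_quotients : PreservesColimitsOfShape (SingleObj H) ξ.fibFunctor := by
  refine ⟨fun {K} => preservesColimit_of_preserves_colimit_cocone (opCoconeIsColimit hX hlt K) ?_⟩
  let A := (K.obj (SingleObj.star H)).unop
  let π : ξ.Fib A.obj → ξ.Fib (SchFixed.fixedObj (opAct K) (opAct_compat K) hX hlt).obj :=
    ξ.fibMap (SchFixed.incl (opAct K) (opAct_compat K) hX hlt).hom
  have hsurj : Function.Surjective π :=
    fibMap_surjective_of_injective ξ _ (SchFixed.incl_injective _ _ hX hlt ξ.base)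
  have horb : ∀ x y, π x = π y → ∃ g : H,
      ξ.fibMap (K.map (X := SingleObj.star H) (Y := SingleObj.star H) g⁻¹).unop.hom x = y := by
    intro x y hxy
    obtain ⟨φ, rfl⟩ := exists_toFib ξ A x
    obtain ⟨ψ, rfl⟩ := exists_toFib ξ A y
    simp only [π, fibMap_toFib] at hxy
    have h := (toFib_bijective ξ _).1 hxy
    let σ : H →* (A.obj.carrier ξ.base →+* A.obj.carrier ξ.base) :=
      { toFun := fun g => (opAct K ξ.base g).toRingHom
        map_one' := by rw [map_one]; rfl
        map_mul' := fun g g' => by rw [map_mul]; rfl }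
    obtain ⟨γ, hγ⟩ := FixedAlg.exists_smul_eq σ φ.1 ψ.1 fun a ha =>
      congrArg (fun η : Pts ξ (SchFixed.fixedObj (opAct K) (opAct_compat K) hX hlt) =>
        η.1 ⟨a, (FixedAlg.mem_fixed _).mpr ha⟩) h
    refine ⟨γ, ?_⟩
    rw [fibMap_toFib]
    exact congrArg _ (Subtype.ext (RingHom.ext fun a => (hγ a).symm))
  have horb' : ∀ (s : Cocone (K ⋙ ξ.fibFunctor)) (x y), π x = π y →
      s.ι.app (SingleObj.star H) x = s.ι.app (SingleObj.star H) y := by
    intro s x y hxy
    obtain ⟨g, hg⟩ := horb x y hxy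
    rw [← hg]
    exact (congrArg (fun k => (ConcreteCategory.hom k) x)
      (s.w (j := SingleObj.star H) (j' := SingleObj.star H) g⁻¹)).symm
  exact
    { desc := fun s => FintypeCat.homMk fun z => s.ι.app (SingleObj.star H) (hsurj z).choose
      fac := fun s j => FintypeCat.hom_ext _ _ fun x => horb' s _ x (hsurj (π x)).choose_spec
      uniq := fun s m hm => FintypeCat.hom_ext _ _ fun z => by
        have := congrArg (fun k => (ConcreteCategory.hom k) (hsurj z).choose) (hm (SingleObj.star H))
        exact (congrArg m (hsurj z).choose_spec.symm).trans this }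

include hX hlt in
theorem exists_preGalois (hwc : X.IsWellConnected)
    (hepi : ∀ (A B : FEt X) (f : A ⟶ B), Epi f → ∀ p : X.pt, Function.Surjective (f.hom.app p)) :
    ∃ h : PreGaloisCategory (FEt X)ᵒᵖ, @PreGaloisCategory.FiberFunctor (FEt X)ᵒᵖ _ h ξ.fibFunctor := by
  have hpre : PreGaloisCategory (FEt X)ᵒᵖ :=
    { hasTerminal := (terminalOpOfInitial (strIsInitial X)).hasTerminal
      hasPullbacks :=
        haveI := SchCat.hasPushouts_fet (X := X)
        inferInstance
      hasFiniteCoproducts := hasFiniteCoproducts_op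
      hasQuotientsByFiniteGroups := fun G _ _ =>
        ⟨fun K => ⟨⟨⟨_, opCoconeIsColimit hX hlt K⟩⟩⟩⟩
      monoInducesIsoOnDirectSummand := fun {Y Z} i _ => by
        obtain ⟨D, π, ⟨hl⟩⟩ := SchCut.exists_isLimit_binaryFan hX i.unop (hepi _ _ i.unop inferInstance)
        refine ⟨Opposite.op D, π.op, ⟨BinaryCofan.IsColimit.mk _
          (fun {T} u v => (BinaryFan.IsLimit.lift' hl u.unop v.unop).1.op)
          (fun {T} u v => Quiver.Hom.unop_inj (BinaryFan.IsLimit.lift' hl u.unop v.unop).2.1)
          (fun {T} u v => Quiver.Hom.unop_inj (BinaryFan.IsLimit.lift' hl u.unop v.unop).2.2)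
          (fun {T} u v m hu hv => Quiver.Hom.unop_inj (BinaryFan.IsLimit.hom_ext hl ?_ ?_))⟩⟩
        · exact (congrArg Quiver.Hom.unop hu).trans (BinaryFan.IsLimit.lift' hl u.unop v.unop).2.1.symm
        · exact (congrArg Quiver.Hom.unop hv).trans (BinaryFan.IsLimit.lift' hl u.unop v.unop).2.2.symm }
  exact ⟨hpre,
    { preservesTerminalObjects := preserves_terminal ξ
      preservesPullbacks := preserves_pullbacks ξ
      preservesFiniteCoproducts := preserves_coproducts ξ
      preservesEpis := preserves_epi ξ hX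
      preservesQuotientsByFiniteGroups := fun G _ _ => preserves_quotients ξ hX hlt
      reflectsIsos := reflects_iso ξ hX hwc }⟩

end Groth.Agent.H21.SchFib
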