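import Groth.Agent.H21.SchCat
import Groth.Agent.H21.SchCut
import Mathlib.CategoryTheory.SingleObj

set_option autoImplicit false
set_option linter.unusedSectionVars false

open TensorProduct CategoryTheory CategoryTheory.Limits SchFin

universe u v

namespace Groth.Agent.H21.SchFixed

open Groth.Agent.H21 Groth.Agent.H21.SchCat

variable {X : RSpace.{u}}

/-- Every cover splits over a covering. -/
def LocTriv (X : RSpace.{u}) : Prop :=
  ∀ A : FEt X, ∃ (B : Alg X) (n : ℕ), B.IsCovering ∧
    ∀ p : X.pt, Nonempty (TensorProduct (X.ring p) (B.carrier p) (A.obj.carrier p) ≃ₐ[B.carrier p]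
      (Fin n → B.carrier p))

variable {A : FEt X} {G : Type v} [Group G] [Finite G]
  (σ : ∀ p, G →* (A.obj.carrier p →ₐ[X.ring p] A.obj.carrier p))
  (hσ : ∀ {p q : X.pt} (h : p ≤ q) (g : G) (a : A.obj.carrier p), A.obj.res h (σ p g a) = σ q g (A.obj.res h a))

/-- fixed algebra -/
def fixedAlg : Alg X where
  carrier p := FixedAlg.fixed (σ p)
  instRing _ := inferInstance
  instAlg _ := inferInstance
  res {p q} h := ((A.obj.res h).comp (FixedAlg.fixed (σ p)).val.toRingHom).codRestrict (FixedAlg.fixed (σ q))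
    fun x => (FixedAlg.mem_fixed (σ q)).mpr fun g => by
      change σ q g (A.obj.res h x.1) = A.obj.res h x.1
      rw [← hσ, (FixedAlg.mem_fixed (σ p)).mp x.2 g]
  res_algebraMap h a := Subtype.ext (A.obj.res_algebraMap h a)
  res_self p b := Subtype.ext (A.obj.res_self p b.1)
  res_comp h h' b := Subtype.ext (A.obj.res_comp h h' b.1)

variable (hX : X.IsSchematic) (hlt : LocTriv X)

include hX in
theorem fixedAlg_qcoh : (fixedAlg σ hσ).IsQcoh := by
  refine (qcoh_iff _).mpr fun p q h => ?_
  let : Algebra (X.ring p) (X.ring q) := (X.res h).toAlgebra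
  have : Module.Flat (X.ring p) (X.ring q) := SchBase.flat_res hX h
  obtain ⟨hinj, hfix⟩ := FixedAlg.baseChange_fixed (σ p) (X.ring q)
  let ι : fixedAlg σ hσ ⟶ A.obj := ⟨fun p => (FixedAlg.fixed (σ p)).val, fun _ _ => rfl⟩
  have hnat := bcHom_natural ι h
  have hequiv : ∀ g t, bcHom A.obj h (Algebra.TensorProduct.map (AlgHom.id (X.ring q) (X.ring q)) (σ p g) t) =
      σ q g (bcHom A.obj h t) := by
    intro g t
    induction t using TensorProduct.induction_on with
    | zero => simp only [map_zero]
    | tmul r a => rw [Algebra.TensorProduct.map_tmul, bcHom_tmul, bcHom_tmul, map_mul, AlgHom.commutes, hσ]; rfl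
    | add a b ha hb => simp only [map_add, ha, hb]
  refine ⟨(injective_iff_map_eq_zero _).mpr fun t ht => ?_, fun z => ?_⟩
  · have h1 := hnat t
    rw [ht, map_zero] at h1
    have h2 := (injective_iff_map_eq_zero _).mp (bij A h).1 _ h1
    exact (injective_iff_map_eq_zero _).mp hinj t h2
  · obtain ⟨t, ht⟩ := (bij A h).2 z.1
    have hz : ∀ g, Algebra.TensorProduct.map (AlgHom.id (X.ring q) (X.ring q)) (σ p g) t = t := fun g =>
      (bij A h).1 (by rw [hequiv, ht]; exact (FixedAlg.mem_fixed (σ q)).mp z.2 g)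
    obtain ⟨c, rfl⟩ := (hfix t).mp hz
    exact ⟨c, Subtype.ext ((hnat c).symm.trans ht)⟩

/-- fixed cover -/
noncomputable def fixedObj : FEt X :=
  ⟨fixedAlg σ hσ, fixedAlg_qcoh σ hσ hX, fun p => by
    obtain ⟨B, n, hB, hsplit⟩ := hlt A
    have := (A.property.2 p).1
    have := (A.property.2 p).2
    have := (hB.2 p).2
    obtain ⟨e⟩ := hsplit p
    exact (FixedAlg.finite_etale_fixed (σ p) e).symm⟩

/-- inclusion -/
noncomputable def incl : fixedObj σ hσ hX hlt ⟶ A := mkHom (fun p => (FixedAlg.fixed (σ p)).val) fun _ _ => rfl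

theorem incl_injective (p : X.pt) : Function.Injective ((incl σ hσ hX hlt).hom.app p) :=
  Subtype.val_injective

theorem incl_fixed (p : X.pt) (g : G) (a : (fixedObj σ hσ hX hlt).obj.carrier p) :
    σ p g ((incl σ hσ hX hlt).hom.app p a) = (incl σ hσ hX hlt).hom.app p a :=
  (FixedAlg.mem_fixed (σ p)).mp a.2 g

/-- universal property -/
noncomputable def lift {T : FEt X} (f : T ⟶ A) (hf : ∀ p g x, σ p g (f.hom.app p x) = f.hom.app p x) :
    T ⟶ fixedObj σ hσ hX hlt :=
  mkHom (fun p => (f.hom.app p).codRestrict (FixedAlg.fixed (σ p))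
    fun x => (FixedAlg.mem_fixed (σ p)).mpr fun g => hf p g x)
    fun h x => Subtype.ext (f.hom.compat h x)

section Functor

variable (H : Type u) [Group H] [Finite H]

/-- action of a functor out of a one-object category -/
def actFun (K : SingleObj H ⥤ FEt X) (p : X.pt) :
    H →* ((K.obj (SingleObj.star H)).obj.carrier p →ₐ[X.ring p] (K.obj (SingleObj.star H)).obj.carrier p) where
  toFun g := (K.map (X := SingleObj.star H) (Y := SingleObj.star H) g).hom.app p
  map_one' := by
    apply AlgHom.ext; intro x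
    rw [← SingleObj.id_as_one, K.map_id]
    rfl
  map_mul' g g' := by
    apply AlgHom.ext; intro x
    have h := K.map_comp (X := SingleObj.star H) (Y := SingleObj.star H) (Z := SingleObj.star H) g' g
    rw [SingleObj.comp_as_mul] at h
    rw [h]
    rfl

include hX hlt in
theorem hasLimitsOfShape : HasLimitsOfShape (SingleObj H) (FEt X) := by
  constructor
  intro K
  let σ := actFun H K
  have hσ : ∀ {p q : X.pt} (h : p ≤ q) (g : H) (a : (K.obj (SingleObj.star H)).obj.carrier p),
      (K.obj (SingleObj.star H)).obj.res h (σ p g a) = σ q g ((K.obj (SingleObj.star H)).obj.res h a) :=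
    fun h g a => (K.map (X := SingleObj.star H) (Y := SingleObj.star H) g).hom.compat h a
  refine ⟨⟨⟨⟨fixedObj σ hσ hX hlt, { app := fun _ => incl σ hσ hX hlt, naturality := ?_ }⟩, ?_⟩⟩⟩
  · intro Y Z g
    refine fet_ext fun p x => ?_
    exact (incl_fixed σ hσ hX hlt p g x).symm
  · exact
      { lift := fun s => lift σ hσ hX hlt (s.π.app (SingleObj.star H)) fun p g x =>
          congrArg (fun k : s.pt ⟶ K.obj (SingleObj.star H) => k.hom.app p x)
            (s.w (j := SingleObj.star H) (j' := SingleObj.star H) g)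
        fac := fun s j => fet_ext fun p x => rfl
        uniq := fun s m hm => fet_ext fun p x => Subtype.ext
          (congrArg (fun k : s.pt ⟶ K.obj (SingleObj.star H) => k.hom.app p x) (hm (SingleObj.star H))) }

end Functor

end Groth.Agent.H21.SchFixed
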