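import Groth.Prelude.Def_SchFin2
import Groth.Agent.H21.SchBase
import Groth.Agent.H21.EpiFlat
import Mathlib.RingTheory.Spectrum.Prime.RingHom
import Mathlib.RingTheory.LocalRing.ResidueField.Basic

set_option autoImplicit false

open TensorProduct SchFin

universe u

namespace Groth.Agent.H21.SchPts

open Groth.Agent.H21

variable {X : RSpace.{u}}

theorem ringHom_ext (hX : X.IsSchematic) {x y : X.pt} (h : x ≤ y)
    {T : Type u} [CommRing T] (g₁ g₂ : X.ring y →+* T) (hg : g₁.comp (X.res h) = g₂.comp (X.res h)) :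
    g₁ = g₂ := by
  let : Algebra (X.ring x) (X.ring y) := (X.res h).toAlgebra
  have := SchBase.isEpi_res hX h
  exact EpiFlat.ringHom_ext (R := X.ring x) g₁ g₂ hg

theorem comap_injective (hX : X.IsSchematic) {x y : X.pt} (h : x ≤ y) :
    Function.Injective (PrimeSpectrum.comap (X.res h)) := by
  intro P Q hPQ
  let : Algebra (X.ring x) (X.ring y) := (X.res h).toAlgebra
  have hQ := EpiFlat.bijective_residueFieldMap (X.res h) (SchBase.flat_res hX h)
    (SchBase.isEpi_res hX h) _ Q.asIdeal (congrArg PrimeSpectrum.asIdeal hPQ)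
  let eQ := RingEquiv.ofBijective _ hQ
  -- the two maps to the residue field of `P`
  have hh := ringHom_ext hX h (algebraMap (X.ring y) P.asIdeal.ResidueField)
    (((Ideal.ResidueField.map _ P.asIdeal (X.res h) rfl).comp eQ.symm.toRingHom).comp
      (algebraMap (X.ring y) Q.asIdeal.ResidueField)) (by
    ext a
    simp only [RingHom.comp_apply]
    have : eQ.symm (algebraMap (X.ring y) Q.asIdeal.ResidueField (X.res h a)) =
        algebraMap (X.ring x) _ a := by
      rw [RingEquiv.symm_apply_eq]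
      exact (Ideal.ResidueField.map_algebraMap _ _ _ _ a).symm
    exact ((congrArg _ this).trans (Ideal.ResidueField.map_algebraMap _ _ _ _ a)).symm)
  have hinj : Function.Injective ((Ideal.ResidueField.map _ P.asIdeal (X.res h) rfl).comp
      eQ.symm.toRingHom) := RingHom.injective _
  refine PrimeSpectrum.ext ?_
  rw [← Ideal.ker_algebraMap_residueField P.asIdeal, ← Ideal.ker_algebraMap_residueField Q.asIdeal,
    hh, RingHom.ker_comp_of_injective _ hinj]

/-- The faithful flatness hypothesis on wedges. -/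
def FFWedge (X : RSpace.{u}) : Prop :=
  ∀ s a b : X.pt, s ≤ a → s ≤ b → (X.up a ∩ X.up b).Nonempty →
    Module.FaithfullyFlat (X.sectRing (X.up a ∩ X.up b)) ((q : ↥(X.up a ∩ X.up b)) → X.ring q.1)

theorem pairRel_of_comap_eq_comap (hX : X.IsSchematic) (hff : FFWedge X)
    {s x y : X.pt} (hx : s ≤ x) (hy : s ≤ y) (P : PrimeSpectrum (X.ring x)) (Q : PrimeSpectrum (X.ring y))
    (hPQ : PrimeSpectrum.comap (X.res hx) P = PrimeSpectrum.comap (X.res hy) Q) :
    X.PairRel ⟨x, P⟩ ⟨y, Q⟩ := by
  let : Algebra (X.ring s) (X.ring x) := (X.res hx).toAlgebra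
  let : Algebra (X.ring s) (X.ring y) := (X.res hy).toAlgebra
  obtain ⟨e, he⟩ := SchBase.exists_wedge_equiv hX hx hy
  have hne : Nonempty (PrimeSpectrum (X.ring x ⊗[X.ring s] X.ring y)) ∧
      ∃ T : PrimeSpectrum (X.ring x ⊗[X.ring s] X.ring y),
        PrimeSpectrum.comap Algebra.TensorProduct.includeLeftRingHom T = P ∧
          PrimeSpectrum.comap (Algebra.TensorProduct.includeRight (R := X.ring s)).toRingHom T = Q := by
    have key : ∃ T : PrimeSpectrum (X.ring x ⊗[X.ring s] X.ring y),
        PrimeSpectrum.comap Algebra.TensorProduct.includeLeftRingHom T = P ∧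
          PrimeSpectrum.comap (Algebra.TensorProduct.includeRight (R := X.ring s)).toRingHom T = Q := by
      -- a common field over the residue fields
      set p := P.asIdeal.comap (X.res hx) with hp
      have hq : p = Q.asIdeal.comap (X.res hy) := congrArg PrimeSpectrum.asIdeal hPQ
      let : Algebra p.ResidueField P.asIdeal.ResidueField :=
        (Ideal.ResidueField.map p P.asIdeal (X.res hx) rfl).toAlgebra
      let : Algebra p.ResidueField Q.asIdeal.ResidueField :=
        (Ideal.ResidueField.map p Q.asIdeal (X.res hy) hq).toAlgebra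
      obtain ⟨K, iK, jP, jQ, hj⟩ : ∃ (K : Type u) (_ : Field K)
          (jP : P.asIdeal.ResidueField →+* K) (jQ : Q.asIdeal.ResidueField →+* K),
          ∀ c : p.ResidueField, jP (algebraMap _ _ c) = jQ (algebraMap _ _ c) := by
        obtain ⟨M, hM⟩ :=
          Ideal.exists_maximal (P.asIdeal.ResidueField ⊗[p.ResidueField] Q.asIdeal.ResidueField)
        exact ⟨_, Ideal.Quotient.field M,
          (Ideal.Quotient.mk M).comp Algebra.TensorProduct.includeLeftRingHom,
          (Ideal.Quotient.mk M).comp (Algebra.TensorProduct.includeRight (R := p.ResidueField)).toRingHom,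
          fun c => congrArg (Ideal.Quotient.mk M)
            ((Algebra.TensorProduct.includeRight (R := p.ResidueField)
              (A := P.asIdeal.ResidueField)).commutes c).symm⟩
      let fP : X.ring x →+* K := jP.comp (algebraMap _ _)
      let fQ : X.ring y →+* K := jQ.comp (algebraMap _ _)
      let : Algebra (X.ring s) K := (fP.comp (X.res hx)).toAlgebra
      have hcomp : ∀ a, fQ (X.res hy a) = fP (X.res hx a) := by
        intro a
        simp only [fP, fQ, RingHom.comp_apply]
        rw [← Ideal.ResidueField.map_algebraMap p P.asIdeal (X.res hx) rfl,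
          ← Ideal.ResidueField.map_algebraMap p Q.asIdeal (X.res hy) hq]
        exact (hj _).symm
      let aP : X.ring x →ₐ[X.ring s] K := AlgHom.mk fP fun a => rfl
      let aQ : X.ring y →ₐ[X.ring s] K := AlgHom.mk fQ hcomp
      let Φ := Algebra.TensorProduct.lift aP aQ fun a b => Commute.all _ _
      refine ⟨⟨RingHom.ker Φ.toRingHom, RingHom.ker_isPrime _⟩, ?_, ?_⟩
      · refine PrimeSpectrum.ext ?_
        change (RingHom.ker Φ.toRingHom).comap _ = _
        rw [RingHom.comap_ker]
        have : Φ.toRingHom.comp Algebra.TensorProduct.includeLeftRingHom = fP := by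
          ext a; simp [Φ, aP]
        rw [this, RingHom.ker_comp_of_injective _ jP.injective, Ideal.ker_algebraMap_residueField]
      · refine PrimeSpectrum.ext ?_
        change (RingHom.ker Φ.toRingHom).comap _ = _
        rw [RingHom.comap_ker]
        have : Φ.toRingHom.comp (Algebra.TensorProduct.includeRight (R := X.ring s)).toRingHom = fQ := by
          ext a; simp [Φ, aQ]
        rw [this, RingHom.ker_comp_of_injective _ jQ.injective, Ideal.ker_algebraMap_residueField]
    exact ⟨⟨key.choose⟩, key⟩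
  obtain ⟨-, T, hTP, hTQ⟩ := hne
  let T' : PrimeSpectrum (X.sectRing (X.up x ∩ X.up y)) := PrimeSpectrum.comap e.symm.toRingHom T
  have hW : (X.up x ∩ X.up y).Nonempty := by
    by_contra hW
    have : IsEmpty ↥(X.up x ∩ X.up y) := ⟨fun q => hW ⟨q.1, q.2⟩⟩
    exact T'.2.ne_top (Ideal.eq_top_iff_one _ |>.mpr (by
      rw [Subsingleton.elim (1 : X.sectRing (X.up x ∩ X.up y)) 0]
      exact zero_mem _))
  have := hff s x y hx hy hW
  obtain ⟨U, hU⟩ := PrimeSpectrum.comap_surjective_of_faithfullyFlat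
    (A := X.sectRing (X.up x ∩ X.up y)) (B := (q : ↥(X.up x ∩ X.up y)) → X.ring q.1) T'
  obtain ⟨⟨q, r⟩, rfl⟩ := (PrimeSpectrum.sigmaToPiHomeo (fun q : ↥(X.up x ∩ X.up y) => X.ring q.1)).surjective U
  refine ⟨q.1, q.2.1, q.2.2, r, ?_, ?_⟩
  · rw [← hTP, show T = PrimeSpectrum.comap e.toRingHom T' from ?_, ← hU]
    · refine PrimeSpectrum.ext ?_
      ext a
      change X.res q.2.1 a ∈ r.asIdeal ↔ (e (a ⊗ₜ[X.ring s] 1)).1 q ∈ r.asIdeal
      rw [he, map_one, mul_one]
    · refine PrimeSpectrum.ext ?_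
      ext a
      change a ∈ T.asIdeal ↔ e.symm (e a) ∈ T.asIdeal
      rw [e.symm_apply_apply]
  · rw [← hTQ, show T = PrimeSpectrum.comap e.toRingHom T' from ?_, ← hU]
    · refine PrimeSpectrum.ext ?_
      ext a
      change X.res q.2.2 a ∈ r.asIdeal ↔ (e ((1 : X.ring x) ⊗ₜ[X.ring s] a)).1 q ∈ r.asIdeal
      rw [he, map_one, one_mul]
    · refine PrimeSpectrum.ext ?_
      ext a
      change a ∈ T.asIdeal ↔ e.symm (e a) ∈ T.asIdeal
      rw [e.symm_apply_apply]

theorem pairRel_refl (a : X.Pair) : X.PairRel a a :=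
  ⟨a.1, le_rfl, le_rfl, a.2, by
    refine ⟨?_, ?_⟩ <;> exact PrimeSpectrum.ext (Ideal.ext fun t => by
      change X.res (le_refl a.1) t ∈ a.2.asIdeal ↔ t ∈ a.2.asIdeal
      rw [X.res_self])⟩

theorem pairRel_symm {a b : X.Pair} (h : X.PairRel a b) : X.PairRel b a :=
  let ⟨z, hx, hy, r, h1, h2⟩ := h
  ⟨z, hy, hx, r, h2, h1⟩

theorem comap_res_trans {p q s : X.pt} (h : p ≤ q) (h' : q ≤ s) (r : PrimeSpectrum (X.ring s)) :
    PrimeSpectrum.comap (X.res h) (PrimeSpectrum.comap (X.res h') r) =
      PrimeSpectrum.comap (X.res (h.trans h')) r :=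
  PrimeSpectrum.ext (Ideal.ext fun t => by
    change X.res h' (X.res h t) ∈ r.asIdeal ↔ X.res (h.trans h') t ∈ r.asIdeal
    rw [X.res_comp])

theorem pairRel_trans (hX : X.IsSchematic) (hff : FFWedge X) {a b c : X.Pair}
    (h1 : X.PairRel a b) (h2 : X.PairRel b c) : X.PairRel a c := by
  obtain ⟨z₁, ha, hb, r₁, hra, hrb⟩ := h1
  obtain ⟨z₂, hb', hc, r₂, hrb', hrc⟩ := h2
  obtain ⟨z, h₁, h₂, r, e₁, e₂⟩ := pairRel_of_comap_eq_comap hX hff hb hb' r₁ r₂ (hrb.trans hrb'.symm)
  refine ⟨z, ha.trans h₁, hc.trans h₂, r, ?_, ?_⟩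
  · exact (comap_res_trans ha h₁ r).symm.trans ((congrArg _ e₁).trans hra)
  · exact (comap_res_trans hc h₂ r).symm.trans ((congrArg _ e₂).trans hrc)

theorem equivalence_pairRel (hX : X.IsSchematic) (hff : FFWedge X) : Equivalence X.PairRel :=
  ⟨pairRel_refl, pairRel_symm, pairRel_trans hX hff⟩

end Groth.Agent.H21.SchPts
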