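import Mathlib.RingTheory.Kaehler.JacobiZariski
import Mathlib.RingTheory.Etale.Locus
import Mathlib.RingTheory.Etale.Kaehler
import Mathlib.RingTheory.LocalRing.Module
import Mathlib.RingTheory.Ideal.Cotangent
import Mathlib.RingTheory.LocalRing.ResidueField.Ideal

/-! Étaleness along sections detected by cotangent spaces. -/

namespace Groth.Agent.H21.SectionEtale

set_option linter.style.haveILetI false

open TensorProduct

universe u

section cot

variable (A B : Type u) [CommRing A] [CommRing B] [Algebra A B] [Algebra B A] [IsScalarTower A B A]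

theorem algebraMap_algebraMap (a : A) : algebraMap B A (algebraMap A B a) = a :=
  (IsScalarTower.algebraMap_apply A B A a).symm

theorem sub_mem_ker (b : B) : b - algebraMap A B (algebraMap B A b) ∈ RingHom.ker (algebraMap B A) := by
  rw [RingHom.mem_ker, map_sub, algebraMap_algebraMap, sub_self]

theorem bijective_kerCotangentToTensor :
    Function.Bijective (KaehlerDifferential.kerCotangentToTensor A B A) := by
  have hs : Function.Surjective (algebraMap B A) := fun a => ⟨_, algebraMap_algebraMap A B a⟩
  let I := RingHom.ker (algebraMap B A)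
  let d : Derivation A B I.Cotangent :=
    Derivation.mk'
      { toFun := fun b => I.toCotangent ⟨_, sub_mem_ker A B b⟩
        map_add' := fun x y => by
          rw [← map_add]; congr 1; ext; simp; ring
        map_smul' := fun a x => by
          rw [RingHom.id_apply, ← algebraMap_smul B a (I.toCotangent ⟨_, sub_mem_ker A B x⟩), ← map_smul]
          congr 1; ext
          simp [Algebra.smul_def, algebraMap_algebraMap, mul_sub] }
      (fun x y => by
        show I.toCotangent _ = x • I.toCotangent _ + y • I.toCotangent _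
        rw [← map_smul, ← map_smul, ← map_add, Ideal.toCotangent_eq]
        have h1 := Ideal.mul_mem_mul (sub_mem_ker A B x) (sub_mem_ker A B y)
        rw [pow_two]
        simp only [Submodule.coe_add, Submodule.coe_smul_of_tower, smul_eq_mul, map_mul]
        convert! neg_mem h1 using 1
        ring)
  have hsm : ∀ (b : B) (c : I.Cotangent), algebraMap A B (algebraMap B A b) • c = b • c := by
    intro b c
    obtain ⟨x, rfl⟩ := I.toCotangent_surjective c
    rw [← map_smul, ← map_smul, Ideal.toCotangent_eq]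
    have h1 := Ideal.mul_mem_mul (sub_mem_ker A B b) x.2
    rw [pow_two]
    simp only [Submodule.coe_smul_of_tower, smul_eq_mul]
    convert! neg_mem h1 using 1
    ring
  let ψ := d.liftKaehlerDifferential
  let inv : A ⊗[B] Ω[B⁄A] →ₗ[B] I.Cotangent :=
    TensorProduct.lift (LinearMap.mk₂ B (fun a ω => algebraMap A B a • ψ ω)
      (fun a a' ω => by simp [add_smul])
      (fun b a ω => by
        rw [Algebra.smul_def, map_mul, mul_smul, hsm])
      (fun a ω ω' => by simp)
      (fun b a ω => by rw [map_smul, smul_comm]))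
  refine ⟨Function.LeftInverse.injective (g := inv) fun c => ?_, fun t => ?_⟩
  · obtain ⟨x, rfl⟩ := I.toCotangent_surjective c
    rw [KaehlerDifferential.kerCotangentToTensor_toCotangent]
    show algebraMap A B 1 • ψ (KaehlerDifferential.D A B x) = _
    rw [map_one, one_smul, Derivation.liftKaehlerDifferential_comp_D]
    show I.toCotangent _ = _
    congr 1
    ext
    simp [(RingHom.mem_ker).1 x.2]
  · haveI : Subsingleton Ω[A⁄A] :=
      KaehlerDifferential.subsingleton_of_surjective A A (fun a => ⟨a, rfl⟩)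
    exact (KaehlerDifferential.exact_kerCotangentToTensor_mapBaseChange A B A hs t).1
      (Subsingleton.elim _ _)

end cot

section main

variable (A B₁ B₂ : Type u) [CommRing A] [CommRing B₁] [CommRing B₂] [Algebra A B₁] [Algebra A B₂]
  [Algebra B₂ B₁] [IsScalarTower A B₂ B₁] [Algebra B₁ A] [IsScalarTower A B₁ A]
  [Algebra B₂ A] [IsScalarTower A B₂ A] [IsScalarTower B₂ B₁ A]

/-- The map `A ⊗ Ω[B₂⁄A] → A ⊗ Ω[B₁⁄A]`. -/
noncomputable def nu : A ⊗[B₂] Ω[B₂⁄A] →ₗ[A] A ⊗[B₁] Ω[B₁⁄A] :=
  (((TensorProduct.mk B₁ A Ω[B₁⁄A] 1).restrictScalars B₂) ∘ₗ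
    KaehlerDifferential.map A A B₂ B₁).liftBaseChange A

theorem nu_tmul_D (a : A) (b : B₂) :
    nu A B₁ B₂ (a ⊗ₜ KaehlerDifferential.D A B₂ b) =
      a ⊗ₜ KaehlerDifferential.D A B₁ (algebraMap B₂ B₁ b) := by
  rw [nu, LinearMap.liftBaseChange_tmul]
  simp [TensorProduct.smul_tmul']

theorem bijective_nu (hle : RingHom.ker (algebraMap B₂ A) ≤
      (RingHom.ker (algebraMap B₁ A)).comap (IsScalarTower.toAlgHom A B₂ B₁))
    (hcot : Function.Bijective (Ideal.mapCotangent (RingHom.ker (algebraMap B₂ A))
      (RingHom.ker (algebraMap B₁ A)) (IsScalarTower.toAlgHom A B₂ B₁) hle)) :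
    Function.Bijective (nu A B₁ B₂) := by
  have h1 := bijective_kerCotangentToTensor A B₁
  have h2 := bijective_kerCotangentToTensor A B₂
  have hcomm : nu A B₁ B₂ ∘ KaehlerDifferential.kerCotangentToTensor A B₂ A =
      KaehlerDifferential.kerCotangentToTensor A B₁ A ∘
        Ideal.mapCotangent (RingHom.ker (algebraMap B₂ A))
          (RingHom.ker (algebraMap B₁ A)) (IsScalarTower.toAlgHom A B₂ B₁) hle := by
    funext c
    obtain ⟨x, rfl⟩ := Ideal.toCotangent_surjective _ c
    show nu A B₁ B₂ (KaehlerDifferential.kerCotangentToTensor A B₂ A (Ideal.toCotangent _ x)) = _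
    rw [KaehlerDifferential.kerCotangentToTensor_toCotangent, nu_tmul_D]
    rfl
  have h := h1.comp hcot
  rw [← hcomm] at h
  exact (Function.Bijective.of_comp_iff _ h2).1 h

end main

section localized

variable {A B₁ B₂ : Type u} [CommRing A] [CommRing B₁] [CommRing B₂] [Algebra A B₁] [Algebra A B₂]
  [Algebra B₂ B₁] [IsScalarTower A B₂ B₁] [Algebra B₁ A] [IsScalarTower A B₁ A]
  [Algebra B₂ A] [IsScalarTower A B₂ A] [IsScalarTower B₂ B₁ A]

theorem bijective_lTensor (P : Ideal B₁) [P.IsPrime] (hP : RingHom.ker (algebraMap B₁ A) ≤ P)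
    (hν : Function.Bijective (nu A B₁ B₂)) :
    Function.Bijective ((KaehlerDifferential.mapBaseChange A B₂ (Localization.AtPrime P)).lTensor
      P.ResidueField) := by
  let L := Localization.AtPrime P
  let κ := P.ResidueField
  have hk : ∀ b : B₁, algebraMap B₁ κ b = algebraMap A κ (algebraMap B₁ A b) := by
    intro b
    have h := Ideal.algebraMap_residueField_eq_zero.2 (hP (sub_mem_ker A B₁ b))
    rw [map_sub, sub_eq_zero, ← IsScalarTower.algebraMap_apply A B₁ κ] at h
    exact h
  haveI : IsScalarTower B₁ A κ := IsScalarTower.of_algebraMap_eq hk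
  haveI : IsScalarTower B₂ A κ := IsScalarTower.of_algebraMap_eq fun b => by
    rw [IsScalarTower.algebraMap_apply B₂ B₁ κ, hk, ← IsScalarTower.algebraMap_apply B₂ B₁ A]
  let e₂ : κ ⊗[L] (L ⊗[B₂] Ω[B₂⁄A]) ≃ₗ[κ] κ ⊗[A] (A ⊗[B₂] Ω[B₂⁄A]) :=
    TensorProduct.AlgebraTensorModule.cancelBaseChange B₂ L κ κ Ω[B₂⁄A] ≪≫ₗ
      (TensorProduct.AlgebraTensorModule.cancelBaseChange B₂ A κ κ Ω[B₂⁄A]).symm
  let e₁ : κ ⊗[L] Ω[L⁄A] ≃ₗ[κ] κ ⊗[A] (A ⊗[B₁] Ω[B₁⁄A]) :=
    TensorProduct.AlgebraTensorModule.congr (LinearEquiv.refl κ κ)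
      (KaehlerDifferential.tensorKaehlerEquivOfFormallyEtale A B₁ L).symm ≪≫ₗ
    (TensorProduct.AlgebraTensorModule.cancelBaseChange B₁ L κ κ Ω[B₁⁄A] ≪≫ₗ
      (TensorProduct.AlgebraTensorModule.cancelBaseChange B₁ A κ κ Ω[B₁⁄A]).symm)
  haveI : Algebra.FormallyEtale B₁ L := Algebra.FormallyEtale.of_isLocalization P.primeCompl
  let μ := KaehlerDifferential.mapBaseChange A B₂ L
  have hcomm : ∀ x, e₁ (μ.lTensor κ x) = (nu A B₁ B₂).lTensor κ (e₂ x) := by
    intro x
    induction x using TensorProduct.induction_on with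
    | zero => simp
    | add x y hx hy => simp only [map_add, hx, hy]
    | tmul t y =>
      induction y using TensorProduct.induction_on with
      | zero => simp
      | add x y hx hy => simp only [tmul_add, map_add, hx, hy]
      | tmul l w =>
        have hw : w ∈ Submodule.span B₂ (Set.range (KaehlerDifferential.D A B₂)) := by
          rw [KaehlerDifferential.span_range_derivation]; exact Submodule.mem_top
        induction hw using Submodule.span_induction generalizing l with
        | mem w hw =>
          obtain ⟨b, rfl⟩ := hw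
          have hμ : μ (l ⊗ₜ KaehlerDifferential.D A B₂ b) =
              l • KaehlerDifferential.D A L (algebraMap B₁ L (algebraMap B₂ B₁ b)) := by
            simp only [μ, KaehlerDifferential.mapBaseChange_tmul, KaehlerDifferential.map_D,
              ← IsScalarTower.algebraMap_apply]
          simp only [e₁, e₂, LinearMap.lTensor_tmul, hμ, LinearEquiv.trans_apply,
            TensorProduct.AlgebraTensorModule.congr_tmul, LinearEquiv.refl_apply, map_smul,
            KaehlerDifferential.tensorKaehlerEquivOfFormallyEtale_symm_D_algebraMap,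
            TensorProduct.AlgebraTensorModule.cancelBaseChange_tmul,
            TensorProduct.AlgebraTensorModule.cancelBaseChange_symm_tmul,
            TensorProduct.smul_tmul', smul_eq_mul, mul_one, nu_tmul_D]
        | zero => simp
        | add u v _ _ hu hv => simp only [tmul_add, map_add, hu, hv]
        | smul c u _ hu => rw [← TensorProduct.smul_tmul]; exact hu _
  have hbij : Function.Bijective ((nu A B₁ B₂).lTensor κ) :=
    (LinearEquiv.lTensor κ (LinearEquiv.ofBijective _ hν)).bijective
  have h : Function.Bijective (e₁ ∘ μ.lTensor κ) := by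
    rw [show e₁ ∘ μ.lTensor κ = (nu A B₁ B₂).lTensor κ ∘ e₂ from funext hcomm]
    exact hbij.comp e₂.bijective
  exact (Function.Bijective.of_comp_iff' e₁.bijective _).1 h

end localized

theorem bijective_of_lTensor {R M N : Type u} [CommRing R] [IsLocalRing R] [AddCommGroup M] [Module R M]
    [AddCommGroup N] [Module R N] [Module.Finite R M] [Module.Finite R N] [Module.Free R N]
    (l : M →ₗ[R] N) (h : Function.Bijective (l.lTensor (IsLocalRing.ResidueField R))) :
    Function.Bijective l := by
  have hsurj : Function.Surjective l := by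
    rw [← LinearMap.range_eq_top, ← IsLocalRing.map_tensorProduct_mk_eq_top, eq_top_iff]
    intro z _
    obtain ⟨y, rfl⟩ := h.2 z
    induction y using TensorProduct.induction_on with
    | zero => simp
    | tmul c m =>
      obtain ⟨r, rfl⟩ := IsLocalRing.residue_surjective c
      refine ⟨l (r • m), ⟨_, rfl⟩, ?_⟩
      rw [LinearMap.lTensor_tmul, map_smul, TensorProduct.mk_apply, TensorProduct.tmul_smul,
        TensorProduct.smul_tmul', Algebra.smul_def, mul_one]
      rfl
    | add x y hx hy => rw [map_add]; exact add_mem (hx Submodule.mem_top) (hy Submodule.mem_top)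
  obtain ⟨l', hl'⟩ := (IsLocalRing.split_injective_iff_lTensor_residueField_injective l).2 h.1
  exact ⟨Function.LeftInverse.injective (g := l') (LinearMap.congr_fun hl'), hsurj⟩

theorem isEtaleAt {A B₁ B₂ : Type u} [CommRing A] [CommRing B₁] [CommRing B₂] [Algebra A B₁]
    [Algebra A B₂] [Algebra B₂ B₁] [IsScalarTower A B₂ B₁] [Algebra.EssFiniteType A B₁]
    [Algebra.EssFiniteType A B₂]
    [Algebra B₁ A] [IsScalarTower A B₁ A]
    [Algebra B₂ A] [IsScalarTower A B₂ A] [IsScalarTower B₂ B₁ A]
    (hle : RingHom.ker (algebraMap B₂ A) ≤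
      (RingHom.ker (algebraMap B₁ A)).comap (IsScalarTower.toAlgHom A B₂ B₁))
    (hcot : Function.Bijective (Ideal.mapCotangent (RingHom.ker (algebraMap B₂ A))
      (RingHom.ker (algebraMap B₁ A)) (IsScalarTower.toAlgHom A B₂ B₁) hle))
    (P : Ideal B₁) [P.IsPrime] (hP : RingHom.ker (algebraMap B₁ A) ≤ P)
    (hsm : Algebra.IsSmoothAt A P) : Algebra.IsEtaleAt B₂ P := by
  let L := Localization.AtPrime P
  haveI : Algebra.FormallySmooth A L := hsm
  haveI : Algebra.EssFiniteType A L := Algebra.EssFiniteType.comp A B₁ L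
  haveI : Module.Free L Ω[L⁄A] := Module.free_of_flat_of_isLocalRing
  let μ := KaehlerDifferential.mapBaseChange A B₂ L
  have hμ : Function.Bijective μ :=
    bijective_of_lTensor μ (bijective_lTensor P hP (bijective_nu A B₁ B₂ hle hcot))
  refine ⟨⟨fun u v => ?_⟩, ⟨fun u v => ?_⟩⟩
  · have hz : ∀ w : Ω[L⁄B₂], w = 0 := by
      intro w
      obtain ⟨w', rfl⟩ := KaehlerDifferential.map_surjective A B₂ L w
      obtain ⟨z, rfl⟩ := hμ.2 w'
      exact (KaehlerDifferential.exact_mapBaseChange_map A B₂ L).apply_apply_eq_zero z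
    rw [hz u, hz v]
  · have hz : ∀ w : Algebra.H1Cotangent B₂ L, w = 0 := by
      intro w
      have h1 : μ (Algebra.H1Cotangent.δ A B₂ L w) = 0 :=
        (Algebra.H1Cotangent.exact_δ_mapBaseChange A B₂ L).apply_apply_eq_zero w
      obtain ⟨y, rfl⟩ := (Algebra.H1Cotangent.exact_map_δ A B₂ L w).1 (hμ.1 (h1.trans (map_zero μ).symm))
      rw [Subsingleton.elim y 0, map_zero]
    rw [hz u, hz v]

end Groth.Agent.H21.SectionEtale
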