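import Groth.Agent.Lib.PBasis.FieldSmooth
import Mathlib.FieldTheory.SeparablyGenerated
import Mathlib.RingTheory.Smooth.Field

/-! Separably generated and geometrically reduced field extensions. -/

namespace Groth.Agent.H21.SepGen

set_option linter.style.haveILetI false

universe u

theorem exists_separatingBasis (k K : Type u) [Field k] [Field K] [Algebra k K]
    [Algebra.EssFiniteType k K] [Algebra.IsGeometricallyReduced k K] :
    ∃ s : Finset K, IsTranscendenceBasis k ((↑) : s → K) ∧
      Algebra.IsSeparable (IntermediateField.adjoin k (s : Set K)) K := by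
  obtain h0 | ⟨p, hp, hpk⟩ := CharP.exists' k
  · exact exists_isTranscendenceBasis_and_isSeparable_of_perfectField k K
  · refine exists_isTranscendenceBasis_and_isSeparable_of_linearIndepOn_pow_of_essFiniteType
      p hp.out fun s hs => ?_
    haveI := hp
    exact Groth.Agent.Lib.PBasis.MacLane.isMacLane (p := p) _ _ hs

theorem isGeometricallyReduced (k K : Type u) [Field k] [Field K] [Algebra k K] {ι : Type*}
    {x : ι → K} (hx : AlgebraicIndependent k x)
    [Algebra.IsSeparable (IntermediateField.adjoin k (Set.range x)) K] :
    Algebra.IsGeometricallyReduced k K :=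
  Groth.Agent.Lib.PBasis.FieldSmooth.formallySmooth_iff_isGeometricallyReduced.1
    (Algebra.FormallySmooth.of_algebraicIndependent_of_isSeparable hx)

end Groth.Agent.H21.SepGen

namespace Groth.Agent.H21.SepGen

universe v

theorem primeCompl_bot (S : Type v) [CommRing S] [IsDomain S] :
    (⊥ : Ideal S).primeCompl = nonZeroDivisors S := by
  ext x
  rw [mem_nonZeroDivisors_iff_ne_zero]
  simp [Ideal.primeCompl]

/-- The localization at the zero ideal is any fraction field. -/
noncomputable def atBotEquiv (S L : Type v) [CommRing S] [IsDomain S] [Field L] [Algebra S L]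
    [IsFractionRing S L] : Localization.AtPrime (⊥ : Ideal S) ≃ₐ[S] L :=
  haveI : IsLocalization (⊥ : Ideal S).primeCompl L := (primeCompl_bot S).symm ▸ inferInstance
  IsLocalization.algEquiv (⊥ : Ideal S).primeCompl _ _

end Groth.Agent.H21.SepGen
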