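import Mathlib.RingTheory.Smooth.NoetherianDescent
import Mathlib.RingTheory.Smooth.StandardSmoothOfFree
import Mathlib.RingTheory.Smooth.Flat
import Mathlib.RingTheory.Ideal.MinimalPrime.Noetherian
import Mathlib.RingTheory.Localization.Away.Basic
import Mathlib.LinearAlgebra.TensorProduct.Pi
import Mathlib.RingTheory.Adjoin.FG
import Groth.Agent.Lib.GrpSch.SmoothReduced

/-! Smooth algebras over reduced rings are reduced. -/

namespace Groth.Agent.H21.SmoothRed

set_option linter.style.haveILetI false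

open TensorProduct

universe u

theorem isReduced_of_domain (P B : Type u) [CommRing P] [IsDomain P] [CommRing B] [Algebra P B]
    [Algebra.Smooth P B] : IsReduced B := by
  obtain ⟨s, hs, h⟩ := Algebra.Smooth.exists_span_eq_top_isStandardSmooth P B
  refine ⟨fun x hx => ?_⟩
  have hann : ∀ f ∈ s, ∃ n : ℕ, f ^ n * x = 0 := by
    intro f hf
    haveI : IsReduced (Localization.Away f) :=
      Groth.Agent.Lib.GrpSch.isReduced_of_isStandardSmooth (algebraMap P (Localization.Away f))
        (RingHom.isStandardSmooth_algebraMap.2 (h f hf))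
    have h0 : algebraMap B (Localization.Away f) x = 0 :=
      (hx.map (algebraMap B (Localization.Away f))).eq_zero
    obtain ⟨⟨_, n, rfl⟩, hm⟩ :=
      (IsLocalization.map_eq_zero_iff (Submonoid.powers f) (Localization.Away f) x).1 h0
    exact ⟨n, hm⟩
  let J : Ideal B := (Ideal.span {x}).annihilator
  have hJ : ∀ b, b ∈ J ↔ b * x = 0 := fun b => by
    simp [J, Ideal.span, Submodule.mem_annihilator_span_singleton, smul_eq_mul]
  have htop : J = ⊤ := by
    rw [← Ideal.radical_eq_top, eq_top_iff, ← hs, Ideal.span_le]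
    intro f hf
    obtain ⟨n, hn⟩ := hann f hf
    exact ⟨n, (hJ _).2 hn⟩
  have := (hJ 1).1 (htop ▸ Submodule.mem_top)
  rwa [one_mul] at this

theorem eq_zero_of_noetherian (A B : Type u) [CommRing A] [IsNoetherianRing A] [IsReduced A]
    [CommRing B] [Algebra A B] [Algebra.Smooth A B] (x : B) (hx : IsNilpotent x) : x = 0 := by
  classical
  haveI : Module.Flat A B := inferInstance
  let ι := {p : Ideal A // p ∈ minimalPrimes A}
  haveI : Finite ι := (minimalPrimes.finite_of_isNoetherianRing A).to_subtype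
  cases nonempty_fintype ι
  haveI hp : ∀ i : ι, i.1.IsPrime := fun i => i.2.1.1
  let φ : A →ₗ[A] (∀ i : ι, A ⧸ i.1) := LinearMap.pi fun i => i.1.mkQ
  have hφ : Function.Injective φ := by
    rw [injective_iff_map_eq_zero]
    intro a ha
    have hmem : a ∈ sInf (⊥ : Ideal A).minimalPrimes := by
      refine (Submodule.mem_sInf).2 fun p hp => ?_
      have := congr_fun ha ⟨p, hp⟩
      exact (Submodule.Quotient.mk_eq_zero p).1 this
    rw [Ideal.sInf_minimalPrimes] at hmem
    obtain ⟨n, hn⟩ := hmem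
    exact (IsNilpotent.eq_zero ⟨n, hn⟩)
  let e := (TensorProduct.lid A B).symm x
  have he : φ.rTensor B e = 0 := by
    apply (TensorProduct.piLeft A B (fun i : ι => A ⧸ i.1)).injective
    rw [map_zero]
    funext i
    haveI : IsReduced ((A ⧸ i.1) ⊗[A] B) := isReduced_of_domain (A ⧸ i.1) _
    have h0 : (1 : A ⧸ i.1) ⊗ₜ[A] x = 0 :=
      (hx.map (Algebra.TensorProduct.includeRight : B →ₐ[A] (A ⧸ i.1) ⊗[A] B)).eq_zero
    simp only [e, TensorProduct.lid_symm_apply, LinearMap.rTensor_tmul, Pi.zero_apply,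
      TensorProduct.piLeft, LinearEquiv.trans_apply, TensorProduct.comm_tmul,
      TensorProduct.piRight_apply, TensorProduct.piRightHom_tmul,
      LinearEquiv.piCongrRight_apply]
    exact h0
  have hzero : e = 0 :=
    Module.Flat.rTensor_preserves_injective_linearMap φ hφ (he.trans (map_zero _).symm)
  exact (TensorProduct.lid A B).symm.map_eq_zero_iff.1 hzero

theorem isReduced (R S : Type u) [CommRing R] [CommRing S] [Algebra R S] [Algebra.Smooth R S]
    [IsReduced R] : IsReduced S := by
  classical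
  obtain ⟨R₀, S₀, _, _, hfg, hsm, ⟨e⟩⟩ := Algebra.Smooth.exists_subalgebra_fg (R := ℤ) (A := R) (B := S)
  refine ⟨fun z hz => ?_⟩
  obtain ⟨M, hM⟩ := TensorProduct.exists_multiset (e z)
  let R₁ : Subalgebra R₀ R := Algebra.adjoin R₀ ((M.map Prod.fst).toFinset : Set R)
  haveI : IsNoetherianRing R₀ := isNoetherianRing_of_fg hfg
  haveI : IsNoetherianRing R₁ := isNoetherianRing_of_fg (Subalgebra.fg_adjoin_finset _)
  haveI : IsReduced R₁ := isReduced_of_injective R₁.val Subtype.val_injective
  let ψ := Algebra.TensorProduct.map R₁.val (AlgHom.id R₀ S₀)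
  have hψ : Function.Injective ψ :=
    Module.Flat.rTensor_preserves_injective_linearMap (M := S₀) R₁.val.toLinearMap
      Subtype.val_injective
  have hmem : e z ∈ ψ.range := by
    rw [hM]
    refine multiset_sum_mem _ fun t ht => ?_
    obtain ⟨⟨r, b⟩, hrb, rfl⟩ := Multiset.mem_map.1 ht
    have hr : r ∈ R₁ := Algebra.subset_adjoin
      (Finset.mem_coe.2 (Multiset.mem_toFinset.2 (Multiset.mem_map.2 ⟨(r, b), hrb, rfl⟩)))
    exact ⟨(⟨r, hr⟩ : R₁) ⊗ₜ[R₀] b, by simp [ψ]⟩
  obtain ⟨y, hy⟩ := hmem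
  have hyn : IsNilpotent y := by
    obtain ⟨n, hn⟩ := hz
    refine ⟨n, hψ ?_⟩
    show ψ (y ^ n) = ψ 0
    rw [map_pow, map_zero, show ψ y = e z from hy, ← map_pow, hn, map_zero]
  haveI : Algebra.Smooth R₁ (R₁ ⊗[R₀] S₀) := inferInstance
  have := eq_zero_of_noetherian R₁ (R₁ ⊗[R₀] S₀) y hyn
  apply e.injective
  rw [map_zero, ← (show ψ y = e z from hy), this, map_zero]

end Groth.Agent.H21.SmoothRed
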