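import Mathlib.RingTheory.Etale.StandardEtale
import Mathlib.RingTheory.Unramified.LocalStructure
import Mathlib.RingTheory.Flat.FaithfullyFlat.Algebra
import Mathlib.RingTheory.Finiteness.ModuleFinitePresentation

/-! Finite flat covers refining standard étale maps. -/

set_option autoImplicit false

universe u

open TensorProduct Polynomial

namespace Groth.Agent.H21.SplitCover

theorem exists_split (R : Type u) [CommRing R] {p : R[X]} (hp : p.Monic) :
    ∃ (S : Type u) (_ : CommRing S) (_ : Algebra R S), Module.Finite R S ∧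
      Algebra.FinitePresentation R S ∧ Module.FaithfullyFlat R S ∧ (p.map (algebraMap R S)).Splits := by
  cases subsingleton_or_nontrivial R with
  | inl h =>
    exact ⟨R, inferInstance, inferInstance, inferInstance, inferInstance, inferInstance,
      by rw [Subsingleton.elim (p.map _) 0]; exact Splits.zero⟩
  | inr h =>
    obtain ⟨S, _, _, _, _, _, hS⟩ := hp.exists_splits_map
    haveI : Module.FinitePresentation R S := Module.finitePresentation_of_projective R S
    exact ⟨S, inferInstance, inferInstance, inferInstance, inferInstance, inferInstance, hS⟩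

theorem exists_split_family (R : Type u) [CommRing R] (m : ℕ) (p : Fin m → R[X]) (hp : ∀ i, (p i).Monic) :
    ∃ (S : Type u) (_ : CommRing S) (_ : Algebra R S), Module.Finite R S ∧
      Algebra.FinitePresentation R S ∧ Module.FaithfullyFlat R S ∧
      ∀ i, ((p i).map (algebraMap R S)).Splits := by
  induction m with
  | zero =>
    exact ⟨R, inferInstance, inferInstance, inferInstance, inferInstance, inferInstance,
      fun i => i.elim0⟩
  | succ m ih =>
    obtain ⟨S, _, _, hf, hfp, hff, hs⟩ := ih (fun i => p i.succ) (fun i => hp _)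
    obtain ⟨T, _, _, hf', hfp', hff', hs'⟩ := exists_split S ((hp 0).map (algebraMap R S))
    letI : Algebra R T := ((algebraMap S T).comp (algebraMap R S)).toAlgebra
    haveI : IsScalarTower R S T := IsScalarTower.of_algebraMap_eq' rfl
    refine ⟨T, inferInstance, inferInstance, Module.Finite.trans S T,
      Algebra.FinitePresentation.trans R S T, Module.FaithfullyFlat.trans R S T, fun i => ?_⟩
    rw [IsScalarTower.algebraMap_eq R S T, ← Polynomial.map_map]
    refine Fin.cases ?_ (fun j => ?_) i
    · exact hs'
    · exact (hs j).map _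

theorem exists_hom (R S S' : Type u) [CommRing R] [CommRing S] [CommRing S'] [Algebra R S]
    [Algebra R S'] (P : StandardEtalePresentation R S)
    (hs : (P.f.map (algebraMap R S')).Splits) (q : Ideal S) [q.IsPrime] (q' : Ideal S') [q'.IsPrime]
    (hqq : q'.under R = q.under R) :
    ∃ (g' : S') (_ : g' ∉ q') (φ : S →ₐ[R] Localization.Away g'),
      (q'.map (algebraMap S' (Localization.Away g'))).comap φ = q := by
  classical
  -- a field receiving both residue fields
  let p := q.under R
  haveI : q'.LiesOver p := ⟨hqq.symm⟩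
  haveI : q.LiesOver p := ⟨rfl⟩
  let ι : p.ResidueField →ₐ[R] q.ResidueField := Ideal.ResidueField.mapₐ _ _ (Algebra.ofId R S) rfl
  let ι' : p.ResidueField →ₐ[R] q'.ResidueField :=
    Ideal.ResidueField.mapₐ _ _ (Algebra.ofId R S') hqq.symm
  letI : Algebra p.ResidueField q.ResidueField := ι.toRingHom.toAlgebra
  letI : Algebra p.ResidueField q'.ResidueField := ι'.toRingHom.toAlgebra
  haveI : IsScalarTower R p.ResidueField q.ResidueField :=
    IsScalarTower.of_algebraMap_eq fun r => (ι.commutes r).symm
  haveI : IsScalarTower R p.ResidueField q'.ResidueField :=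
    IsScalarTower.of_algebraMap_eq fun r => (ι'.commutes r).symm
  let W := q'.ResidueField ⊗[p.ResidueField] q.ResidueField
  haveI : Nontrivial W := (Module.FaithfullyFlat.nontrivial_tensorProduct_iff_right _ _).mpr inferInstance
  obtain ⟨M, hM⟩ := Ideal.exists_maximal W
  letI : Field (W ⧸ M) := Ideal.Quotient.field M
  let α : S' →ₐ[R] W ⧸ M := (Ideal.Quotient.mkₐ R M).comp
    ((Algebra.TensorProduct.includeLeft (R := p.ResidueField) (S := R)).comp
      (IsScalarTower.toAlgHom R S' q'.ResidueField))
  let β : S →ₐ[R] W ⧸ M := (Ideal.Quotient.mkₐ R M).comp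
    (((Algebra.TensorProduct.includeRight (R := p.ResidueField) (A := q'.ResidueField)).restrictScalars R).comp
      (IsScalarTower.toAlgHom R S q.ResidueField))
  have hα : RingHom.ker α = q' := by
    let γ : q'.ResidueField →+* W ⧸ M :=
      (Ideal.Quotient.mk M).comp Algebra.TensorProduct.includeLeftRingHom
    ext s
    rw [RingHom.mem_ker, show α s = γ (algebraMap S' q'.ResidueField s) from rfl,
      map_eq_zero_iff γ γ.injective, Ideal.algebraMap_residueField_eq_zero]
  have hβ : RingHom.ker β = q := by
    let γ : q.ResidueField →+* W ⧸ M := (Ideal.Quotient.mk M).comp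
      (Algebra.TensorProduct.includeRight (R := p.ResidueField) (A := q'.ResidueField)).toRingHom
    ext s
    rw [RingHom.mem_ker, show β s = γ (algebraMap S q.ResidueField s) from rfl,
      map_eq_zero_iff γ γ.injective, Ideal.algebraMap_residueField_eq_zero]
  -- a root
  have hm := (P.monic_f.map (algebraMap R S'))
  obtain ⟨m₀, hmul⟩ := splits_iff_exists_multiset'.mp hs
  rw [hm.leadingCoeff, C_1, one_mul] at hmul
  let m := m₀.map (fun a => -a)
  replace hmul : P.f.map (algebraMap R S') = (m.map (X - C ·)).prod := by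
    rw [hmul, Multiset.map_map]
    simp [sub_eq_add_neg]
  have hroot : ((P.f.map (algebraMap R S')).map α.toRingHom).eval (β P.x) = 0 := by
    rw [Polynomial.map_map, AlgHom.toRingHom_eq_coe, AlgHom.comp_algebraMap, eval_map_algebraMap,
      aeval_algHom_apply, P.hasMap.1, map_zero]
  rw [hmul, Polynomial.map_multiset_prod, eval_multiset_prod, Multiset.prod_eq_zero_iff] at hroot
  simp only [Multiset.map_map, Multiset.mem_map, Function.comp_apply] at hroot
  obtain ⟨a, ha, ha'⟩ := hroot
  have hxa : β P.x = α a := by simpa [sub_eq_zero] using ha'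
  have hfa : aeval a P.f = 0 := by
    rw [← eval_map_algebraMap, hmul, eval_multiset_prod]
    exact Multiset.prod_eq_zero (Multiset.mem_map.mpr
      ⟨X - C a, Multiset.mem_map.mpr ⟨a, ha, rfl⟩, by simp⟩)
  let g' := aeval a P.g
  have hg' : g' ∉ q' := by
    rw [← hα, RingHom.mem_ker, ← aeval_algHom_apply, ← hxa, aeval_algHom_apply]
    exact (P.hasMap.2.map β).ne_zero
  have hmap : P.HasMap (algebraMap S' (Localization.Away g') a) :=
    ⟨by rw [aeval_algebraMap_apply, hfa, map_zero],
      by rw [aeval_algebraMap_apply]; exact IsLocalization.Away.algebraMap_isUnit g'⟩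
  let φ : S →ₐ[R] Localization.Away g' := (P.lift _ hmap).comp P.equivRing.toAlgHom
  refine ⟨g', hg', φ, ?_⟩
  have hu : IsUnit (α g') := isUnit_iff_ne_zero.mpr fun h => hg' (hα ▸ h)
  let α' : Localization.Away g' →ₐ[R] W ⧸ M :=
    IsLocalization.Away.liftAlgHom g' (f := α) hu
  have hα' : ∀ s, α' (algebraMap S' _ s) = α s := fun s => IsLocalization.Away.lift_eq g' (g := α.toRingHom) hu s
  have hcomp : α'.comp φ = β := by
    have h1 : (α'.comp (P.lift _ hmap)) = β.comp P.equivRing.symm.toAlgHom := by
      apply P.P.hom_ext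
      simp [hα', hxa]
    ext s
    have := DFunLike.congr_fun h1 (P.equivRing s)
    simpa [φ] using this
  have hk : q'.map (algebraMap S' (Localization.Away g')) = RingHom.ker α' := by
    have : q' = (RingHom.ker α').comap (algebraMap S' (Localization.Away g')) := by
      conv_lhs => rw [← hα]
      ext s
      simp [RingHom.mem_ker, hα']
    conv_lhs => rw [this]
    exact IsLocalization.map_comap (Submonoid.powers g') _ _
  rw [hk]
  refine Eq.trans ?_ hβ
  rw [← hcomp]
  rfl

theorem exists_cover (R S : Type u) [CommRing R] [CommRing S] [Algebra R S] [Algebra.Etale R S]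
    (hs : Function.Surjective (PrimeSpectrum.comap (algebraMap R S))) :
    ∃ (S' : Type u) (_ : CommRing S') (_ : Algebra R S'),
      Module.Finite R S' ∧ Algebra.FinitePresentation R S' ∧ Module.Flat R S' ∧
        Function.Surjective (PrimeSpectrum.comap (algebraMap R S')) ∧
        ∀ (q' : Ideal S') [q'.IsPrime], ∃ (g' : S') (_ : g' ∉ q'),
          Nonempty (S →ₐ[R] Localization.Away g') := by
  classical
  have hloc : ∀ Q : PrimeSpectrum S, ∃ f, f ∉ Q.asIdeal ∧
      Algebra.IsStandardEtale R (Localization.Away f) :=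
    fun Q => Algebra.IsEtaleAt.exists_isStandardEtale Q.asIdeal
  choose f hf hstd using hloc
  have hcov : (⋃ Q, (PrimeSpectrum.basicOpen (f Q) : Set (PrimeSpectrum S))) = Set.univ :=
    Set.eq_univ_of_forall fun Q => Set.mem_iUnion.mpr ⟨Q, hf Q⟩
  obtain ⟨t, ht⟩ := isCompact_univ.elim_finite_subcover _
    (fun Q => (PrimeSpectrum.basicOpen (f Q)).isOpen) hcov.ge
  let e := t.equivFin.symm
  have P : ∀ i, StandardEtalePresentation R (Localization.Away (f (e i))) := fun i =>
    (hstd _).nonempty_standardEtalePresentation.some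
  obtain ⟨S', _, _, hfin, hfp, hff, hsplit⟩ :=
    exists_split_family R t.card (fun i => (P i).f) (fun i => (P i).monic_f)
  refine ⟨S', inferInstance, inferInstance, hfin, hfp, inferInstance,
    PrimeSpectrum.comap_surjective_of_faithfullyFlat, fun q' hq' => ?_⟩
  obtain ⟨Q, hQ⟩ := hs ⟨q'.under R, inferInstance⟩
  obtain ⟨Q₀, hQ₀, hmem⟩ := Set.mem_iUnion₂.mp (ht (Set.mem_univ Q))
  obtain ⟨i, rfl⟩ : ∃ i, (e i : PrimeSpectrum S) = Q₀ :=
    ⟨e.symm ⟨Q₀, hQ₀⟩, by simp⟩
  have hdisj : Disjoint (Submonoid.powers (f (e i)) : Set S) Q.asIdeal :=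
    (Ideal.disjoint_powers_iff_notMem (f (e i)) Q.isPrime.isRadical).mpr hmem
  let q₁ := Q.asIdeal.map (algebraMap S (Localization.Away (f (e i))))
  haveI : q₁.IsPrime := IsLocalization.isPrime_of_isPrime_disjoint _ _ _ Q.isPrime hdisj
  have hq₁ : q'.under R = q₁.under R := by
    rw [← Ideal.under_under (B := S) q₁]
    show _ = ((q₁.comap (algebraMap S _)).comap (algebraMap R S))
    rw [show q₁.comap (algebraMap S _) = Q.asIdeal from
      IsLocalization.comap_map_of_isPrime_disjoint _ _ Q.isPrime hdisj]
    exact (congrArg PrimeSpectrum.asIdeal hQ).symm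
  obtain ⟨g', hg', φ, -⟩ := exists_hom R _ S' (P i) (hsplit i) q₁ q' hq₁
  exact ⟨g', hg', ⟨φ.comp (IsScalarTower.toAlgHom R S _)⟩⟩

end Groth.Agent.H21.SplitCover
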