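import Groth.Agent.Lib.PBasis.Cartier
import Mathlib.Algebra.Module.SnakeLemma

/-!
# Index of maps of exact sequences

If the middle maps of a map between two four-term exact sequences have finite index, so do the
outer ones, and the alternating sum of the indices vanishes.
-/

set_option autoImplicit false

universe u

namespace Groth.Agent.H21.SquareIndex

open Function LinearMap Groth.Agent.Lib.PBasis.Cartier

variable {L : Type u} [Field L]
  {A₁ B₁ C₁ A₂ B₂ C₂ : Type u} [AddCommGroup A₁] [Module L A₁] [AddCommGroup B₁] [Module L B₁]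
  [AddCommGroup C₁] [Module L C₁] [AddCommGroup A₂] [Module L A₂] [AddCommGroup B₂] [Module L B₂]
  [AddCommGroup C₂] [Module L C₂]
  {i₁ : A₁ →ₗ[L] B₁} {p₁ : B₁ →ₗ[L] C₁} {i₂ : A₂ →ₗ[L] B₂} {p₂ : B₂ →ₗ[L] C₂}
  {a : A₁ →ₗ[L] A₂} {b : B₁ →ₗ[L] B₂} {c : C₁ →ₗ[L] C₂}

theorem finite_of_exact {U V W : Type u} [AddCommGroup U] [Module L U] [AddCommGroup V]
    [Module L V] [AddCommGroup W] [Module L W] {f : U →ₗ[L] V} {g : V →ₗ[L] W} (h : Exact f g)
    [Module.Finite L U] [Module.Finite L W] : Module.Finite L V :=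
  have := isNoetherian_of_range_eq_ker f g h.linearMap_ker_eq.symm
  inferInstance

/-- The index is additive in short exact sequences. -/
theorem ses (hi₁ : Injective i₁) (hp₁ : Surjective p₁) (hi₂ : Injective i₂) (hp₂ : Surjective p₂)
    (he₁ : Exact i₁ p₁) (he₂ : Exact i₂ p₂) (ha : i₂.comp a = b.comp i₁)
    (hc : p₂.comp b = c.comp p₁) {n : ℤ} (hb : Good b n)
    (hkc : Module.Finite L (LinearMap.ker c) ∨ Module.Finite L (A₂ ⧸ LinearMap.range a)) :
    ∃ na nc : ℤ, Good a na ∧ Good c nc ∧ n = na + nc := by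
  obtain ⟨hbk, hbc, hbn⟩ := hb
  let k₁ : LinearMap.ker a →ₗ[L] LinearMap.ker b := i₁.restrict fun x hx => by
    rw [LinearMap.mem_ker] at hx ⊢
    rw [← LinearMap.comp_apply, ← ha, LinearMap.comp_apply, hx, map_zero]
  let k₂ : LinearMap.ker b →ₗ[L] LinearMap.ker c := p₁.restrict fun x hx => by
    rw [LinearMap.mem_ker] at hx ⊢
    rw [← LinearMap.comp_apply, ← hc, LinearMap.comp_apply, hx, map_zero]
  let q₁ : (A₂ ⧸ LinearMap.range a) →ₗ[L] B₂ ⧸ LinearMap.range b :=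
    (LinearMap.range a).mapQ _ i₂ (by
      rintro _ ⟨x, rfl⟩
      exact ⟨i₁ x, (LinearMap.congr_fun ha x).symm⟩)
  let q₂ : (B₂ ⧸ LinearMap.range b) →ₗ[L] C₂ ⧸ LinearMap.range c :=
    (LinearMap.range b).mapQ _ p₂ (by
      rintro _ ⟨x, rfl⟩
      exact ⟨p₁ x, (LinearMap.congr_fun hc x).symm⟩)
  have hπa : Exact a (LinearMap.range a).mkQ := LinearMap.exact_map_mkQ_range a
  have hπb : Exact b (LinearMap.range b).mkQ := LinearMap.exact_map_mkQ_range b
  let δ := SnakeLemma.δ' a b c i₁ p₁ he₁ i₂ p₂ he₂ ha hc (LinearMap.ker c).subtype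
    (LinearMap.exact_subtype_ker_map c) (LinearMap.range a).mkQ hπa hp₁ hi₂
  have hk₁ : Injective k₁ := fun x y h => Subtype.ext (hi₁ (congrArg Subtype.val h))
  have e₁ : Exact k₁ k₂ := by
    intro x
    constructor
    · intro hx
      obtain ⟨y, hy⟩ := (he₁ x.1).1 (congrArg Subtype.val hx)
      refine ⟨⟨y, hi₂ ?_⟩, Subtype.ext hy⟩
      rw [← LinearMap.comp_apply, ha, LinearMap.comp_apply, hy, x.2, map_zero]
    · rintro ⟨y, rfl⟩
      exact Subtype.ext (he₁.apply_apply_eq_zero y.1)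
  have e₂ : Exact k₂ δ := SnakeLemma.exact_δ'_right a b c i₁ p₁ he₁ i₂ p₂ he₂ ha hc
    (LinearMap.ker b).subtype (LinearMap.exact_subtype_ker_map b) (LinearMap.ker c).subtype
    (LinearMap.exact_subtype_ker_map c) (LinearMap.range a).mkQ hπa hp₁ hi₂ k₂ rfl
    Subtype.val_injective
  have e₃ : Exact δ q₁ := SnakeLemma.exact_δ'_left a b c i₁ p₁ he₁ i₂ p₂ he₂ ha hc
    (LinearMap.ker c).subtype (LinearMap.exact_subtype_ker_map c) (LinearMap.range a).mkQ hπa
    (LinearMap.range b).mkQ hπb hp₁ hi₂ q₁ rfl (Submodule.mkQ_surjective _)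
  have hq₂ : Surjective q₂ := fun x => by
    obtain ⟨x, rfl⟩ := Submodule.mkQ_surjective _ x
    obtain ⟨y, rfl⟩ := hp₂ x
    exact ⟨Submodule.mkQ _ y, rfl⟩
  have e₄ : Exact q₁ q₂ := by
    intro x
    constructor
    · intro hx
      obtain ⟨x, rfl⟩ := Submodule.mkQ_surjective _ x
      obtain ⟨z, hz⟩ : p₂ x ∈ LinearMap.range c := (Submodule.Quotient.mk_eq_zero _).1 hx
      obtain ⟨w, rfl⟩ := hp₁ z
      obtain ⟨y, hy⟩ := (he₂ (x - b w)).1 (by
        rw [map_sub, ← hz, sub_eq_zero]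
        exact (LinearMap.congr_fun hc w).symm)
      refine ⟨Submodule.mkQ _ y, (Submodule.Quotient.eq _).2 ?_⟩
      rw [hy, sub_sub_cancel_left]
      exact neg_mem ⟨w, rfl⟩
    · rintro ⟨y, rfl⟩
      obtain ⟨y, rfl⟩ := Submodule.mkQ_surjective _ y
      change Submodule.Quotient.mk (p₂ (i₂ y)) = 0
      rw [he₂.apply_apply_eq_zero, Submodule.Quotient.mk_zero]
  haveI := hbk
  haveI := hbc
  haveI : Module.Finite L (LinearMap.ker a) := Module.Finite.of_injective k₁ hk₁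
  haveI : Module.Finite L (C₂ ⧸ LinearMap.range c) := Module.Finite.of_surjective q₂ hq₂
  obtain ⟨_, _⟩ : Module.Finite L (LinearMap.ker c) ∧ Module.Finite L (A₂ ⧸ LinearMap.range a) := by
    rcases hkc with h | h
    · exact ⟨h, finite_of_exact e₃⟩
    · exact ⟨finite_of_exact e₂, h⟩
  refine ⟨a.index, c.index, ⟨inferInstance, inferInstance, rfl⟩, ⟨inferInstance, inferInstance, rfl⟩, ?_⟩
  have h6 := Module.sum_neg_one_pow_finrank_eq_zero_of_exact_six k₁ k₂ δ q₁ q₂ hk₁ e₁ e₂ e₃ e₄ hq₂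
  rw [← hbn, index_eq_finrank_sub, index_eq_finrank_sub, index_eq_finrank_sub]
  omega

/-- Kernels and cokernels of a commutative square with vertical maps of finite index. -/
theorem square {V₁ W₁ V₂ W₂ H₁ Ω₁ H₂ Ω₂ : Type u}
    [AddCommGroup V₁] [Module L V₁] [AddCommGroup W₁] [Module L W₁]
    [AddCommGroup V₂] [Module L V₂] [AddCommGroup W₂] [Module L W₂]
    [AddCommGroup H₁] [Module L H₁] [AddCommGroup Ω₁] [Module L Ω₁]
    [AddCommGroup H₂] [Module L H₂] [AddCommGroup Ω₂] [Module L Ω₂]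
    {j₁ : H₁ →ₗ[L] V₁} {f₁ : V₁ →ₗ[L] W₁} {q₁ : W₁ →ₗ[L] Ω₁}
    {j₂ : H₂ →ₗ[L] V₂} {f₂ : V₂ →ₗ[L] W₂} {q₂ : W₂ →ₗ[L] Ω₂}
    (hj₁ : Injective j₁) (hq₁ : Surjective q₁) (hj₂ : Injective j₂) (hq₂ : Surjective q₂)
    (e₁ : Exact j₁ f₁) (e₁' : Exact f₁ q₁) (e₂ : Exact j₂ f₂) (e₂' : Exact f₂ q₂)
    {β : H₁ →ₗ[L] H₂} {u : V₁ →ₗ[L] V₂} {v : W₁ →ₗ[L] W₂} {α : Ω₁ →ₗ[L] Ω₂}
    (h₁ : j₂.comp β = u.comp j₁) (h₂ : f₂.comp u = v.comp f₁) (h₃ : q₂.comp v = α.comp q₁)
    {nu nv : ℤ} (hu : Good u nu) (hv : Good v nv) :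
    ∃ nb na : ℤ, Good β nb ∧ Good α na ∧ nu - nv = nb - na := by
  let r : LinearMap.range f₁ →ₗ[L] LinearMap.range f₂ := v.restrict (by
    rintro _ ⟨x, rfl⟩
    exact ⟨u x, LinearMap.congr_fun h₂ x⟩)
  haveI := hu.2.1
  haveI := hv.1
  have hker : Module.Finite L (LinearMap.ker r) := by
    refine Module.Finite.of_injective ((LinearMap.range f₁).subtype.restrict (q := LinearMap.ker v)
      (fun x (hx : r x = 0) => (congrArg Subtype.val hx :))) fun x y h => ?_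
    exact Subtype.ext (Subtype.ext (congrArg Subtype.val h :))
  have hrc : f₂.rangeRestrict.comp u = r.comp f₁.rangeRestrict :=
    LinearMap.ext fun x => Subtype.ext (LinearMap.congr_fun h₂ x)
  have hex : ∀ {A V W : Type u} [AddCommGroup A] [Module L A] [AddCommGroup V] [Module L V]
      [AddCommGroup W] [Module L W] {j : A →ₗ[L] V} {f : V →ₗ[L] W}, Exact j f →
      Exact j f.rangeRestrict := fun h x => Subtype.ext_iff.trans (h x)
  obtain ⟨nb, nr, hβ, hr, hn⟩ := ses hj₁ f₁.surjective_rangeRestrict hj₂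
    f₂.surjective_rangeRestrict (hex e₁) (hex e₂) h₁ hrc hu (Or.inl hker)
  have hin : ∀ {V W P : Type u} [AddCommGroup V] [Module L V] [AddCommGroup W] [Module L W]
      [AddCommGroup P] [Module L P] {f : V →ₗ[L] W} {q : W →ₗ[L] P}, Exact f q →
      Exact (LinearMap.range f).subtype q := fun h x =>
    (h x).trans (Set.ext_iff.1 Subtype.range_coe x).symm
  obtain ⟨nr', na, hr', hα, hn'⟩ := ses (LinearMap.range f₁).injective_subtype hq₁
    (LinearMap.range f₂).injective_subtype hq₂ (hin e₁') (hin e₂') (a := r) rfl h₃ hv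
    (Or.inr hr.2.1)
  refine ⟨nb, na, hβ, hα, ?_⟩
  have h4 := hr.2.2
  have h5 := hr'.2.2
  omega

end Groth.Agent.H21.SquareIndex
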