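import Groth.Agent.Lib.Excellent.GRingStability
import Mathlib.AlgebraicGeometry.AffineScheme
import Mathlib.AlgebraicGeometry.Morphisms.FiniteType
import Mathlib.RingTheory.Localization.BaseChange
import Mathlib.RingTheory.Localization.LocalizationLocalization
import Mathlib.RingTheory.TensorProduct.Finite

/-!
# Local rings of schemes locally of finite type over a G-ring are G-rings
-/

set_option autoImplicit false

universe u

open CategoryTheory AlgebraicGeometry IsLocalRing TensorProduct

namespace Groth.Agent.H21.StalkGRing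

attribute [local instance] Algebra.TensorProduct.rightAlgebra

/-- The algebra step, given that finite type algebras over G-rings are G-rings. -/
theorem isGRing_of_ft
    (hft : ∀ (R : Type u) [CommRing R], CAlg.IsGRing R → ∀ (S : Type u) [CommRing S] [Algebra R S]
      [Algebra.FiniteType R S], CAlg.IsGRing S)
    {R P O L : Type u} [CommRing R] [CommRing P] [Algebra R P] [Algebra.FiniteType R P]
    [CommRing O] [Algebra R O] (M : Submonoid R) [IsLocalization M O]
    [CommRing L] [Algebra P L] (N : Submonoid P) [IsLocalization N L]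
    (hMN : Algebra.algebraMapSubmonoid P M ≤ N) (hO : CAlg.IsGRing O) : CAlg.IsGRing L := by
  let T := P ⊗[R] O
  haveI : Algebra.FiniteType O T :=
    Algebra.FiniteType.equiv (inferInstance : Algebra.FiniteType O (O ⊗[R] P))
      (AlgEquiv.ofRingEquiv (f := (Algebra.TensorProduct.comm R O P).toRingEquiv) fun o => by
        show Algebra.TensorProduct.comm R O P (algebraMap O (O ⊗[R] P) o) = _
        rw [Algebra.TensorProduct.algebraMap_apply, Algebra.TensorProduct.comm_tmul]
        rfl)
  have hT : CAlg.IsGRing T := hft O hO T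
  haveI : IsLocalization (Algebra.algebraMapSubmonoid P M) T := IsLocalization.tensor O M
  let g : T →+* L := IsLocalization.lift (M := Algebra.algebraMapSubmonoid P M) (g := algebraMap P L)
    fun y => IsLocalization.map_units L (⟨y.1, hMN y.2⟩ : N)
  letI : Algebra T L := g.toAlgebra
  haveI : IsScalarTower P T L := IsScalarTower.of_algebraMap_eq fun z => (IsLocalization.lift_eq _ z).symm
  haveI := IsLocalization.isLocalization_of_submonoid_le T L (Algebra.algebraMapSubmonoid P M) N hMN
  exact Groth.Agent.Lib.Excellent.GRingStability.isGRing_of_isLocalization (N.map (algebraMap P T)) hT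

/-- The local ring at a point of a scheme locally of finite type over a G-ring local ring. -/
theorem isGRing_stalk
    (hft : ∀ (R : Type u) [CommRing R], CAlg.IsGRing R → ∀ (S : Type u) [CommRing S] [Algebra R S]
      [Algebra.FiniteType R S], CAlg.IsGRing S)
    {X S : Scheme.{u}} (p : X ⟶ S) [LocallyOfFiniteType p] (x : X)
    (hG : CAlg.IsGRing ↑(S.presheaf.stalk (p x))) : CAlg.IsGRing ↑(X.presheaf.stalk x) := by
  obtain ⟨_, ⟨W, hW, rfl⟩, hxW, -⟩ := S.isBasis_affineOpens.exists_subset_of_mem_open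
    (show p x ∈ (⊤ : S.Opens) from trivial) isOpen_univ
  obtain ⟨_, ⟨U, hU, rfl⟩, hxU, hUW⟩ := X.isBasis_affineOpens.exists_subset_of_mem_open
    (show x ∈ p ⁻¹ᵁ W from hxW) (p ⁻¹ᵁ W).isOpen
  letI : Algebra Γ(S, W) Γ(X, U) := (p.appLE W U hUW).hom.toAlgebra
  haveI : Algebra.FiniteType Γ(S, W) Γ(X, U) := LocallyOfFiniteType.finiteType_appLE p hW hU hUW
  letI : Algebra Γ(S, W) ↑(S.presheaf.stalk (p x)) := S.presheaf.algebra_section_stalk (⟨p x, hxW⟩ : W)
  haveI : IsLocalization.AtPrime ↑(S.presheaf.stalk (p x)) (hW.primeIdealOf ⟨p x, hxW⟩).asIdeal :=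
    hW.isLocalization_stalk ⟨p x, hxW⟩
  letI : Algebra Γ(X, U) ↑(X.presheaf.stalk x) := X.presheaf.algebra_section_stalk (⟨x, hxU⟩ : U)
  haveI : IsLocalization.AtPrime ↑(X.presheaf.stalk x) (hU.primeIdealOf ⟨x, hxU⟩).asIdeal :=
    hU.isLocalization_stalk ⟨x, hxU⟩
  refine isGRing_of_ft hft (R := Γ(S, W)) (P := Γ(X, U)) (hW.primeIdealOf ⟨p x, hxW⟩).asIdeal.primeCompl
    (hU.primeIdealOf ⟨x, hxU⟩).asIdeal.primeCompl ?_ hG
  rintro _ ⟨r, hr, rfl⟩ hmem
  have h1 := (IsLocalization.AtPrime.to_map_mem_maximal_iff ↑(X.presheaf.stalk x) _ (algebraMap Γ(S, W) Γ(X, U) r)).mpr hmem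
  have h2 : IsUnit (algebraMap Γ(S, W) ↑(S.presheaf.stalk (p x)) r) :=
    IsLocalization.map_units _ (⟨r, hr⟩ : (hW.primeIdealOf ⟨p x, hxW⟩).asIdeal.primeCompl)
  refine h1 ?_
  have h3 : algebraMap Γ(X, U) ↑(X.presheaf.stalk x) (algebraMap Γ(S, W) Γ(X, U) r) =
      (p.stalkMap x).hom (algebraMap Γ(S, W) ↑(S.presheaf.stalk (p x)) r) := by
    refine Eq.trans ?_ (Scheme.Hom.germ_stalkMap_apply p W x hxW r).symm
    show (X.presheaf.germ U x hxU) (p.appLE W U hUW r) = _
    rw [Scheme.Hom.appLE]
    simp [TopCat.Presheaf.germ_res_apply]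
  rw [h3]
  exact h2.map _

end Groth.Agent.H21.StalkGRing
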