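import Groth.Prelude.Def_FlatCA
import Mathlib.RingTheory.Ideal.MinimalPrime.Localization
import Mathlib.RingTheory.Flat.TorsionFree
import Mathlib.Algebra.Module.LocalizedModule.Basic

/-! Elementary facts on (weakly) associated primes in the non-Noetherian setting. -/

set_option autoImplicit false

universe u

namespace Groth.Agent.H21.WeakAss

open FlatCA

variable {R : Type u} [CommRing R] {M : Type u} [AddCommGroup M] [Module R M]

abbrev ann (R : Type u) [CommRing R] {M : Type u} [AddCommGroup M] [Module R M] (m : M) : Ideal R :=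
  (Submodule.span R {m}).annihilator

theorem mem_ann {r : R} {m : M} : r ∈ ann R m ↔ r • m = 0 :=
  Submodule.mem_annihilator_span_singleton m r

theorem ann_eq_top {m : M} : ann R m = ⊤ ↔ m = 0 := by
  rw [Ideal.eq_top_iff_one, mem_ann, one_smul]

theorem ann_map_injective {N : Type u} [AddCommGroup N] [Module R N] {f : M →ₗ[R] N}
    (hf : Function.Injective f) (m : M) : ann R (f m) = ann R m := by
  ext r; rw [mem_ann, mem_ann, ← map_smul, map_eq_zero_iff f hf]

theorem ann_restrict (R : Type u) [CommRing R] {S : Type u} [CommRing S] [Algebra R S]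
    {M : Type u} [AddCommGroup M] [Module S M] [Module R M] [IsScalarTower R S M] (m : M) :
    ann R m = (ann S m).comap (algebraMap R S) := by
  ext r; rw [Ideal.mem_comap, mem_ann, mem_ann, algebraMap_smul]

theorem short_exact {M' M'' : Type u} [AddCommGroup M'] [Module R M'] [AddCommGroup M'']
    [Module R M''] (f : M' →ₗ[R] M) (g : M →ₗ[R] M'') (hf : Function.Injective f)
    (hfg : Function.Exact f g) :
    weakAss R M' ⊆ weakAss R M ∧ weakAss R M ⊆ weakAss R M' ∪ weakAss R M'' := by
  refine ⟨?_, ?_⟩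
  · rintro p ⟨m, hm⟩
    exact ⟨f m, by rw [show (Submodule.span R {f m}).annihilator = _ from ann_map_injective hf m]; exact hm⟩
  · rintro p ⟨m, hm⟩
    have hp := hm.1.1
    have hle : ann R m ≤ ann R (g m) := fun r hr => by
      rw [mem_ann] at hr ⊢; rw [← map_smul, hr, map_zero]
    by_cases h : ann R (g m) ≤ p
    · exact Or.inr ⟨g m, ⟨hp, h⟩, fun q hq hqp => hm.2 ⟨hq.1, hle.trans hq.2⟩ hqp⟩
    · obtain ⟨r, hr, hrp⟩ := SetLike.not_le_iff_exists.mp h
      rw [mem_ann, ← map_smul] at hr
      obtain ⟨m', hm'⟩ := (hfg _).mp hr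
      have heq : ann R m' = ann R (r • m) := by rw [← hm', ann_map_injective hf]
      refine Or.inl ⟨m', ⟨hp, fun x hx => ?_⟩, fun q hq hqp => hm.2 ⟨hq.1, fun x hx => hq.2 ?_⟩ hqp⟩
      · change x ∈ ann R m' at hx
        rw [heq, mem_ann, smul_smul] at hx
        exact (hp.mem_or_mem (hm.1.2 (mem_ann.mpr hx))).resolve_right hrp
      · change x ∈ ann R m'
        rw [heq, mem_ann, smul_comm, mem_ann.mp hx, smul_zero]

theorem eq_empty_iff : weakAss R M = ∅ ↔ Subsingleton M := by
  constructor
  · intro h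
    refine subsingleton_of_forall_eq 0 fun m => ?_
    by_contra hm
    obtain ⟨p, hp⟩ := Ideal.nonempty_minimalPrimes (I := ann R m) (mt ann_eq_top.mp hm)
    exact Set.eq_empty_iff_forall_notMem.mp h p ⟨m, hp⟩
  · intro h
    refine Set.eq_empty_iff_forall_notMem.mpr fun p ⟨m, hm⟩ => hm.1.1.ne_top ?_
    exact eq_top_iff.mpr ((ann_eq_top.mpr (Subsingleton.elim m 0)).ge.trans hm.1.2)

theorem biUnion_eq : ⋃ q ∈ weakAss R M, (q : Set R) = {f : R | ¬ IsSMulRegular M f} := by
  ext f
  simp only [Set.mem_iUnion, SetLike.mem_coe, Set.mem_setOf_eq]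
  constructor
  · rintro ⟨q, ⟨m, hm⟩, hf⟩ hreg
    obtain ⟨y, hy, hfy⟩ := Ideal.exists_mul_mem_of_mem_minimalPrimes hm hf
    rw [Submodule.mem_annihilator_span_singleton, mul_smul] at hfy
    rw [Submodule.mem_annihilator_span_singleton] at hy
    exact hy (hreg.right_eq_zero_of_smul hfy)
  · intro h
    obtain ⟨m, hm, hm0⟩ : ∃ m : M, f • m = 0 ∧ m ≠ 0 := by
      by_contra hc
      push Not at hc
      exact h (isSMulRegular_iff_right_eq_zero_of_smul.mpr hc)
    obtain ⟨p, hp⟩ := Ideal.nonempty_minimalPrimes (I := ann R m) (mt ann_eq_top.mp hm0)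
    exact ⟨p, ⟨m, hp⟩, hp.1.2 (mem_ann.mpr hm)⟩

theorem weakAss_self [IsReduced R] : weakAss R R = minimalPrimes R := by
  ext p
  constructor
  · rintro ⟨a, hp⟩
    have := hp.1.1
    have hap : a ∉ p := fun ha => by
      obtain ⟨y, hy, hay⟩ := Ideal.exists_mul_mem_of_mem_minimalPrimes hp ha
      rw [Submodule.mem_annihilator_span_singleton, smul_eq_mul] at hy hay
      refine hy (IsReduced.eq_zero _ ⟨2, ?_⟩)
      linear_combination y * hay
    refine ⟨⟨this, bot_le⟩, fun q hq hqp => hp.2 ⟨hq.1, fun r hr => ?_⟩ hqp⟩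
    change r ∈ ann R a at hr
    rw [mem_ann, smul_eq_mul] at hr
    exact (hq.1.mem_or_mem (hr ▸ q.zero_mem)).resolve_right fun h => hap (hqp h)
  · intro hp
    refine ⟨1, ?_⟩
    rw [show (Submodule.span R {(1 : R)}).annihilator = (⊥ : Ideal R) from eq_bot_iff.mpr fun r hr => by
      have := mem_ann.mp (show r ∈ ann R (1 : R) from hr)
      simpa using this]
    exact hp

theorem eq_image_comap {S : Type u} [CommRing S] [Algebra R S] {N : Type u} [AddCommGroup N]
    [Module S N] [Module R N] [IsScalarTower R S N]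
    (h : ∀ J : Ideal S, (J.comap (algebraMap R S)).minimalPrimes =
      Ideal.comap (algebraMap R S) '' J.minimalPrimes) :
    weakAss R N = Ideal.comap (algebraMap R S) '' weakAss S N := by
  ext p
  constructor
  · rintro ⟨m, hm⟩
    change p ∈ (ann R m).minimalPrimes at hm
    rw [ann_restrict R (S := S), h] at hm
    obtain ⟨q, hq, rfl⟩ := hm
    exact ⟨q, ⟨m, hq⟩, rfl⟩
  · rintro ⟨q, ⟨m, hq⟩, rfl⟩
    refine ⟨m, ?_⟩
    change _ ∈ (ann R m).minimalPrimes
    rw [ann_restrict R (S := S), h]
    exact ⟨q, hq, rfl⟩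

theorem ass_comap_subset {S : Type u} [CommRing S] [Algebra R S] {N : Type u} [AddCommGroup N]
    [Module S N] [Module R N] [IsScalarTower R S N] :
    Ideal.comap (algebraMap R S) '' ass S N ⊆ ass R N := by
  rintro p ⟨q, ⟨hq, m, hm⟩, rfl⟩
  exact ⟨hq.comap _, m, by rw [hm]; exact (ann_restrict R (S := S) m).symm⟩

section Localization

variable (S : Submonoid R)

local notation "L" => Localization S
local notation "MS" => LocalizedModule S M

theorem ann_mk (m : M) (s : S) :
    ann L (LocalizedModule.mk m s) = (ann R m).map (algebraMap R L) := by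
  ext z
  obtain ⟨a, t, rfl⟩ := IsLocalization.exists_mk'_eq S z
  rw [mem_ann, IsLocalization.mk'_mem_iff]
  rw [← Localization.mk_eq_mk', LocalizedModule.mk_smul_mk, ← LocalizedModule.zero_mk 1,
    LocalizedModule.mk_eq, IsLocalization.algebraMap_mem_map_algebraMap_iff S]
  simp only [one_smul, smul_zero]
  constructor
  · rintro ⟨u, hu⟩
    refine ⟨u, u.2, mem_ann.mpr ?_⟩
    rw [mul_smul]
    exact hu
  · rintro ⟨u, hu, h⟩
    refine ⟨⟨u, hu⟩, ?_⟩
    rw [mem_ann, mul_smul] at h
    exact h

theorem ann_mk_restrict (m : M) (s : S) :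
    ann R (LocalizedModule.mk m s) = ((ann R m).map (algebraMap R L)).comap (algebraMap R L) := by
  rw [ann_restrict R (S := L), ann_mk]

theorem ann_mk_of_regular (hS : ∀ s ∈ S, IsSMulRegular M s) (m : M) (s : S) :
    ann R (LocalizedModule.mk m s) = ann R m := by
  ext r
  rw [ann_mk_restrict, Ideal.mem_comap, IsLocalization.algebraMap_mem_map_algebraMap_iff S]
  constructor
  · rintro ⟨u, hu, h⟩
    rw [mem_ann, mul_smul] at h
    exact mem_ann.mpr ((hS u hu).right_eq_zero_of_smul h)
  · intro h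
    exact ⟨1, S.one_mem, by rwa [one_mul]⟩

theorem weakAss_localized : weakAss R MS = Ideal.comap (algebraMap R L) '' weakAss L MS :=
  eq_image_comap (IsLocalization.minimalPrimes_comap S L)

theorem mem_weakAss_iff_map (p : Ideal R) [hp : p.IsPrime] (hd : Disjoint (S : Set R) (p : Set R)) :
    p ∈ weakAss R M ↔ p.map (algebraMap R L) ∈ weakAss L MS := by
  have hcm : (p.map (algebraMap R L)).comap (algebraMap R L) = p :=
    IsLocalization.under_map_of_isPrime_disjoint S L hp hd
  have key : ∀ (m : M) (s : S), p.map (algebraMap R L) ∈ (ann L (LocalizedModule.mk m s)).minimalPrimes ↔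
      p ∈ (ann R m).minimalPrimes := by
    intro m s
    rw [ann_mk, IsLocalization.minimalPrimes_map S, Set.mem_preimage]
    show (p.map (algebraMap R L)).comap (algebraMap R L) ∈ _ ↔ _
    rw [hcm]
  constructor
  · rintro ⟨m, hm⟩
    exact ⟨LocalizedModule.mk m 1, (key m 1).mpr hm⟩
  · rintro ⟨y, hy⟩
    induction y using LocalizedModule.induction_on with
    | _ m s => exact ⟨m, (key m s).mp hy⟩

theorem weakAss_regular (hS : ∀ s ∈ S, IsSMulRegular M s) : weakAss R M = weakAss R MS := by
  ext p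
  constructor
  · rintro ⟨m, hm⟩
    exact ⟨LocalizedModule.mk m 1, by
      change p ∈ (ann R _).minimalPrimes
      rw [ann_mk_of_regular S hS]; exact hm⟩
  · rintro ⟨y, hy⟩
    induction y using LocalizedModule.induction_on with
    | _ m s =>
      change p ∈ (ann R _).minimalPrimes at hy
      rw [ann_mk_of_regular S hS] at hy
      exact ⟨m, hy⟩

theorem ass_regular (hS : ∀ s ∈ S, IsSMulRegular M s) : ass R M = ass R MS := by
  ext p
  constructor
  · rintro ⟨hp, m, rfl⟩
    exact ⟨hp, LocalizedModule.mk m 1, (ann_mk_of_regular S hS m 1).symm⟩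
  · rintro ⟨hp, y, rfl⟩
    induction y using LocalizedModule.induction_on with
    | _ m s => exact ⟨hp, m, ann_mk_of_regular S hS m s⟩

theorem ass_localized : ass R MS = Ideal.comap (algebraMap R L) '' ass L MS ∧
    ∀ p ∈ ass R M, Disjoint (S : Set R) (p : Set R) → p ∈ ass R MS := by
  refine ⟨le_antisymm ?_ ass_comap_subset, ?_⟩
  · rintro p ⟨hp, y, rfl⟩
    refine ⟨ann L y, ⟨?_, y, rfl⟩, (ann_restrict R (S := L) y).symm⟩
    rw [IsLocalization.isPrime_iff_isPrime_disjoint S L]
    have he : ann R y = (ann L y).under R := ann_restrict R (S := L) y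
    rw [← he]
    refine ⟨hp, Set.disjoint_left.mpr fun s hs hsy => hp.ne_top ?_⟩
    have hu : IsUnit (algebraMap R L s) := IsLocalization.map_units L ⟨s, hs⟩
    have h0 : y = 0 := by
      have h1 : algebraMap R L s • y = 0 := by rw [algebraMap_smul]; exact mem_ann.mp hsy
      exact hu.smul_eq_zero.mp h1
    exact ann_eq_top.mpr h0
  · rintro p ⟨hp, m, rfl⟩ hd
    refine ⟨hp, LocalizedModule.mk m 1, ?_⟩
    show ann R m = ann R (LocalizedModule.mk m 1)
    rw [ann_mk_restrict]
    exact (IsLocalization.under_map_of_isPrime_disjoint S L hp hd).symm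

end Localization

theorem isSMulRegular_of_flat_domain {A B : Type u} [CommRing A] [IsDomain A] [CommRing B]
    [Algebra A B] {N : Type u} [AddCommGroup N] [Module B N] [Module A N] [IsScalarTower A B N]
    [Module.Flat A N] : ∀ s ∈ Algebra.algebraMapSubmonoid B (nonZeroDivisors A), IsSMulRegular N s := by
  rintro _ ⟨a, ha, rfl⟩
  intro x y h
  simp only [algebraMap_smul] at h
  exact Module.Flat.isSMulRegular_of_nonZeroDivisors ha h

end Groth.Agent.H21.WeakAss
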