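import Groth.Agent.Lib.FlatCA.WeakAssBC
import Groth.Agent.H21.WeakAss
import Mathlib.RingTheory.Ideal.GoingDown
import Mathlib.RingTheory.Flat.Stability
import Mathlib.RingTheory.Localization.FractionRing

/-!
# Weakly associated primes and field extensions
-/

set_option autoImplicit false

universe u

open TensorProduct

attribute [local instance] Algebra.TensorProduct.rightAlgebra

namespace Groth.Agent.H21.WeakAssField

/-- Flat base change of an annihilator. -/
theorem mem_map_annihilator {S T M : Type u} [CommRing S] [CommRing T] [Algebra S T]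
    [Module.Flat S T] [AddCommGroup M] [Module S M] (z : M) (x : T)
    (hx : x ⊗ₜ[S] z = 0) :
    x ∈ (Submodule.span S {z}).annihilator.map (algebraMap S T) := by
  let J := (Submodule.span S {z}).annihilator
  have hex : Function.Exact (Submodule.subtype J) (LinearMap.toSpanSingleton S M z) := fun s => by
    simp only [LinearMap.toSpanSingleton_apply, Submodule.coe_subtype, Subtype.range_coe_subtype]
    exact (Submodule.mem_annihilator_span_singleton _ _).symm
  obtain ⟨y, hy⟩ := (Module.Flat.lTensor_exact T hex (x ⊗ₜ (1 : S))).1 (by simpa using hx)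
  have hmem : ∀ y : T ⊗[S] J,
      TensorProduct.rid S T ((Submodule.subtype J).lTensor T y) ∈ J.map (algebraMap S T) := fun y => by
    induction y with
    | zero => simp
    | add a b ha hb => simpa using add_mem ha hb
    | tmul t j =>
      simp only [LinearMap.lTensor_tmul, TensorProduct.rid_tmul, Submodule.coe_subtype]
      rw [Algebra.smul_def, mul_comm]
      exact Ideal.mul_mem_left _ _ (Ideal.mem_map_of_mem _ j.2)
  have h := hmem y
  rw [hy, TensorProduct.rid_tmul, one_smul] at h
  exact h

variable {k K R : Type u} [Field k] [Field K] [Algebra k K] [CommRing R] [Algebra k R]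
  (RK : Type u) [CommRing RK] [Algebra k RK] [Algebra K RK] [Algebra R RK] [IsScalarTower k K RK]
  [IsScalarTower k R RK]

/-- The comparison map from the stage of a subalgebra. -/
noncomputable def θ (A : Subalgebra k K) : R ⊗[k] A →ₐ[R] RK :=
  Algebra.TensorProduct.lift (Algebra.ofId R RK) ((IsScalarTower.toAlgHom k K RK).comp A.val)
    fun _ _ => Commute.all _ _

theorem θ_tmul (A : Subalgebra k K) (r : R) (a : A) :
    θ RK A (r ⊗ₜ a) = algebraMap R RK r * algebraMap K RK (a : K) := by
  simp [θ, Algebra.ofId_apply]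

variable [hpo : Algebra.IsPushout k K R RK]

include hpo in
theorem exists_stage (b : RK) : ∃ C : Finset K, ∀ A : Subalgebra k K, (C : Set K) ⊆ A →
    b ∈ (θ (R := R) RK A).range := by
  classical
  induction b using hpo.out.inductionOn with
  | zero => exact ⟨∅, fun A _ => zero_mem _⟩
  | tmul r =>
    refine ⟨∅, fun A _ => ⟨r ⊗ₜ 1, ?_⟩⟩
    simp [θ_tmul]
  | smul c x hx =>
    obtain ⟨C, hC⟩ := hx
    refine ⟨insert c C, fun A hA => ?_⟩
    rw [Finset.coe_insert, Set.insert_subset_iff] at hA
    rw [Algebra.smul_def]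
    refine mul_mem ⟨1 ⊗ₜ ⟨c, hA.1⟩, ?_⟩ (hC A hA.2)
    simp [θ_tmul]
  | add x y hx hy =>
    obtain ⟨C, hC⟩ := hx
    obtain ⟨D, hD⟩ := hy
    refine ⟨C ∪ D, fun A hA => ?_⟩
    rw [Finset.coe_union, Set.union_subset_iff] at hA
    exact add_mem (hC A hA.1) (hD A hA.2)

include hpo in
theorem exists_stage_tensor (M : Type u) [AddCommGroup M] [Module R M] (z : RK ⊗[R] M) :
    ∃ C : Finset K, ∀ A : Subalgebra k K, (C : Set K) ⊆ A →
      z ∈ LinearMap.range ((θ (R := R) RK A).toLinearMap.rTensor M) := by
  classical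
  induction z with
  | zero => exact ⟨∅, fun A _ => zero_mem _⟩
  | tmul b m =>
    obtain ⟨C, hC⟩ := exists_stage (R := R) (k := k) (K := K) RK b
    refine ⟨C, fun A hA => ?_⟩
    obtain ⟨s, hs⟩ := hC A hA
    exact ⟨s ⊗ₜ m, by rw [LinearMap.rTensor_tmul]; exact congrArg (· ⊗ₜ[R] m) hs⟩
  | add x y hx hy =>
    obtain ⟨C, hC⟩ := hx
    obtain ⟨D, hD⟩ := hy
    refine ⟨C ∪ D, fun A hA => ?_⟩
    rw [Finset.coe_union, Set.union_subset_iff] at hA
    exact add_mem (hC A hA.1) (hD A hA.2)

include hpo in
theorem comap_mem_weakAss (M : Type u) [AddCommGroup M] [Module R M] (q : Ideal RK) [q.IsPrime]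
    (hq : q ∈ FlatCA.weakAss RK (RK ⊗[R] M)) :
    q.comap (algebraMap R RK) ∈ FlatCA.weakAss R M := by
  classical
  obtain ⟨z, hz⟩ := hq
  obtain ⟨C, hC⟩ := exists_stage_tensor (k := k) (K := K) RK M z
  let A := Algebra.adjoin k (C : Set K)
  haveI : Algebra.FiniteType k A :=
    ⟨(Subalgebra.fg_top A).2 (Subalgebra.fg_adjoin_finset C)⟩
  haveI : Algebra.FinitePresentation k A := Algebra.FinitePresentation.of_finiteType.1 inferInstance
  obtain ⟨z₀, rfl⟩ := hC A Algebra.subset_adjoin
  let S := R ⊗[k] A
  letI : Algebra S RK := (θ RK A).toRingHom.toAlgebra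
  haveI : IsScalarTower R S RK := IsScalarTower.of_algebraMap_eq (R := R) (S := S) (A := RK) fun r => ((θ RK A).commutes r).symm
  haveI : IsScalarTower A S RK := IsScalarTower.of_algebraMap_eq (R := A) (S := S) (A := RK) fun a => by
    show _ = θ RK A ((1 : R) ⊗ₜ a)
    rw [θ_tmul, map_one, one_mul]
    rfl
  haveI : IsScalarTower k S RK := IsScalarTower.of_algebraMap_eq (R := k) (S := S) (A := RK) fun c => by
    rw [IsScalarTower.algebraMap_apply k R RK, IsScalarTower.algebraMap_apply k R S,
      IsScalarTower.algebraMap_apply R S RK]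
  haveI : Algebra.IsPushout A K S RK := (Algebra.IsPushout.comp_iff
    (R := k) (S := A) (R' := R) (S' := S) (T := K) (T' := RK)).1 hpo
  haveI : Module.Flat A K := by
    letI := FractionRing.liftAlgebra A K
    exact Module.Flat.trans A (FractionRing A) K
  haveI : Module.Flat S RK := Module.Flat.isBaseChange A S K RK
    (Algebra.IsPushout.symm (‹Algebra.IsPushout A K S RK›)).out
  let q₀ : Ideal S := q.comap (algebraMap S RK)
  let g : S ⊗[R] M →ₗ[S] RK ⊗[R] M :=
    TensorProduct.AlgebraTensorModule.rTensor R M (Algebra.linearMap S RK)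
  have hg : ∀ w, (θ RK A).toLinearMap.rTensor M w = g w := fun w => by
    induction w with
    | zero => simp
    | tmul a m => rfl
    | add a b ha hb => simp only [map_add, ha, hb]
  rw [hg] at hz
  have hle : ∀ x : RK, x ∈ (Submodule.span RK {g z₀}).annihilator →
      x ∈ (Submodule.span S {z₀}).annihilator.map (algebraMap S RK) := fun x hx => by
    refine mem_map_annihilator z₀ x ?_
    let c := TensorProduct.AlgebraTensorModule.cancelBaseChange R S RK RK M
    have hc : ∀ w : S ⊗[R] M, c (x ⊗ₜ[S] w) = x • g w := fun w => by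
      induction w with
      | zero => simp
      | tmul a m =>
        show c (x ⊗ₜ[S] (a ⊗ₜ[R] m)) = x • (algebraMap S RK a ⊗ₜ[R] m)
        rw [TensorProduct.AlgebraTensorModule.cancelBaseChange_tmul, smul_tmul', smul_eq_mul,
          Algebra.smul_def, mul_comm]
      | add a b ha hb => rw [tmul_add, map_add, ha, hb, map_add, smul_add]
    apply c.injective
    rw [hc, map_zero]
    exact (Submodule.mem_annihilator_span_singleton _ _).1 hx
  haveI : q₀.LiesOver (q.comap (algebraMap R RK)) := ⟨by
    show q.comap (algebraMap R RK) = (q.comap (algebraMap S RK)).comap (algebraMap R S)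
    rw [Ideal.comap_comap, ← IsScalarTower.algebraMap_eq]⟩
  refine Groth.Agent.Lib.FlatCA.WeakAssBC.mem_weakAss_of_minimal (S := S) (N := S) M
    (q.comap (algebraMap R RK)) q₀ z₀ ⟨⟨inferInstance, fun a ha => ?_⟩, fun r hr hrq => ?_⟩
  · refine hz.1.2 ((Submodule.mem_annihilator_span_singleton _ _).2 ?_)
    rw [algebraMap_smul, ← map_smul, (Submodule.mem_annihilator_span_singleton _ _).1 ha, map_zero]
  · haveI := hr.1
    obtain ⟨Q, hQle, hQ, hQr⟩ := Ideal.exists_ideal_le_liesOver_of_le (p := r)
      (q := q₀) q hrq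
    have hQz : (Submodule.span RK {g z₀}).annihilator ≤ Q := fun x hx =>
      (Ideal.map_le_iff_le_comap.2 (hr.2.trans hQr.over.le)) (hle x hx)
    have : Q = q := le_antisymm hQle (hz.2 ⟨hQ, hQz⟩ hQle)
    rw [hQr.over, this]

end Groth.Agent.H21.WeakAssField
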